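import Cfsg.Agent.Lib.J4Type.Coords

/-!
The lifts of `a`, `c`, `t` on the codes, the signs of the lifts, and the translations by
`O_2(C(z))`.
-/

set_option autoImplicit false
set_option linter.unusedSectionVars false
set_option maxRecDepth 20000

namespace CfsgLib.J4Type

open VCode (liftCols five)

universe u

variable {G : Type u} [Group G] [Finite G] {z : G} {P : Subgroup G}

theorem getD_lift (col pat : List ℕ) (e : ℕ) (h6 : 6 ≤ col.length) :
    (∀ i, i < 6 → (liftCols col pat e).getD i 0 = col.getD i 0) ∧ (liftCols col pat e).getD 6 0 = 64 ∧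
    ∀ i, i < 4 → (liftCols col pat e).getD (7 + i) 0 =
      Nat.xor (if Nat.testBit e i then 64 else 0) (128 * pat.getD i 0) := by
  have hl : (col.take 6).length = 6 := by rw [List.length_take]; omega
  have hl' : (col.take 6 ++ [64]).length = 7 := by rw [List.length_append, hl]; rfl
  refine ⟨fun i hi => ?_, ?_, fun i hi => ?_⟩
  · rw [liftCols, List.getD_append _ _ _ _ (by omega), List.getD_append _ _ _ _ (by omega),
      List.getD_eq_getElem _ _ (show i < (col.take 6).length by omega),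
      List.getD_eq_getElem _ _ (show i < col.length by omega)]
    exact List.getElem_take
  · rw [liftCols, List.getD_append _ _ _ _ (by omega), List.getD_append_right _ _ _ _ (by omega), hl]
    rfl
  · rw [liftCols, List.getD_append_right _ _ _ _ (by omega), hl', Nat.add_sub_cancel_left,
      List.getD_eq_getElem _ _ (show i < ((List.range 4).map _).length by rw [List.length_map, List.length_range]; exact hi),
      List.getElem_map, List.getElem_range]

namespace Lifts

variable {X : Ctx z P} (L : Lifts X)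

include L

/-- A lift commuting with `p` acts by the columns of its image with four signs. -/
theorem conj_lift (hsq : ∀ a ∈ X.VV, a * a = 1) {c : CC z} (hc : c * L.p = L.p * c) (col pat : List ℕ)
    (h6 : 6 ≤ col.length) (hlow : ∀ x ∈ col.take 6, x < 64) (hpat : ∀ i, i < 4 → pat.getD i 0 < 16)
    (hact : ∀ v, X.model.code ((ext13_of X.hyp).rep.ρ (QuotientGroup.mk c) v) = app col (X.model.code v))
    (hr : ∀ i : Fin 4, (QuotientGroup.mk c : CC z ⧸ QQ z) * X.model.gens.r i * (QuotientGroup.mk c)⁻¹ =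
      evR X.model.gens.r (pat.getD i.val 0)) :
    ∃ e, e < 16 ∧ ∀ n, n < 2048 → c * L.enc n * c⁻¹ = L.enc (app (liftCols col pat e) n) := by
  classical
  have key : ∀ i : Fin 4, ∃ b : Bool,
      c * L.ρ i * c⁻¹ = L.enc (Nat.xor (if b then 64 else 0) (128 * pat.getD i.val 0)) := by
    intro i
    have hp := hpat i.val i.isLt
    have hcp : Commute c L.p := hc
    have h1 : c * L.ρ i * c⁻¹ * L.p = L.p * (c * L.ρ i * c⁻¹) :=
      ((hcp.mul_left (show Commute (L.ρ i) L.p from L.ρ_p i)).mul_left hcp.inv_left).eq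
    have h2 : L.enc (128 * pat.getD i.val 0) * L.p = L.p * L.enc (128 * pat.getD i.val 0) := by
      have key : ∀ n, n < 16 → L.enc (128 * n) * L.p = L.p * L.enc (128 * n) := by
        intro n hn
        have h := xor_ext (fun a b => a * b) 4 (fun n => L.p * L.enc (128 * n) * L.p⁻¹)
          (fun n => L.enc (128 * n))
          (fun a b _ _ => by
            show L.p * L.enc (128 * Nat.xor a b) * L.p⁻¹ = _
            rw [show (128 : ℕ) = 2 ^ 7 by norm_num, mul_xor_distrib, L.enc_xor hsq]; group)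
          (fun a b _ _ => by
            show L.enc (128 * Nat.xor a b) = _
            rw [show (128 : ℕ) = 2 ^ 7 by norm_num, mul_xor_distrib, L.enc_xor hsq])
          (by
            show L.p * L.enc (128 * 0) * L.p⁻¹ = L.enc (128 * 0)
            rw [Nat.mul_zero, L.enc_zero, mul_one, mul_inv_cancel])
          (fun j hj => by
            show L.p * L.enc (128 * 2 ^ j) * L.p⁻¹ = L.enc (128 * 2 ^ j)
            rw [show L.enc (128 * 2 ^ j) = L.ρ ⟨j, hj⟩ from L.enc_rho ⟨j, hj⟩, ← L.ρ_p, mul_inv_cancel_right]) n hn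
        exact (mul_inv_eq_iff_eq_mul.1 h).symm
      exact key _ hp
    have h3 : (QuotientGroup.mk (L.enc (128 * pat.getD i.val 0)) : CC z ⧸ QQ z) =
        QuotientGroup.mk (c * L.ρ i * c⁻¹) := by
      rw [L.mk_high hsq hp, QuotientGroup.mk_mul, QuotientGroup.mk_mul, QuotientGroup.mk_inv, L.ρ_mk, hr]
    rcases L.unique_lift h2 h1 h3 with h | h
    · exact ⟨false, by rw [if_neg Bool.false_ne_true, h]; exact congrArg L.enc (Nat.zero_xor _).symm⟩
    · refine ⟨true, ?_⟩
      rw [if_pos rfl, L.enc_xor hsq, L.enc_z, Ctx.zc_central, h]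
  choose b hb using key
  obtain ⟨e, he⟩ := VCode.four_bits b
  refine ⟨e.val, e.isLt, fun n hn => L.conj_app hsq c _ (fun i hi => ?_) hn⟩
  obtain ⟨g1, g2, g3⟩ := getD_lift col pat e.val h6
  rcases Nat.lt_trichotomy i 6 with h | h | h
  · have hcl : ∀ w, w < 64 → app col w < 64 := fun w hw => by
      rw [app_eq_of_units (k := 6) (app col) (app (col.take 6)) (app_xor _) (app_xor _) (fun j hj => by
        rw [app_two_pow, app_two_pow, List.getD_eq_getElem _ _ (show j < col.length by omega),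
          List.getD_eq_getElem _ _ (show j < (col.take 6).length by rw [List.length_take]; omega),
          List.getElem_take]) hw]
      exact app_lt (k := 6) _ _ hlow
    rw [g1 i h, L.gg_sec h, L.sec_conj hc col _ rfl hact hcl (L.two_pow_lt h), app_two_pow,
      L.enc_sec hsq]
    rw [← app_two_pow]; exact hcl _ (L.two_pow_lt h)
  · subst h
    rw [g2, gg, if_neg (by omega), if_pos rfl, ← Ctx.zc_central, mul_inv_cancel_right, L.enc_z]
  · obtain ⟨j, rfl⟩ : ∃ j, i = 7 + j := ⟨i - 7, by omega⟩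
    rw [g3 j (by omega), show L.gg (7 + j) = L.ρ ⟨j, by omega⟩ from L.gg_rho ⟨j, by omega⟩, hb, ← he]

theorem five_lt (e m : ℕ) (he : e < 16) (hm : m < 32) :
    five arPat e m < 32 ∧ five crPat e m < 32 ∧
      app (liftCols colsA arPat e) (64 * m) = 64 * five arPat e m ∧
      app (liftCols colsC crPat e) (64 * m) = 64 * five crPat e m := by
  have h := List.all_eq_true.1 (List.all_eq_true.1 VCode.five_A e (List.mem_range.2 he)) m (List.mem_range.2 hm)
  simp only [Bool.and_eq_true, Nat.ble_eq] at h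
  exact ⟨by omega, by omega, Nat.eq_of_beq_eq_true h.1.1.1, Nat.eq_of_beq_eq_true h.1.1.2⟩

end Lifts

/-- The five-bit effect of an element. -/
def Acts {X : Ctx z P} (L : Lifts X) (x : CC z) (f : ℕ → ℕ) : Prop :=
  ∀ m, m < 32 → f m < 32 ∧ x * L.enc (64 * m) * x⁻¹ = L.enc (64 * f m)

theorem Acts.comp {X : Ctx z P} {L : Lifts X} {x y : CC z} {f g : ℕ → ℕ} (hx : Acts L x f) (hy : Acts L y g) :
    Acts L (x * y) (f ∘ g) := fun m hm => by
  obtain ⟨h1, h2⟩ := hy m hm
  obtain ⟨h3, h4⟩ := hx (g m) h1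
  refine ⟨h3, ?_⟩
  calc x * y * L.enc (64 * m) * (x * y)⁻¹ = x * (y * L.enc (64 * m) * y⁻¹) * x⁻¹ := by group
    _ = _ := by rw [h2, h4]; rfl

namespace Lifts

variable {X : Ctx z P} (L : Lifts X)

include L

theorem acts_p (hsq : ∀ a ∈ X.VV, a * a = 1) : Acts L L.p id := fun m hm => by
  refine ⟨hm, ?_⟩
  refine xor_ext (fun a b => a * b) 5 (fun m => L.p * L.enc (64 * m) * L.p⁻¹) (fun m => L.enc (64 * m))
    (fun a b _ _ => ?_) (fun a b _ _ => ?_) ?_ (fun i hi => ?_) m hm
  · show L.p * L.enc (64 * Nat.xor a b) * L.p⁻¹ = _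
    rw [show (64 : ℕ) = 2 ^ 6 by norm_num, mul_xor_distrib, L.enc_xor hsq]; group
  · show L.enc (64 * Nat.xor a b) = _
    rw [show (64 : ℕ) = 2 ^ 6 by norm_num, mul_xor_distrib, L.enc_xor hsq]
  · show L.p * L.enc (64 * 0) * L.p⁻¹ = L.enc (64 * 0)
    rw [Nat.mul_zero, L.enc_zero, mul_one, mul_inv_cancel]
  · show L.p * L.enc (64 * 2 ^ i) * L.p⁻¹ = L.enc (64 * 2 ^ i)
    rcases i with - | j
    · rw [show 64 * 2 ^ 0 = 64 from rfl, L.enc_z, ← Ctx.zc_central, mul_inv_cancel_right]
    · rw [show 64 * 2 ^ (j + 1) = 128 * 2 ^ j by rw [pow_succ]; ring,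
        show L.enc (128 * 2 ^ j) = L.ρ ⟨j, by omega⟩ from L.enc_rho ⟨j, by omega⟩, ← L.ρ_p, mul_inv_cancel_right]

theorem acts_of_mk (hsq : ∀ a ∈ X.VV, a * a = 1) {x : CC z} (hx : x * L.p = L.p * x) {k : ℕ}
    (h : (QuotientGroup.mk x : CC z ⧸ QQ z) = X.model.gens.t ^ k) : Acts L x id := by
  have hk : ∀ k : ℕ, Acts L (L.p ^ k) id := by
    intro k
    induction k with
    | zero => intro m hm; exact ⟨hm, by rw [pow_zero, one_mul, inv_one, mul_one]; rfl⟩
    | succ k ih => rw [pow_succ]; exact ih.comp (L.acts_p hsq)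
  have hz : Acts L (Ctx.zc z) id := fun m hm =>
    ⟨hm, by rw [Ctx.zc_central, mul_inv_cancel_right]; rfl⟩
  have e : (QuotientGroup.mk (L.p ^ k) : CC z ⧸ QQ z) = QuotientGroup.mk x := by
    rw [QuotientGroup.mk_pow, L.p_mk, h]
  rcases L.unique_lift ((Commute.refl L.p).pow_left k).eq hx e with rfl | rfl
  · exact hk k
  · exact (hk k).comp hz

/-- The lifts of `a` and `c` and their signs, up to a change of the four lifts. -/
theorem exists_signs (hsq : ∀ a ∈ X.VV, a * a = 1) :
    ∃ (a c : CC z) (ea ec m : ℕ), ea < 16 ∧ ec < 16 ∧ m < 16 ∧ a * L.p = L.p * a ∧ c * L.p = L.p * c ∧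
      (∀ n, n < 2048 → a * L.enc n * a⁻¹ = L.enc (app (liftCols colsA arPat ea) n)) ∧
      (∀ n, n < 2048 → c * L.enc n * c⁻¹ = L.enc (app (liftCols colsC crPat ec) n)) ∧
      VCode.gauge arPat ea m = 0 ∧ (VCode.gauge crPat ec m = 0 ∨ VCode.gauge crPat ec m = 2) := by
  set g := X.model.gens
  have hta : g.a * (QuotientGroup.mk L.p : CC z ⧸ QQ z) = QuotientGroup.mk L.p * g.a := by rw [L.p_mk]; exact g.t_a
  have htc : g.c * (QuotientGroup.mk L.p : CC z ⧸ QQ z) = QuotientGroup.mk L.p * g.c := by rw [L.p_mk]; exact g.t_c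
  obtain ⟨a, ha, hap⟩ := exists_comm_lift (QQ z) (not_three_dvd X.hyp) L.p_three hta
  obtain ⟨c, hc, hcp⟩ := exists_comm_lift (QQ z) (not_three_dvd X.hyp) L.p_three htc
  have hlow := List.all_eq_true.1 VCode.low_cols.1
  have hpat := List.all_eq_true.1 VCode.low_cols.2
  obtain ⟨ea, hea, hA⟩ := L.conj_lift hsq hap colsA arPat (by decide)
    (fun x hx => by
      have := List.all_eq_true.1 (hlow colsA (by simp)) x hx
      rw [Nat.ble_eq] at this; omega)
    (fun i hi => by
      have := List.all_eq_true.1 (hpat arPat (by simp)) i (List.mem_range.2 hi)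
      rw [Nat.ble_eq] at this; omega)
    (fun v => by rw [ha]; exact X.model.act_a v) (fun i => by rw [ha]; exact g.a_r i)
  obtain ⟨ec, hec, hC⟩ := L.conj_lift hsq hcp colsC crPat (by decide)
    (fun x hx => by
      have := List.all_eq_true.1 (hlow colsC (by simp)) x hx
      rw [Nat.ble_eq] at this; omega)
    (fun i hi => by
      have := List.all_eq_true.1 (hpat crPat (by simp)) i (List.mem_range.2 hi)
      rw [Nat.ble_eq] at this; omega)
    (fun v => by rw [hc]; exact X.model.act_c v) (fun i => by rw [hc]; exact g.c_r i)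
  have aA : Acts L a (five arPat ea) := fun m hm => by
    obtain ⟨h1, -, h3, -⟩ := L.five_lt ea m hea hm
    exact ⟨h1, by rw [hA _ (by omega), h3]⟩
  have aC : Acts L c (five crPat ec) := fun m hm => by
    obtain ⟨-, h2, -, h4⟩ := L.five_lt ec m hec hm
    exact ⟨h2, by rw [hC _ (by omega), h4]⟩
  have hCa : Commute a L.p := hap
  have hCc : Commute c L.p := hcp
  have rel : ∀ (x : CC z) (f : ℕ → ℕ), Acts L x f → Commute x L.p → (∃ k : ℕ, (QuotientGroup.mk x : CC z ⧸ QQ z) = g.t ^ k) →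
      ∀ m, m < 32 → f m = m := by
    rintro x f hf hxp ⟨k, hk⟩ m hm
    obtain ⟨h1, h2⟩ := hf m hm
    obtain ⟨-, h3⟩ := L.acts_of_mk hsq hxp.eq hk m hm
    rw [h3] at h2
    have := L.enc_inj hsq (show 64 * id m < 2048 by show 64 * m < 2048; omega) (show 64 * f m < 2048 by omega) h2
    show f m = m
    have e : 64 * m = 64 * f m := this
    omega
  have r1 := rel (a * a) _ (aA.comp aA) (hCa.mul_left hCa) ⟨0, by rw [QuotientGroup.mk_mul, ha, g.a_sq, pow_zero]⟩
  have r2 := rel (c * (c * (c * c))) _ (aC.comp (aC.comp (aC.comp aC)))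
    (hCc.mul_left (hCc.mul_left (hCc.mul_left hCc))) ⟨0, by
      rw [pow_zero, ← g.c_four, QuotientGroup.mk_mul, QuotientGroup.mk_mul, QuotientGroup.mk_mul, hc]
      simp only [pow_succ, pow_zero, one_mul, mul_assoc]⟩
  obtain ⟨k5, hk5⟩ := g.ac_five
  have hac : Commute (a * c) L.p := hCa.mul_left hCc
  have aAC := aA.comp aC
  have r3 := rel ((a * c) * ((a * c) * ((a * c) * ((a * c) * (a * c))))) _
    (aAC.comp (aAC.comp (aAC.comp (aAC.comp aAC))))
    (hac.mul_left (hac.mul_left (hac.mul_left (hac.mul_left hac)))) ⟨k5, by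
      simp only [QuotientGroup.mk_mul, ha, hc]
      rw [← hk5]
      simp only [pow_succ, pow_zero, one_mul, mul_assoc]⟩
  have hacc : Commute (a * (c * c)) L.p := hCa.mul_left (hCc.mul_left hCc)
  have aACC := aA.comp (aC.comp aC)
  have r4 := rel ((a * (c * c)) * ((a * (c * c)) * ((a * (c * c)) * ((a * (c * c)) * (a * (c * c)))))) _
    (aACC.comp (aACC.comp (aACC.comp (aACC.comp aACC))))
    (hacc.mul_left (hacc.mul_left (hacc.mul_left (hacc.mul_left hacc)))) ⟨0, by
      simp only [QuotientGroup.mk_mul, ha, hc]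
      rw [pow_zero, ← g.ac2_five]
      simp only [pow_succ, pow_zero, one_mul, mul_assoc]⟩
  have hrel : VCode.signRel ea ec = true := by
    refine List.all_eq_true.2 fun m hm => ?_
    have hm' := List.mem_range.1 hm
    simp only [Bool.and_eq_true]
    refine ⟨⟨⟨?_, ?_⟩, ?_⟩, ?_⟩
    · exact (congrArg (Nat.beq · m) (r1 m hm')).trans (Nat.beq_refl m)
    · exact (congrArg (Nat.beq · m) (r2 m hm')).trans (Nat.beq_refl m)
    · exact (congrArg (Nat.beq · m) (r3 m hm')).trans (Nat.beq_refl m)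
    · exact (congrArg (Nat.beq · m) (r4 m hm')).trans (Nat.beq_refl m)
  have hs := List.all_eq_true.1 (List.all_eq_true.1 VCode.sign_cases ea (List.mem_range.2 hea)) ec (List.mem_range.2 hec)
  rw [hrel, Bool.not_true, Bool.false_or] at hs
  obtain ⟨m, hm, hmm⟩ := List.any_eq_true.1 hs
  rw [Bool.and_eq_true, Bool.or_eq_true] at hmm
  exact ⟨a, c, ea, ec, m, hea, hec, List.mem_range.1 hm, hap, hcp, hA, hC, Nat.eq_of_beq_eq_true hmm.1,
    hmm.2.imp Nat.eq_of_beq_eq_true Nat.eq_of_beq_eq_true⟩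

end Lifts

end CfsgLib.J4Type
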