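import Cfsg.Agent.Lib.J4Type.VCode

/-!
The two possible sign systems of the lifts, and finite facts about the coordinates.
-/

set_option autoImplicit false
set_option maxRecDepth 100000
set_option maxHeartbeats 4000000
set_option Elab.async false

namespace CfsgLib.J4Type.VCode

/-- The map on the five bits (the bit of `z` first) induced by a lift. -/
def five (pat : List ℕ) (e m : ℕ) : ℕ :=
  app (1 :: (List.range 4).map fun i =>
    Nat.xor (if Nat.testBit e i then 1 else 0) (2 * pat.getD i 0)) m

/-- The parity of four bits. -/
def par4 (m : ℕ) : Bool :=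
  (Nat.testBit m 0).xor ((Nat.testBit m 1).xor ((Nat.testBit m 2).xor (Nat.testBit m 3)))

/-- The signs after changing the lifts of the quotient by the bits of `m`. -/
def gauge (pat : List ℕ) (e m : ℕ) : ℕ :=
  ((List.range 4).map fun i =>
    if ((Nat.testBit e i).xor (Nat.testBit m i)).xor (par4 (Nat.land m (pat.getD i 0))) then 2 ^ i else 0).sum

/-- The relations satisfied by the two lifts. -/
def signRel (ea ec : ℕ) : Bool :=
  let a := five arPat ea; let c := five crPat ec
  (List.range 32).all fun m =>
    Nat.beq (a (a m)) m && Nat.beq (c (c (c (c m)))) m &&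
    Nat.beq (a (c (a (c (a (c (a (c (a (c m)))))))))) m &&
    Nat.beq (a (c (c (a (c (c (a (c (c (a (c (c (a (c (c m))))))))))))))) m

theorem sign_cases : ((List.range 16).all fun ea => (List.range 16).all fun ec => !signRel ea ec ||
    (List.range 16).any fun m => Nat.beq (gauge arPat ea m) 0 &&
      (Nat.beq (gauge crPat ec m) 0 || Nat.beq (gauge crPat ec m) 2)) = true := by
  decide +kernel

/-- The bit of the form polar to `qn`. -/
def bn (u v : ℕ) : Bool := (qn (Nat.xor u v)).xor ((qn u).xor (qn v))

theorem colsT_facts : (List.range 12).all (fun j =>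
    Nat.beq (app colsT (app colsT (2 ^ j))) (Nat.xor (app colsT (2 ^ j)) (2 ^ j))) = true ∧
    (List.range 6).all (fun j => Nat.ble (app colsT (2 ^ j) + 1) 64) = true := by
  decide +kernel

theorem colsR_facts : ((List.range 4).all fun i => (List.range 12).all fun j =>
    Nat.ble (Nat.xor (app (colsR.getD i []) (2 ^ j)) (2 ^ j) + 1) 64 &&
      (Nat.ble 6 j || Nat.beq (app (colsR.getD i []) (2 ^ j)) (2 ^ j))) = true ∧
    ((List.range 16).all fun m => Nat.beq m 0 || (List.range 12).any fun j =>
      !Nat.beq ((List.range 4).foldr (fun i v => if Nat.testBit m i then app (colsR.getD i []) v else v) (2 ^ j))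
        (2 ^ j)) = true := by
  decide +kernel

theorem low_perp : ((List.range 4096).all fun v =>
    (Nat.ble (v + 1) 64) == (List.range 6).all fun j => !bn v (2 ^ j)) = true := by
  decide +kernel

/-- The translation by a vector, as columns. -/
def qCols (v : ℕ) : List ℕ :=
  (List.range 6).map (fun j => Nat.xor (2 ^ j) (if bn v (2 ^ j) then 64 else 0)) ++ [64] ++
    (List.range 4).map fun i => Nat.xor (128 * 2 ^ i) (Nat.xor (Nat.xor (app (colsR.getD i []) v) v)
      (if bn v (app colsT (Nat.xor (app (colsR.getD i []) v) v)) then 64 else 0))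

theorem vQ_eq : ((List.range 12).all fun j => qCols (2 ^ j) == vQ.getD j []) = true := by
  decide +kernel

theorem liftCols_five : ((List.range 16).all fun e => (List.range 32).all fun m =>
    [arPat, crPat].all fun pat =>
      Nat.beq (app (liftCols colsA pat e) (64 * m)) (64 * five pat e m)) = true := by
  decide +kernel

end CfsgLib.J4Type.VCode
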