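import Cfsg.Agent.Lib.J4Type.Stab
import Cfsg.Agent.Lib.J4Type.Splitting.Five
import Cfsg.Agent.Lib.J4Type.Splitting.Coset
import Cfsg.Agent.Lib.Solvable.Gaschutz

/-!
The subgroup of order `2^11` has a complement in its normaliser, isomorphic to Mathieu's group.
-/

set_option autoImplicit false
set_option linter.unusedSectionVars false
set_option maxRecDepth 20000

namespace CfsgLib.J4Type

open Subgroup
open scoped Pointwise
open VCode (liftCols five qCols)

universe u

/-- A product of two subgroups meeting trivially, one normalising the other, has the product order. -/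
theorem card_sup_mul {G : Type*} [Group G] [Finite G] {A K : Subgroup G}
    (hn : K ≤ Subgroup.normalizer (A : Set G)) (hd : K ⊓ A = ⊥) :
    Nat.card ↥(A ⊔ K) = Nat.card A * Nat.card K := by
  have hset : ((A ⊔ K : Subgroup G) : Set G) = (A : Set G) * (K : Set G) :=
    Subgroup.coe_mul_of_right_le_normalizer_left A K hn
  let F : A × K → ↥(A ⊔ K) := fun p =>
    ⟨(p.1 : G) * p.2, mul_mem (Subgroup.mem_sup_left p.1.2) (Subgroup.mem_sup_right p.2.2)⟩
  have hF : Function.Bijective F := by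
    refine ⟨fun p q e => ?_, fun x => ?_⟩
    · have e' : (p.1 : G) * p.2 = q.1 * q.2 := congrArg Subtype.val e
      have h1 : (q.1 : G)⁻¹ * p.1 = q.2 * (p.2 : G)⁻¹ := by
        rw [eq_mul_inv_iff_mul_eq, mul_assoc, e', inv_mul_cancel_left]
      have hm : (q.1 : G)⁻¹ * p.1 ∈ K ⊓ A :=
        Subgroup.mem_inf.2 ⟨h1 ▸ K.mul_mem q.2.2 (K.inv_mem p.2.2), A.mul_mem (A.inv_mem q.1.2) p.1.2⟩
      rw [hd, Subgroup.mem_bot] at hm
      have e1 : p.1 = q.1 := Subtype.ext (inv_mul_eq_one.1 hm).symm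
      rw [hm] at h1
      exact Prod.ext e1 (Subtype.ext (mul_inv_eq_one.1 h1.symm).symm)
    · have hx : (x : G) ∈ (A : Set G) * (K : Set G) := hset ▸ x.2
      obtain ⟨a, ha, k, hk, e⟩ := Set.mem_mul.1 hx
      exact ⟨(⟨a, ha⟩, ⟨k, hk⟩), Subtype.ext e⟩
  rw [← Nat.card_prod, Nat.card_eq_of_bijective F hF]

theorem block_low : ((([0, 1, 3] : List ℕ).all fun g => (List.range 64).all fun h =>
    Nat.blt (appW [g] h) 64 && Nat.beq (appW [g] (64 * h) % 64) 0) &&
    (List.range 64).all fun h => !qn (64 * h)) = true := by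
  decide +kernel

theorem sylow_inj : ((List.range 16).all fun n => (List.range 16).all fun m => n == m ||
    (List.range 6).any fun b => !Nat.beq (appW (Split.wEl (n / 8) (n / 2 % 4) (n % 2)) (2 ^ b))
      (appW (Split.wEl (m / 8) (m / 2 % 4) (m % 2)) (2 ^ b))) = true := by
  decide +kernel

theorem s_word : ((List.range 12).all fun k => Nat.beq (appW [0, 0] (2 ^ k)) (2 ^ k)) = true := by
  decide +kernel

variable {G : Type u} [Group G] [Finite G] {z : G} {P : Subgroup G}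

namespace Lifts

variable {X : Ctx z P} (L : Lifts X)

/-- Conjugation by `p`. -/
def cp (w : CC z) : CC z := L.p * w * L.p⁻¹

/-- Normalises `<p>`, and its image both halves and the normal subgroup of order sixteen. -/
structure Good (x : CC z) : Prop where
  nrm : L.Nrm x
  low : (QuotientGroup.mk x : CC z ⧸ QQ z) ∈ X.model.stabW
  high : ∀ v, X.model.code v % 64 = 0 →
    X.model.code ((ext13_of X.hyp).rep.ρ (QuotientGroup.mk x) v) % 64 = 0
  rsub : ∀ i, (QuotientGroup.mk x : CC z ⧸ QQ z) * X.model.gens.r i * (QuotientGroup.mk x)⁻¹ ∈ X.model.rSub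

include L

theorem cp_cp_cp (w : CC z) : L.cp (L.cp (L.cp w)) = w := by
  show L.p * (L.p * (L.p * w * L.p⁻¹) * L.p⁻¹) * L.p⁻¹ = w
  calc L.p * (L.p * (L.p * w * L.p⁻¹) * L.p⁻¹) * L.p⁻¹ =
        L.p * L.p * L.p * w * (L.p * L.p * L.p)⁻¹ := by group
    _ = w := by rw [show L.p * L.p * L.p = L.p ^ 3 by rw [pow_three, mul_assoc], L.p_three, one_mul,
      inv_one, mul_one]

theorem cp_mul (a b : CC z) : L.cp (a * b) = L.cp a * L.cp b := by
  show L.p * (a * b) * L.p⁻¹ = L.p * a * L.p⁻¹ * (L.p * b * L.p⁻¹)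
  group

theorem conj_rSub {x : CC z} (hx : ∀ i, (QuotientGroup.mk x : CC z ⧸ QQ z) * X.model.gens.r i *
    (QuotientGroup.mk x)⁻¹ ∈ X.model.rSub) {h : CC z ⧸ QQ z} (hh : h ∈ X.model.rSub) :
    (QuotientGroup.mk x : CC z ⧸ QQ z) * h * (QuotientGroup.mk x)⁻¹ ∈ X.model.rSub := by
  induction hh using Subgroup.closure_induction with
  | mem w hw => obtain ⟨i, rfl⟩ := hw; exact hx i
  | one => rw [mul_one, mul_inv_cancel]; exact one_mem _
  | mul a b _ _ ha hb => rw [← conj_mul]; exact mul_mem ha hb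
  | inv a _ ha => rw [← conj_inv]; exact inv_mem ha

theorem Good.mul {x y : CC z} (hx : L.Good x) (hy : L.Good y) : L.Good (x * y) where
  nrm := Nrm.mul L hx.nrm hy.nrm
  low := by rw [QuotientGroup.mk_mul]; exact mul_mem hx.low hy.low
  high v hv := by
    rw [QuotientGroup.mk_mul, (ext13_of X.hyp).rep.mul_apply]
    exact hx.high _ (hy.high v hv)
  rsub i := by
    rw [QuotientGroup.mk_mul, show ∀ a b c : CC z ⧸ QQ z, a * b * c * (a * b)⁻¹ = a * (b * c * b⁻¹) * a⁻¹ from
      fun a b c => by group]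
    exact L.conj_rSub hx.rsub (hy.rsub i)

theorem Good.conj_Wc {x : CC z} (hx : L.Good x) {w : CC z} (hw : w ∈ X.Wc) : x * w * x⁻¹ ∈ X.Wc := by
  obtain ⟨b, rfl⟩ : ∃ b : QQ z, (b : CC z) = w := ⟨⟨w, X.mem_QQ_of_Wc hw⟩, rfl⟩
  rw [← cjQ_val, X.mem_Wc, L.code_rho x rfl]
  exact hx.low _ (X.mem_Wc.1 hw)

theorem Good.conj_VV {x : CC z} (hx : L.Good x) {v : CC z} (hv : v ∈ X.VV) : x * v * x⁻¹ ∈ X.VV := by
  obtain ⟨h1, h2⟩ := Subgroup.mem_inf.1 hv
  refine Subgroup.mem_inf.2 ⟨?_, Subgroup.mem_centralizer_iff.2 fun w hw => ?_⟩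
  · show (QuotientGroup.mk (x * v * x⁻¹) : CC z ⧸ QQ z) ∈ X.model.rSub
    rw [QuotientGroup.mk_mul, QuotientGroup.mk_mul, QuotientGroup.mk_inv]
    exact L.conj_rSub hx.rsub h1
  · have hw' : x⁻¹ * w * x ∈ X.Wc := by
      obtain ⟨b, rfl⟩ : ∃ b : QQ z, (b : CC z) = w := ⟨⟨w, X.mem_QQ_of_Wc hw⟩, rfl⟩
      rw [show x⁻¹ * (b : CC z) * x = x⁻¹ * (b : CC z) * x⁻¹⁻¹ by rw [inv_inv], ← cjQ_val, X.mem_Wc,
        L.code_rho x⁻¹ rfl, QuotientGroup.mk_inv]
      exact X.model.stabW.inv_mem hx.low _ (X.mem_Wc.1 hw)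
    have := Subgroup.mem_centralizer_iff.1 h2 _ hw'
    calc w * (x * v * x⁻¹) = x * (x⁻¹ * w * x * v) * x⁻¹ := by group
      _ = x * (v * (x⁻¹ * w * x)) * x⁻¹ := by rw [this]
      _ = _ := by group

theorem mem_normalizer_Vg {x : CC z} (h : ∀ v ∈ X.VV, x * v * x⁻¹ ∈ X.VV) :
    (x : G) ∈ Subgroup.normalizer (X.Vg : Set G) :=
  Subgroup.mem_normalizer_fintype fun b hb => by
    obtain ⟨v, hv, rfl⟩ := hb
    exact ⟨x * v * x⁻¹, h v hv, rfl⟩

theorem good_gen {x : CC z} (g : ℕ) (hg : g ∈ ([0, 1, 3] : List ℕ)) (hn : L.Nrm x)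
    (hx : (QuotientGroup.mk x : CC z ⧸ QQ z) = X.model.gen g)
    (hr : ∀ i, X.model.gen g * X.model.gens.r i * (X.model.gen g)⁻¹ ∈ X.model.rSub) : L.Good x := by
  have hb := block_low
  rw [Bool.and_eq_true] at hb
  have hcode : ∀ v, X.model.code ((ext13_of X.hyp).rep.ρ (QuotientGroup.mk x) v) = appW [g] (X.model.code v) :=
    fun v => by rw [hx, X.model.code_gen]; rfl
  refine ⟨hn, fun v hv => ?_, fun v hv => ?_, fun i => by rw [hx]; exact hr i⟩
  · have := List.all_eq_true.1 (List.all_eq_true.1 hb.1 g hg) _ (List.mem_range.2 hv)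
    rw [Bool.and_eq_true] at this
    rw [hcode]
    exact Nat.blt_eq.mp this.1
  · obtain ⟨h, hh, e⟩ : ∃ h, h < 64 ∧ X.model.code v = 64 * h :=
      ⟨X.model.code v / 64, by have := X.model.code_lt v; omega, by omega⟩
    have := List.all_eq_true.1 (List.all_eq_true.1 hb.1 g hg) h (List.mem_range.2 hh)
    rw [Bool.and_eq_true] at this
    rw [hcode, e]
    exact Nat.eq_of_beq_eq_true this.2

omit L in
theorem evR_mem (m : ℕ) : evR X.model.gens.r m ∈ X.model.rSub :=
  Subgroup.list_prod_mem _ fun w hw => by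
    obtain ⟨i, rfl⟩ := List.mem_ofFn.1 hw
    split_ifs
    · exact Subgroup.subset_closure ⟨i, rfl⟩
    · exact one_mem _

theorem exists_gen_lifts (hsq : ∀ a ∈ X.VV, a * a = 1) :
    ∃ (a c u : CC z) (ea ec eu : ℕ), ea < 16 ∧ ec < 16 ∧ eu < 16 ∧
      (QuotientGroup.mk a : CC z ⧸ QQ z) = X.model.gen 0 ∧ (QuotientGroup.mk c : CC z ⧸ QQ z) = X.model.gen 1 ∧
      (QuotientGroup.mk u : CC z ⧸ QQ z) = X.model.gen 3 ∧ L.Good a ∧ L.Good c ∧ L.Good u ∧
      Acts L a (five arPat ea) ∧ Acts L c (five crPat ec) ∧ Acts L u (five urPat eu) ∧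
      Split.allNoZ (five arPat ea) (five crPat ec) (five urPat eu) = true := by
  set g := X.model.gens
  obtain ⟨a, ha, hap⟩ := exists_comm_lift (QQ z) (not_three_dvd X.hyp) L.p_three
    (h := g.a) (by rw [L.p_mk]; exact g.t_a)
  obtain ⟨c, hc, hcp⟩ := exists_comm_lift (QQ z) (not_three_dvd X.hyp) L.p_three
    (h := g.c) (by rw [L.p_mk]; exact g.t_c)
  obtain ⟨u, hu, hup⟩ := exists_inv_lift (QQ z) (not_three_dvd X.hyp) L.p_three
    (h := g.u) (by rw [L.p_mk]; exact g.u_t)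
  have na : L.Nrm a := Nrm.of_comm L hap
  have nc : L.Nrm c := Nrm.of_comm L hcp
  have nu : L.Nrm u := Or.inr hup
  have hb := Split.five_bound
  have hu' := Split.five_units
  simp only [List.all_eq_true, List.mem_range, Bool.and_eq_true, Nat.blt_eq] at hb hu'
  have hfive : ∀ pat ∈ ([arPat, crPat, urPat] : List (List ℕ)), ∀ e, e < 16 →
      (∀ m, m < 32 → five pat e m < 32) ∧ ∀ j, j < 4 → 64 * five pat e (2 ^ (j + 1)) =
        Nat.xor (if Nat.testBit e j then 64 else 0) (128 * pat.getD j 0) := by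
    intro pat hp e he
    refine ⟨fun m hm => ?_, fun j hj => Nat.eq_of_beq_eq_true (hu' e he pat hp j hj)⟩
    obtain ⟨⟨h1, h2⟩, h3⟩ := hb e he m hm
    simp only [List.mem_cons, List.not_mem_nil, or_false] at hp
    rcases hp with rfl | rfl | rfl
    · exact h1
    · exact h2
    · exact h3
  have hpat : ∀ pat ∈ ([arPat, crPat, urPat] : List (List ℕ)), ∀ i, i < 4 → pat.getD i 0 < 16 := by decide
  obtain ⟨ea, hea, aA⟩ := L.acts_of_norm hsq na arPat (hpat _ (by simp)) (hfive _ (by simp))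
    (fun i => by rw [ha]; exact g.a_r i)
  obtain ⟨ec, hec, aC⟩ := L.acts_of_norm hsq nc crPat (hpat _ (by simp)) (hfive _ (by simp))
    (fun i => by rw [hc]; exact g.c_r i)
  obtain ⟨eu, heu, aU⟩ := L.acts_of_norm hsq nu urPat (hpat _ (by simp)) (hfive _ (by simp))
    (fun i => by rw [hu]; exact g.u_r i)
  have one : Acts L 1 id := L.acts_of_mk hsq (k := 0) (by rw [one_mul, mul_one]) (by rw [QuotientGroup.mk_one, pow_zero])
  have cA : Commute a L.p := hap
  have cC : Commute c L.p := hcp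
  have r1 := L.acts_eq hsq (x := 1) (y := a * a) (by rw [one_mul, mul_one]) (cA.mul_left cA).eq one (aA.comp aA)
    (k := 0) (by rw [QuotientGroup.mk_mul, ha, g.a_sq, QuotientGroup.mk_one, pow_zero, one_mul])
  have r2 := L.acts_eq hsq (x := 1) (y := u * u) (by rw [one_mul, mul_one]) (Nrm.sq_comm L nu).eq one (aU.comp aU)
    (k := 0) (by rw [QuotientGroup.mk_mul, hu, g.u_sq, QuotientGroup.mk_one, pow_zero, one_mul])
  have word : ∀ w : List Bool, Commute (evW a c w) L.p ∧ Acts L (evW a c w) (Split.evF (five arPat ea) (five crPat ec) w) ∧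
      (QuotientGroup.mk (evW a c w) : CC z ⧸ QQ z) = evW g.a g.c w ∧ Commute g.t (evW g.a g.c w) := by
    intro w
    induction w with
    | nil => exact ⟨Commute.one_left _, one, rfl, Commute.one_right _⟩
    | cons b w ih =>
      obtain ⟨i1, i2, i3, i4⟩ := ih
      cases b
      · refine ⟨cA.mul_left i1, aA.comp i2, ?_, (show Commute g.t g.a from g.t_a.symm).mul_right i4⟩
        show (QuotientGroup.mk (a * evW a c w) : CC z ⧸ QQ z) = g.a * evW g.a g.c w
        rw [QuotientGroup.mk_mul, ha, i3]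
      · refine ⟨cC.mul_left i1, aC.comp i2, ?_, (show Commute g.t g.c from g.t_c.symm).mul_right i4⟩
        show (QuotientGroup.mk (c * evW a c w) : CC z ⧸ QQ z) = g.c * evW g.a g.c w
        rw [QuotientGroup.mk_mul, hc, i3]
  obtain ⟨w1, w2, w3, w4⟩ := word wUC
  obtain ⟨k, hk⟩ := g.u_c
  have huu : g.u⁻¹ = g.u := inv_eq_of_mul_eq_one_right g.u_sq
  have hucu : u * c * u * L.p = L.p * (u * c * u) := by
    have h1 := Nrm.comm_conj L nu hcp
    have h2 : Commute (u * u) L.p := Nrm.sq_comm L nu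
    rw [show u * c * u = u * c * u⁻¹ * (u * u) by group]
    exact ((show Commute (u * c * u⁻¹) L.p from h1).mul_left h2).eq
  have r3 := L.acts_eq hsq (x := evW a c wUC) (y := u * c * u) w1.eq hucu w2 ((aU.comp aC).comp aU) (k := k) (by
    rw [QuotientGroup.mk_mul, QuotientGroup.mk_mul, hu, hc, w3]
    rw [huu] at hk
    rw [hk]
    exact (w4.pow_left k).eq)
  have hrel : Split.rels (five arPat ea) (five crPat ec) (five urPat eu) = true := by
    refine List.all_eq_true.2 fun m hm => ?_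
    have hm32 : m < 32 := by
      simp only [List.mem_cons, List.not_mem_nil, or_false] at hm
      rcases hm with rfl | rfl | rfl | rfl | rfl <;> norm_num
    have q1 : five arPat ea (five arPat ea m) = m := (r1 m hm32).symm
    have q2 : five urPat eu (five urPat eu m) = m := (r2 m hm32).symm
    have q3 : five urPat eu (five crPat ec (five urPat eu m)) =
      Split.evF (five arPat ea) (five crPat ec) wUC m := (r3 m hm32).symm
    rw [q1, q2, q3, Nat.beq_refl, Nat.beq_refl]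
    rfl
  have hs := List.all_eq_true.1 (List.all_eq_true.1 (List.all_eq_true.1 Split.five_cases ea (List.mem_range.2 hea))
    ec (List.mem_range.2 hec)) eu (List.mem_range.2 heu)
  rw [hrel, Bool.not_true, Bool.false_or] at hs
  exact ⟨a, c, u, ea, ec, eu, hea, hec, heu, ha, hc, hu,
    L.good_gen 0 (by simp) na ha (fun i => by rw [show X.model.gen 0 = g.a from rfl, g.a_r i]; exact evR_mem _),
    L.good_gen 1 (by simp) nc hc (fun i => by rw [show X.model.gen 1 = g.c from rfl, g.c_r i]; exact evR_mem _),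
    L.good_gen 3 (by simp) nu hu (fun i => by rw [show X.model.gen 3 = g.u from rfl, g.u_r i]; exact evR_mem _),
    aA, aC, aU, hs⟩

theorem qq_conj (x : CC z) {y : CC z} (hy : y ∈ QQ z) : x * y * x⁻¹ ∈ QQ z :=
  (QQ_normal z).conj_mem y hy x

theorem code_conj (x : CC z) {y : CC z} (hy : y ∈ QQ z) :
    X.model.code (pr (⟨x * y * x⁻¹, L.qq_conj x hy⟩ : QQ z)) =
      X.model.code ((ext13_of X.hyp).rep.ρ (QuotientGroup.mk x) (pr ⟨y, hy⟩)) := by
  rw [← L.code_rho x rfl ⟨y, hy⟩]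
  exact congrArg (fun w => X.model.code (pr w)) (Subtype.ext (cjQ_val x (⟨y, hy⟩ : QQ z)).symm)

omit L in
/-- Elements with code in the second half square to one. -/
theorem sq_of_high {y : QQ z} (h : X.model.code (pr y) % 64 = 0) : (y : CC z) * y = 1 := by
  have hb := block_low
  rw [Bool.and_eq_true] at hb
  obtain ⟨k, hk, e⟩ : ∃ k, k < 64 ∧ X.model.code (pr y) = 64 * k :=
    ⟨X.model.code (pr y) / 64, by have := X.model.code_lt (pr y); omega, by omega⟩
  have hqn : qn (X.model.code (pr y)) = false := by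
    rw [e]; simpa using List.all_eq_true.1 hb.2 k (List.mem_range.2 hk)
  have hq := X.model.code_q (pr y)
  rw [hqn, if_neg Bool.false_ne_true] at hq
  have hq' : qf (pr y) = 0 := hq
  rw [(ext13_of X.hyp).qf_pr, bit] at hq'
  split_ifs at hq' with h1
  · exact congrArg Subtype.val h1
  · exact absurd hq' one_ne_zero

omit L in
/-- The elementary subgroup over the second half. -/
noncomputable def hiGrp {X : Ctx z P} (_L : Lifts X) : Subgroup (CC z) :=
  ({ carrier := {y | X.model.code (pr y) % 64 = 0}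
     one_mem' := by show X.model.code (pr 1) % 64 = 0; rw [pr_one, X.code_zero]
     mul_mem' := fun {a b} ha hb => by
      show X.model.code (pr (a * b)) % 64 = 0
      rw [pr_mul, X.model.code_add, show (64 : ℕ) = 2 ^ 6 by norm_num]
      have e : Nat.xor (X.model.code (pr a)) (X.model.code (pr b)) % 2 ^ 6 =
        Nat.xor (X.model.code (pr a) % 2 ^ 6) (X.model.code (pr b) % 2 ^ 6) := Nat.xor_mod_two_pow
      rw [e, show X.model.code (pr a) % 2 ^ 6 = 0 from ha, show X.model.code (pr b) % 2 ^ 6 = 0 from hb]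
      rfl
     inv_mem' := fun {a} ha => by
      show X.model.code (pr a⁻¹) % 64 = 0
      rwa [(ext13_of X.hyp).pr_eq_iff.2 (by rw [inv_inv]; exact (ext13_of X.hyp).sq_mem a : a⁻¹⁻¹ * a ∈ _)] } :
    Subgroup (QQ z)).map (QQ z).subtype

theorem mem_hiGrp {y : CC z} : y ∈ L.hiGrp ↔ ∃ hy : y ∈ QQ z, X.model.code (pr ⟨y, hy⟩) % 64 = 0 := by
  constructor
  · rintro ⟨b, hb, rfl⟩
    exact ⟨b.2, hb⟩
  · rintro ⟨hy, h⟩
    exact ⟨⟨y, hy⟩, h, rfl⟩

theorem hi_sq {y : CC z} (h : y ∈ L.hiGrp) : y * y = 1 := by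
  obtain ⟨hy, h⟩ := L.mem_hiGrp.1 h
  exact sq_of_high h

theorem hi_comm {a b : CC z} (ha : a ∈ L.hiGrp) (hb : b ∈ L.hiGrp) : a * b = b * a := by
  have inv : ∀ w ∈ L.hiGrp, w⁻¹ = w := fun w hw => inv_eq_of_mul_eq_one_right (L.hi_sq hw)
  rw [← inv _ (mul_mem ha hb), mul_inv_rev, inv _ ha, inv _ hb]

theorem hi_conj {x y : CC z} (hx : L.Good x) (hy : y ∈ L.hiGrp) : x * y * x⁻¹ ∈ L.hiGrp := by
  obtain ⟨hy, h⟩ := L.mem_hiGrp.1 hy
  exact L.mem_hiGrp.2 ⟨L.qq_conj x hy, by rw [L.code_conj x hy]; exact hx.high _ h⟩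

theorem hi_cp {y : CC z} (hy : y ∈ L.hiGrp) : L.cp y ∈ L.hiGrp := by
  obtain ⟨hy, h⟩ := L.mem_hiGrp.1 hy
  show L.p * y * L.p⁻¹ ∈ L.hiGrp
  refine L.mem_hiGrp.2 ⟨L.qq_conj L.p hy, ?_⟩
  rw [L.code_conj L.p hy, L.p_mk, X.model.act_t]
  have hb : ∀ k, k < 64 → app colsT (64 * k) % 64 = 0 := by decide +kernel
  obtain ⟨k, hk, e⟩ : ∃ k, k < 64 ∧ X.model.code (pr (⟨y, hy⟩ : QQ z)) = 64 * k :=
    ⟨X.model.code (pr (⟨y, hy⟩ : QQ z)) / 64, by have := X.model.code_lt (pr (⟨y, hy⟩ : QQ z)); omega, by omega⟩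
  rw [e]
  exact hb k hk

/-- The product over the orbit of `p`. -/
def orbProd (y : CC z) : CC z := y * L.cp y * L.cp (L.cp y)

theorem orbProd_mul {a b : CC z} (ha : a ∈ L.hiGrp) (hb : b ∈ L.hiGrp) :
    L.orbProd (a * b) = L.orbProd a * L.orbProd b := by
  have hc1 := L.hi_cp ha
  have hc2 := L.hi_cp hc1
  have hd1 := L.hi_cp hb
  show a * b * L.cp (a * b) * L.cp (L.cp (a * b)) = a * L.cp a * L.cp (L.cp a) * (b * L.cp b * L.cp (L.cp b))
  rw [L.cp_mul, L.cp_mul]
  calc a * b * (L.cp a * L.cp b) * (L.cp (L.cp a) * L.cp (L.cp b))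
      = a * (b * L.cp a) * (L.cp b * L.cp (L.cp a)) * L.cp (L.cp b) := by group
    _ = a * (L.cp a * b) * (L.cp (L.cp a) * L.cp b) * L.cp (L.cp b) := by
      rw [L.hi_comm hb hc1, L.hi_comm hd1 hc2]
    _ = a * L.cp a * (b * L.cp (L.cp a)) * L.cp b * L.cp (L.cp b) := by group
    _ = a * L.cp a * (L.cp (L.cp a) * b) * L.cp b * L.cp (L.cp b) := by rw [L.hi_comm hb hc2]
    _ = _ := by group

theorem orbProd_mem {y : CC z} (hy : y ∈ L.hiGrp) : L.orbProd y ∈ L.hiGrp :=
  mul_mem (mul_mem hy (L.hi_cp hy)) (L.hi_cp (L.hi_cp hy))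

omit L in
/-- The commutator part of `hiGrp`, of order 64. -/
noncomputable def Yc {X : Ctx z P} (L : Lifts X) : Subgroup (CC z) where
  carrier := {y | y ∈ L.hiGrp ∧ L.orbProd y = 1}
  one_mem' := ⟨one_mem _, by simp [orbProd, cp]⟩
  mul_mem' := fun {a b} ha hb => ⟨mul_mem ha.1 hb.1, by rw [L.orbProd_mul ha.1 hb.1, ha.2, hb.2, one_mul]⟩
  inv_mem' := fun {a} ha => by
    rw [Set.mem_setOf_eq, inv_eq_of_mul_eq_one_right (L.hi_sq ha.1)]
    exact ha

theorem Yc_conj {x y : CC z} (hx : L.Good x) (hy : y ∈ L.Yc) : x * y * x⁻¹ ∈ L.Yc := by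
  refine ⟨L.hi_conj hx hy.1, ?_⟩
  have h1 := L.hi_conj hx hy.1
  have hcp : ∀ w, x * L.cp w * x⁻¹ = x * L.p * x⁻¹ * (x * w * x⁻¹) * (x * L.p * x⁻¹)⁻¹ := fun w => by
    show x * (L.p * w * L.p⁻¹) * x⁻¹ = _
    group
  have split : x * L.orbProd y * x⁻¹ = x * y * x⁻¹ * (x * L.cp y * x⁻¹) * (x * L.cp (L.cp y) * x⁻¹) := by
    show x * (y * L.cp y * L.cp (L.cp y)) * x⁻¹ = _
    group
  rw [hy.2, mul_one, mul_inv_cancel, hcp (L.cp y), hcp y] at split
  rcases hx.nrm with h | h <;> rw [h] at split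
  · exact split.symm
  · have cinv : ∀ w, L.p⁻¹ * w * L.p⁻¹⁻¹ = L.cp (L.cp w) := fun w => by
      have e := L.cp_cp_cp (L.p⁻¹ * w * L.p⁻¹⁻¹)
      rw [show L.cp (L.p⁻¹ * w * L.p⁻¹⁻¹) = w by
        show L.p * (L.p⁻¹ * w * L.p⁻¹⁻¹) * L.p⁻¹ = w; group] at e
      exact e.symm
    rw [cinv, cinv, L.cp_cp_cp, mul_assoc, L.hi_comm (L.hi_cp (L.hi_cp h1)) (L.hi_cp h1), ← mul_assoc] at split
    exact split.symm

theorem code_Yc_inj {y : QQ z} (hy : (y : CC z) ∈ L.Yc) (h : X.model.code (pr y) = 0) : (y : CC z) = 1 := by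
  rcases X.center_eq ((ext13_of X.hyp).pr_eq_zero.1 (X.code_eq_zero.1 h)) with e | e
  · rw [e]; rfl
  · exfalso
    have hc : L.cp (Ctx.zc z) = Ctx.zc z := by
      show L.p * Ctx.zc z * L.p⁻¹ = _
      rw [← Ctx.zc_central, mul_inv_cancel_right]
    have h2 := hy.2
    rw [e] at h2
    change L.orbProd (Ctx.zc z) = 1 at h2
    rw [orbProd, hc, hc, Ctx.zc_sq X, one_mul] at h2
    exact Ctx.zc_ne X h2

theorem card_Yc : Nat.card L.Yc = 64 := by
  have hex : ∀ h : Fin 64, ∃ y : L.Yc, ∃ hy : (y : CC z) ∈ QQ z, X.model.code (pr ⟨y, hy⟩) = 64 * h.val := by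
    intro h
    have hlt : 64 * h.val < 4096 := by have := h.isLt; omega
    obtain ⟨b, hb⟩ := pr_surj (X.dec (64 * h.val))
    have hcode : X.model.code (pr b) = 64 * h.val := by rw [hb, X.code_dec hlt]
    have hb' : (b : CC z) ∈ L.hiGrp := L.mem_hiGrp.2 ⟨b.2, by
      rw [show (⟨(b : CC z), b.2⟩ : QQ z) = b from rfl, hcode]; omega⟩
    have hp := L.orbProd_mem hb'
    have hcp : L.cp (L.orbProd b) = L.orbProd b := by
      show L.cp ((b : CC z) * L.cp b * L.cp (L.cp b)) = (b : CC z) * L.cp b * L.cp (L.cp b)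
      rw [L.cp_mul, L.cp_mul, L.cp_cp_cp, L.hi_comm (mul_mem (L.hi_cp hb') (L.hi_cp (L.hi_cp hb'))) hb', ← mul_assoc]
    obtain ⟨hpq, -⟩ := L.mem_hiGrp.1 hp
    have hfix : L.orbProd b = 1 ∨ L.orbProd b = Ctx.zc z :=
      L.fixed_QQ hpq (mul_inv_eq_iff_eq_mul.1 hcp).symm
    have hself : L.orbProd (L.orbProd b) = L.orbProd b := by
      show L.orbProd b * L.cp (L.orbProd b) * L.cp (L.cp (L.orbProd b)) = _
      rw [hcp, hcp, L.hi_sq hp, one_mul]
    have hy : (b : CC z) * L.orbProd b ∈ L.Yc :=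
      ⟨mul_mem hb' hp, by rw [L.orbProd_mul hb' hp, hself, L.hi_sq hp]⟩
    refine ⟨⟨_, hy⟩, mul_mem b.2 hpq, ?_⟩
    rw [show (⟨(b : CC z) * L.orbProd b, mul_mem b.2 hpq⟩ : QQ z) = b * ⟨L.orbProd b, hpq⟩ from rfl,
      pr_mul, X.model.code_add, hcode]
    have h0 : X.model.code (pr (⟨L.orbProd b, hpq⟩ : QQ z)) = 0 := by
      rcases hfix with e | e
      · rw [show (⟨L.orbProd b, hpq⟩ : QQ z) = 1 from Subtype.ext e, pr_one, X.code_zero]
      · rw [show (⟨L.orbProd b, hpq⟩ : QQ z) = X.zQ from Subtype.ext e, X.pr_zQ, X.code_zero]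
    rw [h0]; exact Nat.xor_zero _
  choose F hFq hF using hex
  have hb : Function.Bijective F := by
    refine ⟨fun m n e => ?_, fun y => ?_⟩
    · have e1 := hF m
      have e2 := hF n
      have : (⟨(F m : CC z), hFq m⟩ : QQ z) = ⟨F n, hFq n⟩ := Subtype.ext (congrArg (fun w : L.Yc => (w : CC z)) e)
      rw [this, e2] at e1
      exact Fin.ext (by omega)
    · obtain ⟨hy, hc⟩ := L.mem_hiGrp.1 y.2.1
      have hlt := X.model.code_lt (pr (⟨(y : CC z), hy⟩ : QQ z))
      refine ⟨⟨X.model.code (pr (⟨(y : CC z), hy⟩ : QQ z)) / 64, by omega⟩, ?_⟩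
      set n : Fin 64 := ⟨X.model.code (pr (⟨(y : CC z), hy⟩ : QQ z)) / 64, by omega⟩
      have h0 : X.model.code (pr (⟨(y : CC z), hy⟩ * ⟨F n, hFq n⟩ : QQ z)) = 0 := by
        rw [pr_mul, X.model.code_add, hF n,
          show 64 * n.val = X.model.code (pr (⟨(y : CC z), hy⟩ : QQ z)) by show 64 * (_ / 64) = _; omega]
        exact Nat.xor_self _
      have := L.code_Yc_inj (mul_mem y.2 (F n).2) h0
      have hh : (y : CC z) * (F n : CC z) = 1 := this
      refine Subtype.ext ?_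
      rw [eq_inv_of_mul_eq_one_left hh, inv_eq_of_mul_eq_one_right (L.hi_sq (F n).2.1)]
  rw [← Nat.card_eq_of_bijective F hb, Nat.card_fin]

theorem exists_fix_involutions (hsq : ∀ a ∈ X.VV, a * a = 1) :
    ∃ y₁ y₂ : G, y₁ ∈ Subgroup.normalizer (X.Vg : Set G) ∧ y₂ ∈ Subgroup.normalizer (X.Vg : Set G) ∧
      y₁ * y₁ = 1 ∧ y₂ * y₂ = 1 ∧ y₁ ∉ X.Vg ∧ y₂ ∉ X.Vg ∧
      (fixIn X.Vg y₁).ncard ≠ (fixIn X.Vg y₂).ncard := by
  classical
  have key : ∀ v, v ∈ ([64, 256] : List ℕ) → ∀ k, Split.fixCount v = k → k < 2048 →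
      ∃ y : G, y ∈ Subgroup.normalizer (X.Vg : Set G) ∧ y * y = 1 ∧ y ∉ X.Vg ∧ (fixIn X.Vg y).ncard = k := by
    intro v hv k hk hklt
    have hv' : v < 4096 ∧ v % 64 = 0 := by
      simp only [List.mem_cons, List.not_mem_nil, or_false] at hv
      rcases hv with rfl | rfl <;> norm_num
    obtain ⟨y, hy⟩ := pr_surj (X.dec v)
    have hcode : X.model.code (pr y) = v := by rw [hy, X.code_dec hv'.1]
    have hy2 : (y : CC z) * y = 1 := sq_of_high (by rw [hcode]; exact hv'.2)
    have hb := List.all_eq_true.1 Split.qCols_bound v hv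
    simp only [List.all_eq_true, Nat.blt_eq] at hb
    have hlt : ∀ n, app (qCols v) n < 2048 := fun n => app_lt (k := 11) _ _ (fun c hc => hb c hc)
    have hconj : ∀ n, n < 2048 → (y : CC z) * L.enc n * (y : CC z)⁻¹ = L.enc (app (qCols v) n) := fun n hn => by
      rw [L.conj_trans hsq y hn, hcode]
    have hn : ((y : CC z) : G) ∈ Subgroup.normalizer (X.Vg : Set G) := L.mem_normalizer_Vg fun w hw => by
      obtain ⟨n, hn, rfl⟩ := L.enc_surj hsq hw
      rw [hconj n hn]; exact L.enc_mem hsq _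
    have hset : fixIn X.Vg ((y : CC z) : G) =
        (fun n => (L.enc n : G)) '' ((((List.range 2048).filter fun n => Nat.beq (app (qCols v) n) n).toFinset : Finset ℕ) : Set ℕ) := by
      ext b
      constructor
      · rintro ⟨⟨w, hw, rfl⟩, hfix⟩
        obtain ⟨n, hn, rfl⟩ := L.enc_surj hsq hw
        refine ⟨n, ?_, rfl⟩
        have e : (y : CC z) * L.enc n * (y : CC z)⁻¹ = L.enc n := Subtype.ext hfix
        rw [hconj n hn] at e
        simp only [Finset.mem_coe, List.mem_toFinset, List.mem_filter, List.mem_range]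
        refine ⟨hn, ?_⟩
        rw [L.enc_inj hsq (hlt n) hn e]
        exact Nat.beq_refl n
      · rintro ⟨n, hn, rfl⟩
        simp only [Finset.mem_coe, List.mem_toFinset, List.mem_filter, List.mem_range] at hn
        refine ⟨⟨_, L.enc_mem hsq n, rfl⟩, ?_⟩
        have := hconj n hn.1
        rw [Nat.eq_of_beq_eq_true hn.2] at this
        exact congrArg Subtype.val this
    have hcard : (fixIn X.Vg ((y : CC z) : G)).ncard = k := by
      rw [hset, Set.InjOn.ncard_image, Set.ncard_coe_finset, List.toFinset_card_of_nodup (List.nodup_range.filter _)]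
      · exact hk
      · intro m hm n hn e
        simp only [Finset.mem_coe, List.mem_toFinset, List.mem_filter, List.mem_range] at hm hn
        exact L.enc_inj hsq hm.1 hn.1 (Subtype.ext e)
    refine ⟨((y : CC z) : G), hn, congrArg Subtype.val hy2, fun hmem => ?_, hcard⟩
    obtain ⟨w, hw, e⟩ := hmem
    have hyV : (y : CC z) ∈ X.VV := (Subtype.ext e : w = (y : CC z)) ▸ hw
    have hcomm : ∀ b ∈ X.VV, (y : CC z) * b = b * (y : CC z) := fun b hb' => by
      have inv : ∀ w ∈ X.VV, w⁻¹ = w := fun w hw => inv_eq_of_mul_eq_one_right (hsq w hw)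
      rw [← inv _ (mul_mem hyV hb'), mul_inv_rev, inv _ hyV, inv _ hb']
    have hall : ∀ n, n < 2048 → app (qCols v) n = n := fun n hn => by
      have := hconj n hn
      rw [hcomm _ (L.enc_mem hsq n), mul_inv_cancel_right] at this
      exact (L.enc_inj hsq hn (hlt n) this).symm
    have : Split.fixCount v = 2048 := by
      rw [Split.fixCount, List.filter_eq_self.2 fun n hn => ?_, List.length_range]
      rw [hall n (List.mem_range.1 hn)]; exact Nat.beq_refl n
    omega
  obtain ⟨h1, h2⟩ := Split.fix_counts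
  obtain ⟨y₁, a1, a2, a3, a4⟩ := key 64 (by simp) 128 (Nat.eq_of_beq_eq_true h1) (by norm_num)
  obtain ⟨y₂, b1, b2, b3, b4⟩ := key 256 (by simp) 64 (Nat.eq_of_beq_eq_true h2) (by norm_num)
  exact ⟨y₁, y₂, a1, b1, a2, b2, a3, b3, by omega⟩

theorem involution (hsq : ∀ a ∈ X.VV, a * a = 1) (hF : VFrame z X.Vg) {x : CC z} (hx : L.Good x)
    {f : ℕ → ℕ} (hf : Acts L x f) (hno : Split.noZ f = true) (w : List ℕ)
    (hw : (QuotientGroup.mk x : CC z ⧸ QQ z) = X.model.val w)
    (hsqw : ∀ k, k < 12 → appW (w ++ w) (2 ^ k) = 2 ^ k) (hmove : ∃ b, b < 6 ∧ appW w (2 ^ b) ≠ 2 ^ b) :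
    x * x = 1 := by
  have h1 : X.model.val w * X.model.val w = 1 := by
    rw [← X.model.val_append, ← X.model.val_nil]
    exact X.model.val_eq fun k hk => hsqw k hk
  have hm : (QuotientGroup.mk x : CC z ⧸ QQ z) * QuotientGroup.mk x = 1 := by rw [hw, h1]
  have hxV : x ∉ X.VV := fun h => by
    obtain ⟨b, hb, hne⟩ := hmove
    have hlt : 2 ^ b < 64 := show 2 ^ b < 2 ^ 6 from Nat.pow_lt_pow_right (by norm_num) hb
    have hfx := (X.model.fix_rSub (X.dec (2 ^ b))).2 (by rw [X.code_dec (by omega)]; exact hlt) _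
      (Subgroup.mem_inf.1 h).1
    refine hne ?_
    have := congrArg X.model.code hfx
    change X.model.code ((ext13_of X.hyp).rep.ρ (QuotientGroup.mk x) (X.dec (2 ^ b))) = _ at this
    rw [hw, X.model.code_val, X.code_dec (by omega)] at this
    exact this
  have hnorm := fun v hv => Good.conj_VV L hx (v := v) hv
  have hcases := L.sq_cases hx.nrm hm
  have hx2 : x * x ∈ X.VV := by
    rcases hcases with e | e <;> rw [e]
    · exact one_mem _
    · rw [← L.enc_z]; exact L.enc_mem hsq _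
  refine L.sq_one hsq hx.nrm hf hno hm hnorm ?_
  obtain ⟨y₁, y₂, n1, n2, s1, s2, o1, o2, hne⟩ := L.exists_fix_involutions hsq
  obtain ⟨_, ⟨v, hv, rfl⟩, e⟩ := hF.exists_coset_involution n1 n2 s1 s2 o1 o2 hne (L.mem_normalizer_Vg hnorm)
    (fun ⟨w, hw, e⟩ => hxV ((Subtype.ext e : w = x) ▸ hw)) ⟨x * x, hx2, rfl⟩
  exact ⟨v, hv, Subtype.ext e⟩

/-- A subgroup of order `1024` meeting `VV` trivially, in the normaliser. -/
theorem exists_small_complement (hsq : ∀ a ∈ X.VV, a * a = 1) (hF : VFrame z X.Vg) :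
    ∃ K : Subgroup (CC z), Nat.card K = 1024 ∧ K ⊓ X.VV = ⊥ ∧
      ∀ k ∈ K, ∀ v ∈ X.VV, k * v * k⁻¹ ∈ X.VV := by
  classical
  obtain ⟨a, c, u, ea, ec, eu, -, -, -, ha, hc, hu, ga, gc, gu, aA, aC, aU, hno⟩ := L.exists_gen_lifts hsq
  simp only [Split.allNoZ, Bool.and_eq_true] at hno
  obtain ⟨⟨⟨⟨⟨nA, nS⟩, nU⟩, nUA⟩, nUS⟩, nD⟩ := hno
  have gs := Good.mul L gc (Good.mul L ga (Good.mul L gc (Good.mul L gc gc)))
  have aS : Acts L (c * (a * (c * (c * c)))) (Split.sF (five arPat ea) (five crPat ec)) :=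
    aC.comp (aA.comp (aC.comp (aC.comp aC)))
  set s := c * (a * (c * (c * c))) with hs
  have ms : (QuotientGroup.mk s : CC z ⧸ QQ z) = X.model.val Split.wS := by
    simp only [hs, QuotientGroup.mk_mul, ha, hc, Split.wS, Model.val, List.map_cons, List.map_nil,
      List.prod_cons, List.prod_nil, mul_one]
  have ma : (QuotientGroup.mk a : CC z ⧸ QQ z) = X.model.val [0] := by
    rw [X.model.val_cons, X.model.val_nil, mul_one, ha]
  have mu' : (QuotientGroup.mk u : CC z ⧸ QQ z) = X.model.val [3] := by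
    rw [X.model.val_cons, X.model.val_nil, mul_one, hu]
  have hwR : Split.wR = [0] ++ Split.wS := rfl
  have mr : (QuotientGroup.mk (a * s) : CC z ⧸ QQ z) = X.model.val Split.wR := by
    rw [hwR, X.model.val_append, QuotientGroup.mk_mul, ma, ms]
  have mv := Split.move_words
  simp only [List.all_eq_true, List.any_eq_true, Bool.and_eq_true, List.mem_range, Bool.not_eq_true'] at mv
  have inv' : ∀ {x : CC z} {f : ℕ → ℕ} (w : List ℕ), L.Good x → Acts L x f → Split.noZ f = true →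
      (QuotientGroup.mk x : CC z ⧸ QQ z) = X.model.val w →
      w ∈ ([[0], Split.wS, [3], [3, 0], 3 :: Split.wS, Split.wR ++ Split.wR] : List (List ℕ)) → x * x = 1 := by
    intro x f w hg hfa hn hw hmem
    obtain ⟨h1, b, hb, h2⟩ := mv w hmem
    exact L.involution hsq hF hg hfa hn w hw (fun k hk => Nat.eq_of_beq_eq_true (h1 k hk))
      ⟨b, hb, Nat.ne_of_beq_eq_false h2⟩
  have a2 : a * a = 1 := inv' [0] ga aA nA ma (by simp)
  have s2 : s * s = 1 := inv' Split.wS gs aS nS ms (by simp)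
  have u2 : u * u = 1 := inv' [3] gu aU nU mu' (by simp)
  have ua2 : u * a * (u * a) = 1 := inv' [3, 0] (Good.mul L gu ga) (aU.comp aA) nUA
    (by rw [show [3, 0] = [3] ++ [0] from rfl, X.model.val_append, QuotientGroup.mk_mul, ma, mu']) (by simp)
  have us2 : u * s * (u * s) = 1 := inv' (3 :: Split.wS) (Good.mul L gu gs) (aU.comp aS) nUS
    (by rw [show 3 :: Split.wS = [3] ++ Split.wS from rfl, X.model.val_append, QuotientGroup.mk_mul, ms, mu'])
    (by simp)
  have gr := Good.mul L ga gs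
  have r4 : (a * s) * (a * s) * ((a * s) * (a * s)) = 1 :=
    inv' (Split.wR ++ Split.wR) (Good.mul L gr gr) ((aA.comp aS).comp (aA.comp aS)) nD
      (by rw [X.model.val_append, QuotientGroup.mk_mul, mr]) (by simp)
  set r := a * s with hr
  have ai : a⁻¹ = a := inv_eq_of_mul_eq_one_right a2
  have si : s⁻¹ = s := inv_eq_of_mul_eq_one_right s2
  have ui : u⁻¹ = u := inv_eq_of_mul_eq_one_right u2
  have hua : Commute u a := by
    show u * a = a * u
    rw [← inv_eq_of_mul_eq_one_right ua2, mul_inv_rev, ai, ui]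
  have hus : Commute u s := by
    show u * s = s * u
    rw [← inv_eq_of_mul_eq_one_right us2, mul_inv_rev, si, ui]
  have hur : Commute u r := hua.mul_right hus
  have har : a * r = r⁻¹ * a := by
    rw [hr, mul_inv_rev, ai, si, ← mul_assoc, a2, one_mul, mul_assoc, a2, mul_one]
  have r4' : r ^ 4 = 1 := by
    simp only [pow_succ, pow_zero, one_mul, mul_assoc] at r4 ⊢
    exact r4
  have hrinv : r⁻¹ = r ^ 3 := inv_eq_of_mul_eq_one_right (by rw [← pow_succ', r4'])
  have harj : ∀ j : ℕ, a * r ^ j = r ^ (3 * j) * a := by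
    intro j
    induction j with
    | zero => simp
    | succ j ih =>
      rw [pow_succ, ← mul_assoc, ih, mul_assoc, har, hrinv, ← mul_assoc, ← pow_add, Nat.mul_succ]
  let S : Subgroup (CC z) :=
    { carrier := {x | ∃ i j k : ℕ, x = u ^ i * r ^ j * a ^ k}
      one_mem' := ⟨0, 0, 0, by simp⟩
      mul_mem' := by
        rintro x y ⟨i, j, k, rfl⟩ ⟨i', j', k', rfl⟩
        have hak : ∀ k j, ∃ j'', a ^ k * r ^ j = r ^ j'' * a ^ k := by
          intro k
          induction k with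
          | zero => intro j; exact ⟨j, by simp⟩
          | succ k ih =>
            intro j
            obtain ⟨j'', e⟩ := ih j
            exact ⟨3 * j'', by rw [pow_succ', mul_assoc, e, ← mul_assoc, harj, mul_assoc]⟩
        obtain ⟨j'', e⟩ := hak k j'
        refine ⟨i + i', j + j'', k + k', ?_⟩
        calc u ^ i * r ^ j * a ^ k * (u ^ i' * r ^ j' * a ^ k')
            = u ^ i * r ^ j * (a ^ k * u ^ i') * r ^ j' * a ^ k' := by group
          _ = u ^ i * r ^ j * (u ^ i' * a ^ k) * r ^ j' * a ^ k' := by rw [(hua.pow_pow i' k).eq]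
          _ = u ^ i * (r ^ j * u ^ i') * (a ^ k * r ^ j') * a ^ k' := by group
          _ = u ^ i * (u ^ i' * r ^ j) * (r ^ j'' * a ^ k) * a ^ k' := by rw [(hur.pow_pow i' j).eq, e]
          _ = _ := by rw [pow_add, pow_add, pow_add]; group
      inv_mem' := by
        rintro x ⟨i, j, k, rfl⟩
        have hak : ∀ k j, ∃ j'', a ^ k * r ^ j = r ^ j'' * a ^ k := by
          intro k
          induction k with
          | zero => intro j; exact ⟨j, by simp⟩
          | succ k ih =>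
            intro j
            obtain ⟨j'', e⟩ := ih j
            exact ⟨3 * j'', by rw [pow_succ', mul_assoc, e, ← mul_assoc, harj, mul_assoc]⟩
        obtain ⟨j'', e⟩ := hak k (3 * j)
        refine ⟨i, j'', k, ?_⟩
        rw [mul_inv_rev, mul_inv_rev, ← inv_pow, ai, ← inv_pow, hrinv, ← pow_mul, ← inv_pow, ui, ← mul_assoc, e,
          mul_assoc, ← (hua.pow_pow i k).eq, ← mul_assoc, (hur.pow_pow i j'').eq] }
  have red : ∀ x ∈ S, ∃ i < 2, ∃ j < 4, ∃ k < 2, x = u ^ i * r ^ j * a ^ k := by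
    rintro x ⟨i, j, k, rfl⟩
    refine ⟨i % 2, Nat.mod_lt _ two_pos, j % 4, Nat.mod_lt _ (by norm_num), k % 2, Nat.mod_lt _ two_pos, ?_⟩
    rw [← pow_eq_pow_mod i (by rw [sq, u2]), ← pow_eq_pow_mod j r4', ← pow_eq_pow_mod k (by rw [sq, a2])]
  have hval : ∀ n, ∀ (x : CC z) (w : List ℕ), (QuotientGroup.mk x : CC z ⧸ QQ z) = X.model.val w →
      (QuotientGroup.mk (x ^ n) : CC z ⧸ QQ z) = X.model.val (List.replicate n w).flatten := by
    intro n x w h
    induction n with
    | zero => rw [pow_zero, QuotientGroup.mk_one]; rfl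
    | succ n ih => rw [pow_succ', QuotientGroup.mk_mul, List.replicate_succ, List.flatten_cons, X.model.val_append, h, ih]
  have hrep : ∀ n (g : ℕ), (List.replicate n [g]).flatten = List.replicate n g := fun n g => by
    induction n with
    | zero => rfl
    | succ n ih => rw [List.replicate_succ, List.flatten_cons, ih]; rfl
  have mEl : ∀ i j k, (QuotientGroup.mk (u ^ i * r ^ j * a ^ k) : CC z ⧸ QQ z) = X.model.val (Split.wEl i j k) := by
    intro i j k
    rw [Split.wEl, X.model.val_append, X.model.val_append, ← hrep i 3, ← hrep k 0, QuotientGroup.mk_mul,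
      QuotientGroup.mk_mul, hval i u [3] mu', hval j r Split.wR mr, hval k a [0] ma]
  have cardS : Nat.card S = 16 := by
    let F : Fin 16 → S := fun n => ⟨_, n.val / 8, n.val / 2 % 4, n.val % 2, rfl⟩
    have hb : Function.Bijective F := by
      refine ⟨fun n m e => ?_, fun x => ?_⟩
      · by_contra hne
        have h := sylow_inj
        simp only [List.all_eq_true, List.any_eq_true, List.mem_range, Bool.or_eq_true, beq_iff_eq,
          Bool.not_eq_true'] at h
        obtain ⟨b, hb, hbad⟩ := (h n.val n.isLt m.val m.isLt).resolve_left fun e' => hne (Fin.ext e')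
        refine Nat.ne_of_beq_eq_false hbad ?_
        have e1 := congrArg (fun y : S => (QuotientGroup.mk (y : CC z) : CC z ⧸ QQ z)) e
        simp only [F, mEl] at e1
        have := congrArg (fun h => X.model.code ((ext13_of X.hyp).rep.ρ h (X.dec (2 ^ b)))) e1
        simp only [X.model.code_val] at this
        rwa [X.code_dec (lt_trans (show 2 ^ b < 2 ^ 6 from Nat.pow_lt_pow_right (by norm_num) hb) (by norm_num))] at this
      · obtain ⟨i, hi, j, hj, k, hk, e⟩ := red x x.2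
        refine ⟨⟨8 * i + 2 * j + k, by omega⟩, Subtype.ext ?_⟩
        show u ^ ((8 * i + 2 * j + k) / 8) * r ^ ((8 * i + 2 * j + k) / 2 % 4) * a ^ ((8 * i + 2 * j + k) % 2) = x.1
        rw [e, show (8 * i + 2 * j + k) / 8 = i by omega, show (8 * i + 2 * j + k) / 2 % 4 = j by omega,
          show (8 * i + 2 * j + k) % 2 = k by omega]
    rw [← Nat.card_eq_of_bijective F hb, Nat.card_fin]
  have goodS : ∀ x ∈ S, L.Good x := by
    rintro x ⟨i, j, k, rfl⟩
    have g1 : L.Good 1 := a2 ▸ Good.mul L ga ga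
    have gp : ∀ {y}, L.Good y → ∀ n : ℕ, L.Good (y ^ n) := fun {y} hy n => by
      induction n with
      | zero => rw [pow_zero]; exact g1
      | succ n ih => rw [pow_succ]; exact Good.mul L ih hy
    exact Good.mul L (Good.mul L (gp gu i) (gp gr j)) (gp ga k)
  have hsyl := Split.sylow_words
  simp only [List.all_eq_true, List.any_eq_true, List.mem_range, Bool.or_eq_true, Bool.and_eq_true, beq_iff_eq,
    Bool.not_eq_true'] at hsyl
  have trivS : ∀ x ∈ S, (QuotientGroup.mk x : CC z ⧸ QQ z) ∈ X.model.rSub → x = 1 := by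
    intro x hx hmem
    obtain ⟨i, hi, j, hj, k, hk, rfl⟩ := red x hx
    rcases hsyl i hi j hj k hk with ⟨⟨rfl, rfl⟩, rfl⟩ | ⟨b, hb, hbad⟩
    · simp
    · exfalso
      refine Nat.ne_of_beq_eq_false hbad ?_
      have hlt : 2 ^ b < 64 := show 2 ^ b < 2 ^ 6 from Nat.pow_lt_pow_right (by norm_num) hb
      have hfx := (X.model.fix_rSub (X.dec (2 ^ b))).2 (by rw [X.code_dec (by omega)]; exact hlt) _ hmem
      have := congrArg X.model.code hfx
      rwa [mEl, X.model.code_val, X.code_dec (by omega)] at this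
  have mkY : ∀ y ∈ L.Yc, (QuotientGroup.mk y : CC z ⧸ QQ z) = 1 := fun y hy =>
    (QuotientGroup.eq_one_iff y).2 (L.mem_hiGrp.1 hy.1).1
  have hSn : S ≤ Subgroup.normalizer (L.Yc : Set (CC z)) := fun x hx =>
    Subgroup.mem_normalizer_fintype fun y hy => L.Yc_conj (goodS x hx) hy
  have hSY : S ⊓ L.Yc = ⊥ := by
    rw [eq_bot_iff]
    rintro x ⟨hxS, hxY⟩
    exact Subgroup.mem_bot.2 (trivS x hxS (by rw [mkY x hxY]; exact one_mem _))
  have hdec : ∀ w ∈ L.Yc ⊔ S, ∃ y ∈ L.Yc, ∃ x ∈ S, y * x = w := fun w hw => by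
    have hset : ((L.Yc ⊔ S : Subgroup (CC z)) : Set (CC z)) = (L.Yc : Set (CC z)) * (S : Set (CC z)) :=
      Subgroup.coe_mul_of_right_le_normalizer_left _ _ hSn
    have : w ∈ (L.Yc : Set (CC z)) * (S : Set (CC z)) := hset ▸ hw
    obtain ⟨y, hy, x, hx, e⟩ := Set.mem_mul.1 this
    exact ⟨y, hy, x, hx, e⟩
  refine ⟨L.Yc ⊔ S, by rw [card_sup_mul hSn hSY, L.card_Yc, cardS], ?_, ?_⟩
  · rw [eq_bot_iff]
    rintro w ⟨hw, hwV⟩
    obtain ⟨y, hy, x, hx, rfl⟩ := hdec w hw
    have hm : (QuotientGroup.mk (y * x) : CC z ⧸ QQ z) ∈ X.model.rSub := (Subgroup.mem_inf.1 hwV).1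
    rw [QuotientGroup.mk_mul, mkY y hy, one_mul] at hm
    obtain rfl := trivS x hx hm
    rw [mul_one] at hwV ⊢
    obtain ⟨n, hn, rfl⟩ := L.enc_surj hsq hwV
    obtain ⟨hq, hc⟩ := L.mem_hiGrp.1 hy.1
    refine Subgroup.mem_bot.2 (L.code_Yc_inj (y := ⟨L.enc n, hq⟩) hy ?_)
    have hn16 : n / 128 < 16 := by omega
    have e128 : ∀ q, q < 16 → ∀ l, l < 128 → Nat.xor l (128 * q) = 128 * q + l := by decide +kernel
    have hsplit : n = Nat.xor (n % 128) (128 * (n / 128)) := by
      rw [e128 _ hn16 _ (Nat.mod_lt _ (by norm_num))]; omega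
    have hlow : ∀ l, l < 128 → L.enc l ∈ X.Wc := by
      intro l hl
      rcases Nat.lt_or_ge l 64 with h | h
      · rw [L.enc_sec hsq h]; exact L.sec_mem h
      · have e64 : ∀ l, l < 64 → 64 + l = Nat.xor 64 l := by decide +kernel
        obtain ⟨l', rfl⟩ : ∃ l', l = 64 + l' := ⟨l - 64, by omega⟩
        rw [e64 l' (by omega), L.enc_xor hsq, L.enc_z, L.enc_sec hsq (show l' < 64 by omega)]
        exact mul_mem (L.zc_Wc) (L.sec_mem (by omega))
    have hhigh : n / 128 = 0 := by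
      have h1 : (QuotientGroup.mk (L.enc n) : CC z ⧸ QQ z) = 1 := mkY _ hy
      rw [hsplit, L.enc_xor hsq, QuotientGroup.mk_mul, (QuotientGroup.eq_one_iff _).2
        (X.mem_QQ_of_Wc (hlow _ (Nat.mod_lt _ (by norm_num)))), one_mul] at h1
      rw [L.mk_high hsq hn16] at h1
      have hval' : evR X.model.gens.r (n / 128) = X.model.val (rWord (n / 128)) := by
        have key : ∀ q, q < 16 → (List.ofFn fun i : Fin 4 => if Nat.testBit q i.val then [i.val + 4] else []).flatten =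
            rWord q := by decide +kernel
        rw [← key _ hn16, evR]
        simp only [List.ofFn_succ, List.ofFn_zero, List.flatten_cons, List.flatten_nil, List.append_nil,
          X.model.val_append, List.prod_cons, List.prod_nil, mul_one]
        congr 1 <;> [skip; congr 1 <;> [skip; congr 1]] <;>
          (split_ifs with hb <;> first | rfl | simp [Model.val, Model.gen])
      rw [hval'] at h1
      exact X.model.val_rWord_eq_one hn16 h1
    have hW : X.model.code (pr (⟨L.enc n, hq⟩ : QQ z)) < 64 := X.mem_Wc.1 (hlow n (by omega))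
    omega
  · intro w hw v hv
    obtain ⟨y, hy, x, hx, rfl⟩ := hdec w hw
    have h1 := Good.conj_VV L (goodS x hx) hv
    have hyV : ∀ b ∈ X.VV, y * b * y⁻¹ ∈ X.VV := fun b hb => by
      obtain ⟨hq, -⟩ := L.mem_hiGrp.1 hy.1
      obtain ⟨n, hn, rfl⟩ := L.enc_surj hsq hb
      rw [L.conj_trans hsq ⟨y, hq⟩ hn]
      exact L.enc_mem hsq _
    rw [show y * x * v * (y * x)⁻¹ = y * (x * v * x⁻¹) * y⁻¹ by group]
    exact hyV _ h1

end Lifts

open scoped IsMulCommutative in
/-- The normaliser of the subgroup of order `2^11` splits over it, with complement Mathieu's group. -/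
theorem exists_complement (X : Ctx z P) (hsq : ∀ a ∈ X.VV, a * a = 1) (h : VFrame z X.Vg) :
    ∃ K : Subgroup G, K ≤ Subgroup.normalizer (X.Vg : Set G) ∧ K ⊓ X.Vg = ⊥ ∧
      K ⊔ X.Vg = Subgroup.normalizer (X.Vg : Set G) ∧ Cfsg.Spor.IsoM24 ↥K := by
  obtain ⟨L⟩ := exists_lifts X
  obtain ⟨K₀, hK₀, hK₀V, hK₀n⟩ := L.exists_small_complement hsq h
  set A := X.Vg with hA
  set N := Subgroup.normalizer (A : Set G) with hN
  set K₂ := K₀.map (CC z).subtype with hK₂
  have hK₂N : K₂ ≤ N := by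
    rintro _ ⟨k, hk, rfl⟩
    exact L.mem_normalizer_Vg (hK₀n k hk)
  have hK₂A : K₂ ⊓ A = ⊥ := by
    rw [hK₂, hA, Ctx.Vg, ← Subgroup.map_inf _ _ _ (CC z).subtype_injective, hK₀V, Subgroup.map_bot]
  have hAN : A ≤ N := Subgroup.le_normalizer
  have cardK₂ : Nat.card K₂ = 1024 := by
    rw [hK₂, ← hK₀]
    exact Nat.card_congr (Subgroup.equivMapOfInjective K₀ _ (CC z).subtype_injective).symm.toEquiv
  have cardU : Nat.card ↥(A ⊔ K₂) = 2048 * 1024 := by rw [card_sup_mul hK₂N hK₂A, h.card, cardK₂]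
  let K' := A.subgroupOf N
  haveI : K'.Normal := Subgroup.normal_in_normalizer
  have hcomm' : IsMulCommutative K' :=
    ⟨⟨fun a b => Subtype.ext (Subtype.ext (h.comm _ a.2 _ b.2))⟩⟩
  haveI := hcomm'
  have D : CfsgLib.Gaschutz.Data K' ((A ⊔ K₂).subgroupOf N) (K₂.subgroupOf N) := by
    refine ⟨fun x hx => Subgroup.mem_sup_left (T := K₂) (show (x : G) ∈ A from hx),
      fun x hx => Subgroup.mem_sup_right (S := A) (show (x : G) ∈ K₂ from hx), ?_, (Subgroup.subgroupOf_sup hAN hK₂N).symm⟩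
    rw [eq_bot_iff]
    rintro x ⟨h1, h2⟩
    have : (x : G) ∈ K₂ ⊓ A := ⟨h1, h2⟩
    rw [hK₂A, Subgroup.mem_bot] at this
    exact Subgroup.mem_bot.2 (Subtype.ext this)
  have hcop : (Nat.card K').Coprime ((A ⊔ K₂).subgroupOf N).index := by
    have hk : Nat.card K' = 2048 := (Nat.card_congr (Subgroup.subgroupOfEquivOfLe hAN).toEquiv).trans h.card
    have hi := ((A ⊔ K₂).subgroupOf N).card_mul_index
    rw [Nat.card_congr (Subgroup.subgroupOfEquivOfLe (sup_le hAN hK₂N)).toEquiv, cardU,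
      show Nat.card N = 2048 * 244823040 from VFrame.card_normalizer h] at hi
    have hidx : ((A ⊔ K₂).subgroupOf N).index = 239085 := by omega
    rw [hk, hidx]
    norm_num
  obtain ⟨H, hH⟩ := CfsgLib.Gaschutz.exists_complement D hcop
  obtain ⟨φ, hφ, hker, -⟩ := h.mathieuLocal.quot
  refine ⟨H.map N.subtype, Subgroup.map_subtype_le H, ?_, ?_, ?_⟩
  · rw [eq_bot_iff]
    rintro _ ⟨⟨x, hx, rfl⟩, hxA⟩
    have : x ∈ K' ⊓ H := ⟨hxA, hx⟩
    rw [hH.disjoint.eq_bot, Subgroup.mem_bot] at this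
    rw [this]
    exact one_mem _
  · have e : K'.map N.subtype = A := Subgroup.map_subgroupOf_eq_of_le hAN
    conv_lhs => rw [← e, ← Subgroup.map_sup, sup_comm, hH.sup_eq_top]
    exact (MonoidHom.range_eq_map _).symm.trans N.range_subtype
  · have hb : Function.Bijective (φ.comp H.subtype) := by
      constructor
      · rw [injective_iff_map_eq_one]
        intro x hx
        have hm : (x : ↥N) ∈ K' := by
          show (x : ↥N) ∈ A.subgroupOf N
          rw [← hker]; exact hx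
        have : (x : ↥N) ∈ K' ⊓ H := ⟨hm, x.2⟩
        rw [hH.disjoint.eq_bot, Subgroup.mem_bot] at this
        exact Subtype.ext this
      · intro m
        obtain ⟨n, rfl⟩ := hφ m
        obtain ⟨⟨k, x⟩, e, -⟩ := hH.existsUnique n
        refine ⟨x, ?_⟩
        have hk : φ (k : ↥N) = 1 := by
          have := k.2
          rw [← MonoidHom.mem_ker, hker]; exact this
        show φ (x : ↥N) = φ n
        rw [← e, map_mul, hk, one_mul]
    exact ⟨((Subgroup.equivMapOfInjective H _ N.subtype_injective).symm.trans (MulEquiv.ofBijective _ hb))⟩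

end CfsgLib.J4Type
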