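import Cfsg.Agent.Lib.J4Type.Orbits
import Cfsg.Agent.Lib.J4Type.Splitting

/-!
Assembly for the subgroups of order `2^11`: coordinates, frame, split normaliser and uniqueness, from
the context at `z` and one element of the normaliser moving `z`; transport to every elementary abelian
subgroup of that order.
-/

set_option autoImplicit false
set_option linter.unusedSectionVars false

namespace CfsgLib.J4Type

universe u

variable {G : Type u} [Group G] [Finite G] {z : G} {P : Subgroup G}

/-- What is known about `Vg`. -/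
structure VPackage (X : Ctx z P) : Prop where
  sq : ∀ a ∈ X.VV, a * a = 1
  elementary : Cfsg.IsElementaryAbelian 2 X.Vg
  card : Nat.card X.Vg = 2 ^ 11
  self_cent : Subgroup.centralizer (X.Vg : Set G) ≤ X.Vg
  vact : ∃ ec, ∃ D : VAct z X.Vg ec, ∀ a : QQ z, (a : CC z) ∈ X.Wc →
    ∃ v, v < 128 ∧ D.enc v = ((a : CC z) : G) ∧ X.model.code (pr a) = v % 64
  vframe : VFrame z X.Vg
  mathieu : FischerTwoFour.Cocode.MathieuLocal z X.Vg
  cent_other : ∀ t ∈ ncG z X.Vg, CC t ≤ Subgroup.normalizer (X.Vg : Set G)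
  uniq : ∀ B : Subgroup G, (∀ a ∈ B, a * a = 1) → Nat.card B = 2048 →
    B ≤ Subgroup.normalizer (X.Vg : Set G) → B = X.Vg
  split : ∃ K : Subgroup G, K ≤ Subgroup.normalizer (X.Vg : Set G) ∧ K ⊓ X.Vg = ⊥ ∧
    K ⊔ X.Vg = Subgroup.normalizer (X.Vg : Set G) ∧ Cfsg.Spor.IsoM24 ↥K

namespace Ctx

variable (X : Ctx z P)

/-- Everything about `Vg`, from one element of its normaliser moving `z`. -/
theorem vPackage (hmoved : ∃ m ∈ Subgroup.normalizer (X.Vg : Set G), m * z * m⁻¹ ≠ z) : VPackage X := by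
  have hS := X.model.stabFacts
  obtain ⟨ec, D, hlow⟩ := exists_vact_low X
    (fun a ha => X.VV_sq hS ha) (X.card_normalizer hS) X.exists_norm_conj_z hmoved
  have F : VFrame z X.Vg := D.vframe
  exact
    { sq := fun a ha => X.VV_sq hS ha
      elementary := X.Vg_elementary hS
      card := by rw [X.card_Vg hS]; norm_num
      self_cent := X.centralizer_Vg_le hS
      vact := ⟨ec, D, hlow⟩
      vframe := F
      mathieu := F.mathieuLocal
      cent_other := fun t ht => F.centralizer_le_normalizer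
        (fun a ha haz t ht => X.centralizer_pair_le D hlow a ha haz t ht) X.eq_Vg_of_le_normalizer ht
      uniq := X.eq_Vg_of_le_normalizer
      split := exists_complement X (fun a ha => X.VV_sq hS ha) F }

/-- Every elementary abelian `V` of order `2^11` contains its centraliser and has a normaliser split
over it by Mathieu's group. -/
theorem split_normalizer (hmoved : ∃ m ∈ Subgroup.normalizer (X.Vg : Set G), m * z * m⁻¹ ≠ z)
    (V : Subgroup G) (hV : Cfsg.IsElementaryAbelian 2 V) (hcard : Nat.card ↥V = 2 ^ 11) :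
    Subgroup.centralizer (V : Set G) ≤ V ∧ ∃ K : Subgroup G, K ≤ Subgroup.normalizer (V : Set G) ∧
      K ⊓ V = ⊥ ∧ K ⊔ V = Subgroup.normalizer (V : Set G) ∧ Cfsg.Spor.IsoM24 ↥K := by
  obtain ⟨g, hg⟩ := X.exists_conj_eq_Vg hV hcard
  obtain ⟨-, -, -, hcent, -, -, -, -, -, K, hK, hKV, hKs, ⟨e⟩⟩ := X.vPackage hmoved
  set φ := (MulAut.conj g).toMonoidHom with hφ
  have hinj : Function.Injective φ := (MulAut.conj g).injective
  set ψ := (MulAut.conj g).symm.toMonoidHom with hψ
  have hinj' : Function.Injective ψ := (MulAut.conj g).symm.injective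
  have hVψ : X.Vg.map ψ = V := by
    rw [← hg, hψ, hφ, Subgroup.map_map]
    convert Subgroup.map_id V
    ext x
    exact (MulAut.conj g).symm_apply_apply x
  have hN : (Subgroup.normalizer (X.Vg : Set G)).map ψ = Subgroup.normalizer (V : Set G) := by
    rw [← hVψ]
    exact Subgroup.map_equiv_normalizer_eq X.Vg (MulAut.conj g).symm
  refine ⟨fun x hx => ?_, K.map ψ, ?_, ?_, ?_, ⟨(Subgroup.equivMapOfInjective K ψ hinj').symm.trans e⟩⟩
  · have h1 : φ x ∈ Subgroup.centralizer (X.Vg : Set G) := by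
      rw [Subgroup.mem_centralizer_iff, ← hg]
      rintro _ ⟨v, hv, rfl⟩
      rw [← map_mul, ← map_mul, Subgroup.mem_centralizer_iff.1 hx v hv]
    have h2 := hcent h1
    rw [← hg] at h2
    obtain ⟨v, hv, e⟩ := h2
    exact hinj e ▸ hv
  · rw [← hN]; exact Subgroup.map_mono hK
  · rw [← hVψ, ← Subgroup.map_inf _ _ _ hinj', hKV, Subgroup.map_bot]
  · rw [← hVψ, ← Subgroup.map_sup, hKs, hN, hVψ]

end Ctx

end CfsgLib.J4Type
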