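import Cfsg.Agent.Lib.MathieuAut22.Main
import Cfsg.Agent.Lib.Golay.Classes

/-!
The stabiliser of two points in `M24` (the automorphism group of `M22`): kinds of involutions, commuting
involutions move an invariant pair off itself, and products of two involutions with eight fixed points
of odd prime order.
-/

set_option autoImplicit false

namespace CfsgLib.J4Type.Aut22

open Cfsg CfsgLib.Golay CfsgLib.MathieuAut22 CfsgLib.Steiner.Witt
open scoped Pointwise

/-- The fixed points. -/
def fixF (σ : Equiv.Perm GolayPt) : Finset GolayPt := Finset.univ.filter fun p => σ p = p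

/-- The permutation fixes `∞` and `0`. -/
def Inner (σ : Equiv.Perm GolayPt) : Prop := σ none = none ∧ σ (some 0) = some 0

/-- The permutation swaps `∞` and `0`. -/
def Outer (σ : Equiv.Perm GolayPt) : Prop := σ none = some 0 ∧ σ (some 0) = none

/-- An involution of the stabiliser of `{∞, 0}` with eight fixed points. -/
def Inv8 (σ : Equiv.Perm GolayPt) : Prop :=
  σ ∈ setStab twoPts ∧ σ * σ = 1 ∧ (fixF σ).card = 8

/-- The 22 points other than `∞` and `0`. -/
def rest : Finset GolayPt := Finset.univ \ twoPts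

/-- Two sets of four points in the same sextet. -/
def SameSextet (s s' : Finset GolayPt) : Prop := s = s' ∨ (Disjoint s s' ∧ s ∪ s' ∈ octads)

/-- The pairs of the 22 points fixed by `σ`. -/
noncomputable def fixedPairs (σ : Equiv.Perm GolayPt) : Finset (Finset GolayPt) := by
  classical exact (rest.powersetCard 2).filter fun s => σ • s = s

/-- The triples of the 22 points whose union with `∞` spans a sextet fixed by `σ`. -/
noncomputable def fixedTriples (σ : Equiv.Perm GolayPt) : Finset (Finset GolayPt) := by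
  classical exact (rest.powersetCard 3).filter fun s => SameSextet (insert none s) (σ • insert none s)

/-- Restricted triples with respect to `x`: `x` lies neither in the tetrad of `∞` nor in that of `0`. -/
def Restr (x : GolayPt) (s : Finset GolayPt) : Prop :=
  x ∉ s ∧ ¬ ∃ o ∈ octads, insert none (insert (some 0) (insert x s)) ⊆ o

theorem mem_fixF {σ : Equiv.Perm GolayPt} {p : GolayPt} : p ∈ fixF σ ↔ σ p = p := by simp [fixF]

theorem card_points : (Finset.univ : Finset GolayPt).card = 24 := by decide

theorem inner_or_outer {σ : Equiv.Perm GolayPt} (hσ : σ ∈ setStab twoPts) : Inner σ ∨ Outer σ := by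
  have h := (mem_setStab.mp hσ).2
  have h1 : σ none ∈ twoPts := by
    rw [← h]; exact Finset.mem_map_of_mem σ.toEmbedding (by simp [twoPts])
  have h2 : σ (some 0) ∈ twoPts := by
    rw [← h]; exact Finset.mem_map_of_mem σ.toEmbedding (by simp [twoPts])
  have hne : σ none ≠ σ (some 0) := fun e => absurd (σ.injective e) (by simp)
  simp only [twoPts, Finset.mem_insert, Finset.mem_singleton] at h1 h2
  rcases h1 with h1 | h1 <;> rcases h2 with h2 | h2
  · exact absurd (h1.trans h2.symm) hne
  · exact Or.inl ⟨h1, h2⟩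
  · exact Or.inr ⟨h1, h2⟩
  · exact absurd (h1.trans h2.symm) hne

/-- Two distinct commuting involutions `b`, `e`: some pair fixed by `b` is moved by `e` to a disjoint
one. -/
theorem exists_pair_moved_off {b e : Equiv.Perm GolayPt} (hb : b ∈ M24) (he : e ∈ M24)
    (hb2 : b * b = 1) (he2 : e * e = 1) (he1 : e ≠ 1) (hne : e ≠ b) (hcomm : b * e = e * b) :
    ∃ c d, c ≠ d ∧ ({b c, b d} : Finset GolayPt) = {c, d} ∧ e c ≠ c ∧ e c ≠ d ∧ e d ≠ c ∧ e d ≠ d := by
  classical
  have bb : ∀ p, b (b p) = p := fun p => by rw [← Equiv.Perm.mul_apply, hb2, Equiv.Perm.one_apply]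
  have hbe : ∀ p, b (e p) = e (b p) := fun p => by
    rw [← Equiv.Perm.mul_apply, ← Equiv.Perm.mul_apply, hcomm]
  have ee : ∀ p, e (e p) = p := fun p => by rw [← Equiv.Perm.mul_apply, he2, Equiv.Perm.one_apply]
  by_contra hall
  push Not at hall
  -- every moved cycle of `b` is invariant under `e`
  have hcyc : ∀ p, b p ≠ p → e p = p ∨ e p = b p := by
    intro p hp
    have h := hall p (b p) (Ne.symm hp) (by rw [bb, Finset.pair_comm])
    by_contra h'
    rw [not_or] at h'
    have h3 : e (b p) ≠ p := fun e' => h'.2 (by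
      have := congrArg b e'; rwa [← hbe, bb] at this)
    have h4 := h h'.1 h'.2 h3
    exact h'.1 (b.injective (by rw [hbe]; exact h4))
  -- `e` moves at most two fixed points of `b`
  have hfix : (((fixF b).filter fun p => e p ≠ p).card ≤ 2) := by
    by_contra hlt
    push Not at hlt
    obtain ⟨a, ha⟩ := Finset.card_pos.mp (by omega : 0 < ((fixF b).filter fun p => e p ≠ p).card)
    obtain ⟨c, hc, hc'⟩ := Finset.exists_mem_notMem_of_card_lt_card
      (show ({a, e a} : Finset GolayPt).card < ((fixF b).filter fun p => e p ≠ p).card from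
        lt_of_le_of_lt (Finset.card_le_two) hlt)
    simp only [Finset.mem_insert, Finset.mem_singleton, not_or] at hc'
    simp only [Finset.mem_filter, mem_fixF] at ha hc
    exact hc.2 (hall a c (Ne.symm hc'.1) (by rw [ha.1, hc.1]) ha.2 (Ne.symm hc'.2) fun e' =>
      hc'.2 (e.injective (by rw [e', ee a])))
  -- `e` or `b * e` has too many fixed points
  have hbe1 : b * e ≠ 1 := fun h => hne (mul_left_cancel (h.trans hb2.symm))
  have h8 := card_fixed_le_eight he he1
  have h8' := card_fixed_le_eight (mul_mem hb he) hbe1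
  set F := (fixF b).filter fun p => e p = p with hF
  set A := (Finset.univ \ fixF b).filter fun p => e p = p with hA
  set B := (Finset.univ \ fixF b).filter fun p => ¬ e p = p with hB
  have hFA : Disjoint F A := Finset.disjoint_left.mpr fun p hp hp' =>
    (Finset.mem_sdiff.mp (Finset.mem_filter.mp hp').1).2 (Finset.mem_filter.mp hp).1
  have hFB : Disjoint F B := Finset.disjoint_left.mpr fun p hp hp' =>
    (Finset.mem_filter.mp hp').2 (Finset.mem_filter.mp hp).2
  have l1 : F.card + A.card ≤ 8 := by
    rw [← Finset.card_union_of_disjoint hFA]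
    refine le_trans (Finset.card_le_card fun p hp => ?_) h8
    simp only [Finset.mem_union, hF, hA, Finset.mem_filter] at hp
    simp only [Finset.mem_filter, Finset.mem_univ, true_and]
    exact hp.elim And.right And.right
  have l2 : F.card + B.card ≤ 8 := by
    rw [← Finset.card_union_of_disjoint hFB]
    refine le_trans (Finset.card_le_card fun p hp => ?_) h8'
    simp only [Finset.mem_union, hF, hB, Finset.mem_filter, Finset.mem_sdiff, Finset.mem_univ, true_and,
      mem_fixF] at hp
    refine Finset.mem_filter.mpr ⟨Finset.mem_univ _, ?_⟩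
    show b (e p) = p
    rcases hp with ⟨hp1, hp2⟩ | ⟨hp1, hp2⟩
    · rw [hp2, hp1]
    · rw [(hcyc p hp1).resolve_left hp2, bb]
  have h1 : F.card + ((fixF b).filter fun p => e p ≠ p).card = (fixF b).card :=
    Finset.card_filter_add_card_filter_not _
  have h2 : A.card + B.card = (Finset.univ \ fixF b).card := Finset.card_filter_add_card_filter_not _
  have h3 : (Finset.univ \ fixF b).card + (fixF b).card = 24 := by
    rw [Finset.card_sdiff_add_card_eq_card (Finset.subset_univ _), card_points]
  omega

theorem inner_of_odd {w : Equiv.Perm GolayPt} (hw : w ∈ setStab twoPts) (hodd : ¬ 2 ∣ orderOf w) :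
    Inner w := by
  rcases inner_or_outer hw with h | h
  · exact h
  exfalso
  obtain ⟨k, hk⟩ := exists_pow_eq_self_of_coprime (x := w) (n := 2)
    ((Nat.Prime.coprime_iff_not_dvd Nat.prime_two).2 hodd)
  have h2 : ∀ m : ℕ, ((w ^ 2) ^ m) none = none := by
    intro m
    induction m with
    | zero => simp
    | succ m ih => rw [pow_succ, Equiv.Perm.mul_apply, pow_two w, Equiv.Perm.mul_apply, h.1, h.2, ← pow_two w, ih]
  have := h2 k
  rw [hk, h.1] at this
  exact absurd this (by simp)

/-- An element of odd prime order inverted by an involution: each fixed point of the involution is fixed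
by the element or lies in a cycle of its own. -/
theorem card_fix_inverted {i w : Equiv.Perm GolayPt} {p : ℕ} (hp : p.Prime) (hp2 : p ≠ 2) (hwp : w ^ p = 1)
    (hinv : i * w * i⁻¹ = w⁻¹) :
    p * ((fixF i).filter fun q => w q ≠ q).card + (fixF w).card ≤ 24 := by
  classical
  obtain ⟨h, hh⟩ : ∃ h, p + 1 = 2 * h := by
    obtain ⟨m, hm⟩ := hp.odd_of_ne_two hp2
    exact ⟨m + 1, by omega⟩
  set T := (fixF i).filter fun q => w q ≠ q with hT
  have hzp : ∀ m : ℤ, ∀ q, (w ^ (2 * m)) q = q → (w ^ m) q = q := by
    intro m q hq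
    have e : w ^ m = (w ^ (2 * m)) ^ (h : ℤ) := by
      rw [← zpow_mul, show 2 * m * (h : ℤ) = m * (p : ℤ) + m by
          rw [show 2 * m * (h : ℤ) = m * ((2 * h : ℕ) : ℤ) by push_cast; ring, ← hh]; push_cast; ring,
        zpow_add, mul_comm m, zpow_mul, zpow_natCast, hwp, one_zpow, one_mul]
    rw [e, zpow_natCast]
    exact Function.IsFixedPt.perm_pow hq h
  let O : GolayPt → Finset GolayPt := fun q => (Finset.range p).image fun k => (w ^ k) q
  have hcard : ∀ q ∈ T, (O q).card = p := by
    intro q hq
    show ((Finset.range p).image fun k => (w ^ k) q).card = p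
    rw [Finset.card_image_of_injOn, Finset.card_range]
    intro a ha b hb hab
    simp only [Finset.coe_range, Set.mem_Iio] at ha hb
    by_contra hne
    have hdiff : (w ^ ((b : ℤ) - a)) q = q := by
      rw [zpow_sub, zpow_natCast, zpow_natCast]
      have hcm : w ^ b * (w ^ a)⁻¹ = (w ^ a)⁻¹ * w ^ b :=
        (((Commute.refl w).pow_pow b a).inv_right).eq
      rw [hcm, Equiv.Perm.mul_apply, Equiv.Perm.inv_eq_iff_eq]
      exact hab.symm
    have hco : IsCoprime ((b : ℤ) - a) (p : ℤ) := by
      rw [Int.isCoprime_iff_gcd_eq_one, Int.gcd, Int.natAbs_natCast]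
      exact Nat.Coprime.symm ((Nat.Prime.coprime_iff_not_dvd hp).2 (Nat.not_dvd_of_pos_of_lt (by omega) (by omega)))
    obtain ⟨u, v, huv⟩ := hco
    refine (Finset.mem_filter.mp hq).2 ?_
    have e : w = (w ^ ((b : ℤ) - a)) ^ u := by
      rw [← zpow_mul, show ((b : ℤ) - a) * u = 1 + (p : ℤ) * (-v) by linarith, zpow_add, zpow_mul,
        zpow_natCast, hwp, one_zpow, mul_one, zpow_one]
    rw [e]
    exact Function.IsFixedPt.perm_zpow hdiff u
  have hdisj : (T : Set GolayPt).PairwiseDisjoint O := by
    intro a ha b hb hne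
    rw [Function.onFun, Finset.disjoint_left]
    intro q hqa hqb
    simp only [O, Finset.mem_image] at hqa hqb
    obtain ⟨k, -, rfl⟩ := hqa
    obtain ⟨l, -, hl⟩ := hqb
    have hb' : b = (w ^ ((k : ℤ) - l)) a := by
      rw [sub_eq_neg_add, zpow_add, zpow_neg, zpow_natCast, zpow_natCast, Equiv.Perm.mul_apply,
        eq_comm, Equiv.Perm.inv_eq_iff_eq]
      exact hl.symm
    have hia : i a = a := mem_fixF.mp (Finset.mem_filter.mp ha).1
    have hib : i b = b := mem_fixF.mp (Finset.mem_filter.mp hb).1
    refine hne ?_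
    rw [hb']
    refine (hzp _ _ ?_).symm
    have e : i * w ^ ((k : ℤ) - l) * i⁻¹ = (w ^ ((k : ℤ) - l))⁻¹ := by
      rw [← conj_zpow, hinv, inv_zpow]
    have e2 := congrArg (fun g : Equiv.Perm GolayPt => g a) e
    simp only [Equiv.Perm.mul_apply] at e2
    rw [show i⁻¹ a = a by rw [Equiv.Perm.inv_eq_iff_eq, hia], ← hb', hib, hb',
      eq_comm, Equiv.Perm.inv_eq_iff_eq, eq_comm, ← Equiv.Perm.mul_apply, ← zpow_add, ← two_mul] at e2
    exact e2
  have hsub : T.biUnion O ⊆ Finset.univ \ fixF w := by
    intro q hq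
    simp only [O, Finset.mem_biUnion, Finset.mem_image] at hq
    obtain ⟨a, ha, k, -, rfl⟩ := hq
    refine Finset.mem_sdiff.mpr ⟨Finset.mem_univ _, fun hm => (Finset.mem_filter.mp ha).2 ?_⟩
    have := mem_fixF.mp hm
    rw [← Equiv.Perm.mul_apply, ← pow_succ', pow_succ, Equiv.Perm.mul_apply] at this
    exact (w ^ k).injective this
  have h1 := Finset.card_le_card hsub
  rw [Finset.card_biUnion hdisj, Finset.sum_congr rfl hcard, Finset.sum_const, smul_eq_mul] at h1
  have h2 := Finset.card_sdiff_add_card_eq_card (Finset.subset_univ (fixF w))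
  rw [card_points] at h2
  rw [mul_comm]
  omega

/-- Two involutions with eight fixed points whose product has prime order `p > 3`: then `p = 5`, both fix
`∞` and `0`, and they share the four fixed points of the product. -/
theorem odd_prime_product {i j : Equiv.Perm GolayPt} (hi : Inv8 i) (hj : Inv8 j) {p : ℕ} (hp : p.Prime)
    (hp3 : 3 < p) (ho : orderOf (i * j) = p) :
    p = 5 ∧ Inner i ∧ Inner j ∧ (fixF (i * j)).card = 4 ∧ ∀ q, (i * j) q = q → i q = q ∧ j q = q := by
  classical
  set w := i * j with hw
  have hwS : w ∈ setStab twoPts := mul_mem hi.1 hj.1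
  have hp2 : p ≠ 2 := by omega
  have hodd : ¬ 2 ∣ orderOf w := by
    rw [ho]; exact fun h => hp2 ((Nat.prime_dvd_prime_iff_eq Nat.prime_two hp).mp h).symm
  obtain ⟨hn, h0⟩ := inner_of_odd hwS hodd
  have hwp : w ^ p = 1 := by rw [← ho]; exact pow_orderOf_eq_one w
  have hw1 : w ≠ 1 := fun e => by rw [e, orderOf_one] at ho; omega
  have hiinv : i⁻¹ = i := inv_eq_of_mul_eq_one_right hi.2.1
  have hjinv : j⁻¹ = j := inv_eq_of_mul_eq_one_right hj.2.1
  have hinv : i * w * i⁻¹ = w⁻¹ := by
    rw [hw, mul_inv_rev, hiinv, hjinv, ← mul_assoc i i j, hi.2.1, one_mul]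
  have hT := card_fix_inverted hp hp2 hwp hinv
  set T := (fixF i).filter fun q => w q ≠ q with hTdef
  set I := (fixF i).filter fun q => w q = q with hIdef
  have hsplit : I.card + T.card = 8 := (Finset.card_filter_add_card_filter_not _).trans hi.2.2
  have hIw : I ⊆ fixF w := fun q hq => mem_fixF.mpr (Finset.mem_filter.mp hq).2
  have hle : (fixF w).card ≤ 8 := card_fixed_le_eight (mem_setStab.mp hwS).1 hw1
  have h2 : 2 ≤ (fixF w).card := le_trans card_twoPts.ge (Finset.card_le_card fun q hq => by
    simp only [twoPts, Finset.mem_insert, Finset.mem_singleton] at hq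
    rcases hq with rfl | rfl
    · exact mem_fixF.mpr hn
    · exact mem_fixF.mpr h0)
  have := Fact.mk hp
  have hmod : (fixF w).card ≡ 24 [MOD p] := by
    have := card_filter_fixed_modEq hwp (O := Finset.univ) (by simp)
    rwa [card_points] at this
  have hdvd : p ∣ 244823040 := by
    rw [← ho, ← natCard_M24]
    exact Subgroup.orderOf_dvd_natCard M24 (mem_setStab.mp hwS).1
  have hd : p ∣ 24 - (fixF w).card := (Nat.modEq_iff_dvd' (by omega)).mp hmod
  have hIle := Finset.card_le_card hIw
  have hp22 : p ≤ 22 := le_trans (Nat.le_of_dvd (by omega) hd) (by omega)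
  obtain ⟨hp5, hf⟩ : p = 5 ∧ (fixF w).card = 4 := by
    interval_cases p
    all_goals first
      | omega
      | exact absurd hp (by decide)
  have hfixI : fixF w ⊆ fixF i := by
    have : I = fixF w := Finset.eq_of_subset_of_card_le hIw (by rw [hp5] at hT; omega)
    intro q hq
    rw [← this] at hq
    exact (Finset.mem_filter.mp hq).1
  have hboth : ∀ q, w q = q → i q = q ∧ j q = q := fun q hq => by
    have hiq : i q = q := mem_fixF.mp (hfixI (mem_fixF.mpr hq))
    refine ⟨hiq, i.injective ?_⟩
    rw [hiq]; exact hq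
  exact ⟨hp5, ⟨(hboth none hn).1, (hboth _ h0).1⟩, ⟨(hboth none hn).2, (hboth _ h0).2⟩, hf, hboth⟩

/-- Elements of order three of the stabiliser of the two points have six fixed points. -/
theorem three_fix_six {w : Equiv.Perm GolayPt} (hw : w ∈ setStab twoPts) (ho : orderOf w = 3) :
    Inner w ∧ (fixF w).card = 6 := by
  have hin := inner_of_odd hw (by rw [ho]; norm_num)
  refine ⟨hin, ?_⟩
  rcases Classes.three_cases (mem_setStab.mp hw).1 ho with h | h
  · exact h.1
  · exact absurd h.1 (Finset.card_ne_zero_of_mem (mem_fixF.mpr hin.1) )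

/-- Two elements of `M24` of order three with six fixed points are conjugate in `M24`. -/
theorem three_conj {v w : Equiv.Perm GolayPt} (hv : v ∈ M24) (hw : w ∈ M24) (hvo : orderOf v = 3)
    (hwo : orderOf w = 3) (hv6 : (fixF v).card = 6) (hw6 : (fixF w).card = 6) :
    ∃ g ∈ M24, g * v * g⁻¹ = w := by
  rcases Classes.three_cases hv hvo with ⟨-, a, ha, hav⟩ | h
  swap
  · exact absurd (h.1.symm.trans hv6) (by norm_num)
  rcases Classes.three_cases hw hwo with ⟨-, b, hb, hbw⟩ | h
  swap
  · exact absurd (h.1.symm.trans hw6) (by norm_num)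
  refine ⟨b⁻¹ * a, mul_mem (inv_mem hb) ha, ?_⟩
  have h := toList_injective (hav.trans hbw.symm)
  rw [show b⁻¹ * a * v * (b⁻¹ * a)⁻¹ = b⁻¹ * (a * v * a⁻¹) * b by group, h]
  group

end CfsgLib.J4Type.Aut22
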