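import Cfsg.Agent.Lib.J4Type.Interface
import Cfsg.Agent.Lib.FischerTwoFour.Cocode.Graph

/-!
Shared definitions for the local analysis in Janko-four type: the context, the subgroup `V` of order
`2^11`, the kinds of involutions of `C(z) / O_2(C(z))` and the frame at `z`.
-/

set_option autoImplicit false
set_option linter.unusedSectionVars false

namespace CfsgLib.J4Type

open CfsgLib.FischerTwoFour (QRep)

section Module

variable {H V : Type*} [Group H] [AddCommGroup V]

/-- The fixed vectors of `h`. -/
def fixSet (R : QRep H V) (h : H) : Set V := {v | R.ρ h v = v}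

/-- The commutator vectors of `h`. -/
def commSet (R : QRep H V) (h : H) : Set V := Set.range fun v => R.ρ h v + v

/-- The elements fixing each vector with code below `64` (`W`). -/
def Model.FixesW {R : QRep H V} (M : Model R) (h : H) : Prop := ∀ v, M.code v < 64 → R.ρ h v = v

/-- The elements preserving `W`. -/
def Model.PresW {R : QRep H V} (M : Model R) (h : H) : Prop :=
  ∀ v, M.code v < 64 ↔ M.code (R.ρ h v) < 64

/-- The normal subgroup of order `16` of the stabiliser of `W`. -/
def Model.rSub {R : QRep H V} (M : Model R) : Subgroup H := Subgroup.closure (Set.range M.gens.r)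

/-- An involution conjugate into `rSub`. -/
def Model.IsInner {R : QRep H V} (M : Model R) (h : H) : Prop := ∃ k : H, k * h * k⁻¹ ∈ M.rSub

/-- An outer involution of the first kind. -/
structure IsTypeB (R : QRep H V) (h : H) : Prop where
  card_fix : (fixSet R h).ncard = 64
  comm_eq : commSet R h = fixSet R h
  sing : ∀ v ∈ fixSet R h, R.q v = 0

/-- An outer involution of the second kind. -/
structure IsTypeC (R : QRep H V) (h : H) : Prop where
  card_fix : (fixSet R h).ncard = 64
  comm_eq : commSet R h = fixSet R h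
  nonsing : ∃ v ∈ fixSet R h, R.q v = 1

/-- A totally singular set of `64` common fixed vectors, closed under addition. -/
structure IsSingFix (R : QRep H V) (A : Subgroup H) (S : Set V) : Prop where
  card : S.ncard = 64
  add : ∀ u ∈ S, ∀ v ∈ S, u + v ∈ S
  fixed : ∀ h ∈ A, ∀ v ∈ S, R.ρ h v = v
  sing : ∀ v ∈ S, R.q v = 0

end Module

section Group

universe u

variable {G : Type u} [Group G] [Finite G]

/-- Janko-four type at `z` with the model of the action. -/
structure Ctx (z : G) (P : Subgroup G) where
  hyp : Cfsg.IsOfJankoFourTypeWith z P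
  model : Model (ext13_of hyp).rep
  t_P : (P.subgroupOf (CC z)).map (QuotientGroup.mk' (QQ z)) = Subgroup.zpowers model.gens.t

variable {z : G} {P : Subgroup G}

/-- The preimage of `W` in `O_2(C(z))`, of order `2^7`. -/
noncomputable def Ctx.Wc (X : Ctx z P) : Subgroup (CC z) :=
  (Subgroup.closure {a : QQ z | X.model.code (pr a) < 64}).map (QQ z).subtype

/-- The subgroup of order `2^11`. -/
noncomputable def Ctx.VV (X : Ctx z P) : Subgroup (CC z) :=
  X.model.rSub.comap (QuotientGroup.mk' (QQ z)) ⊓ Subgroup.centralizer (X.Wc : Set (CC z))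

/-- The subgroup of order `2^11` in `G`. -/
noncomputable def Ctx.Vg (X : Ctx z P) : Subgroup G := X.VV.map (CC z).subtype

/-- The elements of `A` outside the class of `z`, additively. -/
def ncSet (z : G) (A : Subgroup G) : Set (Additive A) :=
  {a | (Additive.toMul a : A) ≠ 1 ∧ ¬ IsConj z ((Additive.toMul a : A) : G)}

/-- What is proved at `z` about a subgroup of order `2^11` before Mathieu's group is recognised. -/
structure VFrame (z : G) (A : Subgroup G) : Prop where
  comm : ∀ a ∈ A, ∀ b ∈ A, a * b = b * a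
  sq : ∀ a ∈ A, a * a = 1
  card : Nat.card A = 2048
  ne_one : z ≠ 1
  mem : z ∈ A
  self_cent : Subgroup.centralizer (A : Set G) ≤ A
  conj_z : ∀ a ∈ A, IsConj z a → ∃ m ∈ Subgroup.normalizer (A : Set G), m * z * m⁻¹ = a
  card_stab : Nat.card ↥(Subgroup.normalizer (A : Set G) ⊓ CC z) = 2048 * 138240
  frame : ∃ (φ W : ℕ → Additive A),
    (∀ a b, a < 128 → b < 128 → φ (Nat.xor a b) = φ a + φ b) ∧
    (∀ a b, a < 128 → b < 128 → φ a = φ b → a = b) ∧
    ((Additive.toMul (φ 64) : A) : G) = z ∧ W 0 = 0 ∧
    (∀ c d a, c < 16 → d < 16 → a < 128 → W c + W d = φ a → c = d) ∧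
    ∀ x, x ∈ ncSet z A ↔ ∃ n, n < 276 ∧
      W (FischerTwoFour.Cocode.cs n) + φ (FischerTwoFour.Cocode.cd n) = x
  trans36 : ∀ u ∈ A, ∀ v ∈ A, u ≠ 1 → v ≠ 1 → ¬ IsConj z u → ¬ IsConj z v → ¬ IsConj z (z * u) →
    ¬ IsConj z (z * v) → ∃ m ∈ Subgroup.normalizer (A : Set G) ⊓ CC z, m * u * m⁻¹ = v

end Group

end CfsgLib.J4Type
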