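import Cfsg.Agent.Lib.J4Type.Enc
import Cfsg.Agent.Lib.J4Type.VSigns
import Cfsg.Agent.Lib.J4Type.Local

/-!
The elements of `C(z)` commuting with a lift of `t`: the canonical section of `W` as commutators and
lifts of the four generators of the normal subgroup of order 16.
-/

set_option autoImplicit false
set_option linter.unusedSectionVars false

namespace CfsgLib.J4Type

open CfsgLib.FischerTwoFour (QRep)

universe u

variable {G : Type u} [Group G] [Finite G] {z : G} {P : Subgroup G}

/-- Exclusive or keeps the bound. -/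
theorem app_lt {k : ℕ} : ∀ (cols : List ℕ) (n : ℕ), (∀ c ∈ cols, c < 2 ^ k) → app cols n < 2 ^ k
  | [], n, _ => Nat.two_pow_pos k
  | c :: cs, n, h => by
    show Nat.xor _ _ < _
    refine Nat.xor_lt_two_pow ?_ (app_lt cs _ fun d hd => h d (List.mem_cons_of_mem _ hd))
    split
    · exact h c List.mem_cons_self
    · exact Nat.two_pow_pos k

/-- The product of the elements selected by the bits of `n`. -/
def bprod {C : Type*} [Group C] (g : ℕ → C) (l : List ℕ) (n : ℕ) : C :=
  (l.map fun i => if Nat.testBit n i then g i else 1).prod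

theorem bprod_xor {C : Type*} [Group C] (S : Subgroup C) (sq : ∀ a ∈ S, a * a = 1) (g : ℕ → C)
    (a b : ℕ) : ∀ l : List ℕ, (∀ i ∈ l, g i ∈ S) →
      bprod g l (Nat.xor a b) = bprod g l a * bprod g l b ∧ bprod g l a ∈ S ∧ bprod g l b ∈ S
  | [], _ => ⟨(one_mul 1).symm, one_mem S, one_mem S⟩
  | i :: l, h => by
    obtain ⟨e, ha, hb⟩ := bprod_xor S sq g a b l fun j hj => h j (List.mem_cons_of_mem _ hj)
    have hi := h i List.mem_cons_self
    have inv : ∀ x ∈ S, x⁻¹ = x := fun x hx => inv_eq_of_mul_eq_one_right (sq x hx)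
    have comm : ∀ x ∈ S, ∀ y ∈ S, x * y = y * x := fun x hx y hy => by
      rw [← inv _ (mul_mem hx hy), mul_inv_rev, inv _ hx, inv _ hy]
    simp only [bprod, List.map_cons, List.prod_cons] at e ha hb ⊢
    rw [show (Nat.xor a b).testBit i = (a.testBit i).xor (b.testBit i) from Nat.testBit_xor a b i, e]
    refine ⟨?_, mul_mem (by split; exacts [hi, one_mem S]) ha, mul_mem (by split; exacts [hi, one_mem S]) hb⟩
    cases a.testBit i <;> cases b.testBit i <;> simp only [Bool.false_xor, Bool.true_xor, Bool.not_true,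
      Bool.not_false, if_true, if_false, Bool.false_eq_true, one_mul, ← mul_assoc]
    · rw [comm _ ha _ hi]
    · rw [mul_assoc (g i) _ (g i), comm _ ha _ hi, ← mul_assoc (g i), sq _ hi, one_mul]

theorem bprod_zero {C : Type*} [Group C] (g : ℕ → C) : ∀ l : List ℕ, bprod g l 0 = 1
  | [] => rfl
  | i :: l => by
    have h := bprod_zero g l
    simp only [bprod, List.map_cons, List.prod_cons] at h ⊢
    rw [h, Nat.zero_testBit]; simp

/-- A prime-power action fixes a point in a set of size prime to three. -/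
theorem exists_comm_lift {C : Type*} [Group C] [Finite C] (Q : Subgroup C) [Q.Normal]
    (hQ : ¬ 3 ∣ Nat.card Q) {p : C} (hp : p ^ 3 = 1) {h : C ⧸ Q}
    (hh : h * (QuotientGroup.mk p) = (QuotientGroup.mk p) * h) :
    ∃ c : C, QuotientGroup.mk c = h ∧ c * p = p * c := by
  haveI := Fact.mk Nat.prime_three
  let X := {c : C // (QuotientGroup.mk c : C ⧸ Q) = h}
  have hz : ∀ (m : Subgroup.zpowers p) (c : X), (QuotientGroup.mk ((m : C) * c * (m : C)⁻¹) : C ⧸ Q) = h := by
    rintro ⟨m, k, rfl⟩ c
    have hc : Commute h (QuotientGroup.mk p) := hh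
    show (QuotientGroup.mk (p ^ k * (c : C) * (p ^ k)⁻¹) : C ⧸ Q) = h
    rw [QuotientGroup.mk_mul, QuotientGroup.mk_mul, QuotientGroup.mk_inv, QuotientGroup.mk_zpow, c.2,
      ← (hc.zpow_right k).eq, mul_inv_cancel_right]
  letI : MulAction (Subgroup.zpowers p) X :=
    { smul := fun m c => ⟨(m : C) * c * (m : C)⁻¹, hz m c⟩
      one_smul := fun c => Subtype.ext (by show (1 : C) * c * (1 : C)⁻¹ = c; group)
      mul_smul := fun m m' c => Subtype.ext (by
        show (m : C) * m' * c * ((m : C) * m')⁻¹ = m * (m' * c * (m' : C)⁻¹) * (m : C)⁻¹; group) }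
  have hP : IsPGroup 3 (Subgroup.zpowers p) := by
    rintro ⟨m, k, rfl⟩
    refine ⟨1, Subtype.ext ?_⟩
    show (p ^ k) ^ (3 ^ 1) = 1
    rw [pow_one, ← zpow_natCast, ← zpow_mul, mul_comm, zpow_mul, zpow_natCast, hp, one_zpow]
  obtain ⟨c0, hc0⟩ := QuotientGroup.mk_surjective h
  have hX : Nat.card X = Nat.card Q := Nat.card_congr
    { toFun := fun c => ⟨c0⁻¹ * c, QuotientGroup.eq.1 (hc0.trans c.2.symm)⟩
      invFun := fun q => ⟨c0 * q, by
        rw [← hc0]; exact (QuotientGroup.eq.2 (by simp)).symm⟩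
      left_inv := fun c => Subtype.ext (by simp)
      right_inv := fun q => Subtype.ext (by simp) }
  obtain ⟨c, hc⟩ := hP.nonempty_fixed_point_of_prime_not_dvd_card X (hX ▸ hQ)
  refine ⟨c, c.2, ?_⟩
  have e : p * c * p⁻¹ = (c : C) := congrArg Subtype.val (hc ⟨p, Subgroup.mem_zpowers p⟩)
  exact (mul_inv_eq_iff_eq_mul.1 e).symm

theorem not_three_dvd (h : Cfsg.IsOfJankoFourTypeWith z P) : ¬ 3 ∣ Nat.card (QQ z) := by
  rw [(ext13_of h).card_Q]; norm_num

namespace Ctx

variable (X : Ctx z P)

/-- The centralised element of order two, inside `C(z)`. -/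
def zc (z : G) : CC z := ⟨z, Subgroup.mem_centralizer_singleton_iff.2 rfl⟩

theorem zc_central (c : CC z) : zc z * c = c * zc z :=
  Subtype.ext (Subgroup.mem_centralizer_singleton_iff.1 c.2).symm

include X in
theorem zc_sq : zc z * zc z = 1 := Subtype.ext (by
  show z * z = 1
  rw [← sq, ← X.hyp.1]; exact pow_orderOf_eq_one z)

include X in
theorem zc_ne : zc z ≠ 1 := fun e => by
  have h : z = 1 := congrArg Subtype.val e
  have := X.hyp.1
  rw [h, orderOf_one] at this
  omega

include X in
theorem zc_mem : zc z ∈ QQ z :=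
  (ext13_of X.hyp).selfCent (Subgroup.mem_centralizer_iff.2 fun a _ => (zc_central a).symm)

/-- `z` as an element of `O_2(C(z))`. -/
def zQ : QQ z := ⟨zc z, zc_mem X⟩

theorem center_eq {x : QQ z} (h : x ∈ Subgroup.center (QQ z)) : x = 1 ∨ x = X.zQ := by
  by_cases hx : x = 1
  · exact Or.inl hx
  refine Or.inr ((ext13_of X.hyp).two_center h (Subgroup.mem_center_iff.2 fun y => Subtype.ext (zc_central _).symm) hx
    fun e => zc_ne X (congrArg Subtype.val e))

theorem pr_zQ : pr X.zQ = 0 :=
  (ext13_of X.hyp).pr_eq_zero.2 (Subgroup.mem_center_iff.2 fun y => Subtype.ext (zc_central _).symm)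

theorem bf_code (u v : VQ (QQ z)) :
    (ext13_of X.hyp).rep.b u v = if VCode.bn (X.model.code u) (X.model.code v) then 1 else 0 := by
  have e := (ext13_of X.hyp).rep.q_add u v
  rw [X.model.code_q, X.model.code_q, X.model.code_q, X.model.code_add] at e
  rw [VCode.bn]
  revert e
  generalize (ext13_of X.hyp).rep.b u v = β
  generalize qn (Nat.xor (X.model.code u) (X.model.code v)) = a
  generalize qn (X.model.code u) = b
  generalize qn (X.model.code v) = c
  revert a b c β
  decide

theorem code_zero : X.model.code 0 = 0 := by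
  have h := X.model.code_add 0 0
  rw [add_zero] at h
  rw [h]; exact Nat.xor_self _

/-- The vector with the given code. -/
noncomputable def dec (n : ℕ) : VQ (QQ z) :=
  if h : n < 4096 then (X.model.code_surj n h).choose else 0

theorem code_dec {n : ℕ} (h : n < 4096) : X.model.code (X.dec n) = n := by
  rw [dec, dif_pos h]; exact (X.model.code_surj n h).choose_spec

theorem code_eq_zero {v : VQ (QQ z)} : X.model.code v = 0 ↔ v = 0 :=
  ⟨fun h => X.model.code_inj _ _ (h.trans X.code_zero.symm), fun h => by rw [h, X.code_zero]⟩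

/-- The twelve unit vectors. -/
theorem code_lt12 {i : ℕ} (h : i < 12) : 2 ^ i < 4096 :=
  Nat.pow_lt_pow_right (by norm_num) (show i < 12 from h)

theorem mem_Wc {a : QQ z} : (a : CC z) ∈ X.Wc ↔ X.model.code (pr a) < 64 := by
  have hS := ext13_of X.hyp
  let S : Subgroup (QQ z) :=
    { carrier := {a | X.model.code (pr a) < 64}
      one_mem' := by show X.model.code (pr 1) < 64; rw [pr_one, X.code_zero]; norm_num
      mul_mem' := fun {a b} ha hb => by
        show X.model.code (pr (a * b)) < 64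
        rw [pr_mul, X.model.code_add]; exact Nat.xor_lt_two_pow (n := 6) ha hb
      inv_mem' := fun {a} ha => by
        show X.model.code (pr a⁻¹) < 64
        rwa [(hS.pr_eq_iff (a := a⁻¹) (b := a)).2 (by rw [inv_inv]; exact hS.sq_mem a)] }
  rw [Ctx.Wc, show Subgroup.closure {a : QQ z | X.model.code (pr a) < 64} = S from Subgroup.closure_eq S,
    show (a : CC z) = (QQ z).subtype a from rfl, Subgroup.mem_map_iff_mem (QQ z).subtype_injective]
  rfl

theorem mem_QQ_of_Wc {c : CC z} (h : c ∈ X.Wc) : c ∈ QQ z := by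
  obtain ⟨a, -, rfl⟩ := Subgroup.mem_map.1 h
  exact a.2

end Ctx

/-- A lift of `t` of order three and lifts of the generators of the normal subgroup commuting with it. -/
structure Lifts (X : Ctx z P) where
  p : CC z
  p_mk : (QuotientGroup.mk p : CC z ⧸ QQ z) = X.model.gens.t
  p_three : p ^ 3 = 1
  ρ : Fin 4 → CC z
  ρ_mk : ∀ i, (QuotientGroup.mk (ρ i) : CC z ⧸ QQ z) = X.model.gens.r i
  ρ_p : ∀ i, ρ i * p = p * ρ i

theorem exists_lifts (X : Ctx z P) : Nonempty (Lifts X) := by
  have ht : X.model.gens.t ∈ (P.subgroupOf (CC z)).map (QuotientGroup.mk' (QQ z)) := by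
    rw [X.t_P]; exact Subgroup.mem_zpowers _
  obtain ⟨p, hp, hpt⟩ := Subgroup.mem_map.1 ht
  have hp3 : p ^ 3 = 1 := Subtype.ext (by
    show (p : G) ^ 3 = 1
    have hc : Nat.card P = 3 := X.hyp.2.2.2.2.2.1
    have := pow_card_eq_one' (x := (⟨p, hp⟩ : P))
    rw [hc] at this
    exact congrArg Subtype.val this)
  have hpt' : (QuotientGroup.mk p : CC z ⧸ QQ z) = X.model.gens.t := hpt
  choose ρ h1 h2 using fun i => exists_comm_lift (QQ z) (not_three_dvd X.hyp) hp3 (h := X.model.gens.r i)
    (by rw [hpt']; exact X.model.gens.t_r i)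
  exact ⟨⟨p, hpt', hp3, ρ, h1, h2⟩⟩

end CfsgLib.J4Type
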