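import Mathlib

/-!
# Lifting an elementary abelian 2-group on which the normalizer is transitive

Let `π` be a surjection with central kernel, in which `z` is the only involution and every element has order
dividing 6, and let `X` be an elementary abelian 2-subgroup of the image of order more than 4 whose nonidentity
elements are conjugate.  Then the elements over `X` of order at most 2 form an elementary abelian subgroup of order
`2 * #X`.
-/

set_option autoImplicit false

namespace CfsgLib.J4Type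

variable {L Q : Type*} [Group L] [Group Q] {π : L →* Q} {z : L}

/-- The hypotheses on the kernel. -/
structure KernelSix (π : L →* Q) (z : L) : Prop where
  surj : Function.Surjective π
  z_one : z ≠ 1
  z_sq : z * z = 1
  z_ker : π z = 1
  central : ∀ k, π k = 1 → ∀ l, k * l = l * k
  six : ∀ k, π k = 1 → k ^ 6 = 1
  only : ∀ k, π k = 1 → k * k = 1 → k = 1 ∨ k = z

namespace KernelSix

variable (h : KernelSix π z) {X : Subgroup Q}

include h

theorem exists_lift (hX : ∀ x ∈ X, x * x = 1) {x : Q} (hx : x ∈ X) :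
    ∃ l, π l = x ∧ (l * l = 1 ∨ l * l = z) := by
  obtain ⟨l, rfl⟩ := h.surj x
  have hll : π (l * l) = 1 := by rw [map_mul]; exact hX _ hx
  refine ⟨l * (l * l), by rw [map_mul, hll, mul_one], h.only _ ?_ ?_⟩
  · rw [map_mul, map_mul, hll, mul_one]; exact hX _ hx
  · have h6 := h.six _ hll
    simp only [pow_succ, pow_zero, one_mul] at h6
    simpa only [mul_assoc] using h6

theorem comm_ker {l m : L} (hl : l * l = 1 ∨ l * l = z) (hlm : π l * π m = π m * π l) :
    l * m * l⁻¹ * m⁻¹ = 1 ∨ l * m * l⁻¹ * m⁻¹ = z := by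
  set k := l * m * l⁻¹ * m⁻¹ with hk
  have hπ : π k = 1 := by simp [hk, hlm]
  refine h.only k hπ ?_
  have h1 : l * m * l⁻¹ = k * m := by simp [hk]
  have h2 : l * (l * m * l⁻¹) * l⁻¹ = k * (k * m) := by
    rw [h1, ← mul_assoc l k m, ← h.central k hπ l, mul_assoc k l m, mul_assoc k (l * m) l⁻¹, h1]
  have h3 : l * (l * m * l⁻¹) * l⁻¹ = (l * l) * m * (l * l)⁻¹ := by group
  rcases hl with hl | hl
  · rw [h3, hl] at h2
    simpa [← mul_assoc] using h2.symm
  · rw [h3, hl, h.central z h.z_ker m] at h2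
    simpa [← mul_assoc] using h2.symm

theorem sq_eq_of_lift {l m : L} (hlm : π l = π m) (hl : l * l = 1 ∨ l * l = z)
    (hm : m * m = 1 ∨ m * m = z) : l * l = m * m := by
  set k := m⁻¹ * l with hk
  have hπ : π k = 1 := by simp [hk, hlm]
  have hlk : l = m * k := by simp [hk]
  have h2 : l * l = (m * m) * (k * k) := by
    rw [hlk, mul_assoc, ← mul_assoc k m k, h.central k hπ m, mul_assoc m k k, ← mul_assoc]
  have hz6 : z * z = 1 := h.z_sq
  have hkk : k * k = 1 ∨ k * k = z := by
    have : k * k = (m * m)⁻¹ * (l * l) := by rw [h2]; group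
    have hzi : z⁻¹ = z := inv_eq_of_mul_eq_one_right hz6
    rcases hl with hl | hl <;> rcases hm with hm | hm <;> rw [this, hl, hm] <;>
      simp [hzi, hz6]
  rcases hkk with hkk | hkk
  · rw [h2, hkk, mul_one]
  · exfalso
    -- a square root of z in the kernel would have order 4
    have h6 := h.six k hπ
    have h4 : k * k * (k * k) = 1 := by rw [hkk, hz6]
    simp only [pow_succ, pow_zero, one_mul] at h6
    have : k * k = 1 := by
      calc k * k = (k * k * (k * k)) * (k * k) := by rw [h4, one_mul]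
        _ = 1 := by simpa only [mul_assoc] using h6
    exact h.z_one (hkk ▸ this)

/-- **The lift is elementary abelian.** -/
theorem exists_elementary_lift [Finite L] [Finite Q] (hX : ∀ x ∈ X, x * x = 1) (hcard : 4 < Nat.card X)
    (htrans : ∀ x ∈ X, x ≠ 1 → ∀ y ∈ X, y ≠ 1 → ∃ g, g * x * g⁻¹ = y) :
    ∃ T : Subgroup L, (∀ t, t ∈ T ↔ π t ∈ X ∧ t * t = 1) ∧ (∀ s ∈ T, ∀ t ∈ T, s * t = t * s) ∧
      z ∈ T ∧ (∀ x ∈ X, ∃ t ∈ T, π t = x) ∧ Nat.card T = 2 * Nat.card X := by
  classical
  have hXc : ∀ x ∈ X, ∀ y ∈ X, x * y = y * x := fun x hx y hy => by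
    have hi : ∀ w ∈ X, w⁻¹ = w := fun w hw => inv_eq_of_mul_eq_one_right (hX w hw)
    have hxy := hi _ (X.mul_mem hx hy)
    rw [mul_inv_rev, hi x hx, hi y hy] at hxy
    exact hxy.symm
  -- the squares of the good lifts are constant
  have hconst : ∀ l m, π l ∈ X → π l ≠ 1 → π m ∈ X → π m ≠ 1 → (l * l = 1 ∨ l * l = z) →
      (m * m = 1 ∨ m * m = z) → l * l = m * m := by
    intro l m hl hl1 hm hm1 hl2 hm2
    obtain ⟨g, hg⟩ := htrans _ hl hl1 _ hm hm1
    obtain ⟨g, rfl⟩ := h.surj g
    have e : (g * l * g⁻¹) * (g * l * g⁻¹) = g * (l * l) * g⁻¹ := by group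
    have e2 : g * (l * l) * g⁻¹ = l * l := by
      rcases hl2 with e' | e'
      · simp [e']
      · rw [e', ← h.central z h.z_ker g]; simp
    rw [← h.sq_eq_of_lift (l := g * l * g⁻¹) (m := m) (by simpa using hg) (by rwa [e, e2]) hm2, e, e2]
  -- the square of a product
  have hprod : ∀ l m, (l * l = 1 ∨ l * l = z) → π l * π m = π m * π l →
      (l * m) * (l * m) = (l * m * l⁻¹ * m⁻¹)⁻¹ * ((l * l) * (m * m)) := by
    intro l m hl hlm
    have hπ : π (l * m * l⁻¹ * m⁻¹) = 1 := by simp [hlm]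
    have hc : m * l = (l * m * l⁻¹ * m⁻¹)⁻¹ * (l * m) := by group
    calc (l * m) * (l * m) = l * (m * l) * m := by group
      _ = (l * m * l⁻¹ * m⁻¹)⁻¹ * ((l * l) * (m * m)) := by
        rw [hc, ← mul_assoc l, ← h.central _ (by rw [map_inv, hπ, inv_one]) l]
        simp only [mul_assoc]
  have hzi : z⁻¹ = z := inv_eq_of_mul_eq_one_right h.z_sq
  -- every good lift is an involution
  have hgood : ∀ l, π l ∈ X → (l * l = 1 ∨ l * l = z) → l * l = 1 := by
    by_contra hbad
    push Not at hbad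
    obtain ⟨l₀, hl₀, hl₀', hl₀1⟩ := hbad
    have hz : l₀ * l₀ = z := hl₀'.resolve_left hl₀1
    have hl₀2 : π l₀ ≠ 1 := by
      intro h1
      rcases h.only (l₀ * l₀) (by rw [map_mul, h1, one_mul]) (by rw [hz, h.z_sq]) with e | -
      · exact hl₀1 e
      have h6 := h.six _ h1
      simp only [pow_succ, pow_zero, one_mul] at h6
      refine h.z_one ?_
      calc z = z * z * z := by rw [h.z_sq, one_mul]
        _ = 1 := by rw [← hz]; simpa only [mul_assoc] using h6
    -- lifts of all nonidentity elements square to z, so all commutators are z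
    have hall : ∀ l, π l ∈ X → π l ≠ 1 → (l * l = 1 ∨ l * l = z) → l * l = z := fun l a b c => by
      rw [hconst l l₀ a b hl₀ hl₀2 c hl₀', hz]
    have hcom : ∀ l m, π l ∈ X → π l ≠ 1 → π m ∈ X → π m ≠ 1 → π l ≠ π m → (l * l = 1 ∨ l * l = z) →
        (m * m = 1 ∨ m * m = z) → l * m * l⁻¹ * m⁻¹ = z := by
      intro l m hl hl1 hm hm1 hne hl2 hm2
      have hc := hXc _ hl _ hm
      have hp := hprod l m hl2 hc
      rw [hall l hl hl1 hl2, hall m hm hm1 hm2, h.z_sq, mul_one] at hp
      have hlm2 : (l * m) * (l * m) = 1 ∨ (l * m) * (l * m) = z := by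
        rw [hp]
        rcases h.comm_ker hl2 hc with e | e <;> simp [e, hzi]
      have hne' : π (l * m) ≠ 1 := by
        rw [map_mul]
        intro e
        exact hne ((eq_inv_of_mul_eq_one_left e).trans (inv_eq_of_mul_eq_one_right (hX _ hm)))
      have e := hall (l * m) (by rw [map_mul]; exact X.mul_mem hl hm) hne' hlm2
      rw [hp] at e
      rwa [← inv_inj, hzi]
    -- three independent elements
    obtain ⟨y, hy, hy1, hyx⟩ : ∃ y ∈ X, y ≠ 1 ∧ y ≠ π l₀ := by
      by_contra hno
      push Not at hno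
      have hle : Nat.card X ≤ ({1, π l₀} : Finset Q).card := by
        rw [← Nat.card_eq_finsetCard]
        exact Nat.card_le_card_of_injective (fun w : X => (⟨w, by
          simp only [Finset.mem_insert, Finset.mem_singleton]
          by_cases hw : (w : Q) = 1
          · exact Or.inl hw
          · exact Or.inr (hno w w.2 hw)⟩ : ({1, π l₀} : Finset Q))) fun a b e => by simpa using e
      have := hle.trans Finset.card_le_two
      omega
    obtain ⟨w, hw, hw1, hwx, hwy, hwxy⟩ : ∃ w ∈ X, w ≠ 1 ∧ w ≠ π l₀ ∧ w ≠ y ∧ w ≠ π l₀ * y := by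
      by_contra hno
      push Not at hno
      have hle : Nat.card X ≤ ({1, π l₀, y, π l₀ * y} : Finset Q).card := by
        rw [← Nat.card_eq_finsetCard]
        exact Nat.card_le_card_of_injective (fun v : X => (⟨v, by
          simp only [Finset.mem_insert, Finset.mem_singleton]
          by_cases h1 : (v : Q) = 1
          · exact Or.inl h1
          by_cases h2 : (v : Q) = π l₀
          · exact Or.inr (Or.inl h2)
          by_cases h3 : (v : Q) = y
          · exact Or.inr (Or.inr (Or.inl h3))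
          exact Or.inr (Or.inr (Or.inr (hno v v.2 h1 h2 h3)))⟩ : ({1, π l₀, y, π l₀ * y} : Finset Q)))
          fun a b e => by simpa using e
      have := hle.trans Finset.card_le_four
      omega
    obtain ⟨m, rfl, hm2⟩ := h.exists_lift hX hy
    obtain ⟨n, rfl, hn2⟩ := h.exists_lift hX hw
    have e1 := hcom l₀ m hl₀ hl₀2 hy hy1 (Ne.symm hyx) hl₀' hm2
    have e2 := hcom l₀ n hl₀ hl₀2 hw hw1 (Ne.symm hwx) hl₀' hn2
    have hne' : π m * π n ≠ 1 := fun e =>
      hwy ((eq_inv_of_mul_eq_one_left e).trans (inv_eq_of_mul_eq_one_right (hX _ hw))).symm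
    have hp := hprod m n hm2 (hXc _ hy _ hw)
    rw [hall m hy hy1 hm2, hall n hw hw1 hn2, h.z_sq, mul_one] at hp
    have hmn2 : (m * n) * (m * n) = 1 ∨ (m * n) * (m * n) = z := by
      rw [hp]
      rcases h.comm_ker hm2 (hXc _ hy _ hw) with e | e <;> simp [e, hzi]
    have e3 := hcom l₀ (m * n) hl₀ hl₀2 (by rw [map_mul]; exact X.mul_mem hy hw) (by rwa [map_mul])
      (by
        rw [map_mul]
        intro e
        refine hwxy ?_
        rw [e, hXc _ hy _ hw, mul_assoc, hX _ hy, mul_one]) hl₀' hmn2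
    have hkey : l₀ * (m * n) * l₀⁻¹ * (m * n)⁻¹ = 1 := by
      calc l₀ * (m * n) * l₀⁻¹ * (m * n)⁻¹
          = (l₀ * m * l₀⁻¹ * m⁻¹) * (m * (l₀ * n * l₀⁻¹ * n⁻¹) * m⁻¹) := by group
        _ = 1 := by rw [e1, e2, ← h.central z h.z_ker m]; simp [h.z_sq]
    exact h.z_one (e3.symm.trans hkey)
  have hcomm : ∀ s t, π s ∈ X → s * s = 1 → π t ∈ X → t * t = 1 → s * t = t * s := by
    intro s t hs hs2 ht ht2
    have hc := hXc _ hs _ ht
    have hp := hprod s t (Or.inl hs2) hc
    rw [hs2, ht2, mul_one, mul_one] at hp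
    have hg := hgood (s * t) (by rw [map_mul]; exact X.mul_mem hs ht) (by
      rw [hp]
      rcases h.comm_ker (Or.inl hs2) hc with e | e <;> simp [e, hzi])
    rw [hp, inv_eq_one, mul_inv_eq_one, mul_inv_eq_iff_eq_mul] at hg
    exact hg
  let T : Subgroup L :=
    { carrier := {t | π t ∈ X ∧ t * t = 1}
      one_mem' := ⟨by simp [X.one_mem], mul_one 1⟩
      mul_mem' := fun {s t} hs ht => ⟨by rw [map_mul]; exact X.mul_mem hs.1 ht.1, by
        have e := hcomm s t hs.1 hs.2 ht.1 ht.2
        calc s * t * (s * t) = s * (t * s) * t := by group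
          _ = 1 := by rw [← e, ← mul_assoc s s t, hs.2, one_mul, ht.2]⟩
      inv_mem' := fun {s} hs => ⟨by rw [map_inv]; exact X.inv_mem hs.1, by
        rw [← mul_inv_rev, hs.2, inv_one]⟩ }
  refine ⟨T, fun t => Iff.rfl, fun s hs t ht => hcomm s t hs.1 hs.2 ht.1 ht.2,
    ⟨by rw [h.z_ker]; exact X.one_mem, h.z_sq⟩, fun x hx => ?_, ?_⟩
  · obtain ⟨l, rfl, hl⟩ := h.exists_lift hX hx
    exact ⟨l, ⟨hx, hgood l hx hl⟩, rfl⟩
  · let f : T →* X := ((π.comp T.subtype).codRestrict X fun t => t.2.1)
    have hsurj : Function.Surjective f := fun x => by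
      obtain ⟨l, hl, hl2⟩ := h.exists_lift hX x.2
      exact ⟨⟨l, by rw [hl]; exact x.2, hgood l (hl ▸ x.2) hl2⟩, Subtype.ext hl⟩
    rw [← f.ker.card_mul_index, Subgroup.index_ker, MonoidHom.range_eq_top.2 hsurj, Subgroup.card_top]
    congr 1
    let zT : T := ⟨z, by rw [h.z_ker]; exact X.one_mem, h.z_sq⟩
    have hker : (f.ker : Set T) = {1, zT} := by
      ext t
      constructor
      · intro ht
        have ht' : π (t : L) = 1 := congrArg Subtype.val ht
        rcases h.only _ ht' t.2.2 with e | e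
        · exact Or.inl (Subtype.ext e)
        · exact Or.inr (Subtype.ext e)
      · rintro (rfl | rfl)
        · exact f.ker.one_mem
        · exact Subtype.ext h.z_ker
    rw [← SetLike.coe_sort_coe, Nat.card_coe_set_eq, hker, Set.ncard_pair]
    exact fun e => h.z_one (congrArg Subtype.val e).symm

end KernelSix

end CfsgLib.J4Type
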