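import Cfsg.Agent.Lib.J4Type.VBase
import Cfsg.Agent.Lib.J4Type.Lift

/-!
The subgroup of order `2^11` of `C(z)` in Janko-four type, from the model of the action on `O_2(C(z)) / ⟨z⟩`.
-/

set_option autoImplicit false

universe u

namespace CfsgLib.J4Type

open scoped commutatorElement

namespace Model

variable {H V : Type*} [Group H] [AddCommGroup V] {R : CfsgLib.FischerTwoFour.QRep H V} (M : Model R)

/-- The stabiliser of `W`. -/
def stabSub : Subgroup H :=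
  Subgroup.closure ({M.gens.a, M.gens.c, M.gens.u} ∪ Set.range M.gens.r : Set H)

/-- What is used about the stabiliser of `W`. -/
structure StabFacts : Prop where
  card_rSub : Nat.card M.rSub = 16
  fixesW_iff : ∀ h, M.FixesW h ↔ h ∈ M.rSub
  presW_iff : ∀ h, M.PresW h ↔ h ∈ M.stabSub
  card_stab : Nat.card M.stabSub = 34560

/-- What is used about elementary abelian subgroups. -/
structure ElemFacts : Prop where
  elem_card_le : ∀ A : Subgroup H, (∀ a ∈ A, a * a = 1) → Nat.card A ≤ 32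
  elem_five_fix : ∀ A : Subgroup H, (∀ a ∈ A, a * a = 1) → Nat.card A = 32 →
    {v | ∀ a ∈ A, R.ρ a v = v}.ncard ≤ 16
  sing_card_le : ∀ S : Set V, (∀ u ∈ S, ∀ v ∈ S, u + v ∈ S) → (∀ v ∈ S, R.q v = 0) → S.ncard ≤ 64
  singfix_unique : ∀ (A B : Subgroup H) (S S' : Set V), (∀ a ∈ A, a * a = 1) → (∀ b ∈ B, b * b = 1) →
    Nat.card A = 16 → Nat.card B = 16 → IsSingFix R A S → IsSingFix R B S' → IsPGroup 2 ↥(A ⊔ B) →
    A = B ∧ S = S'
  singfix_rSub : IsSingFix R M.rSub {v | M.code v < 64}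

theorem stabFacts : M.StabFacts :=
  ⟨M.card_rSub, fun _ => M.fixesW_iff, fun _ => M.presW_iff, M.card_presW⟩

end Model

theorem bit_eq_zero {C : Type u} [Group C] {Q : Subgroup C} {a : Q} : bit a = 0 ↔ a = 1 := by
  unfold bit
  split
  next h => simp [h]
  next h => simp [h]

theorem elementary_map {G K : Type u} [Group G] [Group K] {A : Subgroup G} (hA : Cfsg.IsElementaryAbelian 2 A)
    (f : G →* K) : Cfsg.IsElementaryAbelian 2 (A.map f) := by
  refine ⟨⟨⟨fun a b => Subtype.ext ?_⟩⟩, ?_⟩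
  · obtain ⟨x, hx, hxe⟩ := Subgroup.mem_map.1 a.2
    obtain ⟨y, hy, hye⟩ := Subgroup.mem_map.1 b.2
    rw [Subgroup.coe_mul, Subgroup.coe_mul, ← hxe, ← hye, ← map_mul, ← map_mul]
    exact congrArg f (congrArg Subtype.val (hA.1.is_comm.comm ⟨x, hx⟩ ⟨y, hy⟩))
  · rintro _ ⟨x, hx, rfl⟩
    rw [← map_pow, hA.2 x hx, map_one]

variable {G : Type u} [Group G] [Finite G] {z : G} {P : Subgroup G}

/-- `z` as an element of its centraliser. -/
def zC (z : G) : CC z := ⟨z, Subgroup.mem_centralizer_singleton_iff.2 rfl⟩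

theorem zC_val (z : G) : ((zC z : CC z) : G) = z := rfl

theorem zC_comm (z : G) (c : CC z) : zC z * c = c * zC z :=
  Subtype.ext (Subgroup.mem_centralizer_singleton_iff.1 c.2).symm

namespace Ctx

variable (X : Ctx z P)

include X

/-- The extraspecial data. -/
theorem ext13 : Ext13 (QQ z) := ext13_of X.hyp

theorem orderOf_z : orderOf z = 2 := X.hyp.1

theorem zC_ne : zC z ≠ 1 := by
  intro h
  have h1 : z = 1 := congrArg Subtype.val h
  have h2 := X.orderOf_z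
  simp [h1] at h2

theorem zC_sq : zC z * zC z = 1 :=
  Subtype.ext (by
    show z * z = 1
    have h := pow_orderOf_eq_one z
    rw [X.orderOf_z, pow_two] at h
    exact h)

theorem zC_mem : zC z ∈ QQ z := by
  have h : z ∈ Cfsg.twoCoreOfCentralizer z ⊓ Subgroup.centralizer (P : Set G) := by
    rw [X.hyp.2.2.2.2.2.2.1]
    exact Subgroup.mem_zpowers z
  rw [Subgroup.mem_inf, ← map_QQ] at h
  obtain ⟨c, hc, he⟩ := h.1
  exact (show c = zC z from Subtype.ext he) ▸ hc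

theorem zQ_center : (⟨zC z, X.zC_mem⟩ : QQ z) ∈ Subgroup.center (QQ z) :=
  Subgroup.mem_center_iff.2 fun a => Subtype.ext (zC_comm z a).symm

theorem eq_one_or_z {a : QQ z} (ha : a ∈ Subgroup.center (QQ z)) : (a : CC z) = 1 ∨ (a : CC z) = zC z := by
  by_cases h : a = 1
  · exact Or.inl (congrArg Subtype.val h)
  · exact Or.inr (congrArg Subtype.val (X.ext13.two_center ha X.zQ_center h
      fun e => X.zC_ne (congrArg Subtype.val e)))

theorem exists_p : ∃ p : CC z, p ^ 3 = 1 ∧ QuotientGroup.mk' (QQ z) p = X.model.gens.t ∧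
    ∀ a ∈ QQ z, a * p = p * a → a = 1 ∨ a = zC z := by
  obtain ⟨-, -, -, -, ⟨N, -, hNC, -, -, -, hPN⟩, hP3, hfix, -, -⟩ := X.hyp
  have ht : X.model.gens.t ∈ (P.subgroupOf (CC z)).map (QuotientGroup.mk' (QQ z)) := by
    rw [X.t_P]; exact Subgroup.mem_zpowers _
  obtain ⟨p, hp, hpt⟩ := Subgroup.mem_map.1 ht
  have hp3 : p ^ 3 = 1 := by
    have hd : (⟨(p : G), hp⟩ : P) ^ 3 = 1 := by rw [← hP3]; exact pow_card_eq_one'
    apply Subtype.ext
    simpa using congrArg Subtype.val hd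
  have hp1 : (p : G) ≠ 1 := by
    intro e
    refine X.model.gens.t_ne ?_
    rw [← hpt, show p = 1 from Subtype.ext e, map_one]
  have hgen : Subgroup.zpowers (p : G) = P := by
    refine Subgroup.eq_of_le_of_card_ge (Subgroup.zpowers_le.2 hp) ?_
    have h3 : orderOf (p : G) = 3 :=
      orderOf_eq_prime (p := 3) (hp := ⟨Nat.prime_three⟩) (by simpa using congrArg Subtype.val hp3) hp1
    rw [Nat.card_zpowers, h3, hP3]
  refine ⟨p, hp3, hpt, fun a ha hap => ?_⟩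
  have hc : (a : G) ∈ Cfsg.twoCoreOfCentralizer z ⊓ Subgroup.centralizer (P : Set G) := by
    refine Subgroup.mem_inf.2 ⟨Subgroup.mem_map_of_mem (CC z).subtype ha, ?_⟩
    rw [← hgen, Subgroup.mem_centralizer_iff]
    intro x hx
    have hc : Commute (a : G) (p : G) := congrArg Subtype.val hap
    obtain ⟨n, rfl⟩ := Subgroup.mem_zpowers_iff.1 hx
    exact ((hc.zpow_right n).symm).eq
  rw [hfix] at hc
  obtain ⟨n, hn⟩ := Subgroup.mem_zpowers_iff.1 hc
  have hzz : z ^ (n % 2) = (a : G) := by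
    rw [← hn]
    have := zpow_mod_orderOf z n
    rw [X.orderOf_z] at this
    exact_mod_cast this
  rcases Int.emod_two_eq n with e | e <;> rw [e] at hzz
  · exact Or.inl (Subtype.ext (by simpa using hzz.symm))
  · exact Or.inr (Subtype.ext (show (a : G) = z by simpa using hzz.symm))

/-- An element of `C(z) / O_2(C(z))` commuting with `t` lifts to an element commuting with `p`. -/
theorem exists_lift {p : CC z} (hp3 : p ^ 3 = 1) {h : CC z ⧸ QQ z}
    (hpt : QuotientGroup.mk' (QQ z) p = X.model.gens.t) (hc : h * X.model.gens.t = X.model.gens.t * h) :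
    ∃ c : CC z, QuotientGroup.mk' (QQ z) c = h ∧ c * p = p * c := by
  classical
  let Fib := {c : CC z // QuotientGroup.mk' (QQ z) c = h}
  have hf : ∀ c : Fib, QuotientGroup.mk' (QQ z) (p * c * p⁻¹) = h := fun c => by
    rw [map_mul, map_mul, map_inv, c.2, hpt, ← hc, mul_inv_cancel_right]
  let f : Function.End Fib := fun c => ⟨p * c * p⁻¹, hf c⟩
  have hf3 : f ^ 3 ^ 1 = 1 := by
    funext c
    apply Subtype.ext
    show p * (p * (p * (c : CC z) * p⁻¹) * p⁻¹) * p⁻¹ = c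
    calc p * (p * (p * (c : CC z) * p⁻¹) * p⁻¹) * p⁻¹ = (p * p * p) * c * (p * p * p)⁻¹ := by group
      _ = c := by
        rw [show p * p * p = p ^ 3 by rw [pow_succ, pow_two], hp3]
        simp
  have : Fintype Fib := Fintype.ofFinite _
  have : Fact (Nat.Prime 3) := ⟨Nat.prime_three⟩
  have hmod := Equiv.Perm.card_fixedPoints_modEq (p := 3) hf3
  obtain ⟨c₀, hc₀⟩ := QuotientGroup.mk'_surjective (QQ z) h
  have hcard : Fintype.card Fib = 2 ^ 13 := by
    rw [← Nat.card_eq_fintype_card, ← X.ext13.card_Q]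
    refine Nat.card_congr
      { toFun := fun c => ⟨c₀⁻¹ * c, ?_⟩
        invFun := fun a => ⟨c₀ * a, ?_⟩
        left_inv := fun c => Subtype.ext (mul_inv_cancel_left _ _)
        right_inv := fun a => Subtype.ext (inv_mul_cancel_left _ _) }
    · rw [← QuotientGroup.eq]
      exact hc₀.trans c.2.symm
    · rw [map_mul, hc₀, show QuotientGroup.mk' (QQ z) (a : CC z) = 1 from (QuotientGroup.eq_one_iff _).2 a.2,
        mul_one]
  by_contra hno
  push Not at hno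
  have h0 : Fintype.card (Function.fixedPoints f) = 0 := by
    rw [Fintype.card_eq_zero_iff]
    refine ⟨fun c => hno c.1.1 c.1.2 ?_⟩
    have e : p * (c.1.1) * p⁻¹ = c.1.1 := congrArg Subtype.val c.2
    exact (mul_inv_eq_iff_eq_mul.1 e).symm
  rw [h0, hcard] at hmod
  exact absurd hmod (by decide)

theorem mem_Wc_iff {c : CC z} :
    c ∈ X.Wc ↔ ∃ h : c ∈ QQ z, X.model.code (pr (⟨c, h⟩ : QQ z)) < 64 := by
  constructor
  · rintro ⟨a, ha, rfl⟩
    refine ⟨a.2, ?_⟩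
    show X.model.code (pr a) < 64
    refine Subgroup.closure_induction (fun x hx => hx) ?_ (fun x y _ _ hx hy => ?_) (fun x _ hx => ?_) ha
    · rw [pr_one, X.model.code_zero]; norm_num
    · rw [pr_mul]; exact X.model.small_add hx hy
    · have h1 : pr x⁻¹ + pr x = 0 := by rw [← pr_mul, inv_mul_cancel, pr_one]
      have h2 : pr x⁻¹ = pr x := by
        have h3 := (ext13_of X.hyp).rep.two (pr x)
        exact add_right_cancel (h1.trans h3.symm)
      rw [h2]; exact hx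
  · rintro ⟨h, hc⟩
    exact ⟨⟨c, h⟩, Subgroup.subset_closure hc, rfl⟩

theorem Wc_le : X.Wc ≤ QQ z := fun _ hc => (X.mem_Wc_iff.1 hc).1

theorem Wc_sq {c : CC z} (hc : c ∈ X.Wc) : c * c = 1 := by
  obtain ⟨h, hlt⟩ := X.mem_Wc_iff.1 hc
  have e : qf (pr (⟨c, h⟩ : QQ z)) = 0 := X.model.small_q hlt
  rw [X.ext13.qf_pr, bit_eq_zero] at e
  exact congrArg Subtype.val e

theorem Wc_comm {c d : CC z} (hc : c ∈ X.Wc) (hd : d ∈ X.Wc) : c * d = d * c := by
  obtain ⟨h, hlt⟩ := X.mem_Wc_iff.1 hc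
  obtain ⟨h', hlt'⟩ := X.mem_Wc_iff.1 hd
  have e : bf (pr (⟨c, h⟩ : QQ z)) (pr (⟨d, h'⟩ : QQ z)) = 0 := X.model.small_b hlt hlt'
  rw [X.ext13.bf_pr, bit_eq_zero, commutatorElement_eq_one_iff_mul_comm] at e
  exact congrArg Subtype.val e

theorem mem_Wc_of_comm {c : CC z} (hc : c ∈ QQ z) (h : ∀ w ∈ X.Wc, c * w = w * c) : c ∈ X.Wc := by
  refine X.mem_Wc_iff.2 ⟨hc, X.model.small_perp fun v hv => ?_⟩
  obtain ⟨w, rfl⟩ := pr_surj v
  show bf (pr (⟨c, hc⟩ : QQ z)) (pr w) = 0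
  rw [X.ext13.bf_pr, bit_eq_zero, commutatorElement_eq_one_iff_mul_comm]
  exact Subtype.ext (h w (X.mem_Wc_iff.2 ⟨w.2, hv⟩))

theorem zC_mem_Wc : zC z ∈ X.Wc := by
  refine X.mem_Wc_iff.2 ⟨X.zC_mem, ?_⟩
  rw [(X.ext13.pr_eq_zero).2 X.zQ_center, X.model.code_zero]
  norm_num

theorem card_Wc : Nat.card X.Wc = 128 := by
  classical
  let φ : X.Wc →* Multiplicative (VQ (QQ z)) :=
    { toFun := fun c => Multiplicative.ofAdd (pr (⟨c, X.Wc_le c.2⟩ : QQ z))
      map_one' := congrArg Multiplicative.ofAdd pr_one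
      map_mul' := fun c d => congrArg Multiplicative.ofAdd (pr_mul (⟨c, X.Wc_le c.2⟩ : QQ z) ⟨d, X.Wc_le d.2⟩) }
  rw [← φ.ker.card_mul_index, Subgroup.index_ker]
  have hker : (φ.ker : Set X.Wc) = {1, ⟨zC z, X.zC_mem_Wc⟩} := by
    ext c
    constructor
    · intro hc
      have e : pr (⟨c, X.Wc_le c.2⟩ : QQ z) = 0 := congrArg Multiplicative.toAdd hc
      rcases X.eq_one_or_z ((X.ext13.pr_eq_zero).1 e) with h | h
      · exact Or.inl (Subtype.ext h)
      · exact Or.inr (Subtype.ext h)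
    · rintro (rfl | rfl)
      · exact φ.ker.one_mem
      · exact congrArg Multiplicative.ofAdd ((X.ext13.pr_eq_zero).2 X.zQ_center)
  have hrange : (φ.range : Set (Multiplicative (VQ (QQ z)))) =
      Multiplicative.ofAdd '' {v | X.model.code v < 64} := by
    ext v
    constructor
    · rintro ⟨c, rfl⟩
      exact ⟨_, (X.mem_Wc_iff.1 c.2).2, rfl⟩
    · rintro ⟨v, hv, rfl⟩
      obtain ⟨a, rfl⟩ := pr_surj v
      exact ⟨⟨a, X.mem_Wc_iff.2 ⟨a.2, hv⟩⟩, rfl⟩
  rw [← SetLike.coe_sort_coe φ.ker, Nat.card_coe_set_eq, hker, Set.ncard_pair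
      (fun e => X.zC_ne (congrArg Subtype.val e).symm),
    ← SetLike.coe_sort_coe φ.range, Nat.card_coe_set_eq, hrange,
    Set.ncard_image_of_injective _ Multiplicative.ofAdd.injective, X.model.ncard_small]

theorem mem_VV_iff {c : CC z} :
    c ∈ X.VV ↔ QuotientGroup.mk' (QQ z) c ∈ X.model.rSub ∧ ∀ w ∈ X.Wc, w * c = c * w :=
  ⟨fun h => ⟨h.1, Subgroup.mem_centralizer_iff.1 h.2⟩, fun h => ⟨h.1, Subgroup.mem_centralizer_iff.2 h.2⟩⟩

theorem Wc_le_VV : X.Wc ≤ X.VV := fun c hc => X.mem_VV_iff.2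
  ⟨by rw [show QuotientGroup.mk' (QQ z) c = 1 from (QuotientGroup.eq_one_iff c).2 (X.Wc_le hc)]
      exact X.model.rSub.one_mem, fun w hw => X.Wc_comm hw hc⟩

theorem mem_Wc_of_mem_VV {c : CC z} (hc : c ∈ X.VV) (hq : c ∈ QQ z) : c ∈ X.Wc :=
  X.mem_Wc_of_comm hq fun w hw => ((X.mem_VV_iff.1 hc).2 w hw).symm

/-- A lift of an element fixing `W` which commutes with `p` centralises `Wc`. -/
theorem comm_Wc_of_lift {p c : CC z} (hpt : QuotientGroup.mk' (QQ z) p = X.model.gens.t) (hcp : c * p = p * c)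
    (hfix : X.model.FixesW (QuotientGroup.mk' (QQ z) c)) {w : CC z} (hw : w ∈ X.Wc) : c * w = w * c := by
  have S := X.ext13
  let δ : QQ z → QQ z := fun a => cjQ c a * a⁻¹
  have hsmall : ∀ a : QQ z, X.model.code (pr a) < 64 → δ a ∈ Subgroup.center (QQ z) := by
    intro a ha
    have e : pr (cjQ c a) = pr a := (S.rep_apply c a).symm.trans (hfix _ ha)
    refine (S.pr_eq_zero).1 ?_
    show pr (cjQ c a * a⁻¹) = 0
    rw [pr_mul, e, ← pr_mul, mul_inv_cancel, pr_one]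
  have hmul : ∀ a b, X.model.code (pr b) < 64 → δ (a * b) = δ a * δ b := by
    intro a b hb
    have hk := Subgroup.mem_center_iff.1 (hsmall b hb) a⁻¹
    show cjQ c (a * b) * (a * b)⁻¹ = δ a * δ b
    rw [map_mul]
    calc cjQ c a * cjQ c b * (a * b)⁻¹ = cjQ c a * (δ b * a⁻¹) := by simp only [δ]; group
      _ = cjQ c a * (a⁻¹ * δ b) := by rw [hk]
      _ = _ := by simp only [δ]; group
  have hpδ : ∀ b : QQ z, cjQ p (δ b) = δ (cjQ p b) := by
    intro b
    apply Subtype.ext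
    simp only [δ, cjQ_val, Subgroup.coe_mul, Subgroup.coe_inv]
    calc p * (c * b * c⁻¹ * (b : CC z)⁻¹) * p⁻¹ = (p * c) * b * (p * c)⁻¹ * (p * (b : CC z) * p⁻¹)⁻¹ := by group
      _ = _ := by rw [← hcp]; group
  obtain ⟨hwQ, hlt⟩ := X.mem_Wc_iff.1 hw
  set a : QQ z := ⟨w, hwQ⟩ with ha
  obtain ⟨u, hu, he⟩ := X.model.exists_t_add hlt
  obtain ⟨b, rfl⟩ := pr_surj u
  have hrep : (ext13_of X.hyp).rep.ρ X.model.gens.t (pr b) = pr (cjQ p b) := by
    rw [← hpt]; exact S.rep_apply p b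
  rw [hrep, ← pr_mul] at he
  have hpb : X.model.code (pr (cjQ p b)) < 64 := hrep ▸ X.model.t_small hu
  have hd : δ (cjQ p b) = δ b := by rw [← hpδ, S.cjQ_center p (hsmall b hu)]
  obtain ⟨k, hk, hak⟩ : ∃ k ∈ Subgroup.center (QQ z), a = cjQ p b * b * k :=
    ⟨_, (S.pr_eq_iff).1 he, (mul_inv_cancel_left (cjQ p b * b) a).symm⟩
  have hksmall : X.model.code (pr k) < 64 := by
    rw [(S.pr_eq_zero).2 hk, X.model.code_zero]; norm_num
  have hk1 : δ k = 1 := by
    show cjQ c k * k⁻¹ = 1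
    rw [S.cjQ_center c hk, mul_inv_cancel]
  have h2 : δ b * δ b = 1 := by
    rw [← sq]; exact CfsgLib.PGroup.extraspecial_center_pow_eq_one S.extra (hsmall b hu)
  have hδa : δ a = 1 := by rw [hak, hmul _ _ hksmall, hmul _ _ hu, hk1, hd, h2, mul_one]
  have e : c * w * c⁻¹ * w⁻¹ = 1 := congrArg Subtype.val hδa
  rw [← commutatorElement_def, commutatorElement_eq_one_iff_mul_comm] at e
  exact e

variable (hS : X.model.StabFacts)

include hS

/-- Elements over `rSub` which commute with `p` and square to one, pairwise commuting. -/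
theorem exists_inv_lifts : ∃ T : Subgroup (CC z), (∀ s ∈ T, ∀ t ∈ T, s * t = t * s) ∧ (∀ t ∈ T, t * t = 1) ∧
    (∀ t ∈ T, ∀ w ∈ X.Wc, t * w = w * t) ∧ (∀ t ∈ T, QuotientGroup.mk' (QQ z) t ∈ X.model.rSub) ∧
    ∀ r ∈ X.model.rSub, ∃ t ∈ T, QuotientGroup.mk' (QQ z) t = r := by
  obtain ⟨p, hp3, hpt, hpz⟩ := X.exists_p
  let L : Subgroup (CC z) := Subgroup.centralizer {p}
  let π₀ : L →* CC z ⧸ QQ z := (QuotientGroup.mk' (QQ z)).comp L.subtype
  have hL : ∀ l : L, (l : CC z) * p = p * l := fun l => Subgroup.mem_centralizer_singleton_iff.1 l.2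
  have hzL : zC z ∈ L := Subgroup.mem_centralizer_singleton_iff.2 (zC_comm z p)
  have hrange : ∀ h, h * X.model.gens.t = X.model.gens.t * h → h ∈ π₀.range := by
    intro h hh
    obtain ⟨c, hc, hcp⟩ := X.exists_lift hp3 hpt hh
    exact ⟨⟨c, Subgroup.mem_centralizer_singleton_iff.2 hcp⟩, hc⟩
  have hk : ∀ k : L, π₀ k = 1 → (k : CC z) = 1 ∨ (k : CC z) = zC z := fun k hk =>
    hpz _ ((QuotientGroup.eq_one_iff _).1 hk) (hL k)
  have hker : KernelSix π₀.rangeRestrict (⟨zC z, hzL⟩ : L) := by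
    have hk' : ∀ k : L, π₀.rangeRestrict k = 1 → k = 1 ∨ k = ⟨zC z, hzL⟩ := fun k e => by
      rcases hk k (congrArg Subtype.val e) with h | h
      · exact Or.inl (Subtype.ext h)
      · exact Or.inr (Subtype.ext h)
    refine ⟨π₀.rangeRestrict_surjective, fun e => X.zC_ne (congrArg Subtype.val e),
      Subtype.ext X.zC_sq, Subtype.ext ((QuotientGroup.eq_one_iff _).2 X.zC_mem), fun k e l => ?_, fun k e => ?_,
      fun k e _ => hk' k e⟩
    · rcases hk' k e with rfl | rfl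
      · simp
      · exact Subtype.ext (zC_comm z l)
    · rcases hk' k e with rfl | rfl
      · simp
      · rw [show (6 : ℕ) = 2 * 3 from rfl, pow_mul, pow_two,
          show (⟨zC z, hzL⟩ : L) * ⟨zC z, hzL⟩ = 1 from Subtype.ext X.zC_sq, one_pow]
  let Y : Subgroup π₀.range := X.model.rSub.subgroupOf π₀.range
  have hYle : X.model.rSub ≤ π₀.range := fun r hr => hrange r (X.model.rSub_comm_t hr)
  have hcard : 4 < Nat.card Y := by
    show 4 < Nat.card ↥(X.model.rSub.subgroupOf π₀.range)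
    rw [Nat.card_congr (Subgroup.subgroupOfEquivOfLe hYle).toEquiv, hS.card_rSub]
    norm_num
  have htr : ∀ x ∈ Y, x ≠ 1 → ∀ y ∈ Y, y ≠ 1 → ∃ g, g * x * g⁻¹ = y := by
    intro x hx hx1 y hy hy1
    obtain ⟨a, ha, hax⟩ := X.model.rSub_transitive hx fun e => hx1 (Subtype.ext e)
    obtain ⟨b, hb, hby⟩ := X.model.rSub_transitive hy fun e => hy1 (Subtype.ext e)
    refine ⟨⟨b * a⁻¹, mul_mem (hrange b (X.model.ac_comm_t hb))
      (inv_mem (hrange a (X.model.ac_comm_t ha)))⟩, Subtype.ext ?_⟩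
    rw [Subgroup.subtype_apply] at hax hby
    show b * a⁻¹ * (x : CC z ⧸ QQ z) * (b * a⁻¹)⁻¹ = y
    rw [← hax, ← hby]
    group
  obtain ⟨T, hTmem, hTc, -, hTs, -⟩ :=
    hker.exists_elementary_lift (X := Y) (fun x hx => Subtype.ext (X.model.rSub_sq hx)) hcard htr
  refine ⟨T.map L.subtype, ?_, ?_, ?_, ?_, fun r hr => ?_⟩
  · rintro _ ⟨s, hs, rfl⟩ _ ⟨t, ht, rfl⟩
    exact congrArg Subtype.val (hTc s hs t ht)
  · rintro _ ⟨t, ht, rfl⟩
    exact congrArg Subtype.val ((hTmem t).1 ht).2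
  · rintro _ ⟨t, ht, rfl⟩ w hw
    exact X.comm_Wc_of_lift hpt (hL t) ((hS.fixesW_iff _).2 ((hTmem t).1 ht).1) hw
  · rintro _ ⟨t, ht, rfl⟩
    exact ((hTmem t).1 ht).1
  · obtain ⟨t, ht, he⟩ := hTs ⟨r, hYle hr⟩ hr
    exact ⟨t, Subgroup.mem_map_of_mem L.subtype ht, congrArg Subtype.val he⟩

theorem VV_decomp : ∃ T : Subgroup (CC z), (∀ s ∈ T, ∀ t ∈ T, s * t = t * s) ∧ (∀ t ∈ T, t * t = 1) ∧
    (∀ t ∈ T, ∀ w ∈ X.Wc, t * w = w * t) ∧ T ≤ X.VV ∧
    (∀ c ∈ X.VV, ∃ t ∈ T, ∃ w ∈ X.Wc, c = t * w) ∧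
    ∀ r ∈ X.model.rSub, ∃ t ∈ T, QuotientGroup.mk' (QQ z) t = r := by
  obtain ⟨T, hc, hs, hw, hr, hsur⟩ := X.exists_inv_lifts hS
  have hT : T ≤ X.VV := fun t ht => X.mem_VV_iff.2 ⟨hr t ht, fun w hw' => (hw t ht w hw').symm⟩
  refine ⟨T, hc, hs, hw, hT, fun c hcV => ?_, hsur⟩
  obtain ⟨t, ht, he⟩ := hsur _ (X.mem_VV_iff.1 hcV).1
  refine ⟨t, ht, t⁻¹ * c, X.mem_Wc_of_mem_VV (mul_mem (inv_mem (hT ht)) hcV) ?_, (mul_inv_cancel_left t c).symm⟩
  rw [← QuotientGroup.eq]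
  exact he

theorem VV_sq {c : CC z} (hc : c ∈ X.VV) : c * c = 1 := by
  obtain ⟨T, -, hs, hw, -, hdec, -⟩ := X.VV_decomp hS
  obtain ⟨t, ht, w, hwW, rfl⟩ := hdec c hc
  calc t * w * (t * w) = t * (w * t) * w := by group
    _ = t * t * (w * w) := by rw [← hw t ht w hwW]; group
    _ = 1 := by rw [hs t ht, X.Wc_sq hwW, one_mul]

theorem VV_comm {c d : CC z} (hc : c ∈ X.VV) (hd : d ∈ X.VV) : c * d = d * c := by
  have hi : ∀ x ∈ X.VV, x⁻¹ = x := fun x hx => inv_eq_of_mul_eq_one_right (X.VV_sq hS hx)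
  have h := hi _ (mul_mem hc hd)
  rw [mul_inv_rev, hi c hc, hi d hd] at h
  exact h.symm

theorem card_VV : Nat.card X.VV = 2048 := by
  classical
  obtain ⟨T, -, -, -, hT, -, hsur⟩ := X.VV_decomp hS
  let φ : X.VV →* X.model.rSub :=
    ((QuotientGroup.mk' (QQ z)).comp X.VV.subtype).codRestrict _ fun c => (X.mem_VV_iff.1 c.2).1
  have hsurj : Function.Surjective φ := fun r => by
    obtain ⟨t, ht, he⟩ := hsur r r.2
    exact ⟨⟨t, hT ht⟩, Subtype.ext he⟩
  rw [← φ.ker.card_mul_index, Subgroup.index_ker, MonoidHom.range_eq_top.2 hsurj, Subgroup.card_top,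
    hS.card_rSub]
  have hker : φ.ker = X.Wc.subgroupOf X.VV := by
    ext c
    rw [MonoidHom.mem_ker, Subgroup.mem_subgroupOf]
    constructor
    · intro hc
      exact X.mem_Wc_of_mem_VV c.2 ((QuotientGroup.eq_one_iff _).1 (congrArg Subtype.val hc))
    · intro hc
      exact Subtype.ext ((QuotientGroup.eq_one_iff _).2 (X.Wc_le hc))
  rw [hker, Nat.card_congr (Subgroup.subgroupOfEquivOfLe X.Wc_le_VV).toEquiv, X.card_Wc]

theorem zC_mem_VV : zC z ∈ X.VV := X.Wc_le_VV X.zC_mem_Wc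

theorem mem_VV_of_comm_Wc {c : CC z} (h : ∀ w ∈ X.Wc, w * c = c * w) : c ∈ X.VV := by
  refine X.mem_VV_iff.2 ⟨(hS.fixesW_iff _).1 fun v hv => ?_, h⟩
  obtain ⟨a, rfl⟩ := pr_surj v
  refine (X.ext13.rep_apply c a).trans (congrArg pr (Subtype.ext ?_))
  rw [cjQ_val, mul_inv_eq_iff_eq_mul]
  exact (h a (X.mem_Wc_iff.2 ⟨a.2, hv⟩)).symm

theorem z_mem_Vg : z ∈ X.Vg := ⟨zC z, X.zC_mem_VV hS, rfl⟩

theorem card_Vg : Nat.card X.Vg = 2048 :=
  (Subgroup.card_map_of_injective (CC z).subtype_injective).trans (X.card_VV hS)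

theorem Vg_elementary : Cfsg.IsElementaryAbelian 2 X.Vg := by
  refine ⟨?_, ?_⟩
  · refine ⟨⟨fun a b => Subtype.ext ?_⟩⟩
    obtain ⟨c, hc, e⟩ := Subgroup.mem_map.1 a.2
    obtain ⟨d, hd, e'⟩ := b.2
    rw [Subgroup.coe_mul, Subgroup.coe_mul, ← e, ← e']
    exact congrArg Subtype.val (X.VV_comm hS hc hd)
  · rintro _ ⟨c, hc, rfl⟩
    rw [pow_two]
    exact congrArg Subtype.val (X.VV_sq hS hc)

theorem centralizer_Vg_le : Subgroup.centralizer (X.Vg : Set G) ≤ X.Vg := by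
  intro g hg
  rw [Subgroup.mem_centralizer_iff] at hg
  have hgC : g ∈ CC z := Subgroup.mem_centralizer_singleton_iff.2 (hg z (X.z_mem_Vg hS)).symm
  refine ⟨⟨g, hgC⟩, X.mem_VV_of_comm_Wc hS fun w hw => Subtype.ext ?_, rfl⟩
  exact hg _ ⟨w, X.Wc_le_VV hw, rfl⟩

theorem norm_iff (c : CC z) :
    (c : G) ∈ Subgroup.normalizer (X.Vg : Set G) ↔ X.model.PresW (QuotientGroup.mk' (QQ z) c) := by
  constructor
  · intro hn v
    obtain ⟨a, rfl⟩ := pr_surj v
    have key : ∀ d : CC z, (d : G) ∈ Subgroup.normalizer (X.Vg : Set G) → ∀ a : QQ z,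
        X.model.code (pr a) < 64 → X.model.code (pr (cjQ d a)) < 64 := by
      intro d hd a ha
      obtain ⟨e, he, hed⟩ := (Subgroup.mem_normalizer_iff.1 hd ((a : CC z) : G)).1
        ⟨a, X.Wc_le_VV (X.mem_Wc_iff.2 ⟨a.2, ha⟩), rfl⟩
      have he' : e = ((cjQ d a : QQ z) : CC z) := Subtype.ext hed
      obtain ⟨_, h⟩ := X.mem_Wc_iff.1 (X.mem_Wc_of_mem_VV he (he' ▸ (cjQ d a).2))
      subst he'
      exact h
    have e : (ext13_of X.hyp).rep.ρ (QuotientGroup.mk' (QQ z) c) (pr a) = pr (cjQ c a) := X.ext13.rep_apply c a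
    rw [e]
    refine ⟨key c hn a, fun h => ?_⟩
    have h' := key c⁻¹ (inv_mem hn) (cjQ c a) h
    have e2 : cjQ c⁻¹ (cjQ c a) = a := Subtype.ext (by simp [cjQ_val, mul_assoc])
    rwa [e2] at h'
  · intro hp
    refine Subgroup.mem_normalizer_iff_map_conj_eq.2 ?_
    refine Subgroup.eq_of_le_of_card_ge ?_ (by rw [Subgroup.card_map_of_injective (MulEquiv.injective _)])
    rintro _ ⟨_, ⟨x, hx, rfl⟩, rfl⟩
    refine ⟨c * x * c⁻¹, X.mem_VV_iff.2 ⟨?_, fun w hw => ?_⟩, rfl⟩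
    · rw [map_mul, map_mul, map_inv, ← hS.fixesW_iff]
      exact X.model.presW_conj_fixes hp ((hS.fixesW_iff _).2 (X.mem_VV_iff.1 hx).1)
    · have hw' : c⁻¹ * w * c ∈ X.Wc := by
        obtain ⟨hq, hlt⟩ := X.mem_Wc_iff.1 hw
        have e : ((cjQ c⁻¹ (⟨w, hq⟩ : QQ z) : QQ z) : CC z) = c⁻¹ * w * c := by simp [cjQ_val]
        rw [← e]
        refine X.mem_Wc_iff.2 ⟨(cjQ c⁻¹ _).2, ?_⟩
        have h2 := Model.PresW.inv_small X.model hp hlt
        rw [← map_inv] at h2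
        rw [show (ext13_of X.hyp).rep.ρ (QuotientGroup.mk' (QQ z) c⁻¹) (pr (⟨w, hq⟩ : QQ z)) =
          pr (cjQ c⁻¹ (⟨w, hq⟩ : QQ z)) from X.ext13.rep_apply _ _] at h2
        exact h2
      have h3 := (X.mem_VV_iff.1 hx).2 _ hw'
      calc w * (c * x * c⁻¹) = c * ((c⁻¹ * w * c) * x) * c⁻¹ := by group
        _ = c * x * c⁻¹ * w := by rw [h3]; group

theorem card_normalizer :
    Nat.card ↥(Subgroup.normalizer (X.Vg : Set G) ⊓ CC z) = 2048 * 138240 := by
  have he : Subgroup.normalizer (X.Vg : Set G) ⊓ CC z =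
      (X.model.stabSub.comap (QuotientGroup.mk' (QQ z))).map (CC z).subtype := by
    ext g
    constructor
    · rintro ⟨hn, hg⟩
      exact ⟨⟨g, hg⟩, (hS.presW_iff _).1 ((X.norm_iff hS ⟨g, hg⟩).1 hn), rfl⟩
    · rintro ⟨c, hc, rfl⟩
      exact ⟨(X.norm_iff hS c).2 ((hS.presW_iff _).2 hc), c.2⟩
  let φ := (QuotientGroup.mk' (QQ z)).subgroupComap X.model.stabSub
  rw [he, Subgroup.card_map_of_injective (CC z).subtype_injective, ← φ.ker.card_mul_index,
    Subgroup.index_ker, MonoidHom.range_eq_top.2 ((QuotientGroup.mk' (QQ z)).subgroupComap_surjective_of_surjective _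
      (QuotientGroup.mk'_surjective _)), Subgroup.card_top, hS.card_stab]
  have hk : φ.ker = (QQ z).subgroupOf (X.model.stabSub.comap (QuotientGroup.mk' (QQ z))) := by
    ext c
    rw [MonoidHom.mem_ker, Subgroup.mem_subgroupOf, Subtype.ext_iff]
    exact QuotientGroup.eq_one_iff _
  have hQle : QQ z ≤ X.model.stabSub.comap (QuotientGroup.mk' (QQ z)) := fun c hc => by
    rw [Subgroup.mem_comap, show QuotientGroup.mk' (QQ z) c = 1 from (QuotientGroup.eq_one_iff c).2 hc]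
    exact one_mem _
  rw [hk, Nat.card_congr (Subgroup.subgroupOfEquivOfLe hQle).toEquiv, X.ext13.card_Q]
  norm_num

omit hS

theorem exists_sylow : ∃ S : Sylow 2 G, (S : Subgroup G) ≤ CC z ∧
    ∀ T : Subgroup G, IsPGroup 2 T → T ≤ CC z → ∃ g ∈ CC z, T.map (MulAut.conj g).toMonoidHom ≤ S := by
  have : Fact (Nat.Prime 2) := ⟨Nat.prime_two⟩
  obtain ⟨T₀⟩ := (inferInstance : Nonempty (Sylow 2 (CC z)))
  have hQ2 : IsPGroup 2 (QQ z) := IsPGroup.of_card (n := 13) X.ext13.card_Q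
  have hQT : QQ z ≤ (T₀ : Subgroup (CC z)) := by
    obtain ⟨S₁, hS₁⟩ := hQ2.exists_le_sylow
    obtain ⟨c, rfl⟩ := MulAction.exists_smul_eq (CC z) S₁ T₀
    rw [Sylow.coe_subgroup_smul]
    intro x hx
    rw [Subgroup.mem_pointwise_smul_iff_inv_smul_mem]
    exact hS₁ (by simpa [MulAut.smul_def] using (inferInstance : (QQ z).Normal).conj_mem x hx c⁻¹)
  let T := (T₀ : Subgroup (CC z)).map (CC z).subtype
  have hTp : IsPGroup 2 T := T₀.2.map _
  obtain ⟨S, hTS⟩ := hTp.exists_le_sylow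
  -- an element of the Sylow subgroup normalising `T` centralises `z`
  have hkey : ∀ x ∈ (S : Subgroup G), x ∈ Subgroup.normalizer (T : Set G) → x ∈ T := by
    intro x hxS hxn
    have hzT : z ∈ T := ⟨zC z, hQT X.zC_mem, rfl⟩
    obtain ⟨d, hd, hde⟩ := (Subgroup.mem_normalizer_iff.1 hxn z).1 hzT
    have hdc : d ∈ Subgroup.centralizer (QQ z : Set (CC z)) := by
      rw [Subgroup.mem_centralizer_iff]
      intro a ha
      apply Subtype.ext
      obtain ⟨b, hb, hbe⟩ := (Subgroup.mem_normalizer_iff.1 (inv_mem hxn) ((a : CC z) : G)).1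
        ⟨a, hQT ha, rfl⟩
      have h1 : (b : G) * z = z * b := Subgroup.mem_centralizer_singleton_iff.1 b.2
      have hde' : (d : G) = x * z * x⁻¹ := hde
      have hbe' : (b : G) = x⁻¹ * (a : G) * x⁻¹⁻¹ := hbe
      show ((a : CC z) : G) * (d : G) = (d : G) * ((a : CC z) : G)
      rw [hde']
      have ha' : (a : G) = x * b * x⁻¹ := by rw [hbe']; group
      rw [ha']
      calc x * b * x⁻¹ * (x * z * x⁻¹) = x * (b * z) * x⁻¹ := by group
        _ = x * z * x⁻¹ * (x * b * x⁻¹) := by rw [h1]; group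
    have hdQ := X.ext13.selfCent hdc
    have hdZ : (⟨d, hdQ⟩ : QQ z) ∈ Subgroup.center (QQ z) := Subgroup.mem_center_iff.2 fun a =>
      Subtype.ext (Subgroup.mem_centralizer_iff.1 hdc a a.2)
    rcases X.eq_one_or_z hdZ with h | h
    · exfalso
      have h1 : d = 1 := h
      have : x * z * x⁻¹ = 1 := by rw [← hde, h1]; rfl
      exact X.zC_ne (Subtype.ext (conj_eq_one_iff.1 this))
    · have h1 : d = zC z := h
      have hxz : x * z * x⁻¹ = z := by rw [← hde, h1]; rfl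
      have hxC : x ∈ CC z := Subgroup.mem_centralizer_singleton_iff.2 (mul_inv_eq_iff_eq_mul.1 hxz)
      have hle : (T₀ : Subgroup (CC z)) ≤ (S : Subgroup G).subgroupOf (CC z) := fun c hc =>
        Subgroup.mem_subgroupOf.2 (hTS ⟨c, hc, rfl⟩)
      have hp : IsPGroup 2 ↥((S : Subgroup G).subgroupOf (CC z)) :=
        S.2.comap_of_injective (CC z).subtype (CC z).subtype_injective
      have := T₀.3 hp hle
      exact ⟨⟨x, hxC⟩, this ▸ (Subgroup.mem_subgroupOf.2 hxS), rfl⟩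
  have hST : (S : Subgroup G) = T := by
    refine le_antisymm (fun x hx => ?_) hTS
    by_contra hxT
    have hlt : T.subgroupOf (S : Subgroup G) < ⊤ := lt_top_iff_ne_top.2 fun e =>
      hxT (Subgroup.mem_subgroupOf.1 (e ▸ Subgroup.mem_top (⟨x, hx⟩ : (S : Subgroup G))))
    have : Group.IsNilpotent ↥(S : Subgroup G) := S.2.isNilpotent
    obtain ⟨⟨y, hy⟩, hyn, hyT⟩ := SetLike.exists_of_lt (Group.normalizerCondition_of_isNilpotent _ hlt)
    refine hyT (Subgroup.mem_subgroupOf.2 (hkey y hy ?_))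
    refine Subgroup.mem_normalizer_iff_map_conj_eq.2 ?_
    have hcT : Nat.card (T.map (MulAut.conj y).toMonoidHom) = Nat.card T :=
      Subgroup.card_map_of_injective (MulAut.conj y).injective
    refine Subgroup.eq_of_le_of_card_ge ?_ hcT.ge
    rintro _ ⟨w, hw, rfl⟩
    exact Subgroup.mem_subgroupOf.1
      ((Subgroup.mem_normalizer_iff.1 hyn ⟨w, hTS hw⟩).1 (Subgroup.mem_subgroupOf.2 hw))
  refine ⟨S, hST ▸ Subgroup.map_subtype_le _, fun U hU hUC => ?_⟩
  obtain ⟨U₀, hU₀⟩ := (hU.comap_of_injective (CC z).subtype (CC z).subtype_injective).exists_le_sylow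
  obtain ⟨c, hc⟩ := MulAction.exists_smul_eq (CC z) U₀ T₀
  refine ⟨c, c.2, ?_⟩
  rw [hST]
  rintro _ ⟨u, hu, rfl⟩
  refine ⟨c * ⟨u, hUC hu⟩ * c⁻¹, ?_, rfl⟩
  rw [← hc, Sylow.coe_subgroup_smul]
  exact Subgroup.smul_mem_pointwise_smul _ (MulAut.conj c) _ (hU₀ hu)

variable (hE : X.model.ElemFacts)

include hS hE

/-- An elementary abelian subgroup of order `2^11` in a 2-group with `VV` is `VV`. -/
theorem eq_VV {A T : Subgroup (CC z)} (hT : IsPGroup 2 T) (hAT : A ≤ T) (hVT : X.VV ≤ T)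
    (hcard : Nat.card A = 2048) (hsq : ∀ a ∈ A, a * a = 1) (hcomm : ∀ a ∈ A, ∀ b ∈ A, a * b = b * a) :
    A = X.VV := by
  classical
  have : Fact (Nat.Prime 2) := ⟨Nat.prime_two⟩
  let mk := QuotientGroup.mk' (QQ z)
  let Ab : Subgroup (CC z ⧸ QQ z) := A.map mk
  let A₀ : Subgroup (CC z) := A ⊓ QQ z
  have hAbsq : ∀ h ∈ Ab, h * h = 1 := by
    rintro _ ⟨a, ha, rfl⟩
    rw [← map_mul, hsq a ha, map_one]
  -- cardinalities
  have hprod : Nat.card A₀ * Nat.card Ab = 2048 := by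
    let φ : A →* CC z ⧸ QQ z := mk.comp A.subtype
    rw [← hcard, ← φ.ker.card_mul_index, Subgroup.index_ker]
    have hk : φ.ker = A₀.subgroupOf A := by
      ext a
      rw [MonoidHom.mem_ker, Subgroup.mem_subgroupOf, Subgroup.mem_inf]
      exact ⟨fun h => ⟨a.2, (QuotientGroup.eq_one_iff _).1 h⟩, fun h => (QuotientGroup.eq_one_iff _).2 h.2⟩
    have hr : φ.range = Ab := by
      rw [MonoidHom.range_comp, Subgroup.range_subtype]
    rw [hk, hr, Nat.card_congr (Subgroup.subgroupOfEquivOfLe (inf_le_left : A₀ ≤ A)).toEquiv]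
  let S : Set (VQ (QQ z)) := {v | ∃ a : QQ z, (a : CC z) ∈ A ∧ pr a = v}
  have hSadd : ∀ u ∈ S, ∀ v ∈ S, u + v ∈ S := by
    rintro _ ⟨a, ha, rfl⟩ _ ⟨b, hb, rfl⟩
    exact ⟨a * b, mul_mem ha hb, pr_mul a b⟩
  have hSq : ∀ v ∈ S, (ext13_of X.hyp).rep.q v = 0 := by
    rintro _ ⟨a, ha, rfl⟩
    show qf (pr a) = 0
    rw [X.ext13.qf_pr, bit_eq_zero]
    exact Subtype.ext (hsq a ha)
  have hSfix : ∀ h ∈ Ab, ∀ v ∈ S, (ext13_of X.hyp).rep.ρ h v = v := by
    rintro _ ⟨c, hc, rfl⟩ _ ⟨a, ha, rfl⟩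
    refine (X.ext13.rep_apply c a).trans (congrArg pr (Subtype.ext ?_))
    rw [cjQ_val, mul_inv_eq_iff_eq_mul]
    exact hcomm c hc a ha
  have hA₀ : Nat.card A₀ ≤ 2 * S.ncard := by
    let φ : A₀ →* Multiplicative (VQ (QQ z)) :=
      { toFun := fun c => Multiplicative.ofAdd (pr (⟨c, c.2.2⟩ : QQ z))
        map_one' := congrArg Multiplicative.ofAdd pr_one
        map_mul' := fun c d => congrArg Multiplicative.ofAdd (pr_mul (⟨c, c.2.2⟩ : QQ z) ⟨d, d.2.2⟩) }
    rw [← φ.ker.card_mul_index, Subgroup.index_ker]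
    refine Nat.mul_le_mul ?_ ?_
    · have hsub : (φ.ker : Set A₀) ⊆ (fun a : A₀ => (a : CC z)) ⁻¹' {1, zC z} := fun c hc => by
        have e : pr (⟨c, c.2.2⟩ : QQ z) = 0 := congrArg Multiplicative.toAdd hc
        rcases X.eq_one_or_z ((X.ext13.pr_eq_zero).1 e) with h | h
        · exact Or.inl h
        · exact Or.inr h
      rw [← SetLike.coe_sort_coe φ.ker, Nat.card_coe_set_eq]
      refine (Set.ncard_le_ncard hsub).trans ?_
      refine le_trans ?_ ((Set.ncard_insert_le (1 : CC z) {zC z}).trans (by simp))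
      exact Set.ncard_le_ncard_of_injOn (fun a : A₀ => (a : CC z)) (fun a ha => ha) (fun a _ b _ e => Subtype.ext e)
    · rw [← SetLike.coe_sort_coe φ.range, Nat.card_coe_set_eq,
        ← Set.ncard_image_of_injective S Multiplicative.ofAdd.injective]
      refine Set.ncard_le_ncard ?_
      rintro _ ⟨c, rfl⟩
      exact ⟨_, ⟨⟨c, c.2.2⟩, c.2.1, rfl⟩, rfl⟩
  have hS64 : S.ncard ≤ 64 := hE.sing_card_le S hSadd hSq
  have hAb32 : Nat.card Ab ≤ 32 := hE.elem_card_le Ab hAbsq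
  have hne32 : Nat.card Ab ≠ 32 := by
    intro h
    have hle : S.ncard ≤ 16 :=
      (Set.ncard_le_ncard (fun v hv a ha => hSfix a ha v hv)).trans (hE.elem_five_fix Ab hAbsq h)
    nlinarith
  have hAb16 : Nat.card Ab = 16 := by
    have hd : Nat.card Ab ∣ 2 ^ 11 := ⟨Nat.card A₀, by rw [mul_comm, hprod]; norm_num⟩
    obtain ⟨k, hk, hk'⟩ := (Nat.dvd_prime_pow Nat.prime_two).1 hd
    have h16 : 16 ≤ Nat.card Ab := by nlinarith
    rw [hk'] at h16 hAb32 hne32 ⊢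
    interval_cases k <;> omega
  have hA₀128 : Nat.card A₀ = 128 := by rw [hAb16] at hprod; omega
  have hSing : IsSingFix (ext13_of X.hyp).rep Ab S := ⟨by omega, hSadd, hSfix, hSq⟩
  have hp : IsPGroup 2 ↥(Ab ⊔ X.model.rSub) := by
    refine (hT.map mk).to_le (sup_le (Subgroup.map_mono hAT) fun r hr => ?_)
    obtain ⟨U, -, -, -, hUV, -, hsur⟩ := X.VV_decomp hS
    obtain ⟨t, ht, rfl⟩ := hsur r hr
    exact Subgroup.mem_map_of_mem mk (hVT (hUV ht))
  obtain ⟨-, hSeq⟩ := hE.singfix_unique Ab X.model.rSub S {v | X.model.code v < 64} hAbsq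
    (fun h hh => X.model.rSub_sq hh) hAb16 hS.card_rSub hSing hE.singfix_rSub hp
  have hle : A₀ ≤ X.Wc := fun c hc => X.mem_Wc_iff.2 ⟨hc.2, by
    have h : pr (⟨c, hc.2⟩ : QQ z) ∈ S := ⟨_, hc.1, rfl⟩
    rw [hSeq] at h
    exact h⟩
  have heq : A₀ = X.Wc := Subgroup.eq_of_le_of_card_ge hle (by rw [X.card_Wc, hA₀128])
  refine Subgroup.eq_of_le_of_card_ge (fun c hc => X.mem_VV_of_comm_Wc hS fun w hw => ?_)
    (by rw [X.card_VV hS, hcard])
  exact hcomm w ((heq ▸ hw : w ∈ A₀).1) c hc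

/-- **Uniqueness of the elementary abelian subgroup of order `2^11` in a Sylow 2-subgroup.** -/
theorem vg_unique (T : Sylow 2 G) :
    ∃! V : Subgroup G, V ≤ (T : Subgroup G) ∧ Cfsg.IsElementaryAbelian 2 V ∧ Nat.card V = 2 ^ 11 := by
  classical
  have : Fact (Nat.Prime 2) := ⟨Nat.prime_two⟩
  obtain ⟨S, hSC, hin⟩ := X.exists_sylow
  have hV2 : IsPGroup 2 X.Vg := IsPGroup.of_card (n := 11) (by rw [X.card_Vg hS]; norm_num)
  obtain ⟨g₀, hg₀, hVS⟩ := hin X.Vg hV2 (Subgroup.map_subtype_le _)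
  obtain ⟨g, hg⟩ := MulAction.exists_smul_eq G S T
  let e : G ≃* G := MulAut.conj g
  have hTS : (T : Subgroup G) = (S : Subgroup G).map e.toMonoidHom := by
    rw [← hg, Sylow.coe_subgroup_smul]; rfl
  let V₁ := (X.Vg.map (MulAut.conj g₀).toMonoidHom)
  -- every candidate inside `S` is the transported one
  have huniq : ∀ A : Subgroup G, A ≤ S → Cfsg.IsElementaryAbelian 2 A → Nat.card A = 2 ^ 11 → A = V₁ := by
    intro A hAS hAe hAc
    let c₀ : CC z := ⟨g₀, hg₀⟩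
    let φ := (MulAut.conj c₀⁻¹).toMonoidHom
    let A' : Subgroup (CC z) := (A.subgroupOf (CC z)).map φ
    let T' : Subgroup (CC z) := ((S : Subgroup G).subgroupOf (CC z)).map φ
    have hA'c : Nat.card A' = 2048 := by
      rw [Subgroup.card_map_of_injective (MulEquiv.injective _),
        Nat.card_congr (Subgroup.subgroupOfEquivOfLe (hAS.trans hSC)).toEquiv, hAc]
      norm_num
    have hsq : ∀ a ∈ A', a * a = 1 := by
      rintro _ ⟨a, ha, rfl⟩
      rw [← map_mul, ← map_one φ]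
      exact congrArg φ (Subtype.ext (by simpa [pow_two] using hAe.2 (a : G) ha))
    have hcomm : ∀ a ∈ A', ∀ b ∈ A', a * b = b * a := by
      rintro _ ⟨a, ha, rfl⟩ _ ⟨b, hb, rfl⟩
      rw [← map_mul, ← map_mul]
      have hab := congrArg Subtype.val (hAe.1.is_comm.comm ⟨(a : G), ha⟩ ⟨(b : G), hb⟩)
      exact congrArg φ (Subtype.ext hab)
    have hVT : X.VV ≤ T' := by
      intro v hv
      refine ⟨c₀ * v * c₀⁻¹, Subgroup.mem_subgroupOf.2 (hVS ⟨(v : G), ⟨v, hv, rfl⟩, rfl⟩), ?_⟩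
      show c₀⁻¹ * (c₀ * v * c₀⁻¹) * c₀⁻¹⁻¹ = v
      group
    have hAT : A' ≤ T' := Subgroup.map_mono fun a ha => hAS ha
    have heq := X.eq_VV hS hE
      ((S.2.comap_of_injective (CC z).subtype (CC z).subtype_injective).map φ) hAT hVT hA'c hsq hcomm
    refine Subgroup.eq_of_le_of_card_ge (fun a ha => ?_) (by
      rw [Subgroup.card_map_of_injective (MulEquiv.injective _), X.card_Vg hS, hAc]; norm_num)
    have hmem : φ ⟨a, hSC (hAS ha)⟩ ∈ X.VV := heq ▸ Subgroup.mem_map_of_mem φ (Subgroup.mem_subgroupOf.2 ha)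
    refine ⟨_, ⟨_, hmem, rfl⟩, ?_⟩
    show g₀ * (g₀⁻¹ * a * g₀⁻¹⁻¹) * g₀⁻¹ = a
    group
  have hV₁e : Cfsg.IsElementaryAbelian 2 V₁ := elementary_map (X.Vg_elementary hS) _
  refine ⟨V₁.map e.toMonoidHom, ⟨?_, ?_, ?_⟩, ?_⟩
  · rw [hTS]; exact Subgroup.map_mono hVS
  · exact elementary_map hV₁e _
  · rw [Subgroup.card_map_of_injective e.injective, Subgroup.card_map_of_injective (MulEquiv.injective _),
      X.card_Vg hS]
    norm_num
  · rintro A ⟨hAT, hAe, hAc⟩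
    have hback : (A.map e.symm.toMonoidHom).map e.toMonoidHom = A := by
      rw [Subgroup.map_map]
      ext x; simp
    rw [← hback]
    congr 1
    refine huniq _ ?_ ?_ ?_
    · rintro _ ⟨a, ha, rfl⟩
      have : a ∈ (S : Subgroup G).map e.toMonoidHom := hTS ▸ hAT ha
      obtain ⟨s, hs, rfl⟩ := this
      show e.symm (e s) ∈ (S : Subgroup G)
      rw [MulEquiv.symm_apply_apply]
      exact hs
    · exact elementary_map hAe _
    · rw [Subgroup.card_map_of_injective e.symm.injective, hAc]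

end Ctx

end CfsgLib.J4Type
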