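import Cfsg.Agent.Lib.J4Type.InvolCerts
import Cfsg.Agent.Lib.J4Type.Basis
import Cfsg.Agent.Lib.J4Type.VGroup
import Cfsg.Agent.Lib.J4Type.Splitting.Coset

/-!
Every involution of the normaliser of the subgroup of order `2^11` is conjugate into it: its coset is
that of an involution of `O_2(C(z))`, and the involutions of such a coset lie in `O_2` of the
centraliser of one of two conjugates of `z`, up to conjugacy.
-/

set_option autoImplicit false
set_option maxRecDepth 20000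
set_option Elab.async false

namespace CfsgLib.J4Type

set_option linter.unusedSectionVars false

namespace VAct

universe u

variable {G : Type u} [Group G] [Finite G] {z : G} {P : Subgroup G} {X : Ctx z P} {ec : ℕ}
  (D : VAct z X.Vg ec)

include D

open Classical in
/-- The codes below 128 are the elements of `O_2(C(z))` in the subgroup. -/
theorem low_iff {v : ℕ} (hv : v < 2048) : (∃ c ∈ X.Wc, (c : G) = D.enc v) ↔ v < 128 := by
  have hS := X.model.stabFacts
  let p : ℕ → Prop := fun v => ∃ c ∈ X.Wc, (c : G) = D.enc v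
  have hinv : ∀ v w, v < 2048 → w < 2048 → VCode.cls ec v = VCode.cls ec w → p v → p w := by
    rintro v w hv hw h ⟨c, hc, ec'⟩
    obtain ⟨n, hn, e⟩ := D.conj_of_cls hv hw h
    refine ⟨⟨n, hn.2⟩ * c * (⟨n, hn.2⟩ : CC z)⁻¹, X.mem_Wc_of_mem_VV ?_
      ((QQ_normal z).conj_mem _ (X.Wc_le hc) _), ?_⟩
    · obtain ⟨d, hd, ed⟩ := (Subgroup.mem_normalizer_iff.1 hn.1 _).1
        (show (c : G) ∈ X.Vg from ⟨c, X.Wc_le_VV hc, rfl⟩)
      exact (Subtype.ext ed : d = ⟨n, hn.2⟩ * c * (⟨n, hn.2⟩ : CC z)⁻¹) ▸ hd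
    · show n * (c : G) * n⁻¹ = D.enc w
      rw [ec', e]
  let q : ℕ → Bool := fun k => decide (∃ v, v < 2048 ∧ VCode.cls ec v = k ∧ p v)
  have hq : ∀ v, v < 2048 → (p v ↔ q (VCode.cls ec v) = true) := fun v hv => by
    simp only [q, decide_eq_true_eq]
    exact ⟨fun h => ⟨v, hv, rfl, h⟩, fun ⟨w, hw, e, h⟩ => hinv w v hw hv e h⟩
  have h0 : q 0 = true := by
    have h := (hq 0 (by norm_num)).1 ⟨1, one_mem _, (D.enc_zero').symm⟩
    rwa [(D.cls_le (by norm_num)).2.2.1.2 rfl] at h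
  have h1 : q 1 = true := by
    have h := (hq 64 (by norm_num)).1 ⟨zC z, X.zC_mem_Wc, D.enc_z.symm⟩
    rwa [(D.cls_le (by norm_num)).2.2.2.2 rfl] at h
  have hcard : ((Finset.range 2048).filter fun v => p v).card = 128 := by
    rw [← X.card_Wc, ← SetLike.coe_sort_coe, Nat.card_coe_set_eq,
      ← Set.ncard_image_of_injective (X.Wc : Set (CC z)) (f := fun c : CC z => (c : G)) Subtype.val_injective,
      show ((fun c : CC z => (c : G)) '' (X.Wc : Set (CC z))) =
        D.enc '' (((Finset.range 2048).filter fun v => p v : Finset ℕ) : Set ℕ) from ?_,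
      Set.InjOn.ncard_image ?_, Set.ncard_coe_finset]
    · intro v hv w hw e
      simp only [Finset.coe_filter, Finset.mem_range, Set.mem_ofPred_eq] at hv hw
      exact D.enc_inj v w hv.1 hw.1 e
    · ext a
      simp only [Set.mem_image, Finset.coe_filter, Finset.mem_range, Set.mem_ofPred_eq, SetLike.mem_coe]
      constructor
      · rintro ⟨c, hc, rfl⟩
        obtain ⟨v, hv, e⟩ := D.enc_surj _ (show (c : G) ∈ X.Vg from ⟨c, X.Wc_le_VV hc, rfl⟩)
        exact ⟨v, ⟨hv, c, hc, e.symm⟩, e⟩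
      · rintro ⟨v, ⟨-, c, hc, e⟩, rfl⟩
        exact ⟨c, hc, e⟩
  have hsum : ((Finset.range 2048).filter fun v => p v).card =
      1 + VCode.usize (q 2) (q 3) (q 4) (q 5) (q 6) := by
    rw [Finset.card_eq_sum_card_fiberwise (f := fun v => VCode.cls ec v) (t := Finset.range 7) fun v hv =>
      Finset.mem_range.2 (show VCode.cls ec v < 7 by
        have := (D.cls_le (Finset.mem_range.1 (Finset.mem_filter.1 hv).1)).1; omega)]
    have hk : ∀ k ∈ Finset.range 7,
        (((Finset.range 2048).filter fun v => p v).filter fun v => VCode.cls ec v = k).card =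
          if q k then [1, 1, 36, 90, 240, 240, 1440].getD k 0 else 0 := by
      intro k hk
      split
      · rename_i hqk
        have h := List.all_eq_true.1 (List.all_eq_true.1 VCode.cls_count ec (VCode.mem_ec D.ec_cases)) k
          (List.mem_range.2 (Finset.mem_range.1 hk))
        rw [nbeq, countP_range_eq] at h
        rw [← h]
        congr 1
        ext v
        simp only [Finset.mem_filter, Finset.mem_range, nbeq]
        exact ⟨fun h => ⟨h.1.1, h.2⟩, fun h => ⟨⟨h.1, (hq v h.1).2 (by rw [h.2]; exact hqk)⟩, h.2⟩⟩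
      · rename_i hqk
        rw [Finset.card_eq_zero, Finset.eq_empty_iff_forall_notMem]
        intro v hv
        simp only [Finset.mem_filter, Finset.mem_range] at hv
        exact hqk (hv.2 ▸ (hq v hv.1.1).1 hv.1.2)
    rw [Finset.sum_congr rfl hk]
    simp [Finset.sum_range_succ, VCode.usize, h0, h1]
    omega
  have hpat := VCode.cls_union (q 2) (q 3) (q 4) (q 5) (q 6) (hsum.symm.trans hcard)
  simp only [List.cons.injEq, and_true] at hpat
  obtain ⟨e2, e3, e4, e5, e6⟩ := hpat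
  obtain ⟨hle, hlow, -, -⟩ := D.cls_le hv
  show p v ↔ v < 128
  rw [hq v hv, hlow]
  generalize VCode.cls ec v = k at hle ⊢
  interval_cases k <;> simp [h0, h1, e2, e3, e4, e5, e6]

/-- An element of `C(z)` fixing the low codes up to `z` is in `O_2(C(z))` times the subgroup. -/
theorem split_of_low {m : CC z} (h : ∀ v, v < 128 →
      (m : G) * D.enc v * (m : G)⁻¹ = D.enc v ∨ (m : G) * D.enc v * (m : G)⁻¹ = D.enc (Nat.xor v 64)) :
    ∃ y ∈ QQ z, ∃ t ∈ X.VV, m = y * t := by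
  have hS := X.model.stabFacts
  have hfix : X.model.FixesW (QuotientGroup.mk' (QQ z) m) := by
    intro u hu
    obtain ⟨a, rfl⟩ := pr_surj u
    have haW : (a : CC z) ∈ X.Wc := X.mem_Wc_iff.2 ⟨a.2, hu⟩
    obtain ⟨v, hv, ev⟩ := D.enc_surj _ (show ((a : CC z) : G) ∈ X.Vg from ⟨a, X.Wc_le_VV haW, rfl⟩)
    have hv' : v < 128 := (D.low_iff hv).1 ⟨_, haW, ev.symm⟩
    refine (X.ext13.rep_apply m a).trans ((X.ext13).pr_eq_iff.2 ?_)
    have e : ((cjQ m a : QQ z) : CC z) = (a : CC z) ∨ ((cjQ m a : QQ z) : CC z) = (a : CC z) * zC z := by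
      rcases h v hv' with e | e
      · refine Or.inl (Subtype.ext ?_)
        rw [cjQ_val]
        show (m : G) * ((a : CC z) : G) * (m : G)⁻¹ = _
        rw [← ev, e]
      · refine Or.inr (Subtype.ext ?_)
        rw [cjQ_val]
        show (m : G) * ((a : CC z) : G) * (m : G)⁻¹ = ((a : CC z) : G) * z
        rw [← ev, e, D.enc_xor v 64 hv (by norm_num), D.enc_z]
    rcases e with e | e
    · rw [Subtype.ext e, inv_mul_cancel]; exact one_mem _
    · rw [show cjQ m a = a * ⟨zC z, X.zC_mem⟩ from Subtype.ext e, mul_inv_rev, inv_mul_cancel_right]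
      exact inv_mem X.zQ_center
  obtain ⟨T, -, -, -, hTV, -, hsur⟩ := X.VV_decomp hS
  obtain ⟨t, ht, e⟩ := hsur _ ((hS.fixesW_iff _).1 hfix)
  refine ⟨m * t⁻¹, (QuotientGroup.eq_one_iff _).1 ?_, t, hTV ht, (inv_mul_cancel_right m t).symm⟩
  rw [QuotientGroup.mk_mul, QuotientGroup.mk_inv, mul_inv_eq_one]
  exact e.symm

theorem QQ_sq_cases {y : CC z} (hy : y ∈ QQ z) : y * y = 1 ∨ y * y = zC z :=
  X.eq_one_or_z (a := (⟨y, hy⟩ : QQ z) * ⟨y, hy⟩) (X.ext13.sq_mem _)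

/-- A translation is induced by an element of `O_2(C(z))`. -/
theorem exists_trans {g : List ℕ} (hg : g ∈ VCode.vQ) :
    ∃ y ∈ QQ z, ∀ v, v < 2048 → (y : G) * D.enc v * (y : G)⁻¹ = D.enc (app g v) := by
  obtain ⟨n, hn, en⟩ := D.gens g (by simp only [VCode.vgens, List.mem_append]; exact Or.inr hg)
  obtain ⟨y, hy, t, ht, e⟩ := D.split_of_low (m := ⟨n, hn.2⟩) fun v hv => by
    show n * D.enc v * n⁻¹ = _ ∨ n * D.enc v * n⁻¹ = _
    rw [en v (by omega)]
    have h := List.all_eq_true.1 (List.all_eq_true.1 VCode.vQ_low g hg) v (List.mem_range.2 hv)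
    rw [Bool.or_eq_true, nbeq, nbeq] at h
    rcases h with h | h <;> rw [h] <;> simp
  refine ⟨y, hy, fun v hv => ?_⟩
  have hn' : n = (y : G) * (t : G) := congrArg Subtype.val e
  rw [← en v hv, hn']
  have hc := D.comm' _ (show (t : G) ∈ X.Vg from ⟨t, ht, rfl⟩) _ (D.enc_mem v hv)
  calc (y : G) * D.enc v * (y : G)⁻¹ = (y : G) * ((t : G) * D.enc v * (t : G)⁻¹) * (y : G)⁻¹ := by
        rw [hc, mul_inv_cancel_right]
    _ = _ := by group

theorem app_lt' {g : List ℕ} (hg : g ∈ VCode.vQ) (v : ℕ) : app g v < 2048 := by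
  refine app_lt (k := 11) _ _ fun c hc => ?_
  have h := List.all_eq_true.1 (List.all_eq_true.1 VCode.vQ_low_bound g hg) c hc
  rw [Nat.ble_eq] at h
  omega

theorem enc_inv {v : ℕ} (hv : v < 2048) : (D.enc v)⁻¹ = D.enc v :=
  inv_eq_of_mul_eq_one_right (D.sq' _ (D.enc_mem v hv))

/-- An involution of `O_2(C(z))` inducing a translation that moves a low code. -/
theorem exists_trans_sq {g : List ℕ} (hg : g ∈ VCode.vQ) {b : ℕ} (hb : b < 128)
    (hgb : app g b = Nat.xor b 64) :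
    ∃ y ∈ QQ z, (y : G) * y = 1 ∧ (∀ v, v < 2048 → (y : G) * D.enc v * (y : G)⁻¹ = D.enc (app g v)) := by
  obtain ⟨y, hy, ey⟩ := D.exists_trans hg
  rcases D.QQ_sq_cases hy with h | h
  · exact ⟨y, hy, congrArg Subtype.val h, ey⟩
  obtain ⟨c, hc, ec'⟩ := (D.low_iff (show b < 2048 by omega)).2 hb
  have hb2 : b < 2048 := by omega
  refine ⟨y * c, mul_mem hy (X.Wc_le hc), ?_, fun v hv => ?_⟩
  · show (y : G) * (c : G) * ((y : G) * (c : G)) = 1
    have h' : (y : G) * y = z := congrArg Subtype.val h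
    have hyb := ey b hb2
    rw [hgb, D.enc_xor b 64 hb2 (by norm_num), D.enc_z, ← ec'] at hyb
    have hc2 : (c : G) * c = 1 := by rw [ec']; exact D.sq' _ (D.enc_mem b hb2)
    have hzz : z * z = 1 := D.sq' z D.z_mem
    calc (y : G) * (c : G) * ((y : G) * (c : G))
        = (y : G) * (c : G) * (y : G)⁻¹ * ((y : G) * y) * (c : G) := by group
      _ = 1 := by rw [h', hyb, mul_assoc (c : G) z z, hzz, mul_one, hc2]
  · show (y : G) * (c : G) * D.enc v * ((y : G) * (c : G))⁻¹ = _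
    rw [ec', ← ey v hv]
    have hcm := D.comm' _ (D.enc_mem b hb2) _ (D.enc_mem v hv)
    calc (y : G) * D.enc b * D.enc v * ((y : G) * D.enc b)⁻¹
        = (y : G) * (D.enc b * D.enc v * (D.enc b)⁻¹) * (y : G)⁻¹ := by group
      _ = _ := by rw [hcm, mul_inv_cancel_right]

theorem vQ_mem {k : ℕ} (hk : k < 12) : VCode.vQ.getD k [] ∈ VCode.vQ := by
  have hl : VCode.vQ.length = 12 := rfl
  rw [List.getD_eq_getElem _ _ (by omega)]
  exact List.getElem_mem _

theorem mem_norm {y : G} {g : List ℕ} (hg : g ∈ VCode.vQ)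
    (e : ∀ v, v < 2048 → y * D.enc v * y⁻¹ = D.enc (app g v)) : y ∈ Subgroup.normalizer (X.Vg : Set G) := by
  haveI := Fintype.ofFinite G
  refine Subgroup.mem_normalizer_fintype fun a ha => ?_
  obtain ⟨v, hv, rfl⟩ := D.enc_surj a ha
  rw [e v hv]
  exact D.enc_mem _ (D.app_lt' hg v)

theorem ncard_fix {y : G} {g : List ℕ} (hg : g ∈ VCode.vQ)
    (e : ∀ v, v < 2048 → y * D.enc v * y⁻¹ = D.enc (app g v)) :
    (fixIn X.Vg y).ncard = (List.range 2048).countP fun v => Nat.beq (app g v) v := by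
  classical
  rw [countP_range_eq, ← Set.ncard_coe_finset,
    ← Set.InjOn.ncard_image (f := D.enc) (fun v hv w hw h => ?_)]
  · refine congrArg Set.ncard ?_
    ext a
    simp only [Set.mem_image, Finset.coe_filter, Finset.mem_range, Set.mem_ofPred_eq, nbeq, fixIn]
    constructor
    · rintro ⟨ha, hfix⟩
      obtain ⟨v, hv, rfl⟩ := D.enc_surj a ha
      rw [e v hv] at hfix
      exact ⟨v, ⟨hv, D.enc_inj _ _ (D.app_lt' hg v) hv hfix⟩, rfl⟩
    · rintro ⟨v, ⟨hv, h⟩, rfl⟩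
      exact ⟨D.enc_mem v hv, by rw [e v hv, h]⟩
  · simp only [Finset.coe_filter, Finset.mem_range, Set.mem_ofPred_eq] at hv hw
    exact D.enc_inj v w hv.1 hw.1 h

theorem not_mem_of_moved {y : G} {g : List ℕ} (hg : g ∈ VCode.vQ)
    (e : ∀ v, v < 2048 → y * D.enc v * y⁻¹ = D.enc (app g v)) {b : ℕ} (hb : b < 2048) (hne : app g b ≠ b) :
    y ∉ X.Vg := fun hy => hne (D.enc_inj _ _ (D.app_lt' hg b) hb (by
      rw [← e b hb, D.comm' y hy _ (D.enc_mem b hb), mul_inv_cancel_right]))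

/-- An involution of `O_2(C(z))` is conjugate into the subgroup. -/
theorem conj_of_QQ {y : CC z} (hy : y ∈ QQ z) (h2 : (y : G) * y = 1) : ∃ g : G, g * y * g⁻¹ ∈ X.Vg := by
  have hq : (ext13_of X.hyp).rep.q (pr (⟨y, hy⟩ : QQ z)) = 0 := by
    show qf (pr _) = 0
    rw [X.ext13.qf_pr, bit_eq_zero]
    exact Subtype.ext (Subtype.ext h2)
  obtain ⟨h, hh⟩ := X.model.conj_into_W hq
  obtain ⟨c, rfl⟩ := QuotientGroup.mk_surjective h
  rw [(ext13_of X.hyp).rep_apply] at hh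
  refine ⟨c, c * y * c⁻¹, X.Wc_le_VV (X.mem_Wc_iff.2 ⟨(QQ_normal z).conj_mem y hy c, ?_⟩), rfl⟩
  exact hh

/-- Every involution of the normaliser is conjugate into the subgroup. -/
theorem conj_into {x : G} (hx : x ∈ Subgroup.normalizer (X.Vg : Set G)) (hx2 : x * x = 1) :
    ∃ g : G, g * x * g⁻¹ ∈ X.Vg := by
  by_cases hxA : x ∈ X.Vg
  · exact ⟨1, by simpa using hxA⟩
  have g6 := D.vQ_mem (show 6 < 12 by norm_num)
  have g8 := D.vQ_mem (show 8 < 12 by norm_num)
  obtain ⟨hb6, hb8, htr⟩ := VCode.y6_fix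
  rw [nbeq] at hb6 hb8
  obtain ⟨y₁, hy₁, s₁, e₁⟩ := D.exists_trans_sq g6 (b := 2) (by norm_num) (by rw [hb6]; rfl)
  obtain ⟨y₂, hy₂, s₂, e₂⟩ := D.exists_trans_sq g8 (b := 8) (by norm_num) (by rw [hb8]; rfl)
  have n₁ := D.not_mem_of_moved g6 e₁ (b := 2) (by norm_num) (by rw [hb6]; norm_num)
  have n₂ := D.not_mem_of_moved g8 e₂ (b := 8) (by norm_num) (by rw [hb8]; norm_num)
  have hne : (fixIn X.Vg (y₁ : G)).ncard ≠ (fixIn X.Vg (y₂ : G)).ncard := by
    rw [D.ncard_fix g6 e₁, D.ncard_fix g8 e₂, nbeq.1 VCode.y_fix_counts.1,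
      nbeq.1 VCode.y_fix_counts.2]
    norm_num
  obtain ⟨m, hm, v, hv, e⟩ := D.vframe.exists_conj_coset (D.mem_norm g6 e₁) (D.mem_norm g8 e₂) s₁ s₂ n₁ n₂ hne
    hx hxA (by rw [hx2]; exact one_mem _)
  suffices h : ∃ g : G, g * (m * x * m⁻¹) * g⁻¹ ∈ X.Vg by
    obtain ⟨g, hg⟩ := h
    refine ⟨g * m, ?_⟩
    rwa [show g * m * x * (g * m)⁻¹ = g * (m * x * m⁻¹) * g⁻¹ by group]
  have hsq : m * x * m⁻¹ * (m * x * m⁻¹) = 1 := by
    rw [show m * x * m⁻¹ * (m * x * m⁻¹) = m * (x * x) * m⁻¹ by group, hx2, mul_one, mul_inv_cancel]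
  obtain ⟨v, hv', rfl⟩ := D.enc_surj v hv
  -- the product commutes
  have fix : ∀ (y : CC z) (g : List ℕ), g ∈ VCode.vQ → (y : G) * y = 1 →
      (∀ v, v < 2048 → (y : G) * D.enc v * (y : G)⁻¹ = D.enc (app g v)) →
      m * x * m⁻¹ = D.enc v * y → app g v = v ∧ m * x * m⁻¹ = (y : G) * D.enc v := by
    intro y g hg sy ey e'
    have hi : (y : G)⁻¹ = y := inv_eq_of_mul_eq_one_right sy
    have h1 : D.enc v * D.enc (app g v) = 1 := by
      rw [← ey v hv', hi, ← mul_assoc, ← mul_assoc, mul_assoc (D.enc v * (y : G)), ← e', hsq]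
    have h2 : D.enc (app g v) = D.enc v := by
      rw [← D.enc_inv hv']; exact (inv_eq_of_mul_eq_one_right h1).symm
    refine ⟨D.enc_inj _ _ (D.app_lt' hg v) hv' h2, ?_⟩
    have h3 := ey v hv'
    rw [h2] at h3
    rw [e', mul_inv_eq_iff_eq_mul.1 h3]
  -- low codes
  have low : ∀ (y : CC z), y ∈ QQ z → v < 128 → m * x * m⁻¹ = (y : G) * D.enc v →
      ∃ g : G, g * (m * x * m⁻¹) * g⁻¹ ∈ X.Vg := by
    intro y hy hlt e'
    obtain ⟨c, hc, ec'⟩ := (D.low_iff hv').2 hlt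
    rw [e', ← ec']
    refine D.conj_of_QQ (y := y * c) (mul_mem hy (X.Wc_le hc)) ?_
    show (y : G) * (c : G) * ((y : G) * (c : G)) = 1
    rw [ec', ← e', hsq]
  rcases e with e | e
  swap
  · obtain ⟨hfv, e'⟩ := fix y₂ _ g8 s₂ e₂ e
    refine low y₂ hy₂ ?_ e'
    have h := List.all_eq_true.1 VCode.y8_fix v (List.mem_range.2 hv')
    rw [hfv, Nat.beq_refl, Bool.not_true, Bool.false_or, Nat.ble_eq] at h
    omega
  obtain ⟨hfv, e'⟩ := fix y₁ _ g6 s₁ e₁ e
  by_cases hlt : v < 128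
  · exact low y₁ hy₁ hlt e'
  -- the high codes form one class
  have hi1 : (y₁ : G)⁻¹ = y₁ := inv_eq_of_mul_eq_one_right s₁
  have step1 : ∀ w u, w < 2048 → u < 2048 →
      IsConj ((y₁ : G) * D.enc w) ((y₁ : G) * D.enc (Nat.xor w (VCode.delta (VCode.vQ.getD 6 []) u))) := by
    intro w u hw hu
    refine _root_.isConj_iff.2 ⟨D.enc u, ?_⟩
    rw [VCode.delta, D.enc_xor _ _ hw (xor_lt_2048 hu (D.app_lt' g6 u)),
      D.enc_xor _ _ hu (D.app_lt' g6 u), ← e₁ u hu, D.enc_inv hu]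
    have hc := D.comm' _ (D.enc_mem w hw) _ (D.enc_mem u hu)
    have hyu : (y₁ : G) * D.enc u * (y₁ : G) ∈ X.Vg := by
      have h := D.enc_mem _ (D.app_lt' g6 u)
      rwa [← e₁ u hu, hi1] at h
    calc D.enc u * ((y₁ : G) * D.enc w) * D.enc u
        = (y₁ : G) * (((y₁ : G) * D.enc u * (y₁ : G)) * (D.enc w * D.enc u)) := by
          rw [← mul_assoc (y₁ : G), ← mul_assoc (y₁ : G), ← mul_assoc (y₁ : G), s₁, one_mul]
          simp only [mul_assoc]
      _ = (y₁ : G) * (D.enc w * (D.enc u * ((y₁ : G) * D.enc u * (y₁ : G)))) := by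
          rw [D.comm' _ hyu _ (mul_mem (D.enc_mem w hw) (D.enc_mem u hu)), mul_assoc]
      _ = _ := by rw [hi1]
  have step2 : ∀ k, k < 12 → ∀ w, w < 2048 →
      IsConj ((y₁ : G) * D.enc w) ((y₁ : G) * D.enc (app (VCode.vQ.getD k []) w)) := by
    intro k hk w hw
    obtain ⟨y, hy, ey⟩ := D.exists_trans (D.vQ_mem hk)
    have hcen : (⟨y, hy⟩ : QQ z) * ⟨y₁, hy₁⟩ * (⟨y, hy⟩ : QQ z)⁻¹ * (⟨y₁, hy₁⟩ : QQ z)⁻¹ ∈
        Subgroup.center (QQ z) := by
      rw [← commutatorElement_def]; exact X.ext13.comm_mem _ _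
    have h0 : IsConj ((y₁ : G) * D.enc w) ((y : G) * ((y₁ : G) * D.enc w) * (y : G)⁻¹) := _root_.isConj_iff.2 ⟨y, rfl⟩
    have e0 : (y : G) * ((y₁ : G) * D.enc w) * (y : G)⁻¹ =
        ((y : G) * (y₁ : G) * (y : G)⁻¹) * D.enc (app (VCode.vQ.getD k []) w) := by
      rw [← ey w hw]; group
    have hlt' := D.app_lt' (D.vQ_mem hk) w
    rcases X.eq_one_or_z hcen with h | h
    · have h' : (y : G) * (y₁ : G) * (y : G)⁻¹ = y₁ := mul_inv_eq_one.1 (congrArg Subtype.val h)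
      rwa [e0, h'] at h0
    · have h' : (y : G) * (y₁ : G) * (y : G)⁻¹ = z * y₁ :=
        mul_inv_eq_iff_eq_mul.1 (congrArg Subtype.val h)
      obtain ⟨u, hu, hu'⟩ := List.any_eq_true.1 VCode.y6_delta
      have hzy : z * (y₁ : G) = (y₁ : G) * z := (Subgroup.mem_centralizer_singleton_iff.1 y₁.2).symm
      have h1 := step1 _ u (xor_lt_2048 hlt' (show 64 < 2048 by norm_num)) (List.mem_range.1 hu)
      rw [nbeq.1 hu'] at h1
      rw [e0, h', hzy, mul_assoc, D.comm' z D.z_mem _ (D.enc_mem _ hlt'),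
        show D.enc (app (VCode.vQ.getD k []) w) * z = D.enc (Nat.xor (app (VCode.vQ.getD k []) w) 64) by
          rw [D.enc_xor _ _ hlt' (by norm_num), D.enc_z]] at h0
      refine h0.trans ?_
      rwa [show Nat.xor (Nat.xor (app (VCode.vQ.getD k []) w) 64) 64 = app (VCode.vQ.getD k []) w from
        Nat.xor_xor_cancel_right _ _] at h1
  have stepK : ∀ j i, i ≤ 6 →
      IsConj ((y₁ : G) * D.enc 768) ((y₁ : G) * D.enc (VCode.appK j i 768)) ∧ VCode.appK j i 768 < 2048 := by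
    intro j i
    induction i with
    | zero => exact fun _ => ⟨IsConj.refl _, show 768 < 2048 by norm_num⟩
    | succ i ih =>
      intro hi
      obtain ⟨h1, h2⟩ := ih (by omega)
      rw [VCode.appK]
      split
      · exact ⟨h1.trans (step2 _ (by omega) _ h2), D.app_lt' (D.vQ_mem (by omega)) _⟩
      · exact ⟨h1, h2⟩
  have base : ∀ w, w < 2048 → 128 ≤ w → app (VCode.vQ.getD 6 []) w = w →
      IsConj ((y₁ : G) * D.enc 768) ((y₁ : G) * D.enc w) := by
    intro w hw h128 hfw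
    have h := List.all_eq_true.1 htr w (List.mem_range.2 hw)
    rw [Nat.ble_eq_true_of_le h128, hfw, Nat.beq_refl, Bool.and_self, Bool.not_true, Bool.false_or] at h
    obtain ⟨j, -, h⟩ := List.any_eq_true.1 h
    obtain ⟨u, hu, h⟩ := List.any_eq_true.1 h
    obtain ⟨h1, h2⟩ := stepK j 6 le_rfl
    have := step1 _ u h2 (List.mem_range.1 hu)
    rw [nbeq.1 h] at this
    exact h1.trans this
  -- an element of the class in the other extraspecial subgroup
  obtain ⟨w28, f28, hS, h772, h1280⟩ := VCode.witness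
  rw [nbeq] at f28
  obtain ⟨n, hn, en⟩ := D.conj_z _ (D.enc_mem 28 (by norm_num))
    ((D.isConj_iff (by norm_num) (by norm_num)).2 w28)
  have hnA : ∀ a, a ∈ X.Vg ↔ n * a * n⁻¹ ∈ X.Vg := Subgroup.mem_normalizer_iff.1 hn
  have pull : ∀ a, a < 2048 → VCode.isNc 2 true a = true → VCode.isNc 2 true (Nat.xor a 28) = true →
      ∃ b, b < 128 ∧ D.enc b = n⁻¹ * D.enc a * n := by
    intro a ha h1 h2
    obtain ⟨b, hb, eb⟩ := D.exists_code (inv_mem hn) ha
    rw [inv_inv] at eb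
    have ebz : D.enc (Nat.xor b 64) = n⁻¹ * D.enc (Nat.xor a 28) * n := by
      rw [D.enc_xor b 64 hb (by norm_num), D.enc_z, D.enc_xor a 28 ha (by norm_num), ← eb, ← en]; group
    have hnb : ∀ b', b' < 2048 → ∀ a', a' < 2048 → D.enc b' = n⁻¹ * D.enc a' * n →
        VCode.isNc 2 true a' = true → VCode.isNc 2 true b' = true := by
      intro b' hb' a' ha' e'' h'
      obtain ⟨h0, hc⟩ := (D.ec_sel.2 a' ha').1 h'
      have e3 : n⁻¹ * D.enc a' * n⁻¹⁻¹ = D.enc b' := by rw [e'', inv_inv]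
      exact (D.ec_sel.2 b' hb').2 ⟨fun e0 => h0 ((D.code_zero_iff ha' hb' e3).2 e0),
        fun hc' => hc ((D.isConj_code e3).2 hc')⟩
    have k1 := hnb b hb a ha eb.symm h1
    have k2 := hnb _ (xor_lt_2048 hb (by norm_num)) _ (xor_lt_2048 ha (by norm_num)) ebz h2
    have h := List.all_eq_true.1 VCode.shift36 b (List.mem_range.2 hb)
    rw [k1, k2, Bool.and_self, Bool.not_true, Bool.false_or, nbeq] at h
    refine ⟨b, (D.cls_le hb).2.1.2 ?_, eb.symm⟩
    rw [D.ec_eq, h]; norm_num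
  have hyC : n⁻¹ * (y₁ : G) * n ∈ CC z := by
    refine Subgroup.mem_centralizer_singleton_iff.2 ?_
    have h := mul_inv_eq_iff_eq_mul.1 (e₁ 28 (by norm_num))
    rw [f28, ← en] at h
    calc n⁻¹ * (y₁ : G) * n * z = n⁻¹ * ((y₁ : G) * (n * z * n⁻¹)) * n := by group
      _ = _ := by rw [h]; group
  have hlowfix : ∀ b, b < 128 →
      (n⁻¹ * (y₁ : G) * n) * D.enc b * (n⁻¹ * (y₁ : G) * n)⁻¹ = D.enc b ∨
      (n⁻¹ * (y₁ : G) * n) * D.enc b * (n⁻¹ * (y₁ : G) * n)⁻¹ = D.enc (Nat.xor b 64) := by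
    set y' := n⁻¹ * (y₁ : G) * n with hy'
    have hgen : ∀ a ∈ VCode.frPhi, a < 2048 ∧
        (y' * D.enc a * y'⁻¹ = D.enc a ∨ y' * D.enc a * y'⁻¹ = D.enc a * z) := by
      intro a ha
      have hlt : a < 2048 := by
        revert ha; revert a; decide
      refine ⟨hlt, ?_⟩
      have h := List.all_eq_true.1 VCode.frPhi_cls.1 a ha
      simp only [Bool.or_eq_true, Bool.and_eq_true, nbeq] at h
      rcases h with ⟨⟨-, h1⟩, h2⟩ | rfl
      · obtain ⟨a', ha', ea⟩ := D.exists_code hn hlt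
        have ea2 : n * D.enc (Nat.xor a 64) * n⁻¹ = D.enc (Nat.xor a' 28) := by
          rw [D.enc_xor a 64 hlt (by norm_num), D.enc_z, D.enc_xor a' 28 ha' (by norm_num), ← ea, ← en]; group
        have knc : ∀ b b', b < 2048 → b' < 2048 → n * D.enc b * n⁻¹ = D.enc b' →
            VCode.isNc 2 true b = true → VCode.isNc 2 true b' = true := fun b b' hb hb' e'' h' => by
          obtain ⟨h0, hc⟩ := (D.ec_sel.2 b hb).1 h'
          exact (D.ec_sel.2 b' hb').2 ⟨fun e0 => h0 ((D.code_zero_iff hb hb' e'').2 e0),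
            fun hc' => hc ((D.isConj_code e'').2 hc')⟩
        have h' := List.all_eq_true.1 hS a' (List.mem_range.2 ha')
        rw [knc a a' hlt ha' ea h1,
          knc _ _ (xor_lt_2048 hlt (by norm_num)) (xor_lt_2048 ha' (by norm_num)) ea2 h2] at h'
        simp only [Bool.and_self, Bool.not_true, Bool.false_or, Bool.or_eq_true, nbeq] at h'
        have key : y' * D.enc a * y'⁻¹ = n⁻¹ * D.enc (app (VCode.vQ.getD 6 []) a') * n := by
          rw [← e₁ a' ha', ← ea, hy']; group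
        rcases h' with h' | h'
        · left
          rw [key, h', ← ea]; group
        · right
          rw [key, h', ← ea2, D.enc_xor a 64 hlt (by norm_num), D.enc_z]; group
      · left
        rw [D.enc_z]
        exact (mul_inv_eq_iff_eq_mul.2 (Subgroup.mem_centralizer_singleton_iff.1 hyC))
    have hspan : ∀ (l : List ℕ), (∀ a ∈ l, a < 2048 ∧
        (y' * D.enc a * y'⁻¹ = D.enc a ∨ y' * D.enc a * y'⁻¹ = D.enc a * z)) →
        ∀ x, app l x < 2048 ∧ (y' * D.enc (app l x) * y'⁻¹ = D.enc (app l x) ∨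
          y' * D.enc (app l x) * y'⁻¹ = D.enc (app l x) * z) := by
      intro l
      induction l with
      | nil => exact fun _ x => ⟨show 0 < 2048 by norm_num, Or.inl (by
          show y' * D.enc 0 * y'⁻¹ = D.enc 0
          rw [D.enc_zero']; group)⟩
      | cons a l ih =>
        intro hl x
        obtain ⟨i1, i2⟩ := ih (fun b hb => hl b (List.mem_cons_of_mem _ hb)) (x / 2)
        obtain ⟨a1, a2⟩ := hl a List.mem_cons_self
        show Nat.xor _ _ < 2048 ∧ (_ = D.enc (Nat.xor _ _) ∨ _)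
        by_cases hx : x % 2 = 1
        · simp only [app, hx, if_true]
          refine ⟨xor_lt_2048 a1 i1, ?_⟩
          rw [D.enc_xor _ _ a1 i1, show y' * (D.enc a * D.enc (app l (x / 2))) * y'⁻¹ =
            (y' * D.enc a * y'⁻¹) * (y' * D.enc (app l (x / 2)) * y'⁻¹) by group]
          have hz := D.comm' z D.z_mem _ (D.enc_mem _ i1)
          have hzz : z * z = 1 := D.sq' z D.z_mem
          rcases a2 with a2 | a2 <;> rcases i2 with i2 | i2 <;> rw [a2, i2]
          · exact Or.inl rfl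
          · exact Or.inr (mul_assoc _ _ _).symm
          · exact Or.inr (by rw [mul_assoc, hz, ← mul_assoc])
          · exact Or.inl (by rw [← mul_assoc, mul_assoc (D.enc a) z, hz, ← mul_assoc, mul_assoc _ z z, hzz, mul_one])
        · simp only [app, hx, if_false]
          rw [show Nat.xor 0 (app l (x / 2)) = app l (x / 2) from Nat.zero_xor _]
          exact ⟨i1, i2⟩
    intro b hb
    obtain ⟨x, -, hx⟩ := List.any_eq_true.1 (List.all_eq_true.1 VCode.frPhi_cls.2 b (List.mem_range.2 hb))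
    obtain ⟨-, h⟩ := hspan _ hgen x
    rw [nbeq.1 hx] at h
    rcases h with h | h
    · exact Or.inl h
    · exact Or.inr (by rw [h, D.enc_xor b 64 (by omega) (by norm_num), D.enc_z])
  obtain ⟨e₀, he₀, t, ht, et⟩ := D.split_of_low (m := ⟨_, hyC⟩) hlowfix
  have et' : n⁻¹ * (y₁ : G) * n = (e₀ : G) * (t : G) := congrArg Subtype.val et
  obtain ⟨r, hr, er⟩ := D.enc_surj _ ((hnA _).1 (show (t : G) ∈ X.Vg from ⟨t, ht, rfl⟩))
  have htt : (t : G) * t = 1 := D.sq' _ ⟨t, ht, rfl⟩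
  have hne0 : n * (e₀ : G) * n⁻¹ = (y₁ : G) * D.enc r := by
    rw [er, show (y₁ : G) = n * ((e₀ : G) * (t : G)) * n⁻¹ by rw [← et']; group]
    calc n * (e₀ : G) * n⁻¹ = n * ((e₀ : G) * ((t : G) * t)) * n⁻¹ := by rw [htt, mul_one]
      _ = _ := by group
  have sq_code : ∀ r, r < 2048 → (y₁ : G) * D.enc r * ((y₁ : G) * D.enc r) =
      D.enc (Nat.xor (app (VCode.vQ.getD 6 []) r) r) := by
    intro r hr
    rw [D.enc_xor _ _ (D.app_lt' g6 r) hr, ← e₁ r hr, hi1]
    simp only [mul_assoc]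
  -- move by elements of the other extraspecial subgroup
  have move : ∀ (e₀ : CC z), e₀ ∈ QQ z → ∀ r, r < 2048 → n * (e₀ : G) * n⁻¹ = (y₁ : G) * D.enc r →
      ∀ a, a < 2048 → VCode.isNc 2 true a = true → VCode.isNc 2 true (Nat.xor a 28) = true →
      ∃ e' : CC z, e' ∈ QQ z ∧ n * (e' : G) * n⁻¹ = (y₁ : G) * D.enc (Nat.xor r a) := by
    intro e₀ he₀ r hr he a ha h1 h2
    obtain ⟨b, hb, eb⟩ := pull a ha h1 h2
    obtain ⟨c, hc, ec'⟩ := (D.low_iff (show b < 2048 by omega)).2 hb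
    refine ⟨e₀ * c, mul_mem he₀ (X.Wc_le hc), ?_⟩
    show n * ((e₀ : G) * (c : G)) * n⁻¹ = _
    rw [ec', eb, D.enc_xor r a hr ha, ← mul_assoc (y₁ : G), ← he]
    group
  simp only [Bool.and_eq_true, nbeq] at h772 h1280
  obtain ⟨e₁', he₁', r₁, hr₁, hne1, hfr₁⟩ : ∃ e' : CC z, e' ∈ QQ z ∧ ∃ r, r < 2048 ∧
      n * (e' : G) * n⁻¹ = (y₁ : G) * D.enc r ∧ app (VCode.vQ.getD 6 []) r = r := by
    rcases D.QQ_sq_cases he₀ with h | h
    · refine ⟨e₀, he₀, r, hr, hne0, ?_⟩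
      have h' : D.enc (Nat.xor (app (VCode.vQ.getD 6 []) r) r) = D.enc 0 := by
        rw [← sq_code r hr, ← hne0, D.enc_zero']
        calc n * (e₀ : G) * n⁻¹ * (n * (e₀ : G) * n⁻¹) = n * ((e₀ * e₀ : CC z) : G) * n⁻¹ := by
              rw [Subgroup.coe_mul]; group
          _ = 1 := by rw [h]; show n * (1 : G) * n⁻¹ = 1; group
      exact Nat.xor_eq_zero_iff.1 (D.enc_inj _ _ (xor_lt_2048 (D.app_lt' g6 r) hr) (by norm_num) h')
    · have h' : D.enc (Nat.xor (app (VCode.vQ.getD 6 []) r) r) = D.enc 28 := by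
        rw [← sq_code r hr, ← hne0, ← en]
        calc n * (e₀ : G) * n⁻¹ * (n * (e₀ : G) * n⁻¹) = n * ((e₀ * e₀ : CC z) : G) * n⁻¹ := by
              rw [Subgroup.coe_mul]; group
          _ = _ := by rw [h]; rfl
      have h'' := D.enc_inj _ _ (xor_lt_2048 (D.app_lt' g6 r) hr) (by norm_num) h'
      obtain ⟨e', he', hne'⟩ := move e₀ he₀ r hr hne0 1280 (by norm_num) h1280.1.1 h1280.1.2
      refine ⟨e', he', _, xor_lt_2048 hr (by norm_num), hne', ?_⟩
      rw [app_xor, h1280.2]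
      have : app (VCode.vQ.getD 6 []) r = Nat.xor r 28 := by
        rw [← h'']
        show _ = r ^^^ (app (VCode.vQ.getD 6 []) r ^^^ r)
        rw [Nat.xor_comm _ r, ← Nat.xor_assoc, Nat.xor_self, Nat.zero_xor]
      rw [this]
      show (r ^^^ 28) ^^^ (1280 ^^^ 28) = r ^^^ 1280
      rw [Nat.xor_assoc, ← Nat.xor_assoc 28, Nat.xor_comm 28 1280, Nat.xor_assoc 1280, Nat.xor_self, Nat.xor_zero]
  obtain ⟨e₂', he₂', r₂, hr₂, hne2, hfr₂, h128⟩ : ∃ e' : CC z, e' ∈ QQ z ∧ ∃ r, r < 2048 ∧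
      n * (e' : G) * n⁻¹ = (y₁ : G) * D.enc r ∧ app (VCode.vQ.getD 6 []) r = r ∧ 128 ≤ r := by
    by_cases h : 128 ≤ r₁
    · exact ⟨e₁', he₁', r₁, hr₁, hne1, hfr₁, h⟩
    obtain ⟨e', he', hne'⟩ := move e₁' he₁' r₁ hr₁ hne1 772 (by norm_num) h772.1.1 h772.1.2
    refine ⟨e', he', _, xor_lt_2048 hr₁ (by norm_num), hne', by rw [app_xor, hfr₁, h772.2], ?_⟩
    have := (by decide : ∀ k, k < 128 → 128 ≤ k ^^^ 772) r₁ (by omega)
    exact this
  have hc : IsConj (e₂' : G) (m * x * m⁻¹) := by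
    rw [e']
    refine (_root_.isConj_iff.2 ⟨n, hne2⟩).trans ((base r₂ hr₂ h128 hfr₂).symm.trans (base v hv' (by omega) hfv))
  have h2 : (e₂' : G) * e₂' = 1 := by
    obtain ⟨g, hg⟩ := _root_.isConj_iff.1 hc.symm
    rw [← hg, show g * (m * x * m⁻¹) * g⁻¹ * (g * (m * x * m⁻¹) * g⁻¹) =
      g * (m * x * m⁻¹ * (m * x * m⁻¹)) * g⁻¹ by group, hsq, mul_one, mul_inv_cancel]
  obtain ⟨g, hg⟩ := D.conj_of_QQ he₂' h2
  obtain ⟨k, hk⟩ := _root_.isConj_iff.1 hc.symm
  refine ⟨g * k, ?_⟩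
  rwa [show g * k * (m * x * m⁻¹) * (g * k)⁻¹ = g * (k * (m * x * m⁻¹) * k⁻¹) * g⁻¹ by group, hk]

end VAct

end CfsgLib.J4Type
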