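import Cfsg.Agent.Lib.J4Type.Orbits
import Cfsg.Agent.Lib.J4Type.InvolConj
import Cfsg.Agent.Lib.J4Type.Splitting
import Cfsg.Agent.Lib.MathieuAut22.Main
import Cfsg.Agent.Lib.Golay.M24Group

/-!
The centraliser of an involution outside the class of `z` in Janko-four type: a split extension of an
elementary abelian group of order `2^11` by the automorphism group of `M22`.
-/

set_option autoImplicit false
set_option linter.unusedSectionVars false

namespace CfsgLib.J4Type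

open CfsgLib.MathieuAut22 (twoPts autM22Equiv)
open CfsgLib.Steiner.Witt (setStab mem_setStab)

universe u

/-- The permutations in `M24` keeping a pair of points form a copy of the automorphism group of `M22`. -/
theorem exists_pair_equiv {i j : Cfsg.GolayPt} (hij : i ≠ j) {R : Subgroup Cfsg.M24}
    (hR : ∀ σ : ↥Cfsg.M24, σ ∈ R ↔ ((σ : Equiv.Perm Cfsg.GolayPt) i = i ∧ (σ : Equiv.Perm Cfsg.GolayPt) j = j) ∨
      ((σ : Equiv.Perm Cfsg.GolayPt) i = j ∧ (σ : Equiv.Perm Cfsg.GolayPt) j = i)) :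
    Nonempty (↥R ≃* MulAut ↥Cfsg.Spor.M22) := by
  classical
  obtain ⟨g, hg, hgL⟩ := CfsgLib.Golay.exists_map_eq (L := [i, j]) (L' := [none, some 0])
    (by simp [hij]) (by simp) (by simp) (by simp)
  simp only [List.map_cons, List.map_nil, List.cons.injEq, and_true] at hgL
  obtain ⟨gi, gj⟩ := hgL
  let c : ↥Cfsg.M24 ≃* ↥Cfsg.M24 := MulAut.conj ⟨g, hg⟩
  have hmap : R.map c.toMonoidHom = (setStab twoPts).subgroupOf Cfsg.M24 := by
    ext σ
    rw [Subgroup.mem_map_equiv, Subgroup.mem_subgroupOf, mem_setStab, hR]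
    have ei : ((c.symm σ : ↥Cfsg.M24) : Equiv.Perm Cfsg.GolayPt) i = g⁻¹ ((σ : Equiv.Perm Cfsg.GolayPt) none) := by
      show (g⁻¹ * (σ : Equiv.Perm Cfsg.GolayPt) * g) i = _
      rw [Equiv.Perm.mul_apply, Equiv.Perm.mul_apply, gi]
    have ej : ((c.symm σ : ↥Cfsg.M24) : Equiv.Perm Cfsg.GolayPt) j = g⁻¹ ((σ : Equiv.Perm Cfsg.GolayPt) (some 0)) := by
      show (g⁻¹ * (σ : Equiv.Perm Cfsg.GolayPt) * g) j = _
      rw [Equiv.Perm.mul_apply, Equiv.Perm.mul_apply, gj]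
    rw [ei, ej]
    have key : ∀ x y, g y = x → (g⁻¹ ((σ : Equiv.Perm Cfsg.GolayPt) none) = y ↔ (σ : Equiv.Perm Cfsg.GolayPt) none = x) ∧
        (g⁻¹ ((σ : Equiv.Perm Cfsg.GolayPt) (some 0)) = y ↔ (σ : Equiv.Perm Cfsg.GolayPt) (some 0) = x) :=
      fun x y e => by subst e; exact ⟨Equiv.Perm.inv_eq_iff_eq, Equiv.Perm.inv_eq_iff_eq⟩
    rw [(key _ _ gi).1, (key _ _ gi).2, (key _ _ gj).1, (key _ _ gj).2]
    constructor
    · intro h
      refine ⟨σ.2, ?_⟩
      rcases h with ⟨h1, h2⟩ | ⟨h1, h2⟩ <;> simp [twoPts, h1, h2, Finset.pair_comm]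
    · rintro ⟨-, h⟩
      have h1 : (σ : Equiv.Perm Cfsg.GolayPt) none ∈ twoPts := h ▸ Finset.mem_map_of_mem _ (by simp [twoPts])
      have h2 : (σ : Equiv.Perm Cfsg.GolayPt) (some 0) ∈ twoPts := h ▸ Finset.mem_map_of_mem _ (by simp [twoPts])
      have hne : (σ : Equiv.Perm Cfsg.GolayPt) none ≠ (σ : Equiv.Perm Cfsg.GolayPt) (some 0) :=
        fun e => Option.some_ne_none (0 : ZMod 23) ((σ : Equiv.Perm Cfsg.GolayPt).injective e).symm
      simp only [twoPts, Finset.mem_insert, Finset.mem_singleton] at h1 h2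
      rcases h1 with h1 | h1 <;> rcases h2 with h2 | h2
      · exact absurd (h1.trans h2.symm) hne
      · exact Or.inl ⟨h1, h2⟩
      · exact Or.inr ⟨h1, h2⟩
      · exact absurd (h1.trans h2.symm) hne
  exact ⟨((c.subgroupMap R).trans (MulEquiv.subgroupCongr hmap)).trans
    ((Subgroup.subgroupOfEquivOfLe (inf_le_left : setStab twoPts ≤ Cfsg.M24)).trans autM22Equiv)⟩

namespace Ctx

variable {G : Type u} [Group G] [Finite G] {z : G} {P : Subgroup G} (X : Ctx z P)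

/-- Every involution of `G` is conjugate into `Vg`. -/
theorem exists_invol_conj_Vg (hmoved : ∃ m ∈ Subgroup.normalizer (X.Vg : Set G), m * z * m⁻¹ ≠ z)
    {t : G} (ht : t * t = 1) : ∃ g : G, g * t * g⁻¹ ∈ X.Vg := by
  classical
  have : Fact (Nat.Prime 2) := ⟨Nat.prime_two⟩
  obtain ⟨ec, D, -⟩ := exists_vact_low X (fun a ha => X.VV_sq X.model.stabFacts ha)
    (X.card_normalizer X.model.stabFacts) X.exists_norm_conj_z hmoved
  have hp : IsPGroup 2 (Subgroup.zpowers t) := by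
    rintro ⟨x, k, rfl⟩
    refine ⟨1, Subtype.ext ?_⟩
    show (t ^ k) ^ (2 ^ 1) = 1
    rw [pow_one, ← zpow_natCast, ← zpow_mul, mul_comm, zpow_mul, zpow_natCast, pow_two, ht, one_zpow]
  obtain ⟨T, hT⟩ := hp.exists_le_sylow (G := G)
  obtain ⟨V, ⟨hVT, hVe, hVc⟩, huniq⟩ := X.vg_unique' T
  have htV : t ∈ Subgroup.normalizer (V : Set G) := by
    refine Subgroup.mem_normalizer_iff_map_conj_eq.2 ?_
    refine huniq _ ⟨?_, elementary_map hVe _, ?_⟩
    · rintro _ ⟨v, hv, rfl⟩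
      exact mul_mem (mul_mem (hT (Subgroup.mem_zpowers t)) (hVT hv)) (inv_mem (hT (Subgroup.mem_zpowers t)))
    · rw [Subgroup.card_map_of_injective (MulEquiv.injective _), hVc]
  obtain ⟨g, hg⟩ := X.exists_conj_eq_Vg hVe hVc
  have hn : g * t * g⁻¹ ∈ Subgroup.normalizer (X.Vg : Set G) := by
    rw [← hg]
    exact Subgroup.le_normalizer_map _ ⟨t, htV, rfl⟩
  obtain ⟨h, hh⟩ := D.conj_into hn (by
    rw [show g * t * g⁻¹ * (g * t * g⁻¹) = g * (t * t) * g⁻¹ by group, ht, mul_one, mul_inv_cancel])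
  refine ⟨h * g, ?_⟩
  rwa [show h * g * t * (h * g)⁻¹ = h * (g * t * g⁻¹) * h⁻¹ by group]

/-- **The centraliser of an involution outside the class of `z`.** -/
theorem centralizer_split (hmoved : ∃ m ∈ Subgroup.normalizer (X.Vg : Set G), m * z * m⁻¹ ≠ z)
    (t : G) (ht : orderOf t = 2) (hnc : ¬ IsConj z t) :
    ∃ V K : Subgroup G, V ≤ Subgroup.centralizer ({t} : Set G) ∧ K ≤ Subgroup.centralizer ({t} : Set G) ∧
    Subgroup.centralizer ({t} : Set G) ≤ Subgroup.normalizer (V : Set G) ∧ Cfsg.IsElementaryAbelian 2 V ∧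
    Nat.card ↥V = 2 ^ 11 ∧
    K ⊓ V = ⊥ ∧ K ⊔ V = Subgroup.centralizer ({t} : Set G) ∧ Nonempty (↥K ≃* MulAut ↥Cfsg.Spor.M22) := by
  classical
  have hS := X.model.stabFacts
  have hsq : ∀ a ∈ X.VV, a * a = 1 := fun a ha => X.VV_sq hS ha
  obtain ⟨ec, D, hlow⟩ := exists_vact_low X hsq (X.card_normalizer hS) X.exists_norm_conj_z hmoved
  have F : VFrame z X.Vg := D.vframe
  have ht2 : t * t = 1 := by rw [← pow_two, ← ht]; exact pow_orderOf_eq_one t
  obtain ⟨g, hg⟩ := X.exists_invol_conj_Vg hmoved ht2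
  set s := g * t * g⁻¹ with hs
  have hs1 : s ≠ 1 := fun e => by
    rw [conj_eq_one_iff.1 e, orderOf_one] at ht
    omega
  have hsnc : ¬ IsConj z s := fun e => hnc (e.trans (isConj_iff.2 ⟨g⁻¹, by rw [hs]; group⟩))
  have hcent : CC s ≤ Subgroup.normalizer (X.Vg : Set G) :=
    F.centralizer_le_normalizer (fun a ha haz u hu => X.centralizer_pair_le D hlow a ha haz u hu)
      X.eq_Vg_of_le_normalizer ⟨hg, hs1, hsnc⟩
  obtain ⟨K₀, hKN, hKV, hKsup, -⟩ := exists_complement X hsq F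
  obtain ⟨φ, hφ, hker, hpair⟩ := F.mathieuLocal.quot
  obtain ⟨i, j, hij, hfix⟩ := hpair s hg hs1 hsnc
  have hVs : X.Vg ≤ CC s := fun v hv => Subgroup.mem_centralizer_singleton_iff.2 (F.comm v hv s hg)
  set K := K₀ ⊓ CC s with hK
  have hKs : K ⊓ X.Vg = ⊥ := le_bot_iff.1 ((inf_le_inf_right _ inf_le_left).trans hKV.le)
  have hsup : K ⊔ X.Vg = CC s := by
    refine le_antisymm (sup_le inf_le_right hVs) fun x hx => ?_
    have hxN : x ∈ K₀ ⊔ X.Vg := hKsup ▸ hcent hx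
    rw [← SetLike.mem_coe, Subgroup.coe_mul_of_left_le_normalizer_right _ _ hKN] at hxN
    obtain ⟨k, hk, v, hv, rfl⟩ := hxN
    have hkC : k ∈ CC s := by
      have := mul_mem hx (inv_mem (hVs hv))
      rwa [mul_inv_cancel_right] at this
    exact mul_mem (Subgroup.mem_sup_left ⟨hk, hkC⟩) (Subgroup.mem_sup_right hv)
  -- the complement maps onto the stabiliser of the pair
  have hKle : K ≤ Subgroup.normalizer (X.Vg : Set G) := inf_le_left.trans hKN
  let ψ : ↥K →* ↥Cfsg.M24 := φ.comp (Subgroup.inclusion hKle)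
  have hψ : Function.Injective ψ := by
    rw [injective_iff_map_eq_one]
    intro x hx
    have hm : Subgroup.inclusion hKle x ∈ X.Vg.subgroupOf (Subgroup.normalizer (X.Vg : Set G)) := by rw [← hker]; exact hx
    have : (x : G) ∈ K ⊓ X.Vg := ⟨x.2, hm⟩
    rw [hKs, Subgroup.mem_bot] at this
    exact Subtype.ext this
  have hR : ∀ σ : ↥Cfsg.M24, σ ∈ ψ.range ↔
      ((σ : Equiv.Perm Cfsg.GolayPt) i = i ∧ (σ : Equiv.Perm Cfsg.GolayPt) j = j) ∨
      ((σ : Equiv.Perm Cfsg.GolayPt) i = j ∧ (σ : Equiv.Perm Cfsg.GolayPt) j = i) := by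
    intro σ
    constructor
    · rintro ⟨x, rfl⟩
      exact (hfix (Subgroup.inclusion hKle x)).1
        (mul_inv_eq_iff_eq_mul.2 (Subgroup.mem_centralizer_singleton_iff.1 x.2.2))
    · intro h
      obtain ⟨n, rfl⟩ := hφ σ
      have hn : (n : G) ∈ CC s := Subgroup.mem_centralizer_singleton_iff.2 (mul_inv_eq_iff_eq_mul.1 ((hfix n).2 h))
      rw [← hsup, ← SetLike.mem_coe, Subgroup.coe_mul_of_left_le_normalizer_right _ _ hKle] at hn
      obtain ⟨k, hk, v, hv, e⟩ := hn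
      refine ⟨⟨k, hk⟩, ?_⟩
      have hv' : φ ⟨v, Subgroup.le_normalizer hv⟩ = 1 := by
        rw [← MonoidHom.mem_ker, hker]; exact hv
      show φ (Subgroup.inclusion hKle ⟨k, hk⟩) = φ n
      rw [show n = Subgroup.inclusion hKle ⟨k, hk⟩ * ⟨v, Subgroup.le_normalizer hv⟩ from Subtype.ext e.symm,
        map_mul, hv', mul_one]
  obtain ⟨eK⟩ := exists_pair_equiv hij hR
  -- back to `t`
  let f := (MulAut.conj g⁻¹).toMonoidHom
  have hf : Function.Injective f := (MulAut.conj g⁻¹).injective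
  have hCC : (CC s).map f = Subgroup.centralizer ({t} : Set G) := by
    ext x
    rw [Subgroup.mem_map_equiv, Subgroup.mem_centralizer_singleton_iff, Subgroup.mem_centralizer_singleton_iff]
    show g⁻¹⁻¹ * x * g⁻¹ * s = s * (g⁻¹⁻¹ * x * g⁻¹) ↔ _
    rw [inv_inv, hs, show g * x * g⁻¹ * (g * t * g⁻¹) = g * (x * t) * g⁻¹ by group,
      show g * t * g⁻¹ * (g * x * g⁻¹) = g * (t * x) * g⁻¹ by group, mul_left_inj, mul_right_inj]
  refine ⟨X.Vg.map f, K.map f, ?_, ?_, ?_, elementary_map (X.Vg_elementary hS) f, ?_, ?_, ?_,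
    ⟨((Subgroup.equivMapOfInjective K f hf).symm.trans (MonoidHom.ofInjective hψ)).trans eK⟩⟩
  · rw [← hCC]; exact Subgroup.map_mono hVs
  · rw [← hCC]; exact Subgroup.map_mono inf_le_right
  · rw [← hCC]; exact (Subgroup.map_mono hcent).trans (Subgroup.le_normalizer_map _)
  · rw [Subgroup.card_map_of_injective hf, X.card_Vg hS]; norm_num
  · rw [← Subgroup.map_inf _ _ _ hf, hKs, Subgroup.map_bot]
  · rw [← Subgroup.map_sup, hsup, hCC]

end Ctx

end CfsgLib.J4Type
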