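import Cfsg.Agent.Lib.J4Type.Frame
import Cfsg.Agent.Lib.MathieuAut22.Fixed

/-!
The centraliser of an element `t` of the subgroup `A` of order `2^11` outside the class of `z` lies in
the normaliser of `A`, given the same for the centralisers of pairs `(z', t)` with `z'` in the class of `z`.

If `A` and a conjugate `B` under `C(t)` are different, they share at most a triangle of pairs; no element
of `N(A) \ A` is conjugate in `C(t)` to a conjugate of `z` in `A`; and the central involution of the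
dihedral group of two suitable non-conjugate elements of the class of `z`, one from `A` and one from `B`,
would lie in the intersection, which is impossible.
-/

set_option autoImplicit false
set_option linter.unusedSectionVars false
set_option linter.style.haveILetI false

namespace CfsgLib.J4Type

open CfsgLib.FischerTwoFour.Cocode (isConj_conj_iff perm_eq_of_pairs)

universe u

/-- Two commuting involutions, neither they nor their product fixing more than eight of the 24 points: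
one moves some pair preserved by the other to a disjoint pair. -/
theorem exists_moved_pair {β σ : Equiv.Perm Cfsg.GolayPt} (hβ : ∀ i, β (β i) = i) (hσ : ∀ i, σ (σ i) = i)
    (hc : ∀ i, σ (β i) = β (σ i)) (h8 : (Finset.univ.filter fun i => σ i = i).card ≤ 8)
    (h8' : (Finset.univ.filter fun i => σ (β i) = i).card ≤ 8) :
    ∃ i j, i ≠ j ∧ ((β i = i ∧ β j = j) ∨ (β i = j ∧ β j = i)) ∧
      σ i ≠ i ∧ σ i ≠ j ∧ σ j ≠ i ∧ σ j ≠ j := by
  classical
  by_contra hne
  push Not at hne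
  have hmoved : ∀ i, β i ≠ i → σ i = i ∨ σ (β i) = i := by
    intro i hi
    by_contra h
    push Not at h
    obtain ⟨h1, h2⟩ := h
    have h3 : σ i ≠ β i := fun e => h2 (by rw [hc, e, hβ])
    refine h1 ?_
    have := hne i (β i) (Ne.symm hi) (Or.inr ⟨rfl, hβ i⟩) h1 h3 h2
    exact β.injective ((hc i).symm.trans this)
  let A := Finset.univ.filter fun i => σ i = i
  let B := Finset.univ.filter fun i => σ (β i) = i
  let M := Finset.univ.filter fun i => β i = i ∧ σ i ≠ i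
  have hcov : Finset.univ ⊆ A ∪ B ∪ M := by
    intro i _
    simp only [A, B, M, Finset.mem_union, Finset.mem_filter, Finset.mem_univ, true_and]
    by_cases hb : β i = i
    · by_cases hs : σ i = i
      · exact Or.inl (Or.inl hs)
      · exact Or.inr ⟨hb, hs⟩
    · exact Or.inl (hmoved i hb)
  have hM : M.card ≤ 2 := by
    rcases M.eq_empty_or_nonempty with e | ⟨i, hi⟩
    · rw [e]; simp
    · simp only [M, Finset.mem_filter, Finset.mem_univ, true_and] at hi
      refine (Finset.card_le_card (t := {i, σ i}) fun j hj => ?_).trans Finset.card_le_two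
      simp only [M, Finset.mem_filter, Finset.mem_univ, true_and] at hj
      rw [Finset.mem_insert, Finset.mem_singleton]
      by_contra h
      push Not at h
      have h3 : σ j ≠ i := fun e => h.2 (by rw [← e, hσ])
      exact hj.2 (hne i j (Ne.symm h.1) (Or.inl ⟨hi.1, hj.1⟩) hi.2 (Ne.symm h.2) h3)
  have := (Finset.card_le_card hcov).trans
    ((Finset.card_union_le _ _).trans (Nat.add_le_add_right (Finset.card_union_le _ _) _))
  rw [Finset.card_univ, Fintype.card_option, ZMod.card] at this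
  have hA : A.card ≤ 8 := h8
  have hB : B.card ≤ 8 := h8'
  omega

variable {G : Type u} [Group G] [Finite G]

/-- An involution normalising an abelian subgroup of exponent two centralises at least the square root of it. -/
theorem card_le_fix_sq {A : Subgroup G} (hsq : ∀ a ∈ A, a * a = 1) {b : G}
    (hb : b ∈ Subgroup.normalizer (A : Set G)) (hb2 : b * b = 1) :
    Nat.card A ≤ Nat.card ↥(A ⊓ CC b) * Nat.card ↥(A ⊓ CC b) := by
  classical
  have hcomm : ∀ x ∈ A, ∀ y ∈ A, x * y = y * x := fun x hx y hy => by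
    have hi : ∀ w ∈ A, w⁻¹ = w := fun w hw => inv_eq_of_mul_eq_one_right (hsq w hw)
    rw [← hi _ (mul_mem hx hy), mul_inv_rev, hi x hx, hi y hy]
  have hn : ∀ x ∈ A, b * x * b⁻¹ ∈ A := fun x hx => norm_conj_mem hb hx
  let f : A →* A :=
    { toFun := fun x => ⟨(x : G) * (b * x * b⁻¹), mul_mem x.2 (hn x x.2)⟩
      map_one' := Subtype.ext (by simp)
      map_mul' := fun x y => Subtype.ext (by
        show (x : G) * y * (b * ((x : G) * y) * b⁻¹) = x * (b * x * b⁻¹) * (y * (b * y * b⁻¹))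
        rw [show b * ((x : G) * y) * b⁻¹ = b * x * b⁻¹ * (b * y * b⁻¹) by group,
          mul_assoc (x : G) y, ← mul_assoc (y : G), hcomm y y.2 _ (hn x x.2)]
        group) }
  have hker : ∀ x : A, f x = 1 ↔ (x : G) ∈ A ⊓ CC b := fun x => by
    rw [Subgroup.mem_inf, Subgroup.mem_centralizer_singleton_iff, Subtype.ext_iff]
    show (x : G) * (b * x * b⁻¹) = 1 ↔ _
    rw [mul_eq_one_iff_eq_inv', inv_eq_of_mul_eq_one_right (hsq x x.2), mul_inv_eq_iff_eq_mul]
    exact ⟨fun e => ⟨x.2, e.symm⟩, fun e => e.2.symm⟩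
  have h1 : Nat.card f.ker ≤ Nat.card ↥(A ⊓ CC b) :=
    Nat.card_le_card_of_injective (fun x => ⟨((x : A) : G), (hker x).1 x.2⟩)
      fun x y e => Subtype.ext (Subtype.ext (Subtype.ext_iff.1 e :))
  have h2 : Nat.card f.range ≤ Nat.card f.ker := by
    refine Subgroup.card_le_of_le ?_
    rintro _ ⟨x, rfl⟩
    refine MonoidHom.mem_ker.2 (Subtype.ext ?_)
    show (x : G) * (b * x * b⁻¹) * (b * ((x : G) * (b * x * b⁻¹)) * b⁻¹) = 1
    have hb' : b⁻¹ = b := inv_eq_of_mul_eq_one_right hb2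
    rw [show b * ((x : G) * (b * x * b⁻¹)) * b⁻¹ = b * x * b⁻¹ * ((b * b) * x * (b * b)⁻¹) by group,
      hb2, one_mul, inv_one, mul_one, mul_assoc, ← mul_assoc (b * x * b⁻¹), hsq _ (hn x x.2), one_mul,
      hsq _ x.2]
  rw [Subgroup.card_eq_card_quotient_mul_card_subgroup f.ker,
    Nat.card_congr (QuotientGroup.quotientKerEquivRange f).toEquiv]
  exact Nat.mul_le_mul (h2.trans h1) h1

/-- Two involutions generate a dihedral group: they are conjugate or some involution centralises both. -/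
theorem dihedral_cases {a b : G} (ha : a * a = 1) (hb : b * b = 1) (H : Subgroup G) (haH : a ∈ H)
    (hbH : b ∈ H) (hnc : ∀ g ∈ H, g * a * g⁻¹ ≠ b) :
    ∃ j ∈ H, j ≠ 1 ∧ j * a = a * j ∧ j * b = b * j ∧
      (((∃ g ∈ H, g * a * g⁻¹ = j * a) ∧ ∃ g ∈ H, g * b * g⁻¹ = j * b) ∨
        ((∃ g ∈ H, g * b * g⁻¹ = j * a) ∧ ∃ g ∈ H, g * a * g⁻¹ = j * b)) := by
  have ha' : a⁻¹ = a := inv_eq_of_mul_eq_one_right ha
  have hb' : b⁻¹ = b := inv_eq_of_mul_eq_one_right hb
  set w := a * b with hw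
  have hwH : w ∈ H := mul_mem haH hbH
  have hwi : w⁻¹ = b * a := by rw [hw, mul_inv_rev, ha', hb']
  have hpow : w ^ orderOf w = 1 := pow_orderOf_eq_one w
  have hA : ∀ k : ℕ, w ^ k * a * (w ^ k)⁻¹ = w ^ (k + k) * a := fun k => by
    have h : a * (w ^ k)⁻¹ = w ^ k * a := by
      have e : a * w⁻¹ * a⁻¹ = w := by
        rw [hwi, ha', hw]; simp only [mul_assoc, ha, mul_one]
      rw [← inv_pow, ← mul_inv_eq_iff_eq_mul, ← MulAut.conj_apply, map_pow, MulAut.conj_apply, e]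
    rw [mul_assoc, h, ← mul_assoc, ← pow_add]
  have hB : ∀ k : ℕ, w ^ k * b * (w ^ k)⁻¹ = w ^ (k + k) * b := fun k => by
    have h : b * (w ^ k)⁻¹ = w ^ k * b := by
      have e : b * w⁻¹ * b⁻¹ = w := by
        rw [hwi, hb', hw]; simp only [← mul_assoc, hb, one_mul]
      rw [← inv_pow, ← mul_inv_eq_iff_eq_mul, ← MulAut.conj_apply, map_pow, MulAut.conj_apply, e]
    rw [mul_assoc, h, ← mul_assoc, ← pow_add]
  have hwa : w⁻¹ * a = b := by rw [hwi, mul_assoc, ha, mul_one]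
  have hwb : w * b = a := by rw [hw, mul_assoc, hb, mul_one]
  rcases Nat.even_or_odd' (orderOf w) with ⟨n, hn | hn⟩
  · have hn0 : n ≠ 0 := fun e => by
      have := orderOf_pos w; omega
    set j := w ^ n with hj
    have hj1 : j ≠ 1 := fun e => by
      have := orderOf_dvd_of_pow_eq_one e
      have := Nat.le_of_dvd (by omega) this
      omega
    have hjj : j⁻¹ = j := inv_eq_of_mul_eq_one_right (by rw [hj, ← pow_add, ← two_mul, ← hn, hpow])
    have comm : ∀ x : G, w ^ n * x * (w ^ n)⁻¹ = w ^ (n + n) * x → j * x = x * j := fun x e => by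
      rw [← two_mul, ← hn, hpow, one_mul, mul_inv_eq_iff_eq_mul] at e
      exact e
    refine ⟨j, pow_mem hwH n, hj1, comm a (hA n), comm b (hB n), ?_⟩
    rcases Nat.even_or_odd' n with ⟨k, hk | hk⟩
    · refine Or.inl ⟨⟨w ^ k, pow_mem hwH k, ?_⟩, ⟨w ^ k, pow_mem hwH k, ?_⟩⟩
      · rw [hA, hj, hk, two_mul]
      · rw [hB, hj, hk, two_mul]
    · refine Or.inr ⟨⟨w ^ (k + 1), pow_mem hwH _, ?_⟩, ⟨w ^ k, pow_mem hwH k, ?_⟩⟩
      · rw [hB, hj, hk, show k + 1 + (k + 1) = 2 * k + 1 + 1 by omega, pow_succ, mul_assoc, hwb]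
      · rw [hA, hj, hk, pow_succ, mul_assoc, hwb, two_mul]
  · refine absurd ?_ (hnc (w ^ n) (pow_mem hwH n))
    rw [hA, ← two_mul]
    have e : w ^ (2 * n) = w⁻¹ := eq_inv_of_mul_eq_one_left (by rw [← pow_succ, ← hn, hpow])
    rw [e, hwa]

namespace VFrame

variable {z : G} {A : Subgroup G} (h : VFrame z A)

include h

/-- The centraliser of an element outside the class of `z` normalises `A`. -/
theorem centralizer_le_normalizer
    (hP0 : ∀ a ∈ A, IsConj z a → ∀ t ∈ ncG z A, CC a ⊓ CC t ≤ Subgroup.normalizer (A : Set G))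
    (huniq : ∀ B : Subgroup G, (∀ a ∈ B, a * a = 1) → Nat.card B = 2048 →
      B ≤ Subgroup.normalizer (A : Set G) → B = A)
    {t : G} (ht : t ∈ ncG z A) : CC t ≤ Subgroup.normalizer (A : Set G) := by
  classical
  obtain ⟨p, hdiag, hsym, hNc, hsurj, hinj, hequiv, hker, -, -, hadd, hdisj⟩ := h.exists_pairs
  obtain ⟨i₀, j₀, hij, rfl⟩ := hsurj t ht
  set t := p i₀ j₀ with htdef
  set N := Subgroup.normalizer (A : Set G) with hN
  have hpA : ∀ i j, p i j ∈ A := fun i j => by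
    by_cases e : i = j
    · rw [e, hdiag]; exact A.one_mem
    · exact (hNc i j e).1
  have hsq : ∀ i j, p i j * p i j = 1 := fun i j => h.sq _ (hpA i j)
  have hz : ∀ i j k l, i ≠ j → k ≠ l → k ≠ i → k ≠ j → l ≠ i → l ≠ j → IsConj z (p i j * p k l) := by
    intro i j k l h1 h2 h3 h4 h5 h6
    refine (eq_or_conj (mul_mem (hpA i j) (hpA k l)) fun e => ?_).resolve_left (hdisj i j k l h1 h2 h3 h4 h5 h6)
    rcases hinj i j k l h1 h2 (by rw [eq_inv_of_mul_eq_one_left e, inv_eq_of_mul_eq_one_right (hsq k l)])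
      with ⟨e', -⟩ | ⟨e', -⟩
    · exact h3 e'
    · exact h4 e'
  have fresh : ∀ l : List Cfsg.GolayPt, l.length < 24 → ∃ d, d ∉ l := by
    intro l hl
    by_contra hh
    push Not at hh
    have h1 := Finset.card_le_card (s := Finset.univ) (t := l.toFinset) fun d _ => List.mem_toFinset.2 (hh d)
    rw [Finset.card_univ, Fintype.card_option, ZMod.card] at h1
    have := l.toFinset_card_le
    omega
  have htA : t ∈ A := hpA _ _
  have htB : ∀ {x : G}, x ∈ CC t → x * t * x⁻¹ = t := fun {x} hx => by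
    rw [Subgroup.mem_centralizer_singleton_iff.1 hx, mul_inv_cancel_right]
  have hA_t : ∀ a ∈ A, a ∈ CC t := fun a ha =>
    Subgroup.mem_centralizer_singleton_iff.2 (h.comm a ha t htA)
  -- conjugates of `A` under `C(t)`
  let cB : G → Subgroup G := fun x => A.map (MulAut.conj x).toMonoidHom
  have hcB : ∀ x g, g ∈ cB x ↔ x⁻¹ * g * x ∈ A := fun x g => by
    constructor
    · rintro ⟨a, ha, rfl⟩
      show x⁻¹ * (x * a * x⁻¹) * x ∈ A
      rwa [show x⁻¹ * (x * a * x⁻¹) * x = a by group]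
    · exact fun hg => ⟨_, hg, by show x * (x⁻¹ * g * x) * x⁻¹ = g; group⟩
  have hBcomm : ∀ x, ∀ g ∈ cB x, ∀ g' ∈ cB x, g * g' = g' * g := by
    rintro x _ ⟨a, ha, rfl⟩ _ ⟨a', ha', rfl⟩
    rw [← map_mul, ← map_mul, h.comm a ha a' ha']
  have hBsq : ∀ x, ∀ g ∈ cB x, g * g = 1 := by
    rintro x _ ⟨a, ha, rfl⟩
    rw [← map_mul, h.sq a ha, map_one]
  have hBcard : ∀ x, Nat.card (cB x) = 2048 := fun x =>
    (Nat.card_congr (Subgroup.equivMapOfInjective A _ (MulAut.conj x).injective).toEquiv).symm.trans h.card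
  have hBt : ∀ x ∈ CC t, t ∈ cB x := fun x hx => ⟨t, htA, htB hx⟩
  have hBN : ∀ x g, x⁻¹ * g * x ∈ N → g ∈ Subgroup.normalizer (cB x : Set G) := by
    intro x g hg
    refine Subgroup.mem_normalizer_iff.2 fun a => ?_
    rw [hcB, hcB, show x⁻¹ * (g * a * g⁻¹) * x = x⁻¹ * g * x * (x⁻¹ * a * x) * (x⁻¹ * g * x)⁻¹ by group]
    exact Subgroup.mem_normalizer_iff.1 hg _
  have hP : ∀ a ∈ A, IsConj z a → ∀ g, g ∈ CC a → g ∈ CC t → g ∈ N := fun a ha hc g h1 h2 =>
    hP0 a ha hc t ht ⟨h1, h2⟩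
  -- a conjugate different from `A` meets it in no conjugate of `z`
  have hI : ∀ x ∈ CC t, cB x ≠ A → ∀ g ∈ A ⊓ cB x, g ≠ 1 → g ∈ ncG z A := by
    intro x hx hne g ⟨hgA, hgB⟩ hg1
    refine ⟨hgA, hg1, fun hc => hne (huniq _ (hBsq x) (hBcard x) fun y hy => ?_)⟩
    exact hP g hgA hc y (Subgroup.mem_centralizer_singleton_iff.2 (hBcomm x y hy g hgB))
      (Subgroup.mem_centralizer_singleton_iff.2 (hBcomm x y hy t (hBt x hx)))
  -- a subgroup without conjugates of `z` is within a triangle at `t`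
  have star : ∀ J : Subgroup G, t ∈ J → (∀ g ∈ J, g ≠ 1 → g ∈ ncG z A) →
      ∃ x, x ≠ i₀ ∧ x ≠ j₀ ∧ ∀ g ∈ J, g = 1 ∨ g = t ∨ g = p i₀ x ∨ g = p j₀ x := by
    intro J htJ hJ
    have key : ∀ g ∈ J, g ≠ 1 → g ≠ t → ∃ x, x ≠ i₀ ∧ x ≠ j₀ ∧ p i₀ x ∈ J ∧ (g = p i₀ x ∨ g = p j₀ x) := by
      intro g hg hg1 hgt
      obtain ⟨k, l, hkl, rfl⟩ := hsurj g (hJ g hg hg1)
      have mk : ∀ x, x ≠ i₀ → x ≠ j₀ → (p k l = p i₀ x ∨ p k l = p j₀ x) →
          ∃ x, x ≠ i₀ ∧ x ≠ j₀ ∧ p i₀ x ∈ J ∧ (p k l = p i₀ x ∨ p k l = p j₀ x) := by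
        intro x h1 h2 e
        refine ⟨x, h1, h2, ?_, e⟩
        rcases e with e | e
        · exact e ▸ hg
        · rw [← hadd j₀ i₀ x, hsym j₀ i₀, ← htdef, ← e]
          exact mul_mem htJ hg
      by_cases hk1 : k = i₀
      · subst hk1
        exact mk l (Ne.symm hkl) (fun e => hgt (by rw [e])) (Or.inl rfl)
      by_cases hk2 : k = j₀
      · subst hk2
        exact mk l (fun e => hgt (by rw [e, hsym])) (Ne.symm hkl) (Or.inr rfl)
      by_cases hl1 : l = i₀
      · subst hl1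
        exact mk k hk1 hk2 (Or.inl (hsym _ _))
      by_cases hl2 : l = j₀
      · subst hl2
        exact mk k hk1 hk2 (Or.inr (hsym _ _))
      exfalso
      have hz' := hz i₀ j₀ k l hij hkl hk1 hk2 hl1 hl2
      refine (hJ _ (mul_mem htJ hg) fun e => ?_).2.2 hz'
      exact h.ne_one (isConj_one_left.1 (show IsConj z 1 from e ▸ hz'))
    by_cases hex : ∃ g ∈ J, g ≠ 1 ∧ g ≠ t
    · obtain ⟨g₀, hg₀, h1, h2⟩ := hex
      obtain ⟨x, hx1, hx2, hxJ, -⟩ := key g₀ hg₀ h1 h2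
      refine ⟨x, hx1, hx2, fun g hg => ?_⟩
      by_cases h3 : g = 1
      · exact Or.inl h3
      by_cases h4 : g = t
      · exact Or.inr (Or.inl h4)
      obtain ⟨x', hx1', hx2', hxJ', e⟩ := key g hg h3 h4
      by_cases hxx : x' = x
      · subst hxx; exact Or.inr (Or.inr e)
      exfalso
      have hxx' : p x x' ∈ J := by rw [← hadd i₀ x x']; exact mul_mem hxJ hxJ'
      have hz' := hz i₀ j₀ x x' hij (Ne.symm hxx) hx1 hx2 hx1' hx2'
      refine (hJ _ (mul_mem htJ hxx') fun e => ?_).2.2 hz'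
      exact h.ne_one (isConj_one_left.1 (show IsConj z 1 from e ▸ hz'))
    · push Not at hex
      obtain ⟨x, hx⟩ := fresh [i₀, j₀] (by simp)
      simp only [List.mem_cons, List.not_mem_nil, or_false, not_or] at hx
      refine ⟨x, hx.1, hx.2, fun g hg => ?_⟩
      by_cases h3 : g = 1
      · exact Or.inl h3
      · exact Or.inr (Or.inl (hex g hg h3))
  have card4 : ∀ J : Subgroup G, t ∈ J → (∀ g ∈ J, g ≠ 1 → g ∈ ncG z A) → Nat.card J ≤ 4 := by
    intro J htJ hJ
    obtain ⟨x, -, -, hxs⟩ := star J htJ hJ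
    rw [show Nat.card J = (J : Set G).ncard from Nat.card_coe_set_eq _]
    refine (Set.ncard_le_ncard (t := ↑({1, t, p i₀ x, p j₀ x} : Finset G)) (fun g hg => ?_) (Finset.finite_toSet _)).trans ?_
    · simpa using hxs g hg
    · rw [Set.ncard_coe_finset]; exact Finset.card_le_four
  -- no element of `N(A) \ A` is conjugate in `C(t)` to a conjugate of `z` in `A`
  have hP3 : ∀ c ∈ A, IsConj z c → ∀ x ∈ CC t, x * c * x⁻¹ ∈ N → x * c * x⁻¹ ∈ A := by
    intro c hc hzc x hx hbN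
    set b := x * c * x⁻¹ with hb
    by_contra hbA
    have hbB : b ∈ cB x := ⟨c, hc, rfl⟩
    have hne : cB x ≠ A := fun e => hbA (e ▸ hbB)
    have hbt : b ∈ CC t := Subgroup.mem_centralizer_singleton_iff.2 (hBcomm x b hbB t (hBt x hx))
    have hCb : ∀ g, g ∈ CC b → g ∈ CC t → g ∈ Subgroup.normalizer (cB x : Set G) := by
      intro g h1 h2
      refine hBN x g (hP c hc hzc _ ?_ (mul_mem (mul_mem (inv_mem hx) h2) hx))
      rw [Subgroup.mem_centralizer_singleton_iff] at h1 ⊢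
      calc x⁻¹ * g * x * c = x⁻¹ * (g * b) * x := by rw [hb]; group
        _ = x⁻¹ * (b * g) * x := by rw [h1]
        _ = c * (x⁻¹ * g * x) := by rw [hb]; group
    have hb2 : b * b = 1 := hBsq x b hbB
    -- a conjugate of `z` in `C_A(b)`
    obtain ⟨d, ⟨hdA, hdb⟩, hdz⟩ : ∃ d, d ∈ A ⊓ CC b ∧ IsConj z d := by
      by_contra hno
      push Not at hno
      have h4 : Nat.card ↥(A ⊓ CC b) ≤ 4 := card4 _
        ⟨htA, Subgroup.mem_centralizer_singleton_iff.2 (Subgroup.mem_centralizer_singleton_iff.1 hbt).symm⟩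
        fun g hg hg1 => ⟨hg.1, hg1, hno g hg⟩
      have h5 := card_le_fix_sq (A := A) h.sq hbN hb2
      rw [h.card] at h5
      nlinarith
    have hdt : d ∈ CC t := hA_t d hdA
    have hdN : d ∈ Subgroup.normalizer (cB x : Set G) := hCb d hdb hdt
    -- an element of the conjugate centralising `d`, outside `A ∪ A b`
    have hI4 : Nat.card ↥(A ⊓ cB x) ≤ 4 := card4 _ ⟨htA, hBt x hx⟩ (hI x hx hne)
    obtain ⟨e, ⟨heB, hed⟩, heA, hebA⟩ : ∃ e, e ∈ cB x ⊓ CC d ∧ e ∉ A ∧ e * b ∉ A := by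
      by_contra hno
      push Not at hno
      set J := (A ⊓ cB x : Subgroup G)
      have hsub : ((cB x ⊓ CC d : Subgroup G) : Set G) ⊆ (J : Set G) ∪ (fun g => g * b) '' (J : Set G) := by
        intro e he
        by_cases h1 : e ∈ A
        · exact Or.inl ⟨h1, he.1⟩
        · exact Or.inr ⟨e * b, ⟨hno e he h1, mul_mem he.1 hbB⟩, by show e * b * b = e; rw [mul_assoc, hb2, mul_one]⟩
      have h8 := ((Set.ncard_le_ncard hsub (Set.toFinite _)).trans (Set.ncard_union_le _ _)).trans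
        (Nat.add_le_add_left Set.ncard_image_le _)
      rw [← Nat.card_coe_set_eq, ← Nat.card_coe_set_eq] at h8
      have h5 := card_le_fix_sq (A := cB x) (hBsq x) hdN (h.sq d hdA)
      rw [hBcard] at h5
      have h8' : Nat.card ↥(cB x ⊓ CC d) ≤ 8 := h8.trans (by
        show Nat.card ↥J + Nat.card ↥J ≤ 8
        omega)
      nlinarith
    have het : e ∈ CC t := Subgroup.mem_centralizer_singleton_iff.2 (hBcomm x e heB t (hBt x hx))
    have heN : e ∈ N := hP d hdA hdz e hed het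
    have he2 : e * e = 1 := hBsq x e heB
    obtain ⟨β, -, hβ⟩ := hequiv b hbN
    obtain ⟨σ, hσM, hσ⟩ := hequiv e heN
    obtain ⟨τ, hτM, hτ⟩ := hequiv (e * b) (mul_mem heN hbN)
    have huni : ∀ {π ρ : Equiv.Perm Cfsg.GolayPt}, (∀ i j, p (π i) (π j) = p (ρ i) (ρ j)) → ρ = π :=
      fun {π ρ} e' => perm_eq_of_pairs fun i j hij' =>
        hinj _ _ _ _ (π.injective.ne hij') (ρ.injective.ne hij') (e' i j)
    have hone : ∀ m : G, (∀ i j, m * p i j * m⁻¹ = p i j) → m ∈ N → m ∈ A := fun m hm hmN =>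
      hker m hmN fun u hu => by
        obtain ⟨i, j, -, rfl⟩ := hsurj u hu
        exact hm i j
    have hβ2 : β * β = 1 := huni fun i j => by
      show p i j = p (β (β i)) (β (β j))
      rw [← hβ, ← hβ, show b * (b * p i j * b⁻¹) * b⁻¹ = b * b * p i j * (b * b)⁻¹ by group, hb2]
      group
    have hσ2 : σ * σ = 1 := huni fun i j => by
      show p i j = p (σ (σ i)) (σ (σ j))
      rw [← hσ, ← hσ, show e * (e * p i j * e⁻¹) * e⁻¹ = e * e * p i j * (e * e)⁻¹ by group, he2]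
      group
    have hτσ : τ = σ * β := huni fun i j => by
      show p (σ (β i)) (σ (β j)) = p (τ i) (τ j)
      rw [← hσ, ← hβ, ← hτ]; group
    have hcom : σ * β = β * σ := huni fun i j => by
      show p (β (σ i)) (β (σ j)) = p (σ (β i)) (σ (β j))
      rw [← hβ, ← hσ, ← hσ, ← hβ, show b * (e * p i j * e⁻¹) * b⁻¹ = b * e * p i j * (b * e)⁻¹ by group,
        hBcomm x b hbB e heB]
      group
    have hσ1 : σ ≠ 1 := fun e1 => heA (hone e (fun i j => by rw [hσ, e1]; rfl) heN)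
    have hτ1 : τ ≠ 1 := fun e1 => hebA (hone _ (fun i j => by rw [hτ, e1]; rfl) (mul_mem heN hbN))
    obtain ⟨i, j, hne', hfix, m1, m2, m3, m4⟩ := exists_moved_pair
      (fun i => Equiv.Perm.congr_fun hβ2 i) (fun i => Equiv.Perm.congr_fun hσ2 i)
      (fun i => Equiv.Perm.congr_fun hcom i)
      (CfsgLib.MathieuAut22.card_fixed_le_eight hσM hσ1)
      (by
        have h8 := CfsgLib.MathieuAut22.card_fixed_le_eight hτM hτ1
        rw [hτσ] at h8
        exact h8)
    have hvb : b * p i j * b⁻¹ = p i j := by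
      rw [hβ]
      rcases hfix with ⟨e1, e2⟩ | ⟨e1, e2⟩ <;> rw [e1, e2]
      exact hsym j i
    have hvN : p i j ∈ Subgroup.normalizer (cB x : Set G) :=
      hCb _ (Subgroup.mem_centralizer_singleton_iff.2 (mul_inv_eq_iff_eq_mul.1 hvb).symm) (hA_t _ (hpA i j))
    have hin : e * p i j * e⁻¹ * p i j ∈ A ⊓ cB x := by
      refine ⟨mul_mem (norm_conj_mem heN (hpA i j)) (hpA i j), ?_⟩
      rw [show e * p i j * e⁻¹ * p i j = e * (p i j * e⁻¹ * p i j) by group]
      refine mul_mem heB ?_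
      have := norm_conj_mem hvN (inv_mem heB)
      rwa [inv_eq_of_mul_eq_one_right (hsq i j)] at this
    have hz' : IsConj z (e * p i j * e⁻¹ * p i j) := by
      rw [hσ]
      exact hz _ _ _ _ (σ.injective.ne hne') hne' (Ne.symm m1) (Ne.symm m3) (Ne.symm m2) (Ne.symm m4)
    refine (hI x hx hne _ hin fun e1 => ?_).2.2 hz'
    exact h.ne_one (isConj_one_left.1 (show IsConj z 1 from e1 ▸ hz'))
  -- the two elements of the dihedral group
  intro y hy
  by_contra hyN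
  have hne : cB y ≠ A := fun e => hyN (Subgroup.mem_normalizer_fintype fun a ha => by
    rw [SetLike.mem_coe] at ha ⊢
    exact e ▸ ⟨a, ha, rfl⟩)
  obtain ⟨x, hx1, hx2, hxs⟩ := star (A ⊓ cB y) ⟨htA, hBt y hy⟩ (hI y hy hne)
  obtain ⟨d, hd⟩ := fresh [i₀, j₀, x] (by simp)
  simp only [List.mem_cons, List.not_mem_nil, or_false, not_or] at hd
  obtain ⟨hd1, hd2, hd3⟩ := hd
  set a := t * p x d with ha
  have haA : a ∈ A := mul_mem htA (hpA _ _)
  have haz : IsConj z a := hz i₀ j₀ x d hij (Ne.symm hd3) hx1 hx2 hd1 hd2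
  have hat : a * t = p x d := by
    rw [ha, mul_assoc, h.comm _ (hpA x d) _ htA, ← mul_assoc, hsq, one_mul]
  have hau : a * p i₀ x = p j₀ d ∧ a * p j₀ x = p i₀ d := by
    constructor
    · rw [ha, mul_assoc, hsym i₀ x, h.comm _ (hpA x d) _ (hpA x i₀), hadd x i₀ d, htdef, hadd i₀ j₀ d]
    · rw [ha, mul_assoc, hsym j₀ x, h.comm _ (hpA x d) _ (hpA x j₀), hadd x j₀ d, htdef, hsym i₀ j₀,
        hadd j₀ i₀ d]
  have haI : ∀ j ∈ A ⊓ cB y, j ≠ 1 → ¬ IsConj z (a * j) := by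
    intro j hj hj1
    rcases hxs j hj with rfl | rfl | rfl | rfl
    · exact absurd rfl hj1
    · rw [hat]; exact (hNc _ _ (Ne.symm hd3)).2.2
    · rw [hau.1]; exact (hNc _ _ (Ne.symm hd2)).2.2
    · rw [hau.2]; exact (hNc _ _ (Ne.symm hd1)).2.2
  obtain ⟨x₁, hx₁⟩ := fresh [i₀, j₀] (by simp)
  obtain ⟨x₂, hx₂⟩ := fresh [i₀, j₀, x₁] (by simp)
  obtain ⟨x₃, hx₃⟩ := fresh [i₀, j₀, x₁, x₂] (by simp)
  simp only [List.mem_cons, List.not_mem_nil, or_false, not_or] at hx₁ hx₂ hx₃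
  obtain ⟨f1, f2⟩ := hx₁
  obtain ⟨g1, g2, g3⟩ := hx₂
  obtain ⟨k1, k2, k3, k4⟩ := hx₃
  set b₀ := p i₀ x₁ * p x₂ x₃ with hb₀
  have hb₀A : b₀ ∈ A := mul_mem (hpA _ _) (hpA _ _)
  have hb₀z : IsConj z b₀ := hz _ _ _ _ (Ne.symm f1) (Ne.symm k4) g1 g3 k1 k3
  have hb₀t : IsConj z (b₀ * t) := by
    rw [hb₀, mul_assoc, h.comm _ (hpA x₂ x₃) _ htA, ← mul_assoc, htdef, h.comm _ (hpA i₀ x₁) _ (hpA i₀ j₀),
      hadd i₀ j₀ x₁]
    exact hz _ _ _ _ (Ne.symm f2) (Ne.symm k4) g2 g3 k2 k3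
  set b := y * b₀ * y⁻¹ with hb
  have hbt : b ∈ CC t := Subgroup.mem_centralizer_singleton_iff.2 (hBcomm y b ⟨b₀, hb₀A, rfl⟩ t (hBt y hy))
  have hnconj : ∀ g ∈ CC t, g * a * g⁻¹ ≠ b := by
    intro g hg e
    refine (hNc x d (Ne.symm hd3)).2.2 ?_
    rw [← hat, ← isConj_conj_iff g]
    have e' : g * (a * t) * g⁻¹ = y * (b₀ * t) * y⁻¹ := by
      rw [show g * (a * t) * g⁻¹ = g * a * g⁻¹ * (g * t * g⁻¹) by group,
        show y * (b₀ * t) * y⁻¹ = y * b₀ * y⁻¹ * (y * t * y⁻¹) by group, e, htB hg, htB hy]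
    rw [e', isConj_conj_iff]
    exact hb₀t
  obtain ⟨j, hjt, hj1, hja, hjb, hcase⟩ :=
    dihedral_cases (h.sq a haA) (hBsq y b ⟨b₀, hb₀A, rfl⟩) (CC t) (hA_t a haA) hbt hnconj
  have hjN : j ∈ N := hP a haA haz j (Subgroup.mem_centralizer_singleton_iff.2 hja) hjt
  have hyjN : y⁻¹ * j * y ∈ N := by
    refine hP b₀ hb₀A hb₀z _ ?_ (mul_mem (mul_mem (inv_mem hy) hjt) hy)
    rw [Subgroup.mem_centralizer_singleton_iff]
    calc y⁻¹ * j * y * b₀ = y⁻¹ * (j * b) * y := by rw [hb]; group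
      _ = y⁻¹ * (b * j) * y := by rw [hjb]
      _ = b₀ * (y⁻¹ * j * y) := by rw [hb]; group
  have haN : a ∈ N := Subgroup.le_normalizer haA
  have hb₀N : b₀ ∈ N := Subgroup.le_normalizer hb₀A
  -- `j a` lies in `A` and `j b` in the conjugate
  obtain ⟨ha', hb'⟩ : (j * a ∈ A ∧ IsConj z (j * a)) ∧ j * b ∈ cB y := by
    have inA : ∀ c ∈ A, IsConj z c → ∀ g ∈ CC t, g * c * g⁻¹ = j * a → j * a ∈ A ∧ IsConj z (j * a) :=
      fun c hc hzc g hg e =>
        ⟨e ▸ hP3 c hc hzc g hg (e.symm ▸ mul_mem hjN haN), e ▸ (isConj_conj_iff g c).2 hzc⟩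
    have inB : ∀ c ∈ A, IsConj z c → ∀ g ∈ CC t, g * c * g⁻¹ = j * b → j * b ∈ cB y := by
      intro c hc hzc g hg e
      rw [hcB, ← e, show y⁻¹ * (g * c * g⁻¹) * y = y⁻¹ * g * c * (y⁻¹ * g)⁻¹ by group]
      refine hP3 c hc hzc _ (mul_mem (inv_mem hy) hg) ?_
      rw [show y⁻¹ * g * c * (y⁻¹ * g)⁻¹ = y⁻¹ * (g * c * g⁻¹) * y by group, e, hb,
        show y⁻¹ * (j * (y * b₀ * y⁻¹)) * y = y⁻¹ * j * y * b₀ by group]
      exact mul_mem hyjN hb₀N
    rcases hcase with ⟨⟨g, hg, e⟩, g', hg', e'⟩ | ⟨⟨g, hg, e⟩, g', hg', e'⟩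
    · refine ⟨inA a haA haz g hg e, inB b₀ hb₀A hb₀z (g' * y) (mul_mem hg' hy) ?_⟩
      rw [← e', hb]; group
    · refine ⟨inA b₀ hb₀A hb₀z (g * y) (mul_mem hg hy) ?_, inB a haA haz g' hg' e'⟩
      rw [← e, hb]; group
  have hjI : j ∈ A ⊓ cB y := by
    constructor
    · have := mul_mem ha'.1 haA
      rwa [mul_assoc, h.sq a haA, mul_one] at this
    · have := mul_mem hb' (show b ∈ cB y from ⟨b₀, hb₀A, rfl⟩)
      rwa [mul_assoc, hBsq y b ⟨b₀, hb₀A, rfl⟩, mul_one] at this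
  exact haI j hjI hj1 (hja ▸ ha'.2)

end VFrame

end CfsgLib.J4Type
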