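import Cfsg.Agent.Lib.J4Type.Data
import Mathlib

/-!
Codes: `app` is additive for exclusive or, and the map from codes to an elementary abelian group given
by a list of basis elements.
-/

set_option autoImplicit false

namespace CfsgLib.J4Type

theorem app_zero : ∀ cols : List ℕ, app cols 0 = 0
  | [] => rfl
  | c :: cs => by
    show Nat.xor (if 0 % 2 = 1 then c else 0) (app cs (0 / 2)) = 0
    rw [if_neg (by omega), Nat.zero_div, app_zero cs]
    exact Nat.zero_xor _

theorem app_xor : ∀ (cols : List ℕ) (u v : ℕ), app cols (Nat.xor u v) = Nat.xor (app cols u) (app cols v)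
  | [], u, v => (Nat.xor_self 0).symm
  | c :: cs, u, v => by
    show Nat.xor _ (app cs ((u ^^^ v) / 2)) = Nat.xor (Nat.xor _ (app cs (u / 2))) (Nat.xor _ (app cs (v / 2)))
    have hd : (u ^^^ v) / 2 = Nat.xor (u / 2) (v / 2) := by
      show _ = (u / 2) ^^^ (v / 2)
      simpa [Nat.shiftRight_eq_div_pow] using Nat.shiftRight_xor_distrib (a := u) (b := v) (i := 1)
    rw [hd, app_xor cs]
    show (if (u ^^^ v) % 2 = 1 then c else 0) ^^^ (app cs (u / 2) ^^^ app cs (v / 2)) =
      ((if u % 2 = 1 then c else 0) ^^^ app cs (u / 2)) ^^^ ((if v % 2 = 1 then c else 0) ^^^ app cs (v / 2))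
    have hm : (if (u ^^^ v) % 2 = 1 then c else 0) =
        (if u % 2 = 1 then c else 0) ^^^ (if v % 2 = 1 then c else 0) := by
      rcases Nat.mod_two_eq_zero_or_one u with hu | hu <;> rcases Nat.mod_two_eq_zero_or_one v with hv | hv <;>
        simp [hu, hv, Nat.add_mod]
    rw [hm]
    ac_rfl

theorem app_two_pow : ∀ (cols : List ℕ) (i : ℕ), app cols (2 ^ i) = cols.getD i 0
  | [], i => rfl
  | c :: cs, 0 => by
    show Nat.xor (if (2 ^ 0 : ℕ) % 2 = 1 then c else 0) (app cs (2 ^ 0 / 2)) = _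
    rw [if_pos (by norm_num), show (2 ^ 0 : ℕ) / 2 = 0 by norm_num, app_zero]
    exact Nat.xor_zero c
  | c :: cs, i + 1 => by
    show Nat.xor (if (2 ^ (i + 1) : ℕ) % 2 = 1 then c else 0) (app cs (2 ^ (i + 1) / 2)) = _
    rw [if_neg (by rw [pow_succ]; omega), show 2 ^ (i + 1) / 2 = 2 ^ i by rw [pow_succ]; omega, app_two_pow cs i]
    exact Nat.zero_xor _

/-- Two maps additive for exclusive or below `2 ^ k` that agree on the powers of two agree. -/
theorem xor_ext {A : Type*} (op : A → A → A) (k : ℕ) (f g : ℕ → A)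
    (hf : ∀ a b, a < 2 ^ k → b < 2 ^ k → f (Nat.xor a b) = op (f a) (f b))
    (hg : ∀ a b, a < 2 ^ k → b < 2 ^ k → g (Nat.xor a b) = op (g a) (g b))
    (h0 : f 0 = g 0) (h : ∀ i, i < k → f (2 ^ i) = g (2 ^ i)) : ∀ n, n < 2 ^ k → f n = g n := by
  suffices ∀ j, j ≤ k → ∀ n, n < 2 ^ j → f n = g n from this k le_rfl
  intro j
  induction j with
  | zero => intro _ n hn; rw [show n = 0 by omega]; exact h0
  | succ j ih =>
    intro hj n hn
    by_cases hlt : n < 2 ^ j
    · exact ih (by omega) n hlt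
    have h2 : (2 : ℕ) ^ (j + 1) = 2 ^ j + 2 ^ j := by rw [pow_succ]; omega
    have hm : n - 2 ^ j < 2 ^ j := by omega
    have e : n = Nat.xor (2 ^ j) (n - 2 ^ j) := by
      refine Nat.eq_of_testBit_eq fun i => ?_
      show n.testBit i = (2 ^ j ^^^ (n - 2 ^ j)).testBit i
      rw [Nat.testBit_xor, Nat.testBit_two_pow]
      conv_lhs => rw [show n = 2 ^ j + (n - 2 ^ j) by omega]
      rcases Nat.lt_trichotomy i j with hi | rfl | hi
      · rw [Nat.testBit_two_pow_add_gt hi, decide_eq_false (by omega)]; simp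
      · rw [Nat.testBit_two_pow_add_eq, Nat.testBit_lt_two_pow hm]; simp
      · rw [decide_eq_false (by omega), Nat.testBit_lt_two_pow
          (show 2 ^ j + (n - 2 ^ j) < 2 ^ i from lt_of_lt_of_le (by omega) (Nat.pow_le_pow_right (by norm_num) hi)),
          Nat.testBit_lt_two_pow (lt_trans hm (Nat.pow_lt_pow_right (by norm_num) hi))]
        rfl
    have hk : (2 : ℕ) ^ (j + 1) ≤ 2 ^ k := Nat.pow_le_pow_right (by norm_num) hj
    rw [e, hf _ _ (by omega) (by omega), hg _ _ (by omega) (by omega), h j (by omega), ih (by omega) _ hm]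

variable {A : Type*} [AddCommGroup A]

/-- The element with the given code in the basis `g`. -/
def enc (g : ℕ → A) (k n : ℕ) : A := ∑ i ∈ Finset.range k, if Nat.testBit n i then g i else 0

theorem enc_zero (g : ℕ → A) (k : ℕ) : enc g k 0 = 0 :=
  Finset.sum_eq_zero fun i _ => by rw [Nat.zero_testBit]; simp

theorem enc_two_pow (g : ℕ → A) {k i : ℕ} (hi : i < k) : enc g k (2 ^ i) = g i := by
  rw [enc, Finset.sum_eq_single_of_mem i (Finset.mem_range.2 hi) fun j _ hj => by
    rw [Nat.testBit_two_pow, decide_eq_false (Ne.symm hj)]; simp]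
  rw [Nat.testBit_two_pow, decide_eq_true rfl]; simp

theorem enc_xor (two : ∀ a : A, a + a = 0) (g : ℕ → A) (k a b : ℕ) :
    enc g k (Nat.xor a b) = enc g k a + enc g k b := by
  rw [enc, enc, enc, ← Finset.sum_add_distrib]
  refine Finset.sum_congr rfl fun i _ => ?_
  rw [show (Nat.xor a b).testBit i = (a.testBit i).xor (b.testBit i) from Nat.testBit_xor a b i]
  cases a.testBit i <;> cases b.testBit i <;> simp [two]

theorem enc_mem {S : Type*} [SetLike S A] [AddSubmonoidClass S A] (s : S) (g : ℕ → A) (k n : ℕ)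
    (h : ∀ i, i < k → g i ∈ s) : enc g k n ∈ s :=
  sum_mem fun i hi => by split; exacts [h i (Finset.mem_range.1 hi), zero_mem s]

end CfsgLib.J4Type
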