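import Mathlib

/-!
An element of prime order `p` acting on a space of dimension `n` over two elements, where `p` divides
`2^n - 1` and no `2^k - 1` with `0 < k < n`, has a normaliser of order at most `n * (2^n - 1)`.
-/

set_option autoImplicit false
set_option linter.unusedSectionVars false

namespace CfsgLib.J4Type

variable {V : Type*} [AddCommGroup V] [Finite V] {M : Type*} [Group M] [Finite M]
  (σ : M →* AddMonoid.End V) {g : M}

theorem pow_inv_set {T : AddSubgroup V} (hT : ∀ v ∈ T, σ g v ∈ T) :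
    ∀ (k : ℕ) (v : V), v ∈ T → σ (g ^ k) v ∈ T := by
  intro k
  induction k with
  | zero => intro v hv; rw [pow_zero, map_one]; exact hv
  | succ k ih => intro v hv; rw [pow_succ', map_mul]; exact hT _ (ih v hv)

theorem pow_fix {v : V} (hv : σ g v = v) : ∀ k : ℕ, σ (g ^ k) v = v := by
  intro k
  induction k with
  | zero => rw [pow_zero, map_one]; rfl
  | succ k ih =>
    rw [pow_succ, map_mul]
    show σ (g ^ k) (σ g v) = v
    rw [hv, ih]

theorem exists_pow_zpowers (m : Subgroup.zpowers g) : ∃ k : ℕ, g ^ k = (m : M) :=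
  Submonoid.mem_powers_iff _ _ |>.1 (((isOfFinOrder_of_finite g).mem_powers_iff_mem_zpowers).2 m.2)

/-- Counting the orbits of an element of order dividing an odd prime on an invariant subgroup. -/
theorem singer_count {p : ℕ} (hp : p.Prime) (hp2 : p ≠ 2) (hg : g ^ p = 1) (T F : AddSubgroup V)
    (hT : ∀ v ∈ T, σ g v ∈ T) (hF : ∀ v, v ∈ F ↔ v ∈ T ∧ σ g v = v) {a b : ℕ}
    (ha : Nat.card T = 2 ^ a) (hb : Nat.card F = 2 ^ b) : b ≤ a ∧ p ∣ 2 ^ (a - b) - 1 := by
  haveI := Fact.mk hp
  have hle : F ≤ T := fun v hv => ((hF v).1 hv).1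
  have hab : b ≤ a := (Nat.pow_le_pow_iff_right (by norm_num : 1 < 2)).1
    (ha ▸ hb ▸ Nat.le_of_dvd Nat.card_pos (AddSubgroup.card_dvd_of_le hle))
  have hz : ∀ (m : Subgroup.zpowers g) (v : V), v ∈ T → σ (m : M) v ∈ T := fun m v hv => by
    obtain ⟨k, hk⟩ := exists_pow_zpowers m
    rw [← hk]; exact pow_inv_set σ hT k v hv
  letI : MulAction (Subgroup.zpowers g) T :=
    { smul := fun m v => ⟨σ (m : M) v, hz m v v.2⟩
      one_smul := fun v => Subtype.ext (by show σ 1 (v : V) = v; rw [map_one]; rfl)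
      mul_smul := fun m m' v => Subtype.ext (by
        show σ ((m : M) * m') (v : V) = σ (m : M) (σ (m' : M) v); rw [map_mul]; rfl) }
  have hP : IsPGroup p (Subgroup.zpowers g) := fun m => by
    obtain ⟨k, hk⟩ := exists_pow_zpowers m
    refine ⟨1, Subtype.ext ?_⟩
    show (m : M) ^ (p ^ 1) = 1
    rw [← hk, pow_one, ← pow_mul, mul_comm, pow_mul, hg, one_pow]
  have hmod := hP.card_modEq_card_fixedPoints T
  have hfix : Nat.card (MulAction.fixedPoints (Subgroup.zpowers g) T) = Nat.card F := by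
    refine Nat.card_congr
      { toFun := fun v => ⟨(v.1 : V), (hF _).2 ⟨v.1.2, congrArg Subtype.val (v.2 ⟨g, Subgroup.mem_zpowers g⟩)⟩⟩
        invFun := fun v => ⟨⟨v, ((hF _).1 v.2).1⟩, fun m => Subtype.ext ?_⟩
        left_inv := fun v => rfl
        right_inv := fun v => rfl }
    obtain ⟨k, hk⟩ := exists_pow_zpowers m
    show σ (m : M) (v : V) = v
    rw [← hk]; exact pow_fix σ ((hF _).1 v.2).2 k
  rw [hfix, ha, hb] at hmod
  refine ⟨hab, ?_⟩
  have hsub : p ∣ 2 ^ a - 2 ^ b :=
    (Nat.modEq_iff_dvd' (Nat.pow_le_pow_right (by norm_num) hab)).1 hmod.symm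
  rw [show 2 ^ a - 2 ^ b = 2 ^ b * (2 ^ (a - b) - 1) by
    rw [Nat.mul_sub_one, ← pow_add, Nat.add_sub_cancel' hab]] at hsub
  exact ((Nat.Prime.dvd_mul hp).1 hsub).resolve_left fun h =>
    hp2 ((Nat.prime_dvd_prime_iff_eq hp Nat.prime_two).1 (hp.dvd_of_dvd_pow h))

/-- The normaliser bound. -/
theorem singer_bound (hinj : Function.Injective σ) (two : ∀ v : V, v + v = 0) {n p : ℕ} (hp : p.Prime)
    (hp2 : p ≠ 2) (hcard : Nat.card V = 2 ^ n) (hnk : ∀ k, 0 < k → k < n → ¬ p ∣ 2 ^ k - 1)
    (hg : orderOf g = p) :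
    Nat.card ↥(Subgroup.normalizer (Subgroup.zpowers g : Set M)) ≤ n * (2 ^ n - 1) := by
  classical
  haveI := Fact.mk Nat.prime_two
  letI : Module (ZMod 2) V := AddCommGroup.zmodModule (n := 2) fun v => by rw [two_nsmul]; exact two v
  haveI : FiniteDimensional (ZMod 2) V := Module.Finite.of_finite
  have hgp : g ^ p = 1 := by rw [← hg]; exact pow_orderOf_eq_one g
  have hg1 : g ≠ 1 := fun e => hp.one_lt.ne (by rw [← hg, e, orderOf_one])
  -- cardinalities of subgroups
  have hpow : ∀ T : AddSubgroup V, ∃ a, a ≤ n ∧ Nat.card T = 2 ^ a := fun T =>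
    (Nat.dvd_prime_pow Nat.prime_two).1 (hcard ▸ AddSubgroup.card_addSubgroup_dvd_card T)
  -- fixed points
  let F : AddSubgroup V :=
    { carrier := {v | σ g v = v}
      add_mem' := fun {u v} (hu : σ g u = u) (hv : σ g v = v) => by
        show σ g (u + v) = u + v
        rw [map_add, hu, hv]
      zero_mem' := map_zero _
      neg_mem' := fun {v} (hv : σ g v = v) => by show σ g (-v) = -v; rw [map_neg, hv] }
  have hFbot : F = ⊥ := by
    obtain ⟨b, hbn, hb⟩ := hpow F
    obtain ⟨-, hdvd⟩ := singer_count σ hp hp2 hgp ⊤ F (fun v _ => AddSubgroup.mem_top _)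
      (fun v => ⟨fun h => ⟨AddSubgroup.mem_top v, h⟩, fun h => h.2⟩) (AddSubgroup.card_top.trans hcard) hb
    rcases Nat.eq_zero_or_pos b with rfl | hb0
    · exact AddSubgroup.eq_bot_of_card_eq _ (by rw [hb, pow_zero])
    rcases Nat.lt_or_ge b n with hlt | hge
    · exact absurd hdvd (hnk _ (by omega) (by omega))
    · exfalso
      have hFtop : F = ⊤ := AddSubgroup.eq_top_of_card_eq _ (by rw [hb, hcard, le_antisymm hbn hge])
      refine hg1 (hinj (AddMonoidHom.ext fun v => ?_))
      rw [map_one]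
      exact (show v ∈ F by rw [hFtop]; exact AddSubgroup.mem_top v)
  have hinv : ∀ S : AddSubgroup V, (∀ v ∈ S, σ g v ∈ S) → ∀ v ∈ S, v ≠ 0 → S = ⊤ := by
    intro S hS v hv hv0
    obtain ⟨a, han, ha⟩ := hpow S
    obtain ⟨-, hdvd⟩ := singer_count σ hp hp2 hgp S ⊥ hS (fun w => ⟨fun h => by
      rw [AddSubgroup.mem_bot] at h; subst h; exact ⟨zero_mem _, map_zero _⟩, fun h => by
      rw [← hFbot]; exact h.2⟩) ha (b := 0) (by simp)
    rw [Nat.sub_zero] at hdvd
    rcases Nat.eq_zero_or_pos a with rfl | ha0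
    · exfalso
      have := AddSubgroup.eq_bot_of_card_eq S (by rw [ha, pow_zero])
      rw [this, AddSubgroup.mem_bot] at hv
      exact hv0 hv
    rcases Nat.lt_or_ge a n with hlt | hge
    · exact absurd hdvd (hnk a ha0 hlt)
    · exact AddSubgroup.eq_top_of_card_eq _ (by rw [ha, hcard, le_antisymm han hge])
  obtain ⟨v₀, hv₀⟩ : ∃ v : V, v ≠ 0 := by
    by_contra h
    push Not at h
    exact hg1 (hinj (AddMonoidHom.ext fun v => by
      rw [h v]; exact (map_zero (σ g : V →+ V)).trans (map_zero (σ 1 : V →+ V)).symm))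
  -- the commutative algebra of `g`
  let L : M →* Module.End (ZMod 2) V :=
    { toFun := fun m => (σ m).toZModLinearMap 2
      map_one' := by ext v; show σ 1 v = v; rw [map_one]; rfl
      map_mul' := fun a b => by ext v; show σ (a * b) v = σ a (σ b v); rw [map_mul]; rfl }
  have hL : Function.Injective L := fun a b h => hinj (AddMonoidHom.ext fun v => LinearMap.congr_fun h v)
  let K := Algebra.adjoin (ZMod 2) {L g}
  have hcomm : ∀ x ∈ K, ∀ v, x (σ g v) = σ g (x v) := fun x hx v => by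
    have hsub : K ≤ Subalgebra.centralizer (ZMod 2) {L g} :=
      Algebra.adjoin_le (by
        rintro _ rfl
        exact Subalgebra.mem_centralizer_iff _ |>.2 fun y (hy : y = L g) => by rw [hy])
    exact (LinearMap.congr_fun ((Subalgebra.mem_centralizer_iff _).1 (hsub hx) (L g) rfl) v).symm
  have hdom : ∀ x ∈ K, x ≠ 0 → Function.Injective x := by
    intro x hx hx0
    rw [← LinearMap.ker_eq_bot, Submodule.eq_bot_iff]
    intro v hv
    by_contra hv0
    refine hx0 (LinearMap.ext fun w => ?_)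
    have h := hinv (LinearMap.ker x).toAddSubgroup (fun u hu => by
      show x (σ g u) = 0
      rw [hcomm x hx, show x u = 0 from hu, map_zero]) v hv hv0
    exact LinearMap.mem_ker.1 (show w ∈ (LinearMap.ker x).toAddSubgroup by rw [h]; exact AddSubgroup.mem_top w)
  letI : CommRing K := Algebra.adjoinCommRingOfComm (ZMod 2) (by
    rintro a ha b hb
    rw [Set.mem_singleton_iff.1 ha, Set.mem_singleton_iff.1 hb])
  haveI : NoZeroDivisors K := ⟨fun {x y} h => by
    by_contra hc
    push Not at hc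
    refine hc.2 (Subtype.ext (LinearMap.ext fun v => hdom x x.2 (fun e => hc.1 (Subtype.ext e)) ?_))
    have := LinearMap.congr_fun (congrArg Subtype.val h) v
    simpa using this⟩
  haveI : Nontrivial K := ⟨0, 1, fun e => hv₀ (LinearMap.congr_fun (congrArg Subtype.val e) v₀).symm⟩
  haveI : IsDomain K := NoZeroDivisors.to_isDomain K
  -- the conjugates of `g` inside its own cyclic group are roots of its minimal polynomial
  set N := Subgroup.normalizer (Subgroup.zpowers g : Set M)
  haveI := Fintype.ofFinite N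
  set P := (minpoly (ZMod 2) (L g)).map (algebraMap (ZMod 2) K) with hP
  have hmin0 : minpoly (ZMod 2) (L g) ≠ 0 := minpoly.ne_zero (Algebra.IsIntegral.isIntegral _)
  have hroot : ∀ h : N, ∃ hx : L ((h : M) * g * (h : M)⁻¹) ∈ K,
      (⟨_, hx⟩ : K) ∈ P.roots.toFinset := by
    intro h
    obtain ⟨k, hk⟩ := exists_pow_zpowers (g := g)
      ⟨_, (Subgroup.mem_normalizer_iff.1 h.2 g).1 (Subgroup.mem_zpowers g)⟩
    have hx : L ((h : M) * g * (h : M)⁻¹) ∈ K := by
      rw [show (h : M) * g * (h : M)⁻¹ = g ^ k from hk.symm, map_pow]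
      exact pow_mem (Algebra.self_mem_adjoin_singleton _ _) k
    refine ⟨hx, Multiset.mem_toFinset.2 (Polynomial.mem_roots'.2 ⟨Polynomial.map_ne_zero hmin0, ?_⟩)⟩
    rw [Polynomial.IsRoot.def, hP, Polynomial.eval_map_algebraMap]
    refine Subtype.ext ?_
    show K.val (Polynomial.aeval _ (minpoly (ZMod 2) (L g))) = 0
    rw [← Polynomial.aeval_algHom_apply]
    show Polynomial.aeval (L ((h : M) * g * (h : M)⁻¹)) (minpoly (ZMod 2) (L g)) = 0
    let c : Module.End (ZMod 2) V →ₐ[ZMod 2] Module.End (ZMod 2) V :=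
      { toFun := fun x => L h * x * L (h : M)⁻¹
        map_one' := by rw [mul_one, ← map_mul, mul_inv_cancel, map_one]
        map_mul' := fun x y => by
          calc L h * (x * y) * L (h : M)⁻¹ = L h * x * 1 * y * L (h : M)⁻¹ := by simp only [mul_one, mul_assoc]
            _ = L h * x * (L (h : M)⁻¹ * L h) * y * L (h : M)⁻¹ := by rw [← map_mul, inv_mul_cancel, map_one]
            _ = _ := by simp only [mul_assoc]
        map_zero' := by rw [mul_zero, zero_mul]
        map_add' := fun x y => by rw [mul_add, add_mul]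
        commutes' := fun r => by
          show L h * algebraMap _ _ r * L (h : M)⁻¹ = _
          rw [← Algebra.commutes, mul_assoc, ← map_mul, mul_inv_cancel, map_one, mul_one] }
    rw [show L ((h : M) * g * (h : M)⁻¹) = c (L g) from by rw [map_mul, map_mul]; rfl,
      Polynomial.aeval_algHom_apply, minpoly.aeval, map_zero]
  choose hx hxr using hroot
  have hdeg : P.roots.toFinset.card ≤ n := by
    refine (Multiset.toFinset_card_le _).trans ((Polynomial.card_roots' _).trans ?_)
    rw [hP, Polynomial.natDegree_map]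
    refine le_trans (Polynomial.natDegree_le_of_dvd (LinearMap.minpoly_dvd_charpoly (L g))
      (LinearMap.charpoly_monic _).ne_zero) ?_
    rw [LinearMap.charpoly_natDegree]
    have := Module.natCard_eq_pow_finrank (K := ZMod 2) (V := V)
    rw [hcard, Nat.card_zmod] at this
    exact le_of_eq (Nat.pow_right_injective le_rfl this).symm
  let f : N → K := fun h => ⟨_, hx h⟩
  have hfib : ∀ y ∈ Finset.univ.image f, (Finset.univ.filter fun h => f h = y).card ≤ 2 ^ n - 1 := by
    intro y hy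
    obtain ⟨h₁, -, rfl⟩ := Finset.mem_image.1 hy
    haveI := Fintype.ofFinite V
    have hV : (Finset.univ.erase (0 : V)).card = 2 ^ n - 1 := by
      rw [Finset.card_erase_of_mem (Finset.mem_univ _), Finset.card_univ, ← Nat.card_eq_fintype_card, hcard]
    rw [← hV]
    refine Finset.card_le_card_of_injOn (fun h => σ ((h₁ : M)⁻¹ * h) v₀) (fun h _ => ?_) ?_
    · refine Finset.mem_coe.2 (Finset.mem_erase.2 ⟨fun e => hv₀ ?_, Finset.mem_univ _⟩)
      have := congrArg (σ ((h₁ : M)⁻¹ * h)⁻¹) e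
      rw [map_zero] at this
      rw [← this]
      show v₀ = (σ _ * σ _) v₀
      rw [← map_mul, inv_mul_cancel, map_one]; rfl
    · intro h hh h' hh' e
      have cen : ∀ k : N, f k = f h₁ → Commute ((h₁ : M)⁻¹ * k) g := fun k hk => by
        have h2 := hL (congrArg Subtype.val hk)
        show (h₁ : M)⁻¹ * k * g = g * ((h₁ : M)⁻¹ * k)
        calc (h₁ : M)⁻¹ * k * g = (h₁ : M)⁻¹ * (k * g * (k : M)⁻¹) * k := by group
          _ = (h₁ : M)⁻¹ * (h₁ * g * (h₁ : M)⁻¹) * k := by rw [h2]
          _ = g * ((h₁ : M)⁻¹ * k) := by group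
      have hh2 : f h = f h₁ := by simpa using hh
      have hh2' : f h' = f h₁ := by simpa using hh'
      have h1 : Commute ((h₁ : M)⁻¹ * h) g := cen h hh2
      have h2 : Commute ((h₁ : M)⁻¹ * h') g := cen h' hh2'
      obtain ⟨d, hd, hdd⟩ : ∃ d, Commute d g ∧ ((h₁ : M)⁻¹ * h)⁻¹ * ((h₁ : M)⁻¹ * h') = d :=
        ⟨_, h1.inv_left.mul_left h2, rfl⟩
      have hfx : σ d v₀ = v₀ := by
        have e' : σ ((h₁ : M)⁻¹ * h) v₀ = σ ((h₁ : M)⁻¹ * h') v₀ := e
        calc σ d v₀ = σ ((h₁ : M)⁻¹ * h)⁻¹ (σ ((h₁ : M)⁻¹ * h') v₀) := by rw [← hdd, map_mul]; rfl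
          _ = σ ((h₁ : M)⁻¹ * h)⁻¹ (σ ((h₁ : M)⁻¹ * h) v₀) := by rw [e']
          _ = σ (((h₁ : M)⁻¹ * h)⁻¹ * ((h₁ : M)⁻¹ * h)) v₀ := by
            rw [map_mul σ ((h₁ : M)⁻¹ * h)⁻¹ ((h₁ : M)⁻¹ * h)]; rfl
          _ = v₀ := by rw [inv_mul_cancel, map_one]; rfl
      let D : AddSubgroup V :=
        { carrier := {v | σ d v = v}
          add_mem' := fun {u v} (hu : σ d u = u) (hv : σ d v = v) => by
            show σ d (u + v) = u + v
            rw [map_add, hu, hv]
          zero_mem' := map_zero _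
          neg_mem' := fun {v} (hv : σ d v = v) => by show σ d (-v) = -v; rw [map_neg, hv] }
      have hDtop : D = ⊤ := hinv D (fun v (hv : σ d v = v) => by
        show σ d (σ g v) = σ g v
        calc σ d (σ g v) = σ (d * g) v := by rw [map_mul]; rfl
          _ = σ (g * d) v := by rw [hd.eq]
          _ = σ g (σ d v) := by rw [map_mul]; rfl
          _ = σ g v := by rw [hv]) v₀ hfx hv₀
      have hd1 : d = 1 := hinj (AddMonoidHom.ext fun v => by
        rw [map_one]; exact (show v ∈ D by rw [hDtop]; exact AddSubgroup.mem_top v))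
      exact Subtype.ext (mul_left_cancel (inv_mul_eq_one.1 (hdd.trans hd1)))
  calc Nat.card N = Fintype.card N := Nat.card_eq_fintype_card
    _ = Finset.univ.card := Finset.card_univ.symm
    _ ≤ (2 ^ n - 1) * (Finset.univ.image f).card := Finset.card_le_mul_card_image _ _ hfib
    _ ≤ (2 ^ n - 1) * n := Nat.mul_le_mul_left _ (le_trans (Finset.card_le_card (fun y hy => by
        obtain ⟨h, -, rfl⟩ := Finset.mem_image.1 hy; exact hxr h)) hdeg)
    _ = n * (2 ^ n - 1) := mul_comm _ _

end CfsgLib.J4Type
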