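import Cfsg.Agent.Lib.J4Type.VAct
import Cfsg.Agent.Lib.J4Type.Enc
import Cfsg.Agent.Lib.J4Type.SingerBound
import Cfsg.Agent.Lib.FischerTwoFour.Cocode.Fusion

/-!
The classes in the subgroup of order `2^11`: the sign system is the second one, the conjugates of `z`
are the `1771` elements outside the candidate set of `276`, and the frame at `z` is that of the cocode.
-/

set_option autoImplicit false
set_option linter.unusedSectionVars false
set_option linter.style.haveILetI false
set_option maxRecDepth 100000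

namespace CfsgLib.J4Type

open CfsgLib.FischerTwoFour.Cocode (cs cd cd_lt card_orbit_mul)

universe u

/-! ### An abstract faithful action on an elementary abelian group -/

section Abstract

variable {V : Type*} [AddCommGroup V] [Finite V] {M : Type*} [Group M] [Finite M]
  (σ : M →* AddMonoid.End V)

theorem not_dvd_card_of_faithful (hinj : Function.Injective σ) {n p : ℕ} (hp : p.Prime) (hp2 : p ≠ 2)
    (hcard : Nat.card V = 2 ^ n) (hnk : ∀ k, 0 < k → k ≤ n → ¬ p ∣ 2 ^ k - 1) : ¬ p ∣ Nat.card M := by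
  classical
  intro hdvd
  haveI := Fact.mk hp
  obtain ⟨g, hg⟩ := exists_prime_orderOf_dvd_card' (G := M) p hdvd
  have hgp : g ^ p = 1 := by rw [← hg]; exact pow_orderOf_eq_one g
  let F : AddSubgroup V :=
    { carrier := {v | σ g v = v}
      add_mem' := fun {u v} (hu : σ g u = u) (hv : σ g v = v) => by
        show σ g (u + v) = u + v
        rw [map_add, hu, hv]
      zero_mem' := map_zero _
      neg_mem' := fun {v} (hv : σ g v = v) => by show σ g (-v) = -v; rw [map_neg, hv] }
  obtain ⟨b, hbn, hb⟩ :=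
    (Nat.dvd_prime_pow Nat.prime_two).1 (hcard ▸ AddSubgroup.card_addSubgroup_dvd_card F)
  obtain ⟨-, h2⟩ := singer_count σ hp hp2 hgp ⊤ F (fun v _ => AddSubgroup.mem_top _)
    (fun v => ⟨fun h => ⟨AddSubgroup.mem_top v, h⟩, fun h => h.2⟩) (AddSubgroup.card_top.trans hcard) hb
  rcases Nat.lt_or_ge b n with hlt | hge
  · exact hnk _ (by omega) (by omega) h2
  · have hFtop : F = ⊤ := AddSubgroup.eq_top_of_card_eq _ (by rw [hb, hcard, le_antisymm hbn hge])
    refine hp.one_lt.ne ?_
    rw [← hg, orderOf_eq_one_iff.2 (hinj (a₁ := g) (a₂ := 1) (AddMonoidHom.ext fun v => ?_))]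
    rw [map_one]
    exact (show v ∈ F by rw [hFtop]; exact AddSubgroup.mem_top v)

theorem exists_norm_card (hinj : Function.Injective σ) (two : ∀ v : V, v + v = 0) {n p : ℕ} (hp : p.Prime)
    (hp2 : p ≠ 2) (hcard : Nat.card V = 2 ^ n) (hnk : ∀ k, 0 < k → k < n → ¬ p ∣ 2 ^ k - 1)
    (hdvd : p ∣ Nat.card M) (hsq : ¬ p * p ∣ Nat.card M) :
    ∃ d, d * p ≤ n * (2 ^ n - 1) ∧ d * p ∣ Nat.card M ∧ Nat.card M / (d * p) % p = 1 := by
  classical
  haveI := Fact.mk hp
  obtain ⟨g, hg⟩ := exists_prime_orderOf_dvd_card' (G := M) p hdvd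
  have hc : Nat.card (Subgroup.zpowers g) = p := by rw [Nat.card_zpowers, hg]
  obtain ⟨P, hP⟩ := (IsPGroup.of_card (n := 1) (hc.trans (pow_one p).symm)).exists_le_sylow
  obtain ⟨k, hk⟩ := IsPGroup.iff_card.1 P.2
  have hk1 : k ≤ 1 := by
    by_contra h2
    refine hsq (dvd_trans ?_ (Subgroup.card_subgroup_dvd_card (P : Subgroup M)))
    rw [hk, ← sq]
    exact pow_dvd_pow p (by omega)
  have hPeq : Subgroup.zpowers g = (P : Subgroup M) := by
    refine Subgroup.eq_of_le_of_card_ge hP ?_
    rw [hk, hc]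
    calc p ^ k ≤ p ^ 1 := Nat.pow_le_pow_right hp.pos hk1
      _ = p := pow_one p
  have hb := singer_bound σ hinj two hp hp2 hcard hnk hg
  rw [hPeq] at hb hc
  set Nm := Subgroup.normalizer ((P : Subgroup M) : Set M) with hNm
  obtain ⟨d, hd⟩ : p ∣ Nat.card Nm := hc ▸ Subgroup.card_dvd_of_le Subgroup.le_normalizer
  rw [mul_comm] at hd
  refine ⟨d, hd ▸ hb, hd ▸ Subgroup.card_subgroup_dvd_card Nm, ?_⟩
  have h1 := card_sylow_modEq_one p M
  rw [Sylow.card_eq_index_normalizer P, Nat.ModEq, Nat.mod_eq_of_lt hp.one_lt] at h1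
  rw [← hd, ← Subgroup.card_mul_index Nm, Nat.mul_div_cancel_left _ Nat.card_pos]
  exact h1

end Abstract

/-- A normaliser acting faithfully modulo `A` on an abelian group inside `A`. -/
theorem exists_action {G : Type u} [Group G] [Finite G] {A : Subgroup G} {B : Type u} [CommGroup B]
    (ι : B →* G) (hι : Function.Injective ι) (hAc : ∀ a ∈ A, ∀ b ∈ A, a * b = b * a) (hB : ∀ b, ι b ∈ A)
    (hinv : ∀ n ∈ Subgroup.normalizer (A : Set G), ∀ b, ∃ c, ι c = n * ι b * n⁻¹)
    (hfaith : ∀ n ∈ Subgroup.normalizer (A : Set G), (∀ b, n * ι b * n⁻¹ = ι b) → n ∈ A) :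
    ∃ (M : Type u) (_ : Group M) (_ : Finite M) (σ : M →* AddMonoid.End (Additive B)),
      Function.Injective σ ∧ Nat.card M * Nat.card A = Nat.card ↥(Subgroup.normalizer (A : Set G)) := by
  classical
  set N := Subgroup.normalizer (A : Set G) with hN
  choose f hf using fun (n : N) (b : B) => hinv n n.2 b
  let σ₀ : N →* AddMonoid.End (Additive B) :=
    { toFun := fun n =>
        { toFun := fun a => Additive.ofMul (f n (Additive.toMul a))
          map_zero' := congrArg Additive.ofMul (hι (by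
            show ι (f n 1) = ι 1
            rw [hf, map_one]; group))
          map_add' := fun a c => congrArg Additive.ofMul (hι (by
            show ι (f n (Additive.toMul a * Additive.toMul c)) =
              ι (f n (Additive.toMul a) * f n (Additive.toMul c))
            rw [hf, map_mul, map_mul, hf, hf]; group)) }
      map_one' := AddMonoidHom.ext fun a => congrArg Additive.ofMul (hι (by
        show ι (f 1 (Additive.toMul a)) = ι (Additive.toMul a)
        rw [hf, Subgroup.coe_one]; group))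
      map_mul' := fun m n => AddMonoidHom.ext fun a => congrArg Additive.ofMul (hι (by
        show ι (f (m * n) (Additive.toMul a)) = ι (f m (f n (Additive.toMul a)))
        rw [hf, hf, hf, Subgroup.coe_mul]; group)) }
  have happ : ∀ (n : N) (b : B), ι (Additive.toMul (σ₀ n (Additive.ofMul b))) = n * ι b * (n : G)⁻¹ :=
    fun n b => hf n b
  have hker : σ₀.ker = A.subgroupOf N := by
    ext n
    rw [MonoidHom.mem_ker, Subgroup.mem_subgroupOf]
    constructor
    · intro h
      refine hfaith n n.2 fun b => ?_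
      rw [← happ, h]
      rfl
    · intro h
      refine AddMonoidHom.ext fun a => Additive.toMul.injective (hι ?_)
      show ι (f n (Additive.toMul a)) = ι (Additive.toMul a)
      rw [hf, hAc _ h _ (hB _), mul_inv_cancel_right]
  set σu : N →* (AddMonoid.End (Additive B))ˣ := σ₀.toHomUnits with hσu
  refine ⟨↥σu.range, inferInstance, Finite.of_surjective σu.rangeRestrict σu.rangeRestrict_surjective, (Units.coeHom _).comp σu.range.subtype,
    fun x y e => Subtype.ext (Units.ext e), ?_⟩
  have hkeru : σu.ker = A.subgroupOf N := by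
    rw [← hker]
    ext n
    rw [MonoidHom.mem_ker, MonoidHom.mem_ker, Units.ext_iff]
    rfl
  have hAN : A ≤ N := Subgroup.le_normalizer
  have e := Subgroup.card_eq_card_quotient_mul_card_subgroup σu.ker
  rw [Nat.card_congr (QuotientGroup.quotientKerEquivRange σu).toEquiv, show Nat.card σu.ker = Nat.card A by
    rw [hkeru, Nat.card_congr (Subgroup.subgroupOfEquivOfLe hAN).toEquiv]] at e
  exact e.symm

/-! ### Codes -/

theorem nbeq {a b : ℕ} : Nat.beq a b = true ↔ a = b :=
  ⟨Nat.eq_of_beq_eq_true, fun h => h ▸ Nat.beq_refl a⟩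

theorem xor_lt_2048 {a b : ℕ} (ha : a < 2048) (hb : b < 2048) : Nat.xor a b < 2048 :=
  Nat.xor_lt_two_pow (n := 11) ha hb

theorem xor_comm' (a b : ℕ) : Nat.xor a b = Nat.xor b a := Nat.xor_comm a b

theorem xor_self' (a : ℕ) : Nat.xor a a = 0 := Nat.xor_self a

theorem countP_range_eq (p : ℕ → Bool) (n : ℕ) :
    (List.range n).countP p = ((Finset.range n).filter fun v => p v = true).card := by
  rw [List.countP_eq_length_filter]
  simp [Finset.card_def, Finset.filter_val, Finset.range, Multiset.range]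

namespace VCode

theorem mem_ec {ec : ℕ} (h : ec = 0 ∨ ec = 2) : ec ∈ ([0, 2] : List ℕ) := by
  rcases h with rfl | rfl <;> simp

theorem isNc_iff {ec : ℕ} {sel : Bool} {v : ℕ} :
    isNc ec sel v = true ↔ cls ec v = 2 ∨ cls ec v = (if sel then 4 else 5) := by
  rw [isNc, Bool.or_eq_true, nbeq, nbeq]

/-- The primes that exclude the other unions of classes. -/
def badPrimes : List ℕ :=
  [13, 19, 37, 41, 47, 101, 103, 113, 131, 139, 211, 241, 277, 331, 367, 571, 607, 1531, 1567, 2011]

theorem badPrimes_spec (l : ℕ) (hl : l ∈ badPrimes) :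
    l.Prime ∧ l ≠ 2 ∧ ∀ k, 0 < k → k ≤ 11 → ¬ l ∣ 2 ^ k - 1 := by
  have hk : ∀ l ∈ badPrimes, ((List.range' 1 11).all fun k => !Nat.beq ((2 ^ k - 1) % l) 0) = true := by
    decide +kernel
  refine ⟨?_, ?_, fun k h0 h11 hd => ?_⟩
  · fin_cases hl <;> norm_num
  · fin_cases hl <;> norm_num
  · have h := List.all_eq_true.1 (hk l hl) k (List.mem_range'_1.2 ⟨by omega, by omega⟩)
    rw [Nat.mod_eq_zero_of_dvd hd, Nat.beq_refl] at h
    exact Bool.noConfusion h

/-- The size of a union of classes containing `z`. -/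
def usize (q2 q3 q4 q5 q6 : Bool) : ℕ :=
  1 + (if q2 then 36 else 0) + (if q3 then 90 else 0) + (if q4 then 240 else 0) +
    (if q5 then 240 else 0) + (if q6 then 1440 else 0)

theorem union_cases : ∀ q2 q3 q4 q5 q6 : Bool,
    (badPrimes.any fun l => Nat.beq (usize q2 q3 q4 q5 q6 % l) 0) = true ∨
      [q2, q3, q4, q5, q6] = [false, false, false, false, false] ∨
      [q2, q3, q4, q5, q6] = [true, true, false, false, false] ∨
      [q2, q3, q4, q5, q6] = [true, true, true, true, true] ∨
      [q2, q3, q4, q5, q6] = [false, true, false, true, true] ∨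
      [q2, q3, q4, q5, q6] = [false, true, true, false, true] := by
  decide +kernel

theorem no_sylow_127 : ((List.range 8).all fun d => Nat.beq d 0 || !(Nat.beq (127 * 138240 % (d * 127)) 0 &&
    Nat.beq (127 * 138240 / (d * 127) % 127) 1)) = true := by
  decide +kernel

theorem no_sylow_89 : ((List.range 254).all fun d => Nat.beq d 0 || !(Nat.beq (2047 * 138240 % (d * 89)) 0 &&
    Nat.beq (2047 * 138240 / (d * 89) % 89) 1)) = true := by
  decide +kernel

theorem small_facts : ([0, 2].all fun ec => Nat.beq (cls ec 4) 2 && Nat.beq (cls ec 128) 4 &&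
    Nat.beq (cls ec 152) 5 && Nat.beq (cls ec 129) 6 && Nat.beq (cls ec 64) 1 && Nat.beq (cls ec 0) 0 &&
    [4, 8, 5, 10, 24, 44, 68].all (fun v => Nat.beq (cls ec v) 2) &&
    Nat.beq (Nat.xor 68 4) 64) = true := by
  decide +kernel

end VCode

/-! ### The classes -/

namespace VAct

variable {G : Type u} [Group G] [Finite G] {z : G} {A : Subgroup G} {ec : ℕ}

section Basic

variable (D : VAct z A ec)

include D

theorem enc_zero' : D.enc 0 = 1 := by
  have h := D.enc_xor 0 0 (by norm_num) (by norm_num)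
  rw [show Nat.xor 0 0 = 0 from rfl] at h
  exact mul_left_cancel (a := D.enc 0) (h.symm.trans (mul_one _).symm)

theorem comm' : ∀ a ∈ A, ∀ b ∈ A, a * b = b * a := by
  intro a ha b hb
  obtain ⟨v, hv, rfl⟩ := D.enc_surj a ha
  obtain ⟨w, hw, rfl⟩ := D.enc_surj b hb
  rw [← D.enc_xor v w hv hw, ← D.enc_xor w v hw hv, xor_comm']

theorem sq' : ∀ a ∈ A, a * a = 1 := by
  intro a ha
  obtain ⟨v, hv, rfl⟩ := D.enc_surj a ha
  rw [← D.enc_xor v v hv hv, xor_self', D.enc_zero']

theorem card_A : Nat.card A = 2048 := by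
  have h : (A : Set G) = D.enc '' ((Finset.range 2048 : Finset ℕ) : Set ℕ) := by
    ext a
    rw [Finset.coe_range]
    exact ⟨fun ha => let ⟨v, hv, e⟩ := D.enc_surj a ha; ⟨v, hv, e⟩,
      fun ⟨v, hv, e⟩ => e ▸ D.enc_mem v hv⟩
  rw [show Nat.card A = (A : Set G).ncard from (Nat.card_coe_set_eq _), h,
    Set.InjOn.ncard_image (fun v hv w hw e => D.enc_inj v w (Finset.mem_range.1 hv) (Finset.mem_range.1 hw) e),
    Set.ncard_coe_finset, Finset.card_range]

theorem z_ne_one : z ≠ 1 := fun e => by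
  have h := D.enc_inj 64 0 (by norm_num) (by norm_num) (by rw [D.enc_z, D.enc_zero', e])
  omega

theorem z_mem : z ∈ A := D.enc_z ▸ D.enc_mem 64 (by norm_num)

theorem exists_code {m : G} (hm : m ∈ Subgroup.normalizer (A : Set G)) {v : ℕ} (hv : v < 2048) :
    ∃ w, w < 2048 ∧ m * D.enc v * m⁻¹ = D.enc w := by
  obtain ⟨w, hw, e⟩ := D.enc_surj _ ((Subgroup.mem_normalizer_iff.1 hm _).1 (D.enc_mem v hv))
  exact ⟨w, hw, e.symm⟩

theorem code_zero_iff {m : G} {v w : ℕ} (hv : v < 2048) (hw : w < 2048)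
    (e : m * D.enc v * m⁻¹ = D.enc w) : v = 0 ↔ w = 0 := by
  constructor
  · rintro rfl
    refine D.enc_inj w 0 hw (by norm_num) ?_
    rw [← e, D.enc_zero']; group
  · rintro rfl
    refine D.enc_inj v 0 hv (by norm_num) ?_
    rw [D.enc_zero'] at e ⊢
    exact conj_eq_one_iff.1 e

theorem cls_le {v : ℕ} (hv : v < 2048) : VCode.cls ec v ≤ 6 ∧
    (v < 128 ↔ VCode.cls ec v ≤ 3) ∧ (VCode.cls ec v = 0 ↔ v = 0) ∧ (VCode.cls ec v = 1 ↔ v = 64) := by
  have h := List.all_eq_true.1 (List.all_eq_true.1 VCode.cls_low ec (VCode.mem_ec D.ec_cases)) v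
    (List.mem_range.2 hv)
  simp only [Bool.and_eq_true, Nat.ble_eq, beq_iff_eq] at h
  obtain ⟨⟨⟨h1, h2⟩, h3⟩, h4⟩ := h
  refine ⟨h1, ?_, ?_, ?_⟩
  · have h2' := Bool.eq_iff_iff.1 h2
    simp only [Bool.or_eq_true, nbeq, Nat.ble_eq] at h2'
    omega
  · have h3' := Bool.eq_iff_iff.1 h3
    simpa only [nbeq] using h3'
  · have h4' := Bool.eq_iff_iff.1 h4
    simpa only [nbeq] using h4'

/-- Vectors are conjugate under the stabiliser of `z` to the representative of their class. -/
theorem reach {v : ℕ} (hv : v < 2048) : ∃ n ∈ Subgroup.normalizer (A : Set G) ⊓ CC z,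
    n * D.enc (VCode.vReps.getD (VCode.cls ec v) 2048) * n⁻¹ = D.enc v := by
  suffices ∀ d v, v < 2048 → VCode.dist ec v ≤ d → ∃ n ∈ Subgroup.normalizer (A : Set G) ⊓ CC z,
      n * D.enc (VCode.vReps.getD (VCode.cls ec v) 2048) * n⁻¹ = D.enc v from this _ v hv le_rfl
  intro d
  induction d using Nat.strong_induction_on with
  | _ d ih =>
    intro v hv hd
    have h := List.all_eq_true.1 (List.all_eq_true.1 VCode.orbit_table ec (VCode.mem_ec D.ec_cases)) v
      (List.mem_range.2 hv)
    simp only [Bool.or_eq_true, Bool.and_eq_true, Nat.ble_eq, nbeq] at h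
    rcases h with ⟨-, h⟩ | ⟨⟨⟨⟨happ, hdist⟩, hcls⟩, hg⟩, hpar⟩
    · refine ⟨1, Subgroup.one_mem _, ?_⟩
      rw [← h]; group
    · obtain ⟨n₀, hn₀, e₀⟩ :=
        ih (VCode.dist ec (VCode.par ec v)) (by omega) _ (by omega) le_rfl
      have hmem : (VCode.vgens ec).getD (VCode.gix ec v) [] ∈ VCode.vgens ec := by
        have hlen : (VCode.vgens ec).length = 15 := rfl
        rw [List.getD_eq_getElem _ _ (by omega)]
        exact List.getElem_mem _
      obtain ⟨g, hg', eg⟩ := D.gens _ hmem
      refine ⟨g * n₀, Subgroup.mul_mem _ hg' hn₀, ?_⟩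
      rw [hcls] at e₀
      calc g * n₀ * D.enc (VCode.vReps.getD (VCode.cls ec v) 2048) * (g * n₀)⁻¹
          = g * (n₀ * D.enc (VCode.vReps.getD (VCode.cls ec v) 2048) * n₀⁻¹) * g⁻¹ := by group
        _ = D.enc v := by rw [e₀, eg _ (by omega), happ]

/-- Two vectors of one class are conjugate under the stabiliser of `z`. -/
theorem conj_of_cls {v w : ℕ} (hv : v < 2048) (hw : w < 2048) (h : VCode.cls ec v = VCode.cls ec w) :
    ∃ n ∈ Subgroup.normalizer (A : Set G) ⊓ CC z, n * D.enc v * n⁻¹ = D.enc w := by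
  obtain ⟨a, ha, ea⟩ := D.reach hv
  obtain ⟨b, hb, eb⟩ := D.reach hw
  refine ⟨b * a⁻¹, Subgroup.mul_mem _ hb (Subgroup.inv_mem _ ha), ?_⟩
  rw [← ea, ← eb, h]; group

theorem isConj_iff_rep {v : ℕ} (hv : v < 2048) :
    IsConj z (D.enc v) ↔ IsConj z (D.enc (VCode.vReps.getD (VCode.cls ec v) 2048)) := by
  obtain ⟨n, -, e⟩ := D.reach hv
  have hc : IsConj (D.enc (VCode.vReps.getD (VCode.cls ec v) 2048)) (D.enc v) := isConj_iff.2 ⟨n, e⟩
  exact ⟨fun h => h.trans hc.symm, fun h => h.trans hc⟩

theorem isConj_code {m : G} {v w : ℕ} (e : m * D.enc v * m⁻¹ = D.enc w) :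
    IsConj z (D.enc v) ↔ IsConj z (D.enc w) :=
  have hc : IsConj (D.enc v) (D.enc w) := isConj_iff.2 ⟨m, e⟩
  ⟨fun h => h.trans hc, fun h => h.trans hc.symm⟩

open Classical in
/-- The number of conjugates of `z` and the order of the normaliser. -/
theorem card_normalizer_eq :
    Nat.card ↥(Subgroup.normalizer (A : Set G)) =
      ((Finset.range 2048).filter fun v => IsConj z (D.enc v)).card * (2048 * 138240) := by
  have h := card_orbit_mul (Subgroup.normalizer (A : Set G)) z
  have h2 : Nat.card ↥(Subgroup.normalizer (A : Set G) ⊓ Subgroup.centralizer ({z} : Set G)) =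
      2048 * 138240 := D.card_stab
  rw [h2] at h
  rw [← h]
  congr 1
  have e : {y : G | ∃ m ∈ Subgroup.normalizer (A : Set G), m * z * m⁻¹ = y} =
      D.enc '' (((Finset.range 2048).filter fun v => IsConj z (D.enc v) : Finset ℕ) : Set ℕ) := by
    ext y
    simp only [Set.mem_ofPred_eq, Set.mem_image, Finset.coe_filter, Finset.mem_range]
    constructor
    · rintro ⟨m, hm, rfl⟩
      obtain ⟨w, hw, ew⟩ := D.exists_code hm (show (64 : ℕ) < 2048 by norm_num)
      rw [D.enc_z] at ew
      exact ⟨w, ⟨hw, ew ▸ isConj_iff.2 ⟨m, rfl⟩⟩, ew.symm⟩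
    · rintro ⟨w, ⟨hw, hc⟩, rfl⟩
      exact D.conj_z _ (D.enc_mem w hw) hc
  rw [e, Set.InjOn.ncard_image ?_, Set.ncard_coe_finset]
  intro v hv w hw ev
  simp only [Finset.coe_filter, Finset.mem_range, Set.mem_ofPred_eq] at hv hw
  exact D.enc_inj v w hv.1 hw.1 ev

open Classical in
theorem card_conj_eq (q : ℕ → Bool)
    (hq : ∀ v, v < 2048 → (IsConj z (D.enc v) ↔ q (VCode.cls ec v) = true))
    (h0 : q 0 = false) (h1 : q 1 = true) :
    ((Finset.range 2048).filter fun v => IsConj z (D.enc v)).card =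
      VCode.usize (q 2) (q 3) (q 4) (q 5) (q 6) := by
  have hm : ∀ v ∈ (Finset.range 2048).filter (fun v => IsConj z (D.enc v)),
      VCode.cls ec v ∈ Finset.range 7 := fun v hv => by
    have := (D.cls_le (Finset.mem_range.1 (Finset.mem_filter.1 hv).1)).1
    exact Finset.mem_range.2 (by omega)
  rw [Finset.card_eq_sum_card_fiberwise hm]
  have hk : ∀ k ∈ Finset.range 7,
      (((Finset.range 2048).filter fun v => IsConj z (D.enc v)).filter fun v => VCode.cls ec v = k).card =
        if q k then [1, 1, 36, 90, 240, 240, 1440].getD k 0 else 0 := by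
    intro k hk
    split
    · rename_i hqk
      have h := List.all_eq_true.1 (List.all_eq_true.1 VCode.cls_count ec (VCode.mem_ec D.ec_cases)) k
        (List.mem_range.2 (Finset.mem_range.1 hk))
      rw [nbeq, countP_range_eq] at h
      rw [← h]
      congr 1
      ext v
      simp only [Finset.mem_filter, Finset.mem_range, nbeq]
      exact ⟨fun h => ⟨h.1.1, h.2⟩, fun h => ⟨⟨h.1, (hq v h.1).2 (by rw [h.2]; exact hqk)⟩, h.2⟩⟩
    · rename_i hqk
      rw [Finset.card_eq_zero, Finset.eq_empty_iff_forall_notMem]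
      intro v hv
      simp only [Finset.mem_filter, Finset.mem_range] at hv
      exact hqk (hv.2 ▸ (hq v hv.1.1).1 hv.1.2)
  rw [Finset.sum_congr rfl hk]
  simp [Finset.sum_range_succ, VCode.usize, h0, h1]

/-- A set of the two classes that keeps its count of neighbours under the normaliser. -/
theorem deg_le {sel : Bool} {m : G} (hm : m ∈ Subgroup.normalizer (A : Set G))
    (hpres : ∀ v w, v < 2048 → w < 2048 → m * D.enc v * m⁻¹ = D.enc w →
      VCode.isNc ec sel v = true → VCode.isNc ec sel w = true)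
    {u w : ℕ} (hu : u < 2048) (hw : w < 2048) (e : m * D.enc u * m⁻¹ = D.enc w) :
    VCode.deg ec sel u ≤ VCode.deg ec sel w := by
  classical
  rw [VCode.deg, VCode.deg, countP_range_eq, countP_range_eq]
  choose π hπlt hπ using fun v : Fin 2048 => D.exists_code hm v.2
  refine Finset.card_le_card_of_injOn (fun v => if h : v < 2048 then π ⟨v, h⟩ else 0) ?_ ?_
  · intro v hv
    simp only [Finset.coe_filter, Finset.mem_range, Bool.and_eq_true, Set.mem_ofPred_eq] at hv ⊢
    obtain ⟨hv2, hn1, hn2⟩ := hv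
    rw [dif_pos hv2]
    refine ⟨hπlt _, hpres v _ hv2 (hπlt _) (hπ ⟨v, hv2⟩) hn1,
      hpres (Nat.xor u v) _ (xor_lt_2048 hu hv2) (xor_lt_2048 hw (hπlt _)) ?_ hn2⟩
    rw [D.enc_xor u v hu hv2, D.enc_xor w _ hw (hπlt _), ← e, ← hπ ⟨v, hv2⟩]
    group
  · intro v hv v' hv' h
    simp only [Finset.coe_filter, Finset.mem_range, Set.mem_ofPred_eq] at hv hv'
    simp only [dif_pos hv.1, dif_pos hv'.1] at h
    refine D.enc_inj v v' hv.1 hv'.1 ?_
    have h1 := hπ ⟨v, hv.1⟩
    rw [h, ← hπ ⟨v', hv'.1⟩] at h1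
    exact mul_left_cancel (mul_right_cancel h1)

open Classical in
theorem card_not_union : ∀ l ∈ VCode.badPrimes,
    ¬ l ∣ ((Finset.range 2048).filter fun v => IsConj z (D.enc v)).card := by
  intro l hl hd
  letI : CommGroup A :=
    { (inferInstance : Group A) with mul_comm := fun a c => Subtype.ext (D.comm' _ a.2 _ c.2) }
  obtain ⟨M, iM, iF, σ, hσ, hc⟩ := exists_action (A := A) (B := A) A.subtype A.subtype_injective D.comm'
    (fun b => b.2) (fun n hn b => ⟨⟨_, (Subgroup.mem_normalizer_iff.1 hn _).1 b.2⟩, rfl⟩)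
    (fun n _ h => D.self_cent (Subgroup.mem_centralizer_iff.2 fun a ha =>
      (mul_inv_eq_iff_eq_mul.1 (h ⟨a, ha⟩)).symm))
  obtain ⟨hlp, hl2, hlk⟩ := VCode.badPrimes_spec l hl
  refine not_dvd_card_of_faithful σ hσ hlp hl2 ((Nat.card_congr Additive.toMul).trans
    (D.card_A.trans (by norm_num : (2048 : ℕ) = 2 ^ 11))) hlk ?_
  rw [D.card_A, D.card_normalizer_eq] at hc
  have : Nat.card M = ((Finset.range 2048).filter fun v => IsConj z (D.enc v)).card * 138240 :=
    Nat.eq_of_mul_eq_mul_right (by norm_num : 0 < 2048) (hc.trans (by ring))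
  rw [this]
  exact dvd_mul_of_dvd_left hd _

open Classical in
theorem card_ne_2047 :
    ((Finset.range 2048).filter fun v => IsConj z (D.enc v)).card ≠ 2047 := by
  intro hO
  letI : CommGroup A :=
    { (inferInstance : Group A) with mul_comm := fun a c => Subtype.ext (D.comm' _ a.2 _ c.2) }
  obtain ⟨M, iM, iF, σ, hσ, hc⟩ := exists_action (A := A) (B := A) A.subtype A.subtype_injective D.comm'
    (fun b => b.2) (fun n hn b => ⟨⟨_, (Subgroup.mem_normalizer_iff.1 hn _).1 b.2⟩, rfl⟩)
    (fun n _ h => D.self_cent (Subgroup.mem_centralizer_iff.2 fun a ha =>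
      (mul_inv_eq_iff_eq_mul.1 (h ⟨a, ha⟩)).symm))
  rw [D.card_A, D.card_normalizer_eq, hO] at hc
  have hM : Nat.card M = 2047 * 138240 := by omega
  obtain ⟨d, hd1, hd2, hd3⟩ := exists_norm_card σ hσ (n := 11) (p := 89)
    (fun a => Additive.toMul.injective (Subtype.ext (D.sq' _ (Additive.toMul a).2))) (by norm_num) (by norm_num)
    ((Nat.card_congr Additive.toMul).trans (D.card_A.trans (by norm_num : (2048 : ℕ) = 2 ^ 11)))
    (fun k h0 h11 => by interval_cases k <;> norm_num)
    (by rw [hM]; norm_num) (by rw [hM]; norm_num)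
  rw [hM] at hd2 hd3
  have h := List.all_eq_true.1 VCode.no_sylow_89 d (List.mem_range.2 (by norm_num at hd1; omega))
  rw [Nat.mod_eq_zero_of_dvd hd2, hd3] at h
  rcases Nat.eq_zero_or_pos d with rfl | hd0
  · simp at hd3
  · have hb : Nat.beq d 0 = false := by
      rw [Bool.eq_false_iff]; intro e; have := nbeq.1 e; omega
    rw [hb] at h
    simp at h

open Classical in
theorem not_low (hlow : ∀ v, v < 2048 → (IsConj z (D.enc v) ↔ v < 128 ∧ v ≠ 0)) : False := by
  have h128 : ∀ m ∈ Subgroup.normalizer (A : Set G), ∀ v, v < 128 →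
      ∃ w, w < 128 ∧ m * D.enc v * m⁻¹ = D.enc w := by
    intro m hm v hv
    obtain ⟨w, hw, e⟩ := D.exists_code hm (show v < 2048 by omega)
    refine ⟨w, ?_, e⟩
    rcases Nat.eq_zero_or_pos v with rfl | hv0
    · rw [(D.code_zero_iff (by norm_num) hw e).1 rfl]; norm_num
    · exact ((hlow w hw).1 ((D.isConj_code e).1 ((hlow v (by omega)).2 ⟨hv, by omega⟩))).1
  let B : Subgroup G :=
    { carrier := {a | ∃ v, v < 128 ∧ D.enc v = a}
      mul_mem' := fun {a b} ha hb => by
        obtain ⟨v, hv, rfl⟩ := ha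
        obtain ⟨w, hw, rfl⟩ := hb
        exact ⟨Nat.xor v w, Nat.xor_lt_two_pow (n := 7) hv hw, D.enc_xor v w (by omega) (by omega)⟩
      one_mem' := ⟨0, by norm_num, D.enc_zero'⟩
      inv_mem' := fun {a} ha => by
        obtain ⟨v, hv, rfl⟩ := ha
        exact ⟨v, hv, (inv_eq_of_mul_eq_one_right (D.sq' _ (D.enc_mem v (by omega)))).symm⟩ }
  have hBA : B ≤ A := fun a ⟨v, hv, e⟩ => e ▸ D.enc_mem v (by omega)
  letI : CommGroup B :=
    { (inferInstance : Group B) with
      mul_comm := fun a c => Subtype.ext (D.comm' _ (hBA a.2) _ (hBA c.2)) }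
  obtain ⟨M, iM, iF, σ, hσ, hc⟩ := exists_action (A := A) (B := B) B.subtype B.subtype_injective D.comm'
    (fun b => hBA b.2) (fun n hn b => by
      obtain ⟨v, hv, e⟩ := b.2
      obtain ⟨w, hw, ew⟩ := h128 n hn v hv
      exact ⟨⟨D.enc w, w, hw, rfl⟩, by show D.enc w = n * (b : G) * n⁻¹; rw [← e, ew]⟩)
    (fun n hn h => D.low_kernel n hn fun v hv => h ⟨D.enc v, v, hv, rfl⟩)
  have hO : ((Finset.range 2048).filter fun v => IsConj z (D.enc v)).card = 127 := by
    rw [show (Finset.range 2048).filter (fun v => IsConj z (D.enc v)) = (Finset.range 128).erase 0 by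
      ext v
      simp only [Finset.mem_filter, Finset.mem_range, Finset.mem_erase]
      exact ⟨fun h => ((hlow v h.1).1 h.2).symm, fun h => ⟨by omega, (hlow v (by omega)).2 h.symm⟩⟩]
    simp
  rw [D.card_A, D.card_normalizer_eq, hO] at hc
  have hM : Nat.card M = 127 * 138240 := by omega
  have hB : Nat.card B = 2 ^ 7 := by
    have h : (B : Set G) = D.enc '' ((Finset.range 128 : Finset ℕ) : Set ℕ) := by
      ext a
      rw [Finset.coe_range]
      rfl
    rw [show Nat.card B = (B : Set G).ncard from (Nat.card_coe_set_eq _), h,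
      Set.InjOn.ncard_image (fun v hv w hw e => D.enc_inj v w
        (lt_trans (Finset.mem_range.1 hv) (by norm_num)) (lt_trans (Finset.mem_range.1 hw) (by norm_num)) e),
      Set.ncard_coe_finset, Finset.card_range]
    norm_num
  obtain ⟨d, hd1, hd2, hd3⟩ := exists_norm_card σ hσ (n := 7) (p := 127)
    (fun a => Additive.toMul.injective (Subtype.ext (D.sq' _ (hBA (Additive.toMul a).2))))
    (by norm_num) (by norm_num) ((Nat.card_congr Additive.toMul).trans hB)
    (fun k h0 h7 => by interval_cases k <;> norm_num)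
    (by rw [hM]; norm_num) (by rw [hM]; norm_num)
  rw [hM] at hd2 hd3
  have h := List.all_eq_true.1 VCode.no_sylow_127 d (List.mem_range.2 (by norm_num at hd1; omega))
  rw [Nat.mod_eq_zero_of_dvd hd2, hd3] at h
  rcases Nat.eq_zero_or_pos d with rfl | hd0
  · simp at hd3
  · have hb : Nat.beq d 0 = false := by
      rw [Bool.eq_false_iff]; intro e; have := nbeq.1 e; omega
    rw [hb] at h
    simp at h

open Classical in
/-- The conjugates of `z` are one of the two unions of size `1771`. -/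
theorem exists_sel : ∃ sel : Bool,
    (∀ v, v < 2048 → (VCode.isNc ec sel v = true ↔ v ≠ 0 ∧ ¬ IsConj z (D.enc v))) ∧
      IsConj z (D.enc 129) := by
  set q : ℕ → Bool := fun k => decide (IsConj z (D.enc (VCode.vReps.getD k 2048))) with hqdef
  have hq : ∀ v, v < 2048 → (IsConj z (D.enc v) ↔ q (VCode.cls ec v) = true) := fun v hv => by
    rw [D.isConj_iff_rep hv, hqdef]; simp
  have h1 : q 1 = true := by
    simp only [hqdef, decide_eq_true_eq]
    show IsConj z (D.enc 64)
    rw [D.enc_z]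
  have h0 : q 0 = false := by
    simp only [hqdef, decide_eq_false_iff_not]
    show ¬ IsConj z (D.enc 0)
    rw [D.enc_zero']
    exact fun h => D.z_ne_one (isConj_one_left.1 h)
  have hcard := D.card_conj_eq q hq h0 h1
  rcases VCode.union_cases (q 2) (q 3) (q 4) (q 5) (q 6) with h | h | h | h | h | h
  · obtain ⟨l, hl, hmod⟩ := List.any_eq_true.1 h
    exact absurd (hcard ▸ Nat.dvd_of_mod_eq_zero (nbeq.1 hmod)) (D.card_not_union l hl)
  · exfalso
    simp only [List.cons.injEq, and_true] at h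
    obtain ⟨h2, h3, h4, h5, h6⟩ := h
    obtain ⟨m, hm, hne⟩ := D.moved
    obtain ⟨w, hw, e⟩ := D.exists_code hm (show (64 : ℕ) < 2048 by norm_num)
    rw [D.enc_z] at e
    have hwq := (hq w hw).1 (e ▸ isConj_iff.2 ⟨m, rfl⟩)
    have hle := (D.cls_le hw).1
    have : VCode.cls ec w = 1 := by
      interval_cases hk : VCode.cls ec w <;> simp_all
    rw [(D.cls_le hw).2.2.2.1 this, D.enc_z] at e
    exact hne e
  · exfalso
    simp only [List.cons.injEq, and_true] at h
    obtain ⟨h2, h3, h4, h5, h6⟩ := h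
    refine D.not_low fun v hv => ?_
    obtain ⟨hle, hl, hz, -⟩ := D.cls_le hv
    rw [hq v hv, Ne, ← hz, hl]
    interval_cases hk : VCode.cls ec v <;> simp_all
  · exfalso
    simp only [List.cons.injEq, and_true] at h
    obtain ⟨h2, h3, h4, h5, h6⟩ := h
    refine D.card_ne_2047 ?_
    rw [hcard, h2, h3, h4, h5, h6]; rfl
  all_goals
    simp only [List.cons.injEq, and_true] at h
    obtain ⟨h2, h3, h4, h5, h6⟩ := h
    refine ⟨!q 4, fun v hv => ?_, ?_⟩
    · obtain ⟨hle, -, hz, -⟩ := D.cls_le hv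
      rw [VCode.isNc_iff, hq v hv, Ne, ← hz, h4]
      interval_cases hk : VCode.cls ec v <;> simp_all
    · refine (hq 129 (by norm_num)).2 ?_
      have hs := List.all_eq_true.1 VCode.small_facts ec (VCode.mem_ec D.ec_cases)
      simp only [Bool.and_eq_true, nbeq] at hs
      rw [hs.1.1.1.1.2]
      exact h6

/-- The sign system and the set of `276` elements. -/
theorem ec_sel : ec = 2 ∧ ∀ v, v < 2048 →
    (VCode.isNc 2 true v = true ↔ v ≠ 0 ∧ ¬ IsConj z (D.enc v)) := by
  obtain ⟨sel, hnc, h129⟩ := D.exists_sel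
  have hs := List.all_eq_true.1 VCode.small_facts ec (VCode.mem_ec D.ec_cases)
  simp only [Bool.and_eq_true, nbeq] at hs
  obtain ⟨⟨⟨⟨⟨⟨⟨hc4, hc128⟩, hc152⟩, hc129⟩, hc64⟩, hc0⟩, hcl⟩, hx⟩ := hs
  have hpres : ∀ m : G, ∀ v w, v < 2048 → w < 2048 → m * D.enc v * m⁻¹ = D.enc w →
      VCode.isNc ec sel v = true → VCode.isNc ec sel w = true := by
    intro m v w hv hw e h
    obtain ⟨h1, h2⟩ := (hnc v hv).1 h
    exact (hnc w hw).2 ⟨fun h0 => h1 ((D.code_zero_iff hv hw e).2 h0),
      fun hc => h2 ((D.isConj_code e).2 hc)⟩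
  set r : ℕ := if sel then 128 else 152 with hr
  have hr2 : r < 2048 ∧ VCode.cls ec r = (if sel then 4 else 5) := by
    rw [hr]; cases sel <;> simp [hc128, hc152]
  -- the normaliser moves the other class into the class of `36`
  have hmove : ∃ m ∈ Subgroup.normalizer (A : Set G), m * D.enc r * m⁻¹ = D.enc 4 := by
    by_contra hno
    have hstay : ∀ m ∈ Subgroup.normalizer (A : Set G), ∀ v w, v < 2048 → w < 2048 →
        m * D.enc v * m⁻¹ = D.enc w → VCode.cls ec v = 2 → w < 128 := by
      intro m hm v w hv hw e hv2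
      have hw2 := VCode.isNc_iff.1 (hpres m v w hv hw e (VCode.isNc_iff.2 (Or.inl hv2)))
      rcases hw2 with hw2 | hw2
      · exact (D.cls_le hw).2.1.2 (by omega)
      · exfalso
        obtain ⟨a, ha, ea⟩ := D.conj_of_cls hr2.1 hw (hr2.2.trans hw2.symm)
        obtain ⟨b, hb, eb⟩ := D.conj_of_cls hv (show (4 : ℕ) < 2048 by norm_num) (hv2.trans hc4.symm)
        refine hno ⟨b * m⁻¹ * a, Subgroup.mul_mem _ (Subgroup.mul_mem _ hb.1 (Subgroup.inv_mem _ hm)) ha.1, ?_⟩
        calc b * m⁻¹ * a * D.enc r * (b * m⁻¹ * a)⁻¹ = b * (m⁻¹ * (a * D.enc r * a⁻¹) * m) * b⁻¹ := by group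
          _ = b * D.enc v * b⁻¹ := by rw [ea, ← e]; group
          _ = D.enc 4 := eb
    -- so it would keep the codes below 128
    obtain ⟨m, hm, e129⟩ := D.conj_z _ (D.enc_mem 129 (by norm_num)) h129
    have h68 : VCode.cls ec 68 = 2 := nbeq.1 (List.all_eq_true.1 hcl 68 (by simp))
    have h4' : VCode.cls ec 4 = 2 := hc4
    obtain ⟨a, ha, ea⟩ := D.exists_code hm (show (68 : ℕ) < 2048 by norm_num)
    obtain ⟨b, hb, eb⟩ := D.exists_code hm (show (4 : ℕ) < 2048 by norm_num)
    have ha' := hstay m hm 68 a (by norm_num) ha ea h68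
    have hb' := hstay m hm 4 b (by norm_num) hb eb h4'
    have h129' : (129 : ℕ) = Nat.xor a b := by
      refine D.enc_inj _ _ (by norm_num) (xor_lt_2048 ha hb) ?_
      have hz : z = D.enc 68 * D.enc 4 := by
        rw [← D.enc_xor 68 4 (by norm_num) (by norm_num), hx, D.enc_z]
      calc D.enc 129 = m * z * m⁻¹ := e129.symm
        _ = m * (D.enc 68 * D.enc 4) * m⁻¹ := congrArg (fun t => m * t * m⁻¹) hz
        _ = D.enc a * D.enc b := by rw [← ea, ← eb]; group
        _ = D.enc (Nat.xor a b) := (D.enc_xor a b ha hb).symm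
    have : Nat.xor a b < 128 := Nat.xor_lt_two_pow (n := 7) ha' hb'
    omega
  obtain ⟨m, hm, e⟩ := hmove
  have he' : m⁻¹ * D.enc 4 * m⁻¹⁻¹ = D.enc r := by rw [← e]; group
  have hd1 := D.deg_le hm (hpres m) hr2.1 (by norm_num) e
  have hd2 := D.deg_le (Subgroup.inv_mem _ hm) (hpres m⁻¹) (by norm_num) hr2.1 he'
  have hdeg : VCode.deg ec sel 4 = VCode.deg ec sel r := le_antisymm hd2 hd1
  have key : ∀ p ∈ ([(0, true), (0, false), (2, false)] : List (ℕ × Bool)), (ec, sel) ≠ p := by
    intro p hp he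
    have h := List.all_eq_true.1 VCode.degrees p hp
    subst he
    simp only [Bool.not_eq_true'] at h
    rw [← hr, hdeg, Nat.beq_refl] at h
    exact Bool.noConfusion h
  rcases D.ec_cases with rfl | rfl
  · exfalso
    cases sel
    · exact key (0, false) (by simp) rfl
    · exact key (0, true) (by simp) rfl
  · cases sel
    · exact absurd rfl (key (2, false) (by simp))
    · exact ⟨rfl, hnc⟩

theorem ec_eq : ec = 2 := D.ec_sel.1

theorem isConj_iff {v : ℕ} (hv : v < 2048) (h0 : v ≠ 0) :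
    IsConj z (D.enc v) ↔ VCode.isNc 2 true v = false := by
  rw [Bool.eq_false_iff, Ne, D.ec_sel.2 v hv]
  tauto

theorem vframe : VFrame z A where
  comm := D.comm'
  sq := D.sq'
  card := D.card_A
  ne_one := D.z_ne_one
  mem := D.z_mem
  self_cent := D.self_cent
  conj_z := D.conj_z
  card_stab := D.card_stab
  frame := by
    classical
    obtain ⟨hf64, hW0, hf, hW⟩ := VCode.frame_basic
    have hf' : ∀ a, a < 128 → VCode.frF a < 128 ∧
        ∀ b, b < 128 → VCode.frF a = VCode.frF b → a = b := fun a ha => by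
      have h := List.all_eq_true.1 hf a (List.mem_range.2 ha)
      simp only [Bool.and_eq_true, Nat.ble_eq] at h
      refine ⟨by omega, fun b hb e => ?_⟩
      have h' := List.all_eq_true.1 h.2 b (List.mem_range.2 hb)
      rw [e, Nat.beq_refl] at h'
      exact nbeq.1 (by simpa using h')
    have hW' : ∀ c, c < 16 → VCode.frW.getD c 0 < 2048 ∧ ∀ d, d < 16 →
        Nat.xor (VCode.frW.getD c 0) (VCode.frW.getD d 0) < 128 → c = d := fun c hc => by
      have h := List.all_eq_true.1 hW c (List.mem_range.2 hc)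
      simp only [Bool.and_eq_true, Nat.ble_eq] at h
      refine ⟨by omega, fun d hd e => ?_⟩
      have h' := List.all_eq_true.1 h.2 d (List.mem_range.2 hd)
      simp only [Bool.or_eq_true, Bool.not_eq_true', nbeq] at h'
      rcases h' with h' | h'
      · exfalso
        rw [Nat.ble_eq_true_of_le (by omega)] at h'
        exact Bool.noConfusion h'
      · exact h'
    let mk : ℕ → Additive A := fun v =>
      if hv : v < 2048 then Additive.ofMul ⟨D.enc v, D.enc_mem v hv⟩ else 0
    have hmk : ∀ v, v < 2048 → ((Additive.toMul (mk v) : A) : G) = D.enc v := fun v hv => by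
      simp only [mk, dif_pos hv]; rfl
    have hval : Function.Injective fun a : Additive A => ((Additive.toMul a : A) : G) :=
      fun a c e => Additive.toMul.injective (Subtype.ext e)
    have hadd : ∀ a c, a < 2048 → c < 2048 → mk a + mk c = mk (Nat.xor a c) := fun a c ha hc => hval (by
      show ((Additive.toMul (mk a) : A) : G) * ((Additive.toMul (mk c) : A) : G) = _
      rw [hmk a ha, hmk c hc]; show _ = ((Additive.toMul (mk (Nat.xor a c)) : A) : G); rw [hmk _ (xor_lt_2048 ha hc), D.enc_xor a c ha hc])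
    refine ⟨fun c => mk (VCode.frF c), fun c => mk (VCode.frW.getD c 0), fun a b ha hb => ?_,
      fun a b ha hb e => ?_, ?_, ?_, fun c d a hc hd ha e => ?_, fun x => ?_⟩
    · show mk (VCode.frF (Nat.xor a b)) = mk (VCode.frF a) + mk (VCode.frF b)
      rw [hadd _ _ (by have := (hf' a ha).1; omega) (by have := (hf' b hb).1; omega)]
      exact congrArg mk (app_xor _ a b)
    · refine (hf' a ha).2 b hb (D.enc_inj _ _ (by have := (hf' a ha).1; omega)
        (by have := (hf' b hb).1; omega) ?_)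
      rw [← hmk _ (by have := (hf' a ha).1; omega), ← hmk _ (by have := (hf' b hb).1; omega)]
      exact congrArg (fun a : Additive A => ((Additive.toMul a : A) : G)) e
    · show ((Additive.toMul (mk (VCode.frF 64)) : A) : G) = z
      rw [nbeq.1 hf64, hmk 64 (by norm_num), D.enc_z]
    · exact hval (by
        show ((Additive.toMul (mk 0) : A) : G) = 1
        rw [hmk 0 (by norm_num), D.enc_zero'])
    · refine (hW' c hc).2 d hd ?_
      have e' := congrArg (fun a : Additive A => ((Additive.toMul a : A) : G))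
        ((hadd _ _ (hW' c hc).1 (hW' d hd).1).symm.trans e)
      simp only [hmk _ (xor_lt_2048 (hW' c hc).1 (hW' d hd).1),
        hmk (VCode.frF a) (by have := (hf' a ha).1; omega)] at e'
      rw [D.enc_inj _ _ (xor_lt_2048 (hW' c hc).1 (hW' d hd).1) (by have := (hf' a ha).1; omega) e']
      exact (hf' a ha).1
    · obtain ⟨v, hv, ev⟩ := D.enc_surj _ (Additive.toMul x).2
      have hx : x = mk v := hval (ev.symm.trans (hmk v hv).symm)
      have hnc : x ∈ ncSet z A ↔ VCode.isNc 2 true v = true := by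
        rw [D.ec_sel.2 v hv, ev]
        exact and_congr ⟨fun h h0 => h (Subtype.ext (by rw [← ev, h0, D.enc_zero']; rfl)),
          fun h h1 => h (D.enc_inj v 0 hv (by norm_num) (by rw [ev, h1, D.enc_zero']; rfl))⟩ Iff.rfl
      have hlt : ∀ n, n < 276 → VCode.frW.getD (cs n) 0 < 2048 ∧ VCode.frF (cd n) < 2048 := fun n hn =>
        ⟨(hW' _ (cd_lt hn).2.1).1, by have := (hf' _ (cd_lt hn).1).1; omega⟩
      rw [hnc, hx]
      constructor
      · intro h
        have h' := List.all_eq_true.1 VCode.frame_match.2 v (List.mem_range.2 hv)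
        rw [h] at h'
        simp only [Bool.not_true, Bool.false_or] at h'
        obtain ⟨n, hn, en⟩ := List.any_eq_true.1 h'
        refine ⟨n, List.mem_range.1 hn, ?_⟩
        rw [hadd _ _ (hlt n (List.mem_range.1 hn)).1 (hlt n (List.mem_range.1 hn)).2, nbeq.1 en]
      · rintro ⟨n, hn, en⟩
        have h := List.all_eq_true.1 VCode.frame_match.1 n (List.mem_range.2 hn)
        rw [hadd _ _ (hlt n hn).1 (hlt n hn).2] at en
        have e' := congrArg (fun a : Additive A => ((Additive.toMul a : A) : G)) en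
        simp only [hmk _ (xor_lt_2048 (hlt n hn).1 (hlt n hn).2), hmk v hv] at e'
        rw [← D.enc_inj _ _ (xor_lt_2048 (hlt n hn).1 (hlt n hn).2) hv e']
        exact h
  trans36 := by
    intro u hu v hv hu1 hv1 huc hvc huz hvz
    obtain ⟨a, ha, rfl⟩ := D.enc_surj u hu
    obtain ⟨b, hb, rfl⟩ := D.enc_surj v hv
    have h36 : ∀ a, a < 2048 → D.enc a ≠ 1 → ¬ IsConj z (D.enc a) → ¬ IsConj z (z * D.enc a) →
        VCode.cls 2 a = 2 := by
      intro a ha ha1 hac haz
      have h := List.all_eq_true.1 VCode.shift36 a (List.mem_range.2 ha)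
      have e : D.enc (Nat.xor a 64) = z * D.enc a := by
        rw [D.enc_xor a 64 ha (by norm_num), D.enc_z, D.comm' _ (D.enc_mem a ha) _ D.z_mem]
      have hn1 : VCode.isNc 2 true a = true :=
        (D.ec_sel.2 a ha).2 ⟨fun h0 => ha1 (by rw [h0, D.enc_zero']), hac⟩
      have hn2 : VCode.isNc 2 true (Nat.xor a 64) = true := by
        refine (D.ec_sel.2 _ (xor_lt_2048 ha (by norm_num))).2 ⟨fun h0 => hac ?_, e ▸ haz⟩
        rw [h0, D.enc_zero'] at e
        rw [show D.enc a = z⁻¹ from (inv_eq_of_mul_eq_one_right e.symm).symm,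
          inv_eq_of_mul_eq_one_right (D.sq' z D.z_mem)]
      rw [hn1, hn2] at h
      simpa [nbeq] using h
    refine D.conj_of_cls ha hb ?_
    rw [D.ec_eq, h36 a ha hu1 huc huz, h36 b hb hv1 hvc hvz]

end Basic

end VAct

end CfsgLib.J4Type
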