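import Cfsg.Agent.Lib.J4Type.Classify.Check

/-!
A pair of maps of the two halves with the relations of the generators and a nonzero equivariant family of
forms is the fixed one, up to a symmetry.
-/

set_option autoImplicit false

namespace CfsgLib.J4Type

namespace Classify

/-- `f'` is the transform of `f` by `Q` below `n`. -/
def Conj (n : ℕ) (Q f f' : ℕ → ℕ) : Prop := ∀ x < n, f x < n ∧ f' (Q x) = Q (f x)

theorem Conj.comp {n : ℕ} {Q f f' g g' : ℕ → ℕ} (hf : Conj n Q f f') (hg : Conj n Q g g') :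
    Conj n Q (fun x => f (g x)) (fun x => f' (g' x)) := fun x hx =>
  ⟨(hf _ (hg x hx).1).1, by show f' (g' (Q x)) = Q (f (g x)); rw [(hg x hx).2, (hf _ (hg x hx).1).2]⟩

theorem Conj.id' (n : ℕ) (Q : ℕ → ℕ) : Conj n Q id id := fun _ hx => ⟨hx, rfl⟩

theorem Conj.iterate {n : ℕ} {Q f f' : ℕ → ℕ} (hf : Conj n Q f f') : ∀ k, Conj n Q f^[k] f'^[k]
  | 0 => Conj.id' n Q
  | k + 1 => by
    rw [Function.iterate_succ', Function.iterate_succ']
    exact hf.comp (Conj.iterate hf k)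

theorem Conj.ite {n : ℕ} {Q f f' g g' : ℕ → ℕ} (hf : Conj n Q f f') (hg : Conj n Q g g') (p : Prop) [Decidable p] :
    Conj n Q (if p then f else g) (if p then f' else g') := by
  split_ifs
  · exact hf
  · exact hg

theorem Conj.evL {n : ℕ} {Q A A' C C' : ℕ → ℕ} (hA : Conj n Q A A') (hC : Conj n Q C C') :
    ∀ w, Conj n Q (evL A C w) (evL A' C' w)
  | [] => Conj.id' n Q
  | b :: w => (hC.ite hA (b = true)).comp (Conj.evL hA hC w)

theorem Conj.evRL {n : ℕ} {Q : ℕ → ℕ} {r r' : Fin 4 → ℕ → ℕ} (h : ∀ i, Conj n Q (r i) (r' i)) (m : ℕ) :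
    Conj n Q (evRL r m) (evRL r' m) :=
  ((h 0).ite (Conj.id' n Q) _).comp (((h 1).ite (Conj.id' n Q) _).comp
    (((h 2).ite (Conj.id' n Q) _).comp ((h 3).ite (Conj.id' n Q) _)))

theorem xor_cancel (a b : ℕ) : Nat.xor (Nat.xor a b) b = a := by
  show (a ^^^ b) ^^^ b = a
  rw [Nat.xor_assoc, Nat.xor_self, Nat.xor_zero]

theorem xor_cancel_left (a b : ℕ) : Nat.xor a (Nat.xor a b) = b := by
  show a ^^^ (a ^^^ b) = b
  rw [← Nat.xor_assoc, Nat.xor_self, Nat.zero_xor]

theorem tl_fix : ∀ x < 64, tl x = x → x = 0 := by decide +kernel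

theorem tl_cube : ∀ x < 64, tl (tl (tl x)) = x := by decide +kernel

theorem xor_tl_tl : ∀ x < 64, Nat.xor x (tl (tl x)) = tl x := by decide +kernel

theorem xor_tl_tl' {x : ℕ} (hx : x < 64) : x ^^^ tl (tl x) = tl x := xor_tl_tl x hx

theorem sm_xor : ∀ i < 4, ∀ j < 4, ∀ u < 64, sm (Nat.xor i j) u = Nat.xor (sm i u) (sm j u) := by decide +kernel

theorem sm_eq_zero : ∀ i < 4, ∀ u < 64, sm i u = 0 → i = 0 ∨ u = 0 := by decide +kernel

theorem sm_solve_check : ((List.range 4).all fun i => (List.range 4).all fun j => j == 0 ||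
    (List.range 4).any fun k => (List.range 64).all fun u => (List.range 64).all fun w =>
      !(sm i u == sm j w) || w == sm k u) = true := by
  decide +kernel

theorem sm_solve (i : ℕ) (hi : i < 4) (j : ℕ) (hj : j < 4) (h0 : j ≠ 0) :
    ∃ k < 4, ∀ u < 64, ∀ w < 64, sm i u = sm j w → w = sm k u := by
  have h := sm_solve_check
  simp only [List.all_eq_true, List.mem_range] at h
  have h := h i hi j hj
  simp only [Bool.or_eq_true, beq_iff_eq, h0, false_or, List.any_eq_true, List.all_eq_true, List.mem_range,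
    Bool.not_eq_true', beq_eq_false_iff_ne] at h
  obtain ⟨k, hk, h⟩ := h
  exact ⟨k, hk, fun u hu w hw e => (h u hu w hw).resolve_left (not_not.2 e)⟩

theorem sm_lt (k : ℕ) {u : ℕ} (hu : u < 64) : sm k u < 64 := by
  unfold sm
  split_ifs <;> first | exact tl_lt _ | exact hu | norm_num

theorem sm_zero (i : ℕ) : sm i 0 = 0 := by
  have : tl 0 = 0 := by decide
  unfold sm
  split_ifs <;> simp [this]

theorem lin_tl : IsLin 64 tl := ⟨fun x _ => tl_lt x, fun x _ y _ => tl_xor x y⟩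

theorem four_false {a b c d : ℕ} (ha : a < 64) (hb : b < 64) (hc : c < 64) (hd : d < 64)
    (h : ∀ i < 4, ∀ j < 4, ∀ k < 4, ∀ l < 4,
      Nat.xor (Nat.xor (sm i a) (sm j b)) (Nat.xor (sm k c) (sm l d)) = 0 → i = 0 ∧ j = 0 ∧ k = 0 ∧ l = 0) :
    False := by
  let F : Fin 4 × Fin 4 × Fin 4 × Fin 4 → Fin 64 := fun p =>
    ⟨Nat.xor (Nat.xor (sm p.1.val a) (sm p.2.1.val b)) (Nat.xor (sm p.2.2.1.val c) (sm p.2.2.2.val d)),
      xor_lt64 (xor_lt64 (sm_lt _ ha) (sm_lt _ hb)) (xor_lt64 (sm_lt _ hc) (sm_lt _ hd))⟩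
  have hF : Function.Injective F := by
    intro p q e
    have e' := congrArg Fin.val e
    obtain ⟨h1, h2, h3, h4⟩ := h (Nat.xor p.1.val q.1.val) (xor_lt (k := 2) p.1.isLt q.1.isLt)
      (Nat.xor p.2.1.val q.2.1.val) (xor_lt (k := 2) p.2.1.isLt q.2.1.isLt)
      (Nat.xor p.2.2.1.val q.2.2.1.val) (xor_lt (k := 2) p.2.2.1.isLt q.2.2.1.isLt)
      (Nat.xor p.2.2.2.val q.2.2.2.val) (xor_lt (k := 2) p.2.2.2.isLt q.2.2.2.isLt) (by
        rw [sm_xor _ p.1.isLt _ q.1.isLt _ ha, sm_xor _ p.2.1.isLt _ q.2.1.isLt _ hb,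
          sm_xor _ p.2.2.1.isLt _ q.2.2.1.isLt _ hc, sm_xor _ p.2.2.2.isLt _ q.2.2.2.isLt _ hd,
          xor_comm4 (sm p.1.val a) (sm q.1.val a), xor_comm4 (sm p.2.2.1.val c) (sm q.2.2.1.val c),
          xor_comm4 (Nat.xor (sm p.1.val a) (sm p.2.1.val b))]
        simp only [F] at e'
        rw [e', xor_self'])
    exact Prod.ext (Fin.ext (xor_eq_zero' h1)) (Prod.ext (Fin.ext (xor_eq_zero' h2))
      (Prod.ext (Fin.ext (xor_eq_zero' h3)) (Fin.ext (xor_eq_zero' h4))))
  have := Fintype.card_le_of_injective F hF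
  simp at this

/-- An additive map below `64` commuting with the scalar. -/
structure Semi (f : ℕ → ℕ) : Prop where
  lin : IsLin 64 f
  comm : ∀ x < 64, f (tl x) = tl (f x)

theorem Semi.sm {f : ℕ → ℕ} (h : Semi f) (k : ℕ) {x : ℕ} (hx : x < 64) :
    f (Classify.sm k x) = Classify.sm k (f x) := by
  unfold Classify.sm
  split_ifs
  · exact h.lin.zero (by norm_num)
  · rfl
  · exact h.comm x hx
  · rw [h.comm _ (tl_lt x), h.comm x hx]

theorem Semi.zero {f : ℕ → ℕ} (h : Semi f) : f 0 = 0 := h.lin.zero (by norm_num)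

theorem Sym.semi {f : ℕ → ℕ} (h : Sym f) : Semi f := ⟨h.linLow, fun _ hx => h.comm_tl hx⟩

theorem Semi.nil {f : ℕ → ℕ} (h : Semi f) : Semi fun x => Nat.xor (f x) x := by
  refine ⟨⟨fun x hx => xor_lt64 (h.lin.1 x hx) hx, fun x hx y hy => ?_⟩, fun x hx => ?_⟩
  · show Nat.xor (f (Nat.xor x y)) (Nat.xor x y) = _
    rw [h.lin.2 x hx y hy, xor_comm4]
  · show Nat.xor (f (tl x)) (tl x) = tl (Nat.xor (f x) x)
    rw [h.comm x hx, tl_xor]

theorem bits6_lt : ∀ e ∈ bits6, e < 64 := by decide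

theorem app_cons_two (p q : ℕ) (rest : List ℕ) (x : ℕ) :
    app (p :: q :: rest) x = Nat.xor (app [p, q] x) (app rest (x / 4)) := by
  simp only [app, Nat.div_div_eq_div_mul, xor_zero_right]
  exact (Nat.xor_assoc _ _ _).symm

/-- The scalar index of a two-bit code. -/
def cd (k : ℕ) : ℕ := if k = 2 then 3 else if k = 3 then 2 else k

theorem cd_eq_zero : ∀ k < 4, cd k < 4 ∧ (cd k = 0 → k = 0) := by decide

theorem app_pair {a : ℕ} (ha : a < 64) (x : ℕ) : app [a, tl (tl a)] x = sm (cd (x % 4)) a := by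
  have h4 : x % 4 < 4 := Nat.mod_lt _ (by norm_num)
  simp only [app]
  have e1 : x % 2 = x % 4 % 2 := by omega
  have e2 : x / 2 % 2 = x % 4 / 2 := by omega
  rw [e1, e2]
  generalize x % 4 = k at h4
  interval_cases k <;> simp [cd, sm, xor_zero_right, xor_zero_left, xor_tl_tl' ha]

theorem app_cols3 {a b c : ℕ} (ha : a < 64) (hb : b < 64) (hc : c < 64) (x : ℕ) :
    app (cols3 a b c) x = Nat.xor (sm (cd (x % 4)) a) (Nat.xor (sm (cd (x / 4 % 4)) b)
      (sm (cd (x / 16 % 4)) c)) := by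
  rw [cols3, app_cons_two a, app_cons_two b, app_pair ha, app_pair hb, app_pair hc, Nat.div_div_eq_div_mul]

theorem semi_cols3 {a b c : ℕ} (ha : a < 64) (hb : b < 64) (hc : c < 64) : Semi (app (cols3 a b c)) := by
  have hl : IsLin 64 (app (cols3 a b c)) := isLin_app (k := 6) (by
    intro d hd
    simp [cols3] at hd
    rcases hd with rfl | rfl | rfl | rfl | rfl | rfl <;> first | exact tl_lt _ | assumption)
  refine ⟨hl, ext64 (hl.comp lin_tl) (lin_tl.comp hl) fun e he => ?_⟩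
  have v1 : tl 1 = 3 := by decide
  have v2 : tl 2 = 1 := by decide
  have v4 : tl 4 = 12 := by decide
  have v8 : tl 8 = 4 := by decide
  have v16 : tl 16 = 48 := by decide
  have v32 : tl 32 = 16 := by decide
  simp [bits6] at he
  rcases he with rfl | rfl | rfl | rfl | rfl | rfl <;>
    simp [v1, v2, v4, v8, v16, v32, app, cols3, xor_zero_right, xor_zero_left, xor_tl_tl', ha, hb, hc, tl_cube]

theorem semi_eq {f g : ℕ → ℕ} (hf : Semi f) (hg : Semi g) (h1 : f 1 = g 1) (h4 : f 4 = g 4) (h16 : f 16 = g 16) :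
    ∀ x < 64, f x = g x := by
  refine ext64 hf.lin hg.lin fun e he => ?_
  have v2 : tl (tl 1) = 2 := by decide
  have v8 : tl (tl 4) = 8 := by decide
  have v32 : tl (tl 16) = 32 := by decide
  simp [bits6] at he
  rcases he with rfl | rfl | rfl | rfl | rfl | rfl
  · exact h1
  · rw [← v2, hf.comm _ (tl_lt _), hf.comm _ (by norm_num), hg.comm _ (tl_lt _), hg.comm _ (by norm_num), h1]
  · exact h4
  · rw [← v8, hf.comm _ (tl_lt _), hf.comm _ (by norm_num), hg.comm _ (tl_lt _), hg.comm _ (by norm_num), h4]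
  · exact h16
  · rw [← v32, hf.comm _ (tl_lt _), hf.comm _ (by norm_num), hg.comm _ (tl_lt _), hg.comm _ (by norm_num), h16]

theorem semi_eq_cols3 {f : ℕ → ℕ} (hf : Semi f) : ∀ x < 64, f x = app (cols3 (f 1) (f 4) (f 16)) x :=
  semi_eq hf (semi_cols3 (hf.lin.1 1 (by norm_num)) (hf.lin.1 4 (by norm_num)) (hf.lin.1 16 (by norm_num)))
    (by simp [app, cols3, xor_zero_right, xor_zero_left]) (by simp [app, cols3, xor_zero_right, xor_zero_left])
    (by simp [app, cols3, xor_zero_right, xor_zero_left])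

theorem exists_enc (b : Fin 6 → Bool) : ∃ z < 64, ∀ j : Fin 6, pr (2 ^ j.val) z = b j := by
  let F : Fin 64 → (Fin 6 → Bool) := fun z j => pr (2 ^ j.val) z.val
  have hF : Function.Injective F := fun y y' e => Fin.ext (eq_of_pr_left y.isLt y'.isLt fun w hw => by
    simp [bits6] at hw
    rcases hw with rfl | rfl | rfl | rfl | rfl | rfl
    · exact congrFun e 0
    · exact congrFun e 1
    · exact congrFun e 2
    · exact congrFun e 3
    · exact congrFun e 4
    · exact congrFun e 5)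
  obtain ⟨z, hz⟩ := ((Fintype.bijective_iff_injective_and_card F).2 ⟨hF, by simp⟩).2 b
  exact ⟨z.val, z.isLt, fun j => congrFun hz j⟩

theorem pr_left_ext {x z y y' : ℕ} (hx : x < 64) (hz : z < 64) (hy : y < 64) (hy' : y' < 64)
    (h : ∀ w < 64, pr x w = pr z w) (e : pr z y = pr z y') : pr x y = pr x y' := by
  rw [h y hy, h y' hy', e]

theorem sym_of_low {L : ℕ → ℕ} (hL : Semi L) (hinj : ∀ x < 64, L x = 0 → x = 0) :
    ∃ f, Sym f ∧ ∀ x < 64, f x = L x := by
  classical
  let F : Fin 64 → Fin 64 := fun x => ⟨L x.val, hL.lin.1 x.val x.isLt⟩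
  have hF : Function.Injective F := fun a b e => Fin.ext (xor_eq_zero' (hinj _ (xor_lt64 a.isLt b.isLt) (by
    rw [hL.lin.2 _ a.isLt _ b.isLt, show L a.val = L b.val from congrArg Fin.val e, xor_self'])))
  obtain ⟨K, hK⟩ := ((Finite.injective_iff_surjective).1 hF).hasRightInverse
  let Li : ℕ → ℕ := fun x => if hx : x < 64 then (K ⟨x, hx⟩).val else x
  have hLL : ∀ x < 64, L (Li x) = x := fun x hx => by
    simp only [Li, dif_pos hx]
    exact congrArg Fin.val (hK ⟨x, hx⟩)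
  have hLl : ∀ x < 64, Li x < 64 := fun x hx => by
    simp only [Li, dif_pos hx]
    exact Fin.isLt _
  have hLi : ∀ x < 64, Li (L x) = x := fun x hx => xor_eq_zero' (hinj _ (xor_lt64 (hLl _ (hL.lin.1 x hx)) hx) (by
    rw [hL.lin.2 _ (hLl _ (hL.lin.1 x hx)) _ hx, hLL _ (hL.lin.1 x hx), xor_self']))
  have linLi : IsLin 64 Li := ⟨hLl, fun x hx y hy => by
    conv_lhs => rw [← hLL x hx, ← hLL y hy, ← hL.lin.2 _ (hLl x hx) _ (hLl y hy),
      hLi _ (xor_lt64 (hLl x hx) (hLl y hy))]⟩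
  choose H hH hHs using fun y => exists_enc (fun j : Fin 6 => pr (Li (2 ^ j.val)) y)
  -- the defining property on all codes
  have hHx : ∀ y < 64, ∀ x < 64, pr x (H y) = pr (Li x) y := by
    intro y hy x hx
    have hl : ∀ a < 2 ^ 6, ∀ b < 2 ^ 6,
        (if pr (Nat.xor a b) (H y) then 1 else 0) =
          Nat.xor (if pr a (H y) then 1 else 0) (if pr b (H y) then 1 else 0) := by
      intro a ha b hb
      rw [pr_xor_left ha hb (hH y)]
      cases pr a (H y) <;> cases pr b (H y) <;> decide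
    have hr : ∀ a < 2 ^ 6, ∀ b < 2 ^ 6,
        (if pr (Li (Nat.xor a b)) y then 1 else 0) =
          Nat.xor (if pr (Li a) y then 1 else 0) (if pr (Li b) y then 1 else 0) := by
      intro a ha b hb
      rw [linLi.2 a ha b hb, pr_xor_left (hLl a ha) (hLl b hb) hy]
      cases pr (Li a) y <;> cases pr (Li b) y <;> decide
    have := ext_of_bits (k := 6) (f := fun a => if pr a (H y) then 1 else 0)
      (g := fun a => if pr (Li a) y then 1 else 0) hl hr (fun i hi => by
        simp only [hHs y ⟨i, hi⟩]) x hx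
    revert this
    cases pr x (H y) <;> cases pr (Li x) y <;> simp
  have hpr : ∀ x < 64, ∀ y < 64, pr (L x) (H y) = pr x y := fun x hx y hy => by
    rw [hHx y hy _ (hL.lin.1 x hx), hLi x hx]
  have linH : IsLin 64 H := ⟨fun y _ => hH y, fun y hy y' hy' => by
    refine eq_of_pr_left (hH _) (xor_lt64 (hH y) (hH y')) fun e he => ?_
    have he' := bits6_lt e he
    rw [pr_xor_right he' (hH y) (hH y'), hHx _ (xor_lt64 hy hy') e he', hHx y hy e he', hHx y' hy' e he',
      pr_xor_right (hLl e he') hy hy']⟩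
  have tlH : ∀ y < 64, H (tl y) = tl (H y) := fun y hy => by
    refine eq_of_pr_left (hH _) (tl_lt _) fun e he => ?_
    have he' := bits6_lt e he
    obtain ⟨e', he'', rfl⟩ : ∃ e', e' < 64 ∧ L (tl e') = e :=
      ⟨tl (tl (Li e)), tl_lt _, by rw [tl_cube _ (hLl e he'), hLL e he']⟩
    rw [hpr _ (tl_lt _) _ (tl_lt _), hL.comm _ he'', pr_tl _ (hL.lin.1 _ he'') _ (hH y), hpr _ he'' _ hy,
      pr_tl _ he'' _ hy]
  let f : ℕ → ℕ := fun v => Nat.xor (L (v % 64)) (64 * H (v / 64))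
  have hfs : ∀ x < 64, ∀ y < 64, f (Nat.xor x (64 * y)) = Nat.xor (L x) (64 * H y) := fun x hx y hy => by
    simp only [f, (split_mod x hx y hy).1, (split_mod x hx y hy).2]
  have hlow : ∀ x < 64, f x = L x := fun x hx => by
    simp only [f, Nat.mod_eq_of_lt hx, Nat.div_eq_of_lt hx, linH.zero (by norm_num), Nat.mul_zero, xor_zero_right]
  refine ⟨f, ⟨⟨fun v hv => split_lt (hL.lin.1 _ (Nat.mod_lt _ (by norm_num))) (hH _), ?_⟩, ?_, ?_, ?_, ?_⟩, hlow⟩
  · intro v hv w hw
    have e1 : Nat.xor v w % 64 = Nat.xor (v % 64) (w % 64) := Nat.xor_mod_two_pow (n := 6)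
    have e2 : Nat.xor v w / 64 = Nat.xor (v / 64) (w / 64) := by
      simpa [Nat.shiftRight_eq_div_pow] using (Nat.shiftRight_xor_distrib (a := v) (b := w) (i := 6))
    have e3 : ∀ a b : ℕ, 64 * Nat.xor a b = Nat.xor (64 * a) (64 * b) := fun a b => by
      simpa [Nat.shiftLeft_eq, Nat.mul_comm] using (Nat.shiftLeft_xor_distrib (a := a) (b := b) (i := 6))
    simp only [f, e1, e2]
    rw [hL.lin.2 _ (Nat.mod_lt _ (by norm_num)) _ (Nat.mod_lt _ (by norm_num)), linH.2 _ (by omega) _ (by omega),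
      e3, xor_comm4]
  · intro v hv
    have hx : v % 64 < 64 := Nat.mod_lt _ (by norm_num)
    have hy : v / 64 < 64 := by omega
    rw [split_code v hv, hfs _ hx _ hy]
    exact hpr _ hx _ hy
  · intro v hv
    have hx : v % 64 < 64 := Nat.mod_lt _ (by norm_num)
    have hy : v / 64 < 64 := by omega
    rw [split_code v hv, colsT_split hx hy, hfs _ (tl_lt _) _ (tl_lt _), hfs _ hx _ hy,
      colsT_split (hL.lin.1 _ hx) (hH _), hL.comm _ hx, tlH _ hy]
  · intro x hx
    rw [hlow x hx]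
    exact hL.lin.1 x hx
  · intro y hy
    have := hfs 0 (by norm_num) y hy
    rw [xor_zero_left, hL.zero, xor_zero_left] at this
    omega

/-- The hypotheses: two block diagonal maps with the relations and an equivariant family. -/
structure Raw where
  A : ℕ → ℕ
  C : ℕ → ℕ
  r : Fin 4 → ℕ → ℕ
  symA : Sym A
  symC : Sym C
  linR : ∀ i, IsLin 4096 (r i)
  qnR : ∀ i, ∀ v < 4096, qn (r i v) = qn v
  commR : ∀ i, ∀ v < 4096, r i (app colsT v) = app colsT (r i v)
  r_low : ∀ i, ∀ x < 64, r i x = x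
  r_high : ∀ i, ∀ y < 64, Nat.xor (r i (64 * y)) (64 * y) < 64
  a_sq : ∀ x < 64, A (A x) = x
  c_four : ∀ x < 64, C (C (C (C x))) = x
  ac2_five : ∀ x < 64, (fun v => A (C (C v)))^[5] x = x
  comm : ∀ x < 64, evL A C wX (evL A C wY x) = app colsT (evL A C wY (evL A C wX x))
  a_r : ∀ i : Fin 4, ∀ v < 4096, A (r i v) = evRL r (arPat.getD i.val 0) (A v)
  c_r : ∀ i : Fin 4, ∀ v < 4096, C (r i v) = evRL r (crPat.getD i.val 0) (C v)

/-- The conclusion: after the symmetry `Q` the data is the model. -/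
def Raw.IsModel (d : Raw) (Q : ℕ → ℕ) : Prop :=
  Sym Q ∧ (∀ v < 4096, Q (d.A v) = app colsA (Q v)) ∧ (∀ v < 4096, Q (d.C v) = app colsC (Q v)) ∧
    ∀ i : Fin 4, ∀ v < 4096, Q (d.r i v) = app (colsR.getD i.val []) (Q v)

theorem conj_self_low {f : ℕ → ℕ} (h : Sym f) : Conj 64 id f f := fun x hx => ⟨h.low x hx, rfl⟩

namespace Raw

variable (d : Raw)

theorem conj_r (i : Fin 4) : Conj 4096 id (d.r i) (d.r i) := fun x hx => ⟨(d.linR i).1 x hx, rfl⟩

theorem evRL_lt (m : ℕ) {v : ℕ} (hv : v < 4096) : evRL d.r m v < 4096 := (Conj.evRL d.conj_r m v hv).1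

theorem comm_low {x : ℕ} (hx : x < 64) : evL d.A d.C wX (evL d.A d.C wY x) = tl (evL d.A d.C wY (evL d.A d.C wX x)) := by
  have hA := conj_self_low d.symA
  have hC := conj_self_low d.symC
  rw [d.comm x hx, colsT_low _ ((hA.evL hC wY).comp (hA.evL hC wX) x hx).1]

theorem A_ne : ∃ x < 64, d.A x ≠ x := by
  by_contra h
  push_neg at h
  have hC := conj_self_low d.symC
  have hw : ∀ w : List Bool, ∀ x < 64, evL d.A d.C w x = d.C^[w.count true] x := by
    intro w
    induction w with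
    | nil => intro x _; rfl
    | cons b w ih =>
      intro x hx
      have hl := (hC.iterate (w.count true) x hx).1
      cases b
      · show d.A (evL d.A d.C w x) = _
        rw [ih x hx, h _ hl]
        simp
      · show d.C (evL d.A d.C w x) = _
        rw [ih x hx]
        simp [Function.iterate_succ_apply']
  have e := d.comm_low (x := 1) (by norm_num)
  have l1 := (hC.iterate (wY.count true) 1 (by norm_num)).1
  have l2 := (hC.iterate (wX.count true) 1 (by norm_num)).1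
  rw [hw wY 1 (by norm_num), hw wX _ l1, hw wX 1 (by norm_num), hw wY _ l2, ← Function.iterate_add_apply,
    ← Function.iterate_add_apply, Nat.add_comm (wY.count true)] at e
  have l := (hC.iterate (wX.count true + wY.count true) 1 (by norm_num)).1
  have z := tl_fix _ l e.symm
  have : ∀ k x, x < 64 → d.C^[k] x = 0 → x = 0 := by
    intro k
    induction k with
    | zero => intro x _ hx; exact hx
    | succ k ih =>
      intro x hx hk
      rw [Function.iterate_succ_apply] at hk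
      exact d.symC.eq_zero (by omega) (ih _ (d.symC.low x hx) hk)
  exact absurd (this _ 1 (by norm_num) z) (by norm_num)

theorem C_sq_ne : ∃ x < 64, d.C (d.C x) ≠ x := by
  by_contra h
  push_neg at h
  obtain ⟨x, hx, hne⟩ := d.A_ne
  apply hne
  have e := d.ac2_five x hx
  simp only [Function.iterate_succ_apply, Function.iterate_zero_apply] at e
  have l := d.symA.low x hx
  rw [h x hx, h _ l, d.a_sq x hx, h x hx, h _ l, d.a_sq x hx, h x hx] at e
  exact e

/-- Transport along a symmetry. -/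
theorem exists_map {Q : ℕ → ℕ} (hQ : Sym Q) : ∃ d' : Raw,
    (∀ v < 4096, d'.A (Q v) = Q (d.A v)) ∧ (∀ v < 4096, d'.C (Q v) = Q (d.C v)) ∧
      ∀ i, ∀ v < 4096, d'.r i (Q v) = Q (d.r i v) := by
  obtain ⟨P, hP, hPQ⟩ := hQ.exists_inv
  have hPl : ∀ x < 4096, P x < 4096 := hP.lin.1
  have hQP : ∀ x < 4096, Q (P x) = x := fun x hx => (hPQ x hx).2
  have cA : Conj 4096 Q d.A (fun v => Q (d.A (P v))) := fun v hv =>
    ⟨d.symA.lin.1 v hv, by show Q (d.A (P (Q v))) = _; rw [(hPQ v hv).1]⟩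
  have cC : Conj 4096 Q d.C (fun v => Q (d.C (P v))) := fun v hv =>
    ⟨d.symC.lin.1 v hv, by show Q (d.C (P (Q v))) = _; rw [(hPQ v hv).1]⟩
  have cR : ∀ i, Conj 4096 Q (d.r i) (fun v => Q (d.r i (P v))) := fun i v hv =>
    ⟨(d.linR i).1 v hv, by show Q (d.r i (P (Q v))) = _; rw [(hPQ v hv).1]⟩
  refine ⟨{ A := fun v => Q (d.A (P v)), C := fun v => Q (d.C (P v)), r := fun i v => Q (d.r i (P v))
            symA := hQ.comp (d.symA.comp hP), symC := hQ.comp (d.symC.comp hP)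
            linR := fun i => hQ.lin.comp ((d.linR i).comp hP.lin)
            qnR := fun i v hv => ?_, commR := fun i v hv => ?_, r_low := fun i x hx => ?_
            r_high := fun i y hy => ?_, a_sq := fun x hx => ?_, c_four := fun x hx => ?_
            ac2_five := fun x hx => ?_, comm := fun x hx => ?_, a_r := fun i v hv => ?_
            c_r := fun i v hv => ?_ }, fun v hv => (cA v hv).2, fun v hv => (cC v hv).2,
          fun i v hv => (cR i v hv).2⟩
  · rw [hQ.qn_inv _ ((d.linR i).1 _ (hPl v hv)), d.qnR i _ (hPl v hv), hP.qn_inv v hv]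
  · show Q _ = app colsT (Q _)
    rw [hP.comm_T v hv, d.commR i _ (hPl v hv), hQ.comm_T _ ((d.linR i).1 _ (hPl v hv))]
  · show Q (d.r i (P x)) = x
    rw [d.r_low i _ (hP.low x hx), hQP x (by omega)]
  · show Nat.xor (Q (d.r i (P (64 * y)))) (64 * y) < 64
    obtain ⟨hy', ey⟩ := hP.hi_spec hy
    have := hQ.low _ (d.r_high i _ hy')
    rw [hQ.lin.2 _ ((d.linR i).1 _ (by omega)) _ (by omega), ← ey, hQP _ (by omega)] at this
    rw [ey]
    rw [ey] at this
    exact this
  all_goals first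
    | (have hlow := hP.low x hx
       have hx' : x < 4096 := by omega)
    | skip
  · have := (cA.comp cA (P x) (hPl x hx')).2
    rw [hQP x hx'] at this
    simpa only [d.a_sq _ hlow, hQP x hx'] using this
  · have := ((cC.comp (cC.comp (cC.comp cC))) (P x) (hPl x hx')).2
    rw [hQP x hx'] at this
    simpa only [d.c_four _ hlow, hQP x hx'] using this
  · have := ((cA.comp (cC.comp cC)).iterate 5 (P x) (hPl x hx')).2
    rw [hQP x hx'] at this
    rw [this, d.ac2_five _ hlow, hQP x hx']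
  · have h1 := ((cA.evL cC wX).comp (cA.evL cC wY) (P x) (hPl x hx')).2
    have h2 := ((cA.evL cC wY).comp (cA.evL cC wX) (P x) (hPl x hx')).2
    rw [hQP x hx'] at h1 h2
    simp only [] at h1 h2
    rw [h1, h2, d.comm _ hlow, hQ.comm_T _ ((cA.evL cC wY).comp (cA.evL cC wX) (P x) (hPl x hx')).1]
  · have h1 := (cA.comp (cR i) (P v) (hPl v hv)).2
    have h2 := ((Conj.evRL cR (arPat.getD i.val 0)).comp cA (P v) (hPl v hv)).2
    rw [hQP v hv] at h1 h2
    simp only [] at h1 h2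
    rw [h1, h2, d.a_r i _ (hPl v hv)]
  · have h1 := (cC.comp (cR i) (P v) (hPl v hv)).2
    have h2 := ((Conj.evRL cR (crPat.getD i.val 0)).comp cC (P v) (hPl v hv)).2
    rw [hQP v hv] at h1 h2
    simp only [] at h1 h2
    rw [h1, h2, d.c_r i _ (hPl v hv)]

theorem exists_basisC : ∃ Q, Sym Q ∧ ∀ x < 64, Q (d.C x) = app cLow (Q x) := by
  obtain ⟨v, hv, hne⟩ := d.C_sq_ne
  have hC := d.symC.semi
  have hN := hC.nil
  set N : ℕ → ℕ := fun x => Nat.xor (d.C x) x with hNdef
  have nz : ∀ {x}, x = 0 → N x = 0 := fun e => by rw [e]; exact hN.zero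
  have n2 : ∀ x < 64, N (N x) = Nat.xor (d.C (d.C x)) x := fun x hx => by
    show Nat.xor (d.C (Nat.xor (d.C x) x)) (Nat.xor (d.C x) x) = _
    rw [hC.lin.2 _ (hC.lin.1 x hx) x hx, xor_comm4, xor_comm4 (d.C (d.C x))]
    show ((d.C (d.C x) : ℕ) ^^^ d.C x) ^^^ (d.C x ^^^ x) = d.C (d.C x) ^^^ x
    rw [Nat.xor_assoc, ← Nat.xor_assoc (d.C x), Nat.xor_self, Nat.zero_xor]
  have n4 : ∀ x < 64, N (N (N (N x))) = 0 := fun x hx => by
    have hl : N (N x) < 64 := hN.lin.1 _ (hN.lin.1 x hx)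
    have hCC : d.C (d.C x) < 64 := hC.lin.1 _ (hC.lin.1 x hx)
    rw [n2 _ hl, n2 x hx, hC.lin.2 _ hCC x hx, hC.lin.2 _ (hC.lin.1 _ hCC) _ (hC.lin.1 x hx), d.c_four x hx]
    rw [show Nat.xor x (d.C (d.C x)) = Nat.xor (d.C (d.C x)) x from Nat.xor_comm _ _, xor_self']
  have l1 := hN.lin.1 v hv
  have l2 := hN.lin.1 _ l1
  have l3 := hN.lin.1 _ l2
  have h2 : N (N v) ≠ 0 := by
    rw [n2 v hv]
    exact fun e => hne (xor_eq_zero' e)
  have h1 : N v ≠ 0 := fun e => h2 (nz e)
  have hv0 : v ≠ 0 := fun e => h1 (nz e)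
  have h3 : N (N (N v)) = 0 := by
    by_contra h3
    refine four_false hv l1 l2 l3 fun i hi j hj k hk l hl e => ?_
    have key : ∀ {x y}, x < 64 → y < 64 → N (Nat.xor x y) = Nat.xor (N x) (N y) :=
      fun hx hy => hN.lin.2 _ hx _ hy
    have bi := sm_lt i hv
    have bj := sm_lt j l1
    have bk := sm_lt k l2
    have bl := sm_lt l l3
    have e1 := congrArg N e
    rw [key (xor_lt64 bi bj) (xor_lt64 bk bl), key bi bj, key bk bl, hN.zero, hN.sm _ hv, hN.sm _ l1,
      hN.sm _ l2, hN.sm _ l3, n4 v hv, sm_zero, xor_zero_right] at e1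
    have ci := sm_lt i l1
    have cj := sm_lt j l2
    have ck := sm_lt k l3
    have e2 := congrArg N e1
    rw [key (xor_lt64 ci cj) ck, key ci cj, hN.zero, hN.sm _ l1, hN.sm _ l2, hN.sm _ l3, n4 v hv, sm_zero,
      xor_zero_right] at e2
    have e3 := congrArg N e2
    rw [key (sm_lt _ l2) (sm_lt _ l3), hN.zero, hN.sm _ l2, hN.sm _ l3, n4 v hv, sm_zero, xor_zero_right] at e3
    have i0 : i = 0 := (sm_eq_zero i hi _ l3 e3).resolve_right h3
    subst i0
    rw [show sm 0 (N (N v)) = 0 from rfl, xor_zero_left] at e2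
    have j0 : j = 0 := (sm_eq_zero j hj _ l3 e2).resolve_right h3
    subst j0
    rw [show sm 0 (N v) = 0 from rfl, show sm 0 (N (N v)) = 0 from rfl, xor_self', xor_zero_left] at e1
    have k0 : k = 0 := (sm_eq_zero k hk _ l3 e1).resolve_right h3
    subst k0
    rw [show sm 0 v = 0 from rfl, show sm 0 (N v) = 0 from rfl, show sm 0 (N (N v)) = 0 from rfl,
      xor_self', xor_zero_left, xor_zero_left] at e
    exact ⟨rfl, rfl, rfl, (sm_eq_zero l hl _ l3 e).resolve_right h3⟩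
  set L : ℕ → ℕ := app (cols3 (N (N v)) (N v) v) with hL
  have hLs : Semi L := semi_cols3 l2 l1 hv
  have hLinj : ∀ x < 64, L x = 0 → x = 0 := by
    intro x hx e
    have h4 : ∀ z, z % 4 < 4 := fun z => Nat.mod_lt _ (by norm_num)
    rw [hL, app_cols3 l2 l1 hv] at e
    have bi := sm_lt (cd (x % 4)) l2
    have bj := sm_lt (cd (x / 4 % 4)) l1
    have bk := sm_lt (cd (x / 16 % 4)) hv
    have e1 := congrArg N e
    rw [hN.lin.2 _ bi _ (xor_lt64 bj bk), hN.lin.2 _ bj _ bk, hN.zero, hN.sm _ l2, hN.sm _ l1, hN.sm _ hv, h3,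
      sm_zero, xor_zero_left] at e1
    have e2 := congrArg N e1
    rw [hN.lin.2 _ (sm_lt _ l2) _ (sm_lt _ l1), hN.zero, hN.sm _ l2, hN.sm _ l1, h3, sm_zero, xor_zero_left] at e2
    have k0 : cd (x / 16 % 4) = 0 := (sm_eq_zero _ (cd_eq_zero _ (h4 _)).1 _ l2 e2).resolve_right h2
    rw [k0, show sm 0 (N v) = 0 from rfl, xor_zero_right] at e1
    have j0 : cd (x / 4 % 4) = 0 := (sm_eq_zero _ (cd_eq_zero _ (h4 _)).1 _ l2 e1).resolve_right h2
    rw [k0, j0, show sm 0 v = 0 from rfl, show sm 0 (N v) = 0 from rfl, xor_self', xor_zero_right] at e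
    have i0 : cd (x % 4) = 0 := (sm_eq_zero _ (cd_eq_zero _ (h4 _)).1 _ l2 e).resolve_right h2
    have := (cd_eq_zero _ (h4 x)).2 i0
    have := (cd_eq_zero _ (h4 (x / 4))).2 j0
    have := (cd_eq_zero _ (h4 (x / 16))).2 k0
    omega
  obtain ⟨P, hP, hPL⟩ := sym_of_low hLs hLinj
  obtain ⟨Q, hQ, hQP⟩ := hP.exists_inv
  refine ⟨Q, hQ, fun x hx => ?_⟩
  have hcl : Semi (app cLow) := by
    have : cLow = cols3 1 5 20 := by decide
    rw [this]
    exact semi_cols3 (by norm_num) (by norm_num) (by norm_num)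
  have hrec : ∀ y < 64, d.C y = Nat.xor (N y) y := fun y hy => by
    exact (xor_cancel _ _).symm
  have key : ∀ w < 64, d.C (L w) = L (app cLow w) := by
    refine semi_eq ⟨hC.lin.comp hLs.lin, fun w hw => ?_⟩ ⟨hLs.lin.comp hcl.lin, fun w hw => ?_⟩ ?_ ?_ ?_
    · show d.C (L (tl w)) = tl (d.C (L w))
      rw [hLs.comm w hw, hC.comm _ (hLs.lin.1 w hw)]
    · show L (app cLow (tl w)) = tl (L (app cLow w))
      rw [hcl.comm w hw, hLs.comm _ (hcl.lin.1 w hw)]
    · show d.C (L 1) = L (app cLow 1)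
      rw [show app cLow 1 = 1 by decide, show L 1 = N (N v) by simp [hL, app, cols3, xor_zero_right, xor_zero_left],
        hrec _ l2, h3, xor_zero_left]
    · show d.C (L 4) = L (app cLow 4)
      rw [show app cLow 4 = Nat.xor 4 1 by decide, hLs.lin.2 4 (by norm_num) 1 (by norm_num),
        show L 1 = N (N v) by simp [hL, app, cols3, xor_zero_right, xor_zero_left],
        show L 4 = N v by simp [hL, app, cols3, xor_zero_right, xor_zero_left], hrec _ l1]
      exact Nat.xor_comm _ _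
    · show d.C (L 16) = L (app cLow 16)
      rw [show app cLow 16 = Nat.xor 16 4 by decide, hLs.lin.2 16 (by norm_num) 4 (by norm_num),
        show L 4 = N v by simp [hL, app, cols3, xor_zero_right, xor_zero_left],
        show L 16 = v by simp [hL, app, cols3, xor_zero_right, xor_zero_left], hrec _ hv]
      exact Nat.xor_comm _ _
  have hq := hQ.low x hx
  have e := (hQP (app cLow (Q x)) (by have := hcl.lin.1 _ hq; omega)).1
  rw [hPL _ (hcl.lin.1 _ hq), ← key _ hq, ← hPL _ hq, (hQP x (by omega)).2] at e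
  exact e

theorem exists_solA (hC : ∀ x < 64, d.C x = app cLow x) :
    ∃ l ∈ solA, ∀ x < 64, d.A x = app (cols3 (l.getD 0 0) (l.getD 1 0) (l.getD 2 0)) x := by
  obtain ⟨x0, hx0, hne⟩ := d.A_ne
  have hA := d.symA.semi
  have hN := hA.nil
  set N : ℕ → ℕ := fun x => Nat.xor (d.A x) x with hNdef
  have nn : ∀ x < 64, N (N x) = 0 := fun x hx => by
    show Nat.xor (d.A (Nat.xor (d.A x) x)) (Nat.xor (d.A x) x) = 0
    rw [hA.lin.2 _ (hA.lin.1 x hx) x hx, d.a_sq x hx]
    rw [show Nat.xor x (d.A x) = Nat.xor (d.A x) x from Nat.xor_comm _ _, xor_self']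
  set u := N x0 with hu
  have ul : u < 64 := hN.lin.1 x0 hx0
  have u0 : u ≠ 0 := fun e => hne (xor_eq_zero' e)
  have span : ∀ y < 64, ∃ i < 4, N y = sm i u := by
    intro y hy
    by_contra h
    push_neg at h
    have wl : N y < 64 := hN.lin.1 y hy
    have indep : ∀ i < 4, ∀ j < 4, Nat.xor (sm i u) (sm j (N y)) = 0 → i = 0 ∧ j = 0 := by
      intro i hi j hj e
      rcases eq_or_ne j 0 with rfl | hj0
      · rw [show sm 0 (N y) = 0 from rfl, xor_zero_right] at e
        exact ⟨(sm_eq_zero i hi u ul e).resolve_right u0, rfl⟩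
      · obtain ⟨k, hk, hk'⟩ := sm_solve i hi j hj hj0
        exact absurd (hk' u ul (N y) wl (xor_eq_zero' e)) (h k hk)
    refine four_false hx0 hy ul wl fun i hi j hj k hk l hl e => ?_
    have bi := sm_lt i hx0
    have bj := sm_lt j hy
    have bk := sm_lt k ul
    have bl := sm_lt l wl
    have e1 := congrArg N e
    rw [hN.lin.2 _ (xor_lt64 bi bj) _ (xor_lt64 bk bl), hN.lin.2 _ bi _ bj, hN.lin.2 _ bk _ bl, hN.zero,
      hN.sm _ hx0, hN.sm _ hy, hN.sm _ ul, hN.sm _ wl, nn y hy, hu, nn x0 hx0, sm_zero, sm_zero, xor_self',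
      xor_zero_right] at e1
    obtain ⟨rfl, rfl⟩ := indep i hi j hj e1
    rw [show sm 0 x0 = 0 from rfl, show sm 0 y = 0 from rfl, xor_self', xor_zero_left] at e
    obtain ⟨rfl, rfl⟩ := indep k hk l hl e
    exact ⟨rfl, rfl, rfl, rfl⟩
  obtain ⟨i, hi, ei⟩ := span 1 (by norm_num)
  obtain ⟨j, hj, ej⟩ := span 4 (by norm_num)
  obtain ⟨k, hk, ek⟩ := span 16 (by norm_num)
  have rec' : ∀ {y z : ℕ}, Nat.xor (d.A y) y = z → d.A y = Nat.xor y z := fun {y z} e => by
    subst e
    rw [show Nat.xor (d.A y) y = Nat.xor y (d.A y) from Nat.xor_comm _ _, xor_cancel_left]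
  have hAl := semi_eq_cols3 hA
  rw [rec' ei, rec' ej, rec' ek] at hAl
  have cA : Conj 64 id d.A (app (cols3 (Nat.xor 1 (sm i u)) (Nat.xor 4 (sm j u)) (Nat.xor 16 (sm k u)))) :=
    fun x hx => ⟨d.symA.low x hx, (hAl x hx).symm⟩
  have cC : Conj 64 id d.C (app cLow) := fun x hx => ⟨d.symC.low x hx, (hC x hx).symm⟩
  have ok : okA (cols3 (Nat.xor 1 (sm i u)) (Nat.xor 4 (sm j u)) (Nat.xor 16 (sm k u))) = true := by
    have sq : ∀ x < 64, app (cols3 (Nat.xor 1 (sm i u)) (Nat.xor 4 (sm j u)) (Nat.xor 16 (sm k u)))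
        (app (cols3 (Nat.xor 1 (sm i u)) (Nat.xor 4 (sm j u)) (Nat.xor 16 (sm k u))) x) = x :=
      fun x hx => ((cA.comp cA) x hx).2.trans (d.a_sq x hx)
    have five := ((cA.comp (cC.comp cC)).iterate 5 16 (by norm_num)).2.trans (d.ac2_five 16 (by norm_num))
    have w1 := ((cA.evL cC wX).comp (cA.evL cC wY) 16 (by norm_num)).2
    have w2 := ((cA.evL cC wY).comp (cA.evL cC wX) 16 (by norm_num)).2
    simp only [id] at five w1 w2
    simp only [okA, Bool.and_eq_true, beq_iff_eq]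
    refine ⟨⟨⟨⟨sq 16 (by norm_num), sq 4 (by norm_num)⟩, sq 1 (by norm_num)⟩, five⟩, ?_⟩
    rw [w1, w2]
    exact d.comm_low (by norm_num)
  have hc := check_cands
  simp only [List.all_eq_true, List.mem_range] at hc
  have := hc u ul i hi j hj k hk
  simp only [candOK, ok, Bool.not_true, Bool.or_false, Bool.or_eq_true, beq_iff_eq, u0, false_or,
    List.contains_iff_mem] at this
  exact ⟨_, this, hAl⟩

end Raw

theorem sym_colsA : Sym (app colsA) where
  lin := isLin_app (k := 12) (by decide)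
  qn_inv v hv := by
    rw [split_code v hv]
    exact (by decide +kernel : ∀ x < 64, ∀ y < 64, qn (app colsA (Nat.xor x (64 * y))) = qn (Nat.xor x (64 * y)))
      _ (Nat.mod_lt _ (by norm_num)) _ (by omega)
  comm_T v hv := ext4096 ((isLin_app (k := 12) (by decide)).comp (isLin_app (k := 12) (by decide)))
    ((isLin_app (k := 12) (by decide)).comp (isLin_app (k := 12) (by decide))) (by decide +kernel) v hv
  low := by decide +kernel
  high := by decide +kernel

theorem sym_colsB : Sym (app colsB) where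
  lin := isLin_app (k := 12) (by decide)
  qn_inv v hv := by
    rw [split_code v hv]
    exact (by decide +kernel : ∀ x < 64, ∀ y < 64, qn (app colsB (Nat.xor x (64 * y))) = qn (Nat.xor x (64 * y)))
      _ (Nat.mod_lt _ (by norm_num)) _ (by omega)
  comm_T v hv := ext4096 ((isLin_app (k := 12) (by decide)).comp (isLin_app (k := 12) (by decide)))
    ((isLin_app (k := 12) (by decide)).comp (isLin_app (k := 12) (by decide))) (by decide +kernel) v hv
  low := by decide +kernel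
  high := by decide +kernel

theorem sym_colsC : Sym (app colsC) where
  lin := isLin_app (k := 12) (by decide)
  qn_inv v hv := by
    rw [split_code v hv]
    exact (by decide +kernel : ∀ x < 64, ∀ y < 64, qn (app colsC (Nat.xor x (64 * y))) = qn (Nat.xor x (64 * y)))
      _ (Nat.mod_lt _ (by norm_num)) _ (by omega)
  comm_T v hv := ext4096 ((isLin_app (k := 12) (by decide)).comp (isLin_app (k := 12) (by decide)))
    ((isLin_app (k := 12) (by decide)).comp (isLin_app (k := 12) (by decide))) (by decide +kernel) v hv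
  low := by decide +kernel
  high := by decide +kernel

theorem colsC_low : ∀ x < 64, app colsC x = app cLow x := by decide +kernel

theorem exists_centre {l : List ℕ} (hl : l ∈ solA) : ∃ P, Sym P ∧ (∀ x < 64, P (app cLow x) = app cLow (P x)) ∧
    ((∀ x < 64, P (app (cols3 (l.getD 0 0) (l.getD 1 0) (l.getD 2 0)) x) = app colsA (P x)) ∨
      (∀ x < 64, P (app (cols3 (l.getD 0 0) (l.getD 1 0) (l.getD 2 0)) x) = app colsB (P x))) := by
  have hlt : ∀ l ∈ solA, l.getD 0 0 < 64 ∧ l.getD 1 0 < 64 ∧ l.getD 2 0 < 64 := by decide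
  obtain ⟨ha, hb, hc⟩ := hlt l hl
  have := List.all_eq_true.1 check_conj l hl
  simp only [isConj, List.any_eq_true, List.mem_range, Bool.and_eq_true, Bool.or_eq_true, List.all_eq_true,
    beq_iff_eq] at this
  obtain ⟨m, hm, n, hn, hcc, hk⟩ := this
  have hs : Semi (app (centP m n)) := semi_cols3 (by norm_num) (xor_lt64 (by norm_num) (sm_lt _ (by norm_num)))
    (xor_lt64 (xor_lt64 (by norm_num) (sm_lt _ (by norm_num))) (sm_lt _ (by norm_num)))
  obtain ⟨P, hP, hPe⟩ := sym_of_low hs (centP_bij m hm n hn)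
  have hcl : IsLin 64 (app cLow) := isLin_app (k := 6) (by decide)
  have hll : IsLin 64 (app (cols3 (l.getD 0 0) (l.getD 1 0) (l.getD 2 0))) := (semi_cols3 ha hb hc).lin
  refine ⟨P, hP, fun x hx => ?_, ?_⟩
  · rw [hPe _ (hcl.1 x hx), hPe x hx]
    exact ext64 (hs.lin.comp hcl) (hcl.comp hs.lin) hcc x hx
  · rcases hk with hk | hk
    · refine Or.inl fun x hx => ?_
      rw [hPe _ (hll.1 x hx), hPe x hx]
      exact ext64 (hs.lin.comp hll) (sym_colsA.linLow.comp hs.lin) hk x hx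
    · refine Or.inr fun x hx => ?_
      rw [hPe _ (hll.1 x hx), hPe x hx]
      exact ext64 (hs.lin.comp hll) (sym_colsB.linLow.comp hs.lin) hk x hx

namespace Raw

variable (d : Raw)

theorem exists_normal : ∃ Q, Sym Q ∧ ∃ d' : Raw, ((∀ v < 4096, d'.A v = app colsA v) ∨ (∀ v < 4096, d'.A v = app colsB v)) ∧
    (∀ v < 4096, d'.C v = app colsC v) ∧ (∀ v < 4096, d'.A (Q v) = Q (d.A v)) ∧
    (∀ v < 4096, d'.C (Q v) = Q (d.C v)) ∧ ∀ i, ∀ v < 4096, d'.r i (Q v) = Q (d.r i v) := by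
  obtain ⟨Q₁, hQ₁, hc₁⟩ := d.exists_basisC
  obtain ⟨P₁, hP₁, hPQ₁⟩ := hQ₁.exists_inv
  obtain ⟨d₁, hA₁, hC₁, hr₁⟩ := d.exists_map hQ₁
  have eC₁ : ∀ x < 64, d₁.C x = app cLow x := fun x hx => by
    have := hC₁ (P₁ x) (hP₁.lin.1 x (by omega))
    rw [(hPQ₁ x (by omega)).2] at this
    rw [this, hc₁ _ (hP₁.low x hx), (hPQ₁ x (by omega)).2]
  obtain ⟨l, hl, eA₁⟩ := d₁.exists_solA eC₁
  obtain ⟨Q₂, hQ₂, hc₂, hk⟩ := exists_centre hl
  obtain ⟨P₂, hP₂, hPQ₂⟩ := hQ₂.exists_inv
  obtain ⟨d₂, hA₂, hC₂, hr₂⟩ := d₁.exists_map hQ₂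
  have eC₂ : ∀ v < 4096, d₂.C v = app colsC v := by
    refine d₂.symC.congr_low sym_colsC fun x hx => ?_
    have := hC₂ (P₂ x) (hP₂.lin.1 x (by omega))
    rw [(hPQ₂ x (by omega)).2] at this
    rw [this, eC₁ _ (hP₂.low x hx), hc₂ _ (hP₂.low x hx), (hPQ₂ x (by omega)).2, colsC_low x hx]
  refine ⟨fun v => Q₂ (Q₁ v), hQ₂.comp hQ₁, d₂, ?_, eC₂, fun v hv => ?_, fun v hv => ?_, fun i v hv => ?_⟩
  · rcases hk with hk | hk
    · refine Or.inl (d₂.symA.congr_low sym_colsA fun x hx => ?_)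
      have := hA₂ (P₂ x) (hP₂.lin.1 x (by omega))
      rw [(hPQ₂ x (by omega)).2] at this
      rw [this, eA₁ _ (hP₂.low x hx), hk _ (hP₂.low x hx), (hPQ₂ x (by omega)).2]
    · refine Or.inr (d₂.symA.congr_low sym_colsB fun x hx => ?_)
      have := hA₂ (P₂ x) (hP₂.lin.1 x (by omega))
      rw [(hPQ₂ x (by omega)).2] at this
      rw [this, eA₁ _ (hP₂.low x hx), hk _ (hP₂.low x hx), (hPQ₂ x (by omega)).2]
  · show d₂.A (Q₂ (Q₁ v)) = Q₂ (Q₁ (d.A v))
    rw [hA₂ _ (hQ₁.lin.1 v hv), hA₁ v hv]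
  · show d₂.C (Q₂ (Q₁ v)) = Q₂ (Q₁ (d.C v))
    rw [hC₂ _ (hQ₁.lin.1 v hv), hC₁ v hv]
  · show d₂.r i (Q₂ (Q₁ v)) = Q₂ (Q₁ (d.r i v))
    rw [hr₂ i _ (hQ₁.lin.1 v hv), hr₁ i v hv]

/-- The form on the second half given by the first member. -/
def form (y : ℕ) : ℕ := Nat.xor (d.r 0 (64 * y)) (64 * y)

theorem semi_form : Semi d.form := by
  have h6 : ∀ a b : ℕ, 64 * Nat.xor a b = Nat.xor (64 * a) (64 * b) := fun a b => by
    simpa [Nat.shiftLeft_eq, Nat.mul_comm] using (Nat.shiftLeft_xor_distrib (a := a) (b := b) (i := 6))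
  refine ⟨⟨fun y hy => d.r_high 0 y hy, fun y hy z hz => ?_⟩, fun y hy => ?_⟩
  · show Nat.xor (d.r 0 (64 * Nat.xor y z)) (64 * Nat.xor y z) = _
    rw [h6, (d.linR 0).2 _ (by omega) _ (by omega), xor_comm4]
    rfl
  · show Nat.xor (d.r 0 (64 * tl y)) (64 * tl y) = _
    rw [← colsT_high y hy, d.commR 0 _ (by omega), ← app_xor, colsT_low _ (d.r_high 0 y hy)]
    rfl

theorem r_zero {v : ℕ} (hv : v < 4096) : d.r 0 v = Nat.xor v (d.form (v / 64)) := by
  have hy : v / 64 < 64 := by omega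
  have e := (d.linR 0).2 (v % 64) (by omega) (64 * (v / 64)) (by omega)
  rw [← split_code v hv, d.r_low 0 _ (Nat.mod_lt _ (by norm_num))] at e
  have h2 := split_code v hv
  generalize v % 64 = x at e h2
  generalize hyv : v / 64 = y at e h2
  rw [e, h2, show d.form y = Nat.xor (d.r 0 (64 * y)) (64 * y) from rfl]
  rw [xor_comm4, show Nat.xor (64 * y) (64 * y) = 0 from xor_self' _, xor_zero_right]

theorem form_alt {y : ℕ} (hy : y < 64) : pr (d.form y) y = false := by
  have e : Nat.xor (d.form y) (64 * y) = d.r 0 (64 * y) := by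
    exact xor_cancel _ _
  show qn _ = false
  rw [e, d.qnR 0 _ (by omega), qn_zero_high y hy]

theorem form_symm {y z : ℕ} (hy : y < 64) (hz : z < 64) : pr (d.form y) z = pr (d.form z) y := by
  have hs := d.semi_form.lin
  have e := d.form_alt (xor_lt64 hy hz)
  rw [hs.2 y hy z hz, pr_xor_left (hs.1 y hy) (hs.1 z hz) (xor_lt64 hy hz), pr_xor_right (hs.1 y hy) hy hz,
    pr_xor_right (hs.1 z hz) hy hz, d.form_alt hy, d.form_alt hz] at e
  revert e
  cases pr (d.form y) z <;> cases pr (d.form z) y <;> simp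

theorem form_mem : (d.form 1, d.form 4, d.form 16) ∈ symForms := by
  have hs := d.semi_form
  have b := hs.lin.1
  have t2 : ∀ e, e < 64 → d.form (tl (tl e)) = tl (tl (d.form e)) := fun e he => by
    rw [hs.comm _ (tl_lt e), hs.comm e he]
  simp only [symForms, List.mem_flatMap, List.mem_map, List.mem_filter, List.mem_range, Bool.and_eq_true,
    Bool.not_eq_true', beq_iff_eq]
  refine ⟨d.form 1, ⟨b 1 (by norm_num), ?_⟩, d.form 4, ⟨b 4 (by norm_num), ⟨⟨?_, ?_⟩, ?_⟩, ?_⟩,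
    d.form 16, ⟨b 16 (by norm_num), ⟨⟨⟨?_, ?_⟩, ?_⟩, ?_⟩, ?_⟩, rfl⟩
  all_goals rw [prf_eq _ (by first | exact tl_lt _ | exact b _ (by norm_num)) _ (by norm_num)]
  all_goals try rw [prf_eq _ (by first | exact tl_lt _ | exact b _ (by norm_num)) _ (by norm_num)]
  · exact d.form_alt (by norm_num)
  · exact d.form_alt (by norm_num)
  · exact d.form_symm (by first | exact tl_lt _ | norm_num) (by first | exact tl_lt _ | norm_num)
  · rw [← t2 4 (by norm_num)]; exact d.form_symm (by first | exact tl_lt _ | norm_num) (by first | exact tl_lt _ | norm_num)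
  · rw [← t2 1 (by norm_num)]; exact d.form_symm (by first | exact tl_lt _ | norm_num) (by first | exact tl_lt _ | norm_num)
  · exact d.form_alt (by norm_num)
  · exact d.form_symm (by first | exact tl_lt _ | norm_num) (by first | exact tl_lt _ | norm_num)
  · rw [← t2 16 (by norm_num)]; exact d.form_symm (by first | exact tl_lt _ | norm_num) (by first | exact tl_lt _ | norm_num)
  · exact d.form_symm (by first | exact tl_lt _ | norm_num) (by first | exact tl_lt _ | norm_num)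
  · rw [← t2 16 (by norm_num)]; exact d.form_symm (by first | exact tl_lt _ | norm_num) (by first | exact tl_lt _ | norm_num)

theorem fam_eq {a : List ℕ} (hA : ∀ v < 4096, d.A v = app a v) (hC : ∀ v < 4096, d.C v = app colsC v)
    (ha : IsLin 4096 (app a)) (h2 : ∀ v < 4096, app a (app a v) = v) :
    ∀ i, ∀ v < 4096, fam a (emb (d.form 1) (d.form 4) (d.form 16)) i v = d.r i v := by
  have hc : IsLin 4096 (app colsC) := sym_colsC.lin
  have c4 : ∀ v < 4096, app colsC (app colsC (app colsC (app colsC v))) = v :=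
    ext4096 (hc.comp (hc.comp (hc.comp hc))) ⟨fun _ h => h, fun _ _ _ _ => rfl⟩ (by decide +kernel)
  have h0 : ∀ v < 4096, emb (d.form 1) (d.form 4) (d.form 16) v = d.r 0 v := fun v hv => by
    show Nat.xor v (app (cols3 (d.form 1) (d.form 4) (d.form 16)) (v / 64)) = _
    rw [d.r_zero hv, ← semi_eq_cols3 d.semi_form _ (by omega)]
  have h1 : ∀ v < 4096, d.r 1 v = app a (d.r 0 (app a v)) := fun v hv => by
    have e := d.a_r 0 (app a v) (ha.1 v hv)
    rw [hA _ ((d.linR 0).1 _ (ha.1 v hv)), hA _ (ha.1 v hv), h2 v hv] at e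
    exact e.symm
  have h3 : ∀ v < 4096, d.r 3 v = app colsC (d.r 0 (app colsC (app colsC (app colsC v)))) := fun v hv => by
    have l := hc.1 _ (hc.1 _ (hc.1 v hv))
    have e := d.c_r 0 _ l
    rw [hC _ ((d.linR 0).1 _ l), hC _ l, c4 v hv] at e
    exact e.symm
  have h22 : ∀ v < 4096, d.r 2 v = app colsC (app colsC (d.r 0 (app colsC (app colsC v)))) := fun v hv => by
    have l := hc.1 _ (hc.1 _ (hc.1 v hv))
    have e := d.c_r 3 _ l
    rw [hC _ ((d.linR 3).1 _ l), hC _ l, c4 v hv, h3 _ l, c4 _ (hc.1 _ (hc.1 v hv))] at e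
    exact e.symm
  intro i v hv
  fin_cases i
  · exact h0 v hv
  · show app a (emb _ _ _ (app a v)) = d.r 1 v
    rw [h0 _ (ha.1 v hv), h1 v hv]
  · show app colsC (app colsC (emb _ _ _ (app colsC (app colsC v)))) = d.r 2 v
    rw [h0 _ (hc.1 _ (hc.1 v hv)), h22 v hv]
  · show app colsC (emb _ _ _ (app colsC (app colsC (app colsC v)))) = d.r 3 v
    rw [h0 _ (hc.1 _ (hc.1 _ (hc.1 v hv))), h3 v hv]

theorem okR_true {a : List ℕ} (hA : ∀ v < 4096, d.A v = app a v) (hC : ∀ v < 4096, d.C v = app colsC v)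
    (ha : IsLin 4096 (app a)) (h2 : ∀ v < 4096, app a (app a v) = v) :
    okR a (d.form 1) (d.form 4) (d.form 16) = true := by
  have hf := d.fam_eq hA hC ha h2
  have cR : ∀ i, Conj 4096 id (d.r i) (fam a (emb (d.form 1) (d.form 4) (d.form 16)) i) :=
    fun i v hv => ⟨(d.linR i).1 v hv, hf i v hv⟩
  have hev : ∀ m, ∀ v < 4096, evRL (fam a (emb (d.form 1) (d.form 4) (d.form 16))) m v = evRL d.r m v :=
    fun m v hv => (Conj.evRL cR m v hv).2
  have hc : IsLin 4096 (app colsC) := sym_colsC.lin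
  simp only [okR, List.all_eq_true, Bool.and_eq_true, beq_iff_eq]
  intro v hv
  have hv : v < 4096 := by revert hv; simp; omega
  refine ⟨⟨⟨?_, ?_⟩, ?_⟩, ?_⟩
  · rw [hf 2 v hv, hf 2 _ (ha.1 v hv), ← hA v hv, ← hA _ ((d.linR 2).1 v hv)]
    exact d.a_r 2 v hv
  · rw [hf 1 v hv, hev 15 _ (hc.1 v hv), ← hC v hv, ← hC _ ((d.linR 1).1 v hv)]
    exact d.c_r 1 v hv
  · rw [hf 3 v hv, hev 12 _ (ha.1 v hv), ← hA v hv, ← hA _ ((d.linR 3).1 v hv)]
    exact d.a_r 3 v hv
  · rw [hf 2 v hv, hev 13 _ (hc.1 v hv), ← hC v hv, ← hC _ ((d.linR 2).1 v hv)]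
    exact d.c_r 2 v hv

theorem r_trivial {a : List ℕ} (hA : ∀ v < 4096, d.A v = app a v) (hC : ∀ v < 4096, d.C v = app colsC v)
    (ha : IsLin 4096 (app a)) (h2 : ∀ v < 4096, app a (app a v) = v)
    (h0 : (d.form 1, d.form 4, d.form 16) = (0, 0, 0)) : ∀ i, ∀ v < 4096, d.r i v = v := by
  simp only [Prod.mk.injEq] at h0
  intro i v hv
  rw [← d.fam_eq hA hC ha h2 i v hv, h0.1, h0.2.1, h0.2.2]
  have hc : IsLin 4096 (app colsC) := sym_colsC.lin
  have c4 : ∀ v < 4096, app colsC (app colsC (app colsC (app colsC v))) = v :=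
    ext4096 (hc.comp (hc.comp (hc.comp hc))) ⟨fun _ h => h, fun _ _ _ _ => rfl⟩ (by decide +kernel)
  have e0 : ∀ w, emb 0 0 0 w = w := fun w => by
    show Nat.xor w (app (cols3 0 0 0) (w / 64)) = w
    rw [app_cols3 (by norm_num) (by norm_num) (by norm_num), sm_zero, sm_zero, sm_zero, xor_self', xor_self',
      xor_zero_right]
  fin_cases i
  · exact e0 v
  · show app a (emb 0 0 0 (app a v)) = v
    rw [e0, h2 v hv]
  · show app colsC (app colsC (emb 0 0 0 (app colsC (app colsC v)))) = v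
    rw [e0, c4 v hv]
  · show app colsC (emb 0 0 0 (app colsC (app colsC (app colsC v)))) = v
    rw [e0, c4 v hv]

end Raw

theorem exists_isModel (d : Raw) (hne : ∃ i, ∃ v < 4096, d.r i v ≠ v) : ∃ Q, d.IsModel Q := by
  obtain ⟨Q, hQ, d', hA, hC, hqA, hqC, hqr⟩ := d.exists_normal
  obtain ⟨i₀, v₀, hv₀, hne₀⟩ := hne
  have hne' : d'.r i₀ (Q v₀) ≠ Q v₀ := fun e =>
    hne₀ (hQ.inj ((d.linR i₀).1 v₀ hv₀) hv₀ ((hqr i₀ v₀ hv₀).symm.trans e))
  have hqv := hQ.lin.1 v₀ hv₀
  rcases hA with hA | hA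
  · have la := sym_colsA.lin
    have h2 : ∀ v < 4096, app colsA (app colsA v) = v :=
      ext4096 (la.comp la) ⟨fun _ h => h, fun _ _ _ _ => rfl⟩ (by decide +kernel)
    have hf := List.all_eq_true.1 check_formsA _ d'.form_mem
    simp only [d'.okR_true hA hC la h2, Bool.not_true, Bool.false_or, Bool.or_eq_true, beq_iff_eq] at hf
    rcases hf with hf | hf
    · exact absurd (d'.r_trivial hA hC la h2 hf i₀ _ hqv) hne'
    · refine ⟨Q, hQ, fun v hv => by rw [← hqA v hv, hA _ (hQ.lin.1 v hv)],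
        fun v hv => by rw [← hqC v hv, hC _ (hQ.lin.1 v hv)], fun i v hv => ?_⟩
      have he : ∀ w < 4096, d'.r i w = app (colsR.getD i.val []) w := by
        refine ext4096 (d'.linR i) ⟨fun w _ => ?_, fun x _ y _ => app_xor _ x y⟩ fun w hw => ?_
        · exact app_lt (k := 12) (by revert i; decide) w
        · have hw' : w < 4096 := by revert hw; simp [bits12]; omega
          rw [← d'.fam_eq hA hC la h2 i w hw']
          simp only [Prod.mk.injEq] at hf
          rw [hf.1, hf.2.1, hf.2.2]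
          exact check_famA i w hw
      rw [← hqr i v hv, he _ (hQ.lin.1 v hv)]
  · have la := sym_colsB.lin
    have h2 : ∀ v < 4096, app colsB (app colsB v) = v :=
      ext4096 (la.comp la) ⟨fun _ h => h, fun _ _ _ _ => rfl⟩ (by decide +kernel)
    have hf := List.all_eq_true.1 check_formsB _ d'.form_mem
    simp only [d'.okR_true hA hC la h2, Bool.not_true, Bool.false_or, beq_iff_eq] at hf
    exact absurd (d'.r_trivial hA hC la h2 hf i₀ _ hqv) hne'

/-- A symmetry preserves the first half in both directions. -/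
theorem low_iff {Q : ℕ → ℕ} (h : Sym Q) {v : ℕ} (hv : v < 4096) : v < 64 ↔ Q v < 64 := by
  obtain ⟨P, hP, hPQ⟩ := h.exists_inv
  refine ⟨h.low v, fun hh => ?_⟩
  rw [← (hPQ v hv).1]
  exact hP.low _ hh

end Classify

end CfsgLib.J4Type
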