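import Cfsg.Agent.Lib.J4Type.VSigns

/-!
Finite facts used for the coordinates on the subgroup of order `2^11`.
-/

set_option autoImplicit false
set_option maxRecDepth 100000
set_option maxHeartbeats 4000000
set_option Elab.async false

namespace CfsgLib.J4Type.VCode

/-- Every four-bit function is a number below sixteen. -/
theorem four_bits : ∀ f : Fin 4 → Bool, ∃ e : Fin 16, ∀ i : Fin 4, Nat.testBit e.val i.val = f i := by
  decide

/-- The columns of the change of the four lifts by the bits of `m`. -/
def kCols (m : ℕ) : List ℕ :=
  ((List.range 7).map fun i => 2 ^ i) ++ (List.range 4).map fun i =>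
    Nat.xor (128 * 2 ^ i) (if Nat.testBit m i then 64 else 0)

theorem kCols_sq : ((List.range 16).all fun m => (List.range 11).all fun j =>
    Nat.beq (app (kCols m) (app (kCols m) (2 ^ j))) (2 ^ j) &&
      (Nat.ble 7 j || Nat.beq (app (kCols m) (2 ^ j)) (2 ^ j))) = true := by
  decide +kernel

theorem gauge_spec : ((List.range 16).all fun e => (List.range 16).all fun m => (List.range 11).all fun j =>
    Nat.beq (app (liftCols colsA arPat e) (app (kCols m) (2 ^ j)))
      (app (kCols m) (app (liftCols colsA arPat (gauge arPat e m)) (2 ^ j))) &&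
    Nat.beq (app (liftCols colsC crPat e) (app (kCols m) (2 ^ j)))
      (app (kCols m) (app (liftCols colsC crPat (gauge crPat e m)) (2 ^ j))) &&
    Nat.beq (app (liftCols colsT [1, 2, 4, 8] 0) (app (kCols m) (2 ^ j)))
      (app (kCols m) (app (liftCols colsT [1, 2, 4, 8] 0) (2 ^ j)))) = true := by
  decide +kernel

theorem gauge_qCols : ((List.range 12).all fun k => (List.range 16).all fun m => (List.range 11).all fun j =>
    Nat.beq (app (vQ.getD k []) (app (kCols m) (2 ^ j))) (app (kCols m) (app (vQ.getD k []) (2 ^ j)))) = true := by
  decide +kernel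

theorem five_T : ((List.range 32).all fun m => Nat.beq (app (liftCols colsT [1, 2, 4, 8] 0) (64 * m)) (64 * m)) =
    true := by
  decide +kernel

theorem five_A : ((List.range 16).all fun e => (List.range 32).all fun m =>
    Nat.beq (app (liftCols colsA arPat e) (64 * m)) (64 * five arPat e m) &&
    Nat.beq (app (liftCols colsC crPat e) (64 * m)) (64 * five crPat e m) &&
    Nat.ble (five arPat e m + 1) 32 && Nat.ble (five crPat e m + 1) 32) = true := by
  decide +kernel

theorem lift_bound : ([colsA, colsC, colsT].all fun col => [arPat, crPat, [1, 2, 4, 8]].all fun pat =>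
    (List.range 16).all fun e => (liftCols col pat e).all fun c => Nat.ble (c + 1) 2048) = true := by
  decide +kernel

theorem low_cols : ([colsA, colsC, colsT].all fun col => (col.take 6).all fun c => Nat.ble (c + 1) 64) = true ∧
    ([arPat, crPat, [1, 2, 4, 8]].all fun pat => (List.range 4).all fun i => Nat.ble (pat.getD i 0 + 1) 16) = true := by
  decide +kernel

theorem vQ_bound : (vQ.all fun l => l.all fun c => Nat.ble (c + 1) 2048) = true ∧
    ((List.range 16).all fun m => (kCols m).all fun c => Nat.ble (c + 1) 2048) = true := by
  decide +kernel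

end CfsgLib.J4Type.VCode
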