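import Cfsg.Agent.Lib.J4Type.Section
import Cfsg.Agent.Lib.J4Type.CoordCerts

/-!
Codes below `2048` for the subgroup of order `2^11` and the action of the lifts of `a`, `c`, `t`.
-/

set_option autoImplicit false
set_option linter.unusedSectionVars false
set_option maxRecDepth 20000

namespace CfsgLib.J4Type

theorem bprod_of_low {C : Type*} [Group C] (g : ℕ → C) :
    ∀ (l : List ℕ) (n : ℕ), (∀ i ∈ l, Nat.testBit n i = false) → bprod g l n = 1
  | [], _, _ => rfl
  | i :: l, n, h => by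
    have e := bprod_of_low g l n fun j hj => h j (List.mem_cons_of_mem _ hj)
    simp only [bprod, List.map_cons, List.prod_cons] at e ⊢
    rw [e, h i List.mem_cons_self]; simp

theorem bprod_two_pow {C : Type*} [Group C] (g : ℕ → C) :
    ∀ (k i : ℕ), i < k → bprod g (List.range k) (2 ^ i) = g i
  | 0, i, h => absurd h (Nat.not_lt_zero i)
  | k + 1, i, h => by
    rw [bprod, List.range_succ, List.map_append, List.prod_append]
    by_cases hik : i = k
    · subst hik
      rw [← bprod, bprod_of_low g _ _ fun j hj => by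
        rw [Nat.testBit_two_pow, decide_eq_false (ne_of_gt (List.mem_range.1 hj))], one_mul]
      simp [Nat.testBit_two_pow]
    · rw [← bprod, bprod_two_pow g k i (by omega)]
      simp [Nat.testBit_two_pow, hik]

theorem mul_xor_distrib (k a b : ℕ) : 2 ^ k * Nat.xor a b = Nat.xor (2 ^ k * a) (2 ^ k * b) := by
  rw [mul_comm _ a, mul_comm _ b, mul_comm _ (Nat.xor a b), ← Nat.shiftLeft_eq, ← Nat.shiftLeft_eq, ← Nat.shiftLeft_eq]
  exact Nat.shiftLeft_xor_distrib

universe u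

variable {G : Type u} [Group G] [Finite G] {z : G} {P : Subgroup G}

namespace Lifts

variable {X : Ctx z P} (L : Lifts X)

/-- The eleven basis elements. -/
noncomputable def gg (i : ℕ) : CC z :=
  if i < 6 then (L.sec (2 ^ i) : CC z) else if i = 6 then Ctx.zc z else L.ρ ⟨(i - 7) % 4, Nat.mod_lt _ (by norm_num)⟩

/-- The element with a given code. -/
noncomputable def enc (n : ℕ) : CC z := bprod L.gg (List.range 11) n

include L

theorem sec_zero : L.sec 0 = 1 := by
  have h := L.sec_xor (m := 0) (n := 0) (by norm_num) (by norm_num)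
  rw [show Nat.xor 0 0 = 0 from rfl] at h
  exact left_eq_mul.mp h

theorem zc_Wc : Ctx.zc z ∈ X.Wc :=
  (show ((X.zQ : QQ z) : CC z) ∈ X.Wc from X.mem_Wc.2 (by rw [X.pr_zQ, X.code_zero]; norm_num))

theorem Wc_cases {b : CC z} (hb : b ∈ X.Wc) :
    ∃ n, n < 64 ∧ (b = (L.sec n : CC z) ∨ b = (L.sec n : CC z) * Ctx.zc z) := by
  obtain ⟨a, rfl⟩ : ∃ a : QQ z, (a : CC z) = b := ⟨⟨b, X.mem_QQ_of_Wc hb⟩, rfl⟩
  have hc := X.mem_Wc.1 hb
  have e : pr (L.sec (X.model.code (pr a))) = pr a := X.model.code_inj _ _ (L.code_sec hc)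
  refine ⟨_, hc, ?_⟩
  rcases X.center_eq ((ext13_of X.hyp).pr_eq_iff.1 e) with h | h
  · exact Or.inl (congrArg Subtype.val (inv_mul_eq_one.1 h)).symm
  · exact Or.inr (congrArg Subtype.val (inv_mul_eq_iff_eq_mul.1 h))

theorem rho_sec (i : Fin 4) {n : ℕ} (hn : n < 64) :
    L.ρ i * (L.sec n : CC z) * (L.ρ i)⁻¹ = (L.sec n : CC z) := by
  have hfix : ∀ w, w < 64 → app (colsR.getD i.val []) w = w := fun w hw =>
    app_eq_of_units (k := 6) (app (colsR.getD i.val [])) id (app_xor _) (fun _ _ => rfl) (fun j hj => by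
      have := List.all_eq_true.1 (List.all_eq_true.1 VCode.colsR_facts.1 i.val (List.mem_range.2 i.isLt)) j
        (List.mem_range.2 (by omega))
      rw [Bool.and_eq_true, Bool.or_eq_true, Nat.ble_eq, Nat.ble_eq] at this
      exact Nat.eq_of_beq_eq_true (this.2.resolve_left (by omega))) hw
  have := L.sec_conj (L.ρ_p i) _ _ (L.ρ_mk i) (X.model.act_r i) (fun w hw => by rw [hfix w hw]; exact hw) hn
  rwa [hfix n hn] at this

theorem rho_mem_VV (i : Fin 4) : L.ρ i ∈ X.VV := by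
  refine Subgroup.mem_inf.2 ⟨?_, Subgroup.mem_centralizer_iff.2 fun b hb => ?_⟩
  · show (QuotientGroup.mk (L.ρ i) : CC z ⧸ QQ z) ∈ X.model.rSub
    rw [L.ρ_mk]; exact Subgroup.subset_closure ⟨i, rfl⟩
  · obtain ⟨n, hn, rfl | rfl⟩ := L.Wc_cases hb
    · exact (mul_inv_eq_iff_eq_mul.1 (L.rho_sec i hn)).symm
    · rw [mul_assoc, Ctx.zc_central, ← mul_assoc, ← mul_inv_eq_iff_eq_mul.1 (L.rho_sec i hn), mul_assoc]

omit L in
theorem Wc_le_VV : X.Wc ≤ X.VV := fun b hb => Subgroup.mem_inf.2 ⟨by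
  show (QuotientGroup.mk b : CC z ⧸ QQ z) ∈ X.model.rSub
  rw [(QuotientGroup.eq_one_iff b).2 (X.mem_QQ_of_Wc hb)]
  exact one_mem _, Subgroup.mem_centralizer_iff.2 fun a ha => Wc_comm ha hb⟩

theorem two_pow_lt {i k : ℕ} (h : i < k) : 2 ^ i < 2 ^ k := Nat.pow_lt_pow_right (by norm_num) h

theorem gg_mem (i : ℕ) : L.gg i ∈ X.VV := by
  rw [gg]
  split
  · exact Wc_le_VV (L.sec_mem (L.two_pow_lt (k := 6) (by assumption)))
  split
  · exact Wc_le_VV L.zc_Wc
  · exact L.rho_mem_VV _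

theorem gg_sec {i : ℕ} (hi : i < 6) : L.gg i = (L.sec (2 ^ i) : CC z) := by rw [gg, if_pos hi]

theorem gg_rho (i : Fin 4) : L.gg (7 + i.val) = L.ρ i := by
  rw [gg, if_neg (by omega), if_neg (by omega)]
  exact congrArg L.ρ (Fin.ext (by show (7 + i.val - 7) % 4 = i.val; omega))

variable (hsq : ∀ a ∈ X.VV, a * a = 1)

include hsq

theorem enc_xor (a b : ℕ) : L.enc (Nat.xor a b) = L.enc a * L.enc b :=
  (bprod_xor X.VV hsq L.gg a b (List.range 11) fun i _ => L.gg_mem i).1

theorem enc_mem (a : ℕ) : L.enc a ∈ X.VV :=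
  (bprod_xor X.VV hsq L.gg a a (List.range 11) fun i _ => L.gg_mem i).2.1

omit hsq in
theorem enc_two_pow {i : ℕ} (hi : i < 11) : L.enc (2 ^ i) = L.gg i := bprod_two_pow _ _ _ hi

omit hsq in
theorem enc_zero : L.enc 0 = 1 := bprod_zero _ _

omit hsq in
theorem enc_z : L.enc 64 = Ctx.zc z := by
  rw [show (64 : ℕ) = 2 ^ 6 by norm_num, L.enc_two_pow (by norm_num), gg, if_neg (by omega), if_pos rfl]

omit hsq in
theorem enc_rho (i : Fin 4) : L.enc (128 * 2 ^ i.val) = L.ρ i := by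
  rw [show 128 * 2 ^ i.val = 2 ^ (7 + i.val) by rw [pow_add]; norm_num, L.enc_two_pow (by omega), L.gg_rho]

theorem enc_sec {n : ℕ} (hn : n < 64) : L.enc n = (L.sec n : CC z) :=
  xor_ext (· * ·) 6 L.enc (fun n => (L.sec n : CC z)) (fun a b _ _ => L.enc_xor hsq a b)
    (fun a b ha hb => congrArg Subtype.val (L.sec_xor (m := a) (n := b) ha hb))
    (by rw [L.enc_zero, L.sec_zero]; rfl)
    (fun i hi => by rw [L.enc_two_pow (by omega), L.gg_sec hi]) n hn

theorem enc_Wc {b : CC z} (hb : b ∈ X.Wc) : ∃ n, n < 128 ∧ L.enc n = b := by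
  obtain ⟨n, hn, rfl | rfl⟩ := L.Wc_cases hb
  · exact ⟨n, by omega, L.enc_sec hsq hn⟩
  · exact ⟨Nat.xor n 64, Nat.xor_lt_two_pow (n := 7) (show n < 2 ^ 7 by omega) (by norm_num),
      by rw [L.enc_xor hsq, L.enc_sec hsq hn, L.enc_z]⟩

omit hsq in
theorem mk_bprod (m : ℕ) :
    (QuotientGroup.mk (bprod (fun i => L.gg (7 + i)) (List.range 4) m) : CC z ⧸ QQ z) = evR X.model.gens.r m := by
  rw [bprod, evR]
  simp only [List.range_succ, List.range_zero, List.map_nil, List.map_cons, List.nil_append, List.cons_append,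
    List.prod_cons, List.prod_nil, mul_one, List.ofFn_succ, List.ofFn_zero]
  have key : ∀ i : Fin 4, (QuotientGroup.mk (if Nat.testBit m i.val then L.gg (7 + i.val) else 1) : CC z ⧸ QQ z) =
      if Nat.testBit m i.val then X.model.gens.r i else 1 := fun i => by
    split
    · rw [L.gg_rho, L.ρ_mk]
    · rfl
  simp only [QuotientGroup.mk_mul]
  exact congr (congrArg HMul.hMul (key 0))
    (congr (congrArg HMul.hMul (key 1)) (congr (congrArg HMul.hMul (key 2)) (key 3)))

theorem mk_high {m : ℕ} (hm : m < 16) :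
    (QuotientGroup.mk (L.enc (128 * m)) : CC z ⧸ QQ z) = evR X.model.gens.r m := by
  have h : L.enc (128 * m) = bprod (fun i => L.gg (7 + i)) (List.range 4) m := by
    refine xor_ext (· * ·) 4 (fun m => L.enc (128 * m)) (fun m => bprod (fun i => L.gg (7 + i)) (List.range 4) m)
      (fun a b _ _ => ?_) (fun a b _ _ => ?_) ?_ (fun i hi => ?_) m hm
    · show L.enc (128 * Nat.xor a b) = _
      rw [show (128 : ℕ) = 2 ^ 7 by norm_num, mul_xor_distrib, L.enc_xor hsq]
    · exact (bprod_xor X.VV hsq _ a b _ fun i _ => L.gg_mem _).1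
    · show L.enc (128 * 0) = _
      rw [Nat.mul_zero, L.enc_zero, bprod_zero]
    · show L.enc (128 * 2 ^ i) = _
      rw [bprod_two_pow _ _ _ hi, show 128 * 2 ^ i = 2 ^ (7 + i) by rw [pow_add]; norm_num, L.enc_two_pow (by omega)]
  rw [h, L.mk_bprod]

theorem enc_surj {a : CC z} (ha : a ∈ X.VV) : ∃ n, n < 2048 ∧ L.enc n = a := by
  obtain ⟨har, hac⟩ := Subgroup.mem_inf.1 ha
  let S : Subgroup (CC z ⧸ QQ z) :=
    { carrier := {h | ∃ n, n < 2048 ∧ (QuotientGroup.mk (L.enc n) : CC z ⧸ QQ z) = h}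
      one_mem' := ⟨0, by norm_num, by rw [L.enc_zero]; rfl⟩
      mul_mem' := fun {x y} ⟨m, hm, hx⟩ ⟨n, hn, hy⟩ =>
        ⟨Nat.xor m n, Nat.xor_lt_two_pow (n := 11) hm hn, by
          rw [L.enc_xor hsq, QuotientGroup.mk_mul, hx, hy]⟩
      inv_mem' := fun {x} ⟨n, hn, hx⟩ => ⟨n, hn, by
        rw [← hx, ← QuotientGroup.mk_inv, inv_eq_of_mul_eq_one_right (hsq _ (L.enc_mem hsq n))]⟩ }
  have hle : X.model.rSub ≤ S := (Subgroup.closure_le _).2 (by
    rintro _ ⟨i, rfl⟩
    exact ⟨128 * 2 ^ i.val, by have := L.two_pow_lt i.isLt; omega, by rw [L.enc_rho, L.ρ_mk]⟩)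
  obtain ⟨n, hn, hna⟩ := hle (show (QuotientGroup.mk a : CC z ⧸ QQ z) ∈ X.model.rSub from har)
  have hbV : L.enc n * a ∈ X.VV := mul_mem (L.enc_mem hsq n) ha
  have hbQ : L.enc n * a ∈ QQ z := (QuotientGroup.eq_one_iff _).1 (by
    rw [QuotientGroup.mk_mul, ← hna, ← QuotientGroup.mk_mul, hsq _ (L.enc_mem hsq n)]; rfl)
  have hlow : X.model.code (pr (⟨_, hbQ⟩ : QQ z)) < 64 := by
    have hp := List.all_eq_true.1 VCode.low_perp _ (List.mem_range.2 (X.model.code_lt (pr (⟨_, hbQ⟩ : QQ z))))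
    rw [beq_iff_eq] at hp
    have hall : (List.range 6).all (fun j => !VCode.bn (X.model.code (pr (⟨_, hbQ⟩ : QQ z))) (2 ^ j)) = true := by
      refine List.all_eq_true.2 fun j hj => ?_
      have hj6 : 2 ^ j < 64 := L.two_pow_lt (k := 6) (List.mem_range.1 hj)
      have hb : (ext13_of X.hyp).rep.b (pr (⟨_, hbQ⟩ : QQ z)) (pr (L.sec (2 ^ j))) = 0 := by
        show bf _ _ = 0
        rw [(ext13_of X.hyp).bf_pr, bit, if_pos]
        rw [commutatorElement_eq_one_iff_mul_comm]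
        exact Subtype.ext ((Subgroup.mem_centralizer_iff.1 (Subgroup.mem_inf.1 hbV).2 _ (L.sec_mem hj6)).symm)
      rw [X.bf_code, L.code_sec hj6] at hb
      cases h : VCode.bn (X.model.code (pr (⟨_, hbQ⟩ : QQ z))) (2 ^ j)
      · rfl
      · rw [h, if_pos rfl] at hb; exact absurd hb one_ne_zero
    rw [hall, Nat.ble_eq] at hp
    omega
  obtain ⟨m, hm, e⟩ := L.enc_Wc hsq (X.mem_Wc.2 hlow)
  refine ⟨Nat.xor n m, Nat.xor_lt_two_pow (n := 11) hn (show m < 2 ^ 11 by omega), ?_⟩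
  rw [L.enc_xor hsq, e]
  show L.enc n * (L.enc n * a) = a
  rw [← mul_assoc, hsq _ (L.enc_mem hsq n), one_mul]

theorem code_bprod (v : VQ (QQ z)) : ∀ (l : List ℕ) (m : ℕ), (∀ i ∈ l, i < 4) →
    X.model.code ((ext13_of X.hyp).rep.ρ (QuotientGroup.mk (bprod (fun i => L.gg (7 + i)) l m)) v) =
      l.foldr (fun i w => if Nat.testBit m i then app (colsR.getD i []) w else w) (X.model.code v)
  | [], m, _ => by
    show X.model.code ((ext13_of X.hyp).rep.ρ (1 : CC z ⧸ QQ z) v) = _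
    rw [(ext13_of X.hyp).rep.one_apply]; rfl
  | i :: l, m, h => by
    have hi := h i List.mem_cons_self
    have ih := code_bprod v l m fun j hj => h j (List.mem_cons_of_mem _ hj)
    rw [bprod] at ih
    rw [bprod, List.map_cons, List.prod_cons, QuotientGroup.mk_mul, (ext13_of X.hyp).rep.mul_apply, List.foldr_cons]
    cases Nat.testBit m i
    · rw [if_neg Bool.false_ne_true, if_neg Bool.false_ne_true, QuotientGroup.mk_one,
        (ext13_of X.hyp).rep.one_apply, ih]
    · rw [if_pos rfl, if_pos rfl, show L.gg (7 + i) = L.ρ ⟨i, hi⟩ from L.gg_rho ⟨i, hi⟩, L.ρ_mk, X.model.act_r, ih]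

theorem enc_eq_one {n : ℕ} (hn : n < 2048) (h : L.enc n = 1) : n = 0 := by
  have e : n = Nat.xor (128 * (n / 128)) (n % 128) := by
    refine Nat.eq_of_testBit_eq fun i => ?_
    show n.testBit i = ((128 * (n / 128)) ^^^ (n % 128)).testBit i
    rw [Nat.testBit_xor, show (128 : ℕ) = 2 ^ 7 by norm_num, Nat.testBit_two_pow_mul, Nat.testBit_mod_two_pow,
      Nat.testBit_div_two_pow]
    by_cases hi : 7 ≤ i
    · simp [hi, show ¬ i < 7 by omega]
    · simp [hi, show i < 7 by omega]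
  have hlowQ : ∀ m, m < 128 → L.enc m ∈ QQ z := by
    refine fun m hm => ?_
    have hS : ∀ i, i < 7 → L.gg i ∈ X.Wc := fun i hi => by
      rw [gg]; split
      · exact L.sec_mem (L.two_pow_lt (k := 6) (by assumption))
      · rw [if_pos (by omega)]; exact L.zc_Wc
    by_cases h6 : m < 64
    · rw [L.enc_sec hsq h6]; exact (L.sec m).2
    · have e' : m = Nat.xor (m - 64) 64 := by
        have : ∀ k, k < 64 → k + 64 = k ^^^ 64 := by decide
        have h' := this (m - 64) (by omega)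
        show m = (m - 64) ^^^ 64
        omega
      rw [e', L.enc_xor hsq, L.enc_sec hsq (by omega), L.enc_z]
      exact mul_mem (L.sec (m - 64)).2 (Ctx.zc_mem X)
  have hm : n / 128 < 16 := by omega
  have hmk : evR X.model.gens.r (n / 128) = 1 := by
    rw [← L.mk_high hsq hm]
    have h' := h
    rw [e, L.enc_xor hsq] at h'
    rw [mul_eq_one_iff_eq_inv.1 h', QuotientGroup.mk_inv,
      (QuotientGroup.eq_one_iff _).2 (hlowQ _ (Nat.mod_lt _ (by norm_num))), inv_one]
  have hm0 : n / 128 = 0 := by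
    by_contra hne
    have hc := List.all_eq_true.1 VCode.colsR_facts.2 _ (List.mem_range.2 hm)
    rw [Bool.or_eq_true] at hc
    rcases hc with hc | hc
    · exact hne (Nat.eq_of_beq_eq_true hc)
    obtain ⟨j, hj, hjb⟩ := List.any_eq_true.1 hc
    have hj12 : 2 ^ j < 4096 := L.two_pow_lt (k := 12) (List.mem_range.1 hj)
    have := L.code_bprod hsq (X.dec (2 ^ j)) (List.range 4) (n / 128) fun i hi => List.mem_range.1 hi
    have hb : (QuotientGroup.mk (bprod (fun i => L.gg (7 + i)) (List.range 4) (n / 128)) : CC z ⧸ QQ z) = 1 := by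
      rw [L.mk_bprod, hmk]
    rw [hb, (ext13_of X.hyp).rep.one_apply, X.code_dec hj12] at this
    rw [← this, Nat.beq_refl] at hjb
    exact Bool.noConfusion hjb
  have hn128 : n < 128 := by omega
  by_cases h6 : n < 64
  · have := L.code_sec h6
    rw [show L.sec n = 1 from Subtype.ext ((L.enc_sec hsq h6).symm.trans h), pr_one, X.code_zero] at this
    exact this.symm
  · exfalso
    have e' : n = Nat.xor (n - 64) 64 := by
      have : ∀ k, k < 64 → k + 64 = k ^^^ 64 := by decide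
      have h' := this (n - 64) (by omega)
      show n = (n - 64) ^^^ 64
      omega
    rw [e', L.enc_xor hsq, L.enc_sec hsq (by omega), L.enc_z] at h
    have h2 : L.sec (n - 64) * X.zQ = 1 := Subtype.ext h
    have hc := L.code_sec (show n - 64 < 64 by omega)
    rw [mul_eq_one_iff_eq_inv.1 h2, L.pr_inv, X.pr_zQ, X.code_zero] at hc
    rw [← hc] at h2
    rw [L.sec_zero, one_mul] at h2
    exact Ctx.zc_ne X (congrArg Subtype.val h2)

theorem enc_inj {m n : ℕ} (hm : m < 2048) (hn : n < 2048) (h : L.enc m = L.enc n) : m = n := by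
  have h0 := L.enc_eq_one hsq (n := Nat.xor m n) (Nat.xor_lt_two_pow (n := 11) hm hn)
    (by rw [L.enc_xor hsq, h, hsq _ (L.enc_mem hsq n)])
  exact Nat.xor_eq_zero_iff.1 h0

/-- A conjugation that maps the basis by `cols` maps all codes by `cols`. -/
theorem conj_app (c : CC z) (cols : List ℕ) (h : ∀ i, i < 11 → c * L.gg i * c⁻¹ = L.enc (cols.getD i 0))
    {n : ℕ} (hn : n < 2048) : c * L.enc n * c⁻¹ = L.enc (app cols n) := by
  refine xor_ext (· * ·) 11 (fun n => c * L.enc n * c⁻¹) (fun n => L.enc (app cols n)) (fun a b _ _ => ?_)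
    (fun a b _ _ => ?_) ?_ (fun i hi => ?_) n hn
  · show c * L.enc (Nat.xor a b) * c⁻¹ = _
    rw [L.enc_xor hsq]; group
  · show L.enc (app cols (Nat.xor a b)) = _
    rw [app_xor, L.enc_xor hsq]
  · show c * L.enc 0 * c⁻¹ = L.enc (app cols 0)
    rw [app_zero, L.enc_zero, mul_one, mul_inv_cancel]
  · show c * L.enc (2 ^ i) * c⁻¹ = L.enc (app cols (2 ^ i))
    rw [L.enc_two_pow hi, app_two_pow]; exact h i hi

end Lifts

end CfsgLib.J4Type
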