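import Mathlib.Data.Nat.Bitwise

/-!
The fixed model of the action of `C(z) / O_2(C(z))` on `O_2(C(z)) / ⟨z⟩` in Janko-four type: vectors are
numbers below `4096` under exclusive or (six coordinates over four elements, two bits each), maps are
lists of twelve columns; and the matching permutations on the 24 points.
-/
set_option autoImplicit false

namespace CfsgLib.J4Type

/-- A map given by its columns. -/
def app : List ℕ → ℕ → ℕ
  | [], _ => 0
  | c :: cs, v => Nat.xor (if v % 2 = 1 then c else 0) (app cs (v / 2))

/-- The quadratic form: the first three coordinates are paired with the last three. -/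
def qn (v : ℕ) : Bool :=
  ((List.range 6).countP fun i => Nat.testBit v i && Nat.testBit v (6 + Nat.xor i 1)) % 2 == 1

/-- The columns of `a`. -/
def colsA : List ℕ := [48, 16, 4, 8, 2, 3, 3072, 1024, 256, 512, 128, 192]

/-- The columns of `c`. -/
def colsC : List ℕ := [1, 2, 5, 10, 20, 40, 1344, 2688, 1280, 2560, 1024, 2048]

/-- The columns of `g`. -/
def colsG : List ℕ := [2240, 3136, 704, 832, 2688, 4032, 54, 27, 30, 39, 22, 43]

/-- The columns of `u`. -/
def colsU : List ℕ := [32, 16, 57, 39, 2, 1, 2304, 1792, 512, 256, 896, 576]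

/-- The columns of `t`. -/
def colsT : List ℕ := [3, 1, 12, 4, 48, 16, 192, 64, 768, 256, 3072, 1024]

/-- The columns of the four generators of the normal four-dimensional subgroup. -/
def colsR : List (List ℕ) :=
  [[1, 2, 4, 8, 16, 32, 121, 158, 275, 545, 1030, 2059],
   [1, 2, 4, 8, 16, 32, 124, 148, 290, 563, 1054, 2087],
   [1, 2, 4, 8, 16, 32, 124, 148, 274, 547, 1030, 2059],
   [1, 2, 4, 8, 16, 32, 96, 176, 272, 544, 1031, 2057]]

/-- The image list of `a` on the points `0, …, 22, ∞`. -/
def permA : List ℕ := [0, 1, 2, 7, 10, 6, 5, 3, 8, 16, 4, 11, 12, 15, 21, 13, 9, 19, 18, 17, 22, 14, 20, 23]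

/-- The image list of `c` on the points `0, …, 22, ∞`. -/
def permC : List ℕ := [0, 3, 4, 22, 2, 6, 11, 20, 16, 13, 5, 10, 15, 8, 14, 12, 9, 7, 17, 19, 18, 1, 21, 23]

/-- The image list of `g` on the points `0, …, 22, ∞`. -/
def permG : List ℕ := [0, 1, 8, 14, 12, 9, 16, 17, 6, 5, 15, 13, 10, 11, 22, 4, 2, 19, 3, 20, 7, 21, 18, 23]

/-- The image list of `u` on the points `0, …, 22, ∞`. -/
def permU : List ℕ := [23, 1, 2, 17, 10, 5, 6, 19, 12, 13, 4, 11, 8, 9, 14, 16, 15, 3, 18, 7, 22, 21, 20, 0]

/-- The image lists of the four generators. -/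
def permR : List (List ℕ) :=
  [[0, 3, 2, 1, 4, 5, 6, 12, 13, 22, 10, 11, 7, 8, 17, 18, 21, 14, 15, 20, 19, 16, 9, 23],
   [0, 7, 2, 12, 4, 5, 6, 1, 15, 14, 10, 11, 3, 18, 9, 8, 20, 22, 13, 21, 16, 19, 17, 23],
   [0, 8, 2, 13, 4, 5, 6, 15, 1, 16, 10, 11, 18, 3, 20, 7, 9, 19, 12, 17, 14, 22, 21, 23],
   [0, 9, 2, 22, 4, 5, 6, 14, 16, 1, 10, 11, 17, 21, 7, 20, 8, 12, 19, 18, 15, 13, 3, 23]]

/-- The word `cacacccac` (`false` is `a`). -/
def wX : List Bool := [true, false, true, false, true, true, true, false, true]

/-- The word `acacccacc` (`false` is `a`). -/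
def wY : List Bool := [false, true, false, true, true, true, false, true, true]

/-- The word `acaccaccca` (`false` is `a`). -/
def wGA : List Bool := [false, true, false, true, true, false, true, true, true, false]

/-- The word `caccca` (`false` is `a`). -/
def wGC : List Bool := [true, false, true, true, true, false]

/-- The word `accacccacacca` (`false` is `a`). -/
def wGG : List Bool := [false, true, true, false, true, true, true, false, true, false, true, true, false]

/-- The word `ccacccacaccc` (`false` is `a`). -/
def wUC : List Bool := [true, true, false, true, true, true, false, true, false, true, true, true]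

/-- The bit patterns of the conjugates of the four generators. -/
def arPat : List ℕ := [2, 1, 4, 12]

/-- The bit patterns of the conjugates of the four generators. -/
def crPat : List ℕ := [8, 15, 13, 4]

/-- The bit patterns of the conjugates of the four generators. -/
def urPat : List ℕ := [11, 15, 3, 5]

end CfsgLib.J4Type

namespace CfsgLib.J4Type

/-- The value on the empty list (this also states the unfolding equation once, next to the definition). -/
theorem app_nil_value (v : ℕ) : app [] v = 0 := by rw [app.eq_def]

end CfsgLib.J4Type
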