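import Mathlib.Data.Nat.Bitwise

import Cfsg.Agent.Lib.J4Type.Data
import Cfsg.Agent.Lib.J4Type.ElemData

/-!
Certificates on the tables of the Sylow `2`-subgroup: linear maps as lists of columns, the search for
elementary abelian subgroups, and the checks.
-/
set_option autoImplicit false
set_option maxRecDepth 100000

namespace CfsgLib.J4Type.Elem

/-- Columns from a packed number. -/
def unp (k : ℕ) : List ℕ := (List.range 12).map fun i => Nat.shiftRight k (12 * i) % 4096

/-- Composition of maps. -/
def cmp (m n : List ℕ) : List ℕ := n.map (app m)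

/-- The identity map. -/
def idM : List ℕ := [1, 2, 4, 8, 16, 32, 64, 128, 256, 512, 1024, 2048]

/-- The eight generators. -/
def genM : List (List ℕ) := [colsA, colsC, colsG, colsU] ++ colsR

/-- A generator. -/
def gm (i : ℕ) : List ℕ := genM.getD i []

/-- The map of a word. -/
def wordM : List ℕ → List ℕ
  | [] => idM
  | i :: w => cmp (gm i) (wordM w)

/-- The matrix of a member. -/
def sM (i : ℕ) : List ℕ := unp (sKeys.getD i 0)

/-- A generator of the Sylow subgroup. -/
def sG (j : ℕ) : List ℕ := wordM (sGenW.getD j [])

/-- A word in the Sylow generators. -/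
def sWordM : List ℕ → List ℕ
  | [] => idM
  | j :: w => cmp (sG j) (sWordM w)

/-- The matrix of a solution of `x² = 1`. -/
def iM (j : ℕ) : List ℕ := sM (iPos.getD j 0)

/-- An entry of a packed row. -/
def byteAt (row i : ℕ) : ℕ := Nat.land (Nat.shiftRight row (8 * i)) 255

/-- The product table. -/
def tb (j i : ℕ) : ℕ := byteAt (iTab.getD j 0) i

/-- Membership in a list of numbers. -/
def mem? (s : List ℕ) (i : ℕ) : Bool := s.any fun x => Nat.beq x i

/-- Whether `j`, with row `row` of the table, is the least new member of a canonical extension. -/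
def okExt (s : List ℕ) (last row j : ℕ) : Bool :=
  Nat.blt last j && !mem? s j &&
    s.all fun i => !Nat.beq (byteAt row i) 255 && (Nat.ble j (byteAt row i) || mem? s (byteAt row i))

/-- The admissible extensions. -/
def step (p : List ℕ × ℕ) : List (List ℕ × ℕ) :=
  iTab.zipIdx.filterMap fun e =>
    if okExt p.1 p.2 e.1 e.2 then some (p.1 ++ p.1.map (byteAt e.1), e.2) else none

/-- The canonical chains of elementary subgroups. -/
def spans : ℕ → List (List ℕ × ℕ)
  | 0 => [([0], 0)]
  | k + 1 => (spans k).flatMap step

/-- Every nonzero combination of the vectors is moved by a member. -/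
def movedBy (s B : List ℕ) : Bool :=
  (List.range (2 ^ B.length)).all fun c => Nat.beq c 0 ||
    s.any fun i => !(Nat.beq (app (iM i) (app B c)) (app B c))

end CfsgLib.J4Type.Elem
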