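import Mathlib
import Cfsg.Agent.Lib.J4Type.ElemDefs

/-!
Maps given by columns: linearity, composition, equality.
-/
set_option autoImplicit false

namespace CfsgLib.J4Type.Elem

theorem nxor' (a b : ℕ) : Nat.xor a b = a ^^^ b := rfl

theorem app_xor : ∀ (m : List ℕ) (x y : ℕ), app m (Nat.xor x y) = Nat.xor (app m x) (app m y)
  | [], _, _ => by simp [app, nxor']
  | c :: cs, x, y => by
    have ih := app_xor cs (x / 2) (y / 2)
    have hd : (x ^^^ y) / 2 = x / 2 ^^^ y / 2 := by
      apply Nat.eq_of_testBit_eq; intro i; simp [Nat.testBit_div_two, Nat.testBit_xor]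
    simp only [nxor'] at ih ⊢
    simp only [app, nxor', hd, ih]
    generalize app cs (x / 2) = p, app cs (y / 2) = q
    rcases Nat.mod_two_eq_zero_or_one x with hx | hx <;>
      rcases Nat.mod_two_eq_zero_or_one y with hy | hy <;>
      simp [Nat.xor_mod_two_eq, Nat.add_mod, hx, hy, Nat.xor_comm, Nat.xor_left_comm]

theorem app_zero (m : List ℕ) : app m 0 = 0 := by
  have h := app_xor m 0 0
  simp only [nxor', Nat.xor_self] at h
  exact h

theorem app_cmp (m : List ℕ) : ∀ (n : List ℕ) (v : ℕ), app (cmp m n) v = app m (app n v)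
  | [], v => by simp [cmp, app, app_zero]
  | c :: cs, v => by
    have ih := app_cmp m cs (v / 2)
    simp only [cmp, List.map_cons, app] at ih ⊢
    rw [ih, app_xor]
    split <;> simp [app_zero]

theorem app_lt : ∀ (m : List ℕ), (∀ c ∈ m, c < 4096) → ∀ v, app m v < 4096
  | [], _, _ => by simp [app]
  | c :: cs, h, v => by
    simp only [app]
    refine Nat.xor_lt_two_pow (n := 12) ?_ (app_lt cs (fun d hd => h d (List.mem_cons_of_mem _ hd)) _)
    split
    · exact h c List.mem_cons_self
    · norm_num

theorem app_two_pow : ∀ (m : List ℕ) (i : ℕ), app m (2 ^ i) = m.getD i 0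
  | [], i => by simp [app]
  | c :: cs, 0 => by simp [app, app_zero, nxor']
  | c :: cs, i + 1 => by
    have h : 2 ^ (i + 1) / 2 = 2 ^ i := by rw [pow_succ]; omega
    simp [app, app_two_pow cs i, h, nxor', Nat.pow_succ]

theorem app_idM {v : ℕ} (hv : v < 4096) : app idM v = v := by
  have key : ∀ k, k ≤ 12 → ∀ v, v < 2 ^ k → app idM v = v := by
    intro k
    induction k with
    | zero => intro _ v hv; obtain rfl : v = 0 := by simpa using hv
              exact app_zero _
    | succ k ih =>
      intro hk v hv
      have ih' := ih (by omega)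
      by_cases hb : v.testBit k
      · have hlt : v ^^^ 2 ^ k < 2 ^ k := by
          refine Nat.lt_pow_two_of_testBit _ fun i hi => ?_
          rw [Nat.testBit_xor, Nat.testBit_two_pow]
          rcases Nat.eq_or_lt_of_le hi with rfl | hi'
          · simp [hb]
          · rw [Nat.testBit_eq_false_of_lt (lt_of_lt_of_le hv (Nat.pow_le_pow_right (by norm_num) hi'))]
            simp [hi'.ne]
        have h1 : app idM (2 ^ k) = 2 ^ k := by
          rw [app_two_pow]
          have : k < 12 := by omega
          interval_cases k <;> rfl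
        have h2 := app_xor idM (v ^^^ 2 ^ k) (2 ^ k)
        simp only [nxor', Nat.xor_assoc, Nat.xor_self, Nat.xor_zero] at h2
        rw [h2, ih' _ hlt, h1, Nat.xor_assoc, Nat.xor_self, Nat.xor_zero]
      · refine ih' v (Nat.lt_pow_two_of_testBit _ fun i hi => ?_)
        rcases Nat.eq_or_lt_of_le hi with rfl | hi'
        · simpa using hb
        · exact Nat.testBit_eq_false_of_lt (lt_of_lt_of_le hv (Nat.pow_le_pow_right (by norm_num) hi'))
  exact key 12 le_rfl v hv

theorem ext_of_app {m n : List ℕ} (hm : m.length = 12) (hn : n.length = 12)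
    (h : ∀ v, v < 4096 → app m v = app n v) : m = n := by
  refine List.ext_getElem (hm.trans hn.symm) fun i h1 h2 => ?_
  have hi : i < 12 := hm ▸ h1
  have h3 := h (2 ^ i) (Nat.pow_lt_pow_right (m := i) (n := 12) (by norm_num) hi)
  rwa [app_two_pow, app_two_pow, List.getD_eq_getElem _ _ h1, List.getD_eq_getElem _ _ h2] at h3

theorem length_cmp (m n : List ℕ) : (cmp m n).length = n.length := by simp [cmp]

theorem length_unp (k : ℕ) : (unp k).length = 12 := by simp [unp]

theorem length_wordM : ∀ w : List ℕ, (wordM w).length = 12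
  | [] => rfl
  | i :: w => by rw [wordM, length_cmp, length_wordM w]

theorem length_sWordM : ∀ w : List ℕ, (sWordM w).length = 12
  | [] => rfl
  | i :: w => by rw [sWordM, length_cmp, length_sWordM w]

theorem unp_inj {k l : ℕ} (hk : k < 2 ^ 144) (hl : l < 2 ^ 144) (h : unp k = unp l) : k = l := by
  refine Nat.eq_of_testBit_eq fun b => ?_
  by_cases hb : b < 144
  · have hi : b / 12 < 12 := by omega
    have e : (unp k).getD (b / 12) 0 = (unp l).getD (b / 12) 0 := by rw [h]
    rw [List.getD_eq_getElem _ _ (by rw [length_unp]; exact hi),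
      List.getD_eq_getElem _ _ (by rw [length_unp]; exact hi)] at e
    simp only [unp, List.getElem_map, List.getElem_range] at e
    have e' := congrArg (fun n => Nat.testBit n (b % 12)) e
    have hmod : b % 12 < 12 := Nat.mod_lt _ (by norm_num)
    have hb' : 12 * (b / 12) + b % 12 = b := by omega
    change ((k >>> (12 * (b / 12))) % 2 ^ 12).testBit (b % 12)
      = ((l >>> (12 * (b / 12))) % 2 ^ 12).testBit (b % 12) at e'
    simp only [Nat.testBit_mod_two_pow, hmod, decide_true, Bool.true_and, Nat.testBit_shiftRight, hb'] at e'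
    exact e'
  · rw [Nat.testBit_eq_false_of_lt (lt_of_lt_of_le hk (Nat.pow_le_pow_right (by norm_num) (by omega))),
      Nat.testBit_eq_false_of_lt (lt_of_lt_of_le hl (Nat.pow_le_pow_right (by norm_num) (by omega)))]

end CfsgLib.J4Type.Elem
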