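import Cfsg.Agent.Lib.J4Type.ElemDefs

/-!
Certificates on fixed vectors.
-/
set_option autoImplicit false
set_option maxRecDepth 100000

namespace CfsgLib.J4Type.Elem

theorem four_moved : four.all (fun e => (e.2.all fun v => decide (v < 4096)) && e.2.length == 7 &&
    movedBy e.1 e.2) = true := by
  decide +kernel

theorem five_moved : fiveMoved.all (fun v => decide (v < 4096)) && fiveMoved.length == 8 &&
    movedBy five fiveMoved = true := by
  decide +kernel

theorem five_comm : five.all (fun b => Nat.beq b 0 || fiveComm.any fun e =>
    Nat.beq e.1 b && e.2.length == 5 &&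
      (e.2.all fun av => mem? five av.1 && decide (av.2 < 4096) &&
        Nat.beq (app (iM b) av.2) av.2) &&
      decide ((e.2.map fun av => Nat.xor (app (iM av.1) av.2) av.2).Nodup)) = true := by
  decide +kernel

theorem rMem_fix : rMem.all (fun i =>
    (List.range 6).all fun e => Nat.beq (app (iM i) (2 ^ e)) (2 ^ e)) = true := by
  decide +kernel

theorem rMem_moved : movedBy rMem [64, 128, 256, 512, 1024, 2048] = true := by decide +kernel

theorem members_lt : (rMem ++ five).all (fun i => decide (i < 72)) &&
    four.all (fun e => e.1.all fun i => decide (i < 72)) = true := by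
  decide +kernel

theorem colsR_fix : colsR.all (fun m => (List.range 64).all fun v => Nat.beq (app m v) v) = true := by
  decide +kernel

theorem low_sing : (List.range 64).all (fun v => !qn v) = true := by decide +kernel

end CfsgLib.J4Type.Elem
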