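import Cfsg.Agent.Lib.J4Type.ElemDefs

/-!
Certificates on the Sylow subgroup: closure.
-/
set_option autoImplicit false
set_option maxRecDepth 100000

namespace CfsgLib.J4Type.Elem

theorem sMul_spec : (List.range 7).all (fun j => (List.range 256).all fun i =>
    decide (byteAt (sMul.getD j 0) i < 256) &&
      cmp (sG j) (sM i) == sM (byteAt (sMul.getD j 0) i)) = true := by
  decide +kernel

theorem sKeys_incr : (List.range 255).all (fun i => decide (sKeys.getD i 0 < sKeys.getD (i + 1) 0)) = true := by
  decide +kernel

theorem sKeys_lt : (List.range 256).all (fun i => decide (sKeys.getD i 0 < 2 ^ 144)) = true := by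
  decide +kernel

theorem sGenW_spec : (List.range 7).all (fun j => (sGenW.getD j []).all fun i => decide (i < 8)) = true := by
  decide +kernel

end CfsgLib.J4Type.Elem
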