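import Cfsg.Agent.Lib.J4Type.ElemDefs

/-!
The search for elementary abelian subgroups.
-/
set_option autoImplicit false
set_option maxRecDepth 100000

namespace CfsgLib.J4Type.Elem

theorem spans_four : (spans 4).all (fun p => p.1.length == 16 && decide p.1.Nodup &&
    ((p.1 == rMem) || four.any fun e => e.1 == p.1)) = true := by
  decide +kernel

theorem spans_five : (spans 5).all (fun p => p.1 == five && decide p.1.Nodup) = true := by
  decide +kernel

theorem spans_six : (spans 6).isEmpty = true := by decide +kernel

end CfsgLib.J4Type.Elem
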