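import Cfsg.Agent.Lib.J4Type.ElemDefs

/-!
Certificate on the products of commuting involutions.
-/
set_option autoImplicit false
set_option maxRecDepth 100000

namespace CfsgLib.J4Type.Elem

theorem iTab_spec : (List.range 72).all (fun j => (List.range 72).all fun i =>
    if Nat.beq (tb j i) 255 then !(cmp (iM j) (iM i) == cmp (iM i) (iM j))
    else decide (tb j i < 72) && cmp (iM j) (iM i) == iM (tb j i)) = true := by
  decide +kernel

end CfsgLib.J4Type.Elem
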