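import Cfsg.Agent.Lib.J4Type.ElemDefs

/-!
Certificates on words, involutions and representatives.
-/
set_option autoImplicit false
set_option maxRecDepth 100000

namespace CfsgLib.J4Type.Elem

theorem sWords_spec : (List.range 256).all (fun i =>
    ((sWords.getD i []).all fun j => decide (j < 7)) && sWordM (sWords.getD i []) == sM i) = true := by
  decide +kernel

theorem sInv_spec : (List.range 256).all (fun i => if Nat.beq (sInv.getD i 0) 255 then
    !(cmp (sM i) (sM i) == idM) else
    decide (sInv.getD i 0 < 72) && Nat.beq (iPos.getD (sInv.getD i 0) 0) i) = true := by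
  decide +kernel

theorem iM_zero : iM 0 = idM := by decide +kernel

theorem iPos_spec : (List.range 72).all (fun j => decide (iPos.getD j 0 < 256) &&
    (List.range 72).all fun l => Nat.beq j l || !(Nat.beq (iPos.getD j 0) (iPos.getD l 0))) = true := by
  decide +kernel

theorem iConj_spec : (List.range 71).all (fun j => decide ((iConj.getD j (0, [])).1 < 3) &&
    ((iConj.getD j (0, [])).2.all fun i => decide (i < 8)) &&
    cmp (iM (j + 1)) (wordM (iConj.getD j (0, [])).2) ==
      cmp (wordM (iConj.getD j (0, [])).2) (reps.getD (iConj.getD j (0, [])).1 [])) = true := by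
  decide +kernel

theorem rep_zero : reps.getD 0 [] = gm 4 := by decide +kernel

theorem rep_moved : [1, 2].all (fun j => (repMoved.getD j []).length == 6 &&
    cmp (reps.getD j []) (reps.getD j []) == idM &&
    (List.range 64).all fun c => decide (app (repMoved.getD j []) c < 4096) && (Nat.beq c 0 ||
      !(Nat.beq (app (reps.getD j []) (app (repMoved.getD j []) c)) (app (repMoved.getD j []) c)))) = true := by
  decide +kernel

theorem rep_sing : (List.range 64).all (fun c => !qn (Nat.xor
    (app (reps.getD 1 []) (app (repMoved.getD 1 []) c)) (app (repMoved.getD 1 []) c))) = true := by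
  decide +kernel

theorem rep_nonsing : (List.range 64).any (fun c => qn (Nat.xor
    (app (reps.getD 2 []) (app (repMoved.getD 2 []) c)) (app (repMoved.getD 2 []) c))) = true := by
  decide +kernel

end CfsgLib.J4Type.Elem
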