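import Cfsg.Agent.Lib.J4Type.Local
import Cfsg.Agent.Lib.J4Type.ElemApp
import Cfsg.Agent.Lib.J4Type.ElemCertMul
import Cfsg.Agent.Lib.J4Type.ElemCertTab
import Cfsg.Agent.Lib.J4Type.ElemCertWord

/-!
The model realises the tables: a Sylow `2`-subgroup of order `256` and its involutions.
-/
set_option autoImplicit false
set_option linter.unusedSectionVars false

namespace CfsgLib.J4Type.Elem

open CfsgLib.FischerTwoFour (QRep)

variable {H V : Type*} [Group H] [AddCommGroup V] {R : QRep H V} (M : Model R)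

/-- `h` acts by the columns `m`. -/
def IsM (h : H) (m : List ℕ) : Prop := ∀ v, M.code (R.ρ h v) = app m (M.code v)

theorem IsM.one : IsM M (1 : H) idM := fun v => by rw [R.one_apply, app_idM (M.code_lt v)]

theorem IsM.mul {h k : H} {m n : List ℕ} (hh : IsM M h m) (hk : IsM M k n) :
    IsM M (h * k) (cmp m n) := fun v => by rw [R.mul_apply, hh, hk, app_cmp]

theorem IsM.unique {h k : H} {m : List ℕ} (hh : IsM M h m) (hk : IsM M k m) : h = k := by
  have e : k⁻¹ * h = 1 := R.faithful _ fun v => by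
    rw [R.mul_apply, M.code_inj _ _ ((hh v).trans (hk v).symm), R.inv_apply]
  exact (inv_mul_eq_one.1 e).symm

theorem IsM.eq_mat {h : H} {m n : List ℕ} (hm : IsM M h m) (hn : IsM M h n)
    (lm : m.length = 12) (ln : n.length = 12) : m = n :=
  ext_of_app lm ln fun v hv => by
    obtain ⟨w, rfl⟩ := M.code_surj v hv
    rw [← hm, hn]

/-- The generators by number. -/
def gE (i : ℕ) : H :=
  ([M.gens.a, M.gens.c, M.gens.g, M.gens.u, M.gens.r 0, M.gens.r 1, M.gens.r 2, M.gens.r 3]).getD i 1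

theorem isM_gE {i : ℕ} (hi : i < 8) : IsM M (gE M i) (gm i) := by
  intro v
  interval_cases i
  · exact M.act_a v
  · exact M.act_c v
  · exact M.act_g v
  · exact M.act_u v
  · exact M.act_r 0 v
  · exact M.act_r 1 v
  · exact M.act_r 2 v
  · exact M.act_r 3 v

/-- The value of a word. -/
def wordE (w : List ℕ) : H := (w.map (gE M)).prod

theorem isM_wordE : ∀ {w : List ℕ}, (∀ i ∈ w, i < 8) → IsM M (wordE M w) (wordM w)
  | [], _ => IsM.one M
  | i :: w, h => by
    rw [wordE, List.map_cons, List.prod_cons]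
    exact (isM_gE M (h i List.mem_cons_self)).mul M
      (isM_wordE fun j hj => h j (List.mem_cons_of_mem _ hj))

/-- A generator of the Sylow subgroup. -/
def sgen (j : ℕ) : H := wordE M (sGenW.getD j [])

theorem isM_sgen {j : ℕ} (hj : j < 7) : IsM M (sgen M j) (sG j) :=
  isM_wordE M fun i hi => by
    have h := List.all_eq_true.1 (List.all_eq_true.1 sGenW_spec j (List.mem_range.2 hj)) i hi
    exact of_decide_eq_true h

theorem isM_sword : ∀ {w : List ℕ}, (∀ j ∈ w, j < 7) → IsM M ((w.map (sgen M)).prod) (sWordM w)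
  | [], _ => IsM.one M
  | j :: w, h => by
    rw [List.map_cons, List.prod_cons]
    exact (isM_sgen M (h j List.mem_cons_self)).mul M
      (isM_sword fun l hl => h l (List.mem_cons_of_mem _ hl))

/-- A member of the Sylow subgroup. -/
def sEl (i : ℕ) : H := ((sWords.getD i []).map (sgen M)).prod

theorem isM_sEl {i : ℕ} (hi : i < 256) : IsM M (sEl M i) (sM i) := by
  have h := List.all_eq_true.1 sWords_spec i (List.mem_range.2 hi)
  rw [Bool.and_eq_true] at h
  rw [← eq_of_beq h.2]
  exact isM_sword M fun j hj => of_decide_eq_true (List.all_eq_true.1 h.1 j hj)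

/-- The Sylow subgroup. -/
def syl : Subgroup H := Subgroup.closure (Set.range fun j : Fin 7 => sgen M j.val)

theorem sEl_mem (i : ℕ) : sEl M i ∈ syl M := by
  refine Subgroup.list_prod_mem _ fun x hx => ?_
  obtain ⟨j, -, rfl⟩ := List.mem_map.1 hx
  by_cases hj : j < 7
  · exact Subgroup.subset_closure ⟨⟨j, hj⟩, rfl⟩
  · rw [sgen, List.getD_eq_default _ _ (show sGenW.length ≤ j from Nat.not_lt.1 hj)]
    exact one_mem _

include M in
theorem finite_H : Finite H := Nat.finite_of_card_ne_zero (by rw [M.gens.card]; norm_num)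

/-- A solution of `x² = 1`. -/
def iEl (j : ℕ) : H := sEl M (iPos.getD j 0)

theorem iPos_lt {j : ℕ} (hj : j < 72) : iPos.getD j 0 < 256 := by
  have h := List.all_eq_true.1 iPos_spec j (List.mem_range.2 hj)
  rw [Bool.and_eq_true] at h
  exact of_decide_eq_true h.1

theorem isM_iEl {j : ℕ} (hj : j < 72) : IsM M (iEl M j) (iM j) := isM_sEl M (iPos_lt hj)

theorem iEl_zero : iEl M 0 = 1 := (isM_iEl M (by norm_num : 0 < 72)).unique M (iM_zero ▸ IsM.one M)

theorem mem_syl {x : H} (hx : x ∈ syl M) : ∃ i, i < 256 ∧ x = sEl M i := by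
  have := finite_H M
  let T : Set H := {x | ∃ i, i < 256 ∧ x = sEl M i}
  have hstep : ∀ j : Fin 7, ∀ y ∈ T, sgen M j.val * y ∈ T := by
    rintro ⟨j, hj⟩ _ ⟨i, hi, rfl⟩
    have h := List.all_eq_true.1 (List.all_eq_true.1 sMul_spec j (List.mem_range.2 hj)) i (List.mem_range.2 hi)
    rw [Bool.and_eq_true] at h
    refine ⟨_, of_decide_eq_true h.1, ?_⟩
    refine IsM.unique M ((isM_sgen M hj).mul M (isM_sEl M hi)) ?_
    rw [eq_of_beq h.2]
    exact isM_sEl M (of_decide_eq_true h.1)
  have h1 : (1 : H) ∈ T := ⟨iPos.getD 0 0, iPos_lt (by norm_num), (iEl_zero M).symm⟩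
  let B : Subgroup H :=
    { carrier := {g | ∀ y ∈ T, g * y ∈ T}
      mul_mem' := fun {a b} ha hb y hy => by rw [mul_assoc]; exact ha _ (hb y hy)
      one_mem' := fun y hy => by rwa [one_mul]
      inv_mem' := fun {a} ha => by
        have hpow : ∀ n : ℕ, ∀ y ∈ T, a ^ n * y ∈ T := fun n => by
          induction n with
          | zero => intro y hy; rwa [pow_zero, one_mul]
          | succ n ih => intro y hy; rw [pow_succ, mul_assoc]; exact ih _ (ha y hy)
        have hp : 0 < orderOf a := orderOf_pos a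
        have : a⁻¹ = a ^ (orderOf a - 1) := by
          refine inv_eq_of_mul_eq_one_right ?_
          rw [← pow_succ', Nat.sub_add_cancel hp, pow_orderOf_eq_one]
        intro y hy; rw [this]; exact hpow _ y hy }
  have hB : syl M ≤ B := (Subgroup.closure_le _).2 (by rintro _ ⟨j, rfl⟩; exact hstep j)
  have := hB hx 1 h1
  rwa [mul_one] at this

theorem sKeys_strict {i j : ℕ} (hij : i < j) (hj : j < 256) : sKeys.getD i 0 < sKeys.getD j 0 := by
  induction j with
  | zero => omega
  | succ j ih =>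
    have h : sKeys.getD j 0 < sKeys.getD (j + 1) 0 :=
      of_decide_eq_true (List.all_eq_true.1 sKeys_incr j (List.mem_range.2 (by omega)))
    rcases Nat.lt_or_eq_of_le (Nat.le_of_lt_succ hij) with h' | h'
    · exact (ih h' (by omega)).trans h
    · exact h' ▸ h

theorem sEl_inj {i j : ℕ} (hi : i < 256) (hj : j < 256) (h : sEl M i = sEl M j) : i = j := by
  have e : sM i = sM j := IsM.eq_mat M (isM_sEl M hi) (h ▸ isM_sEl M hj) (length_unp _) (length_unp _)
  have e' := unp_inj (of_decide_eq_true (List.all_eq_true.1 sKeys_lt i (List.mem_range.2 hi)))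
    (of_decide_eq_true (List.all_eq_true.1 sKeys_lt j (List.mem_range.2 hj))) e
  rcases Nat.lt_trichotomy i j with h' | h' | h'
  · exact absurd e' (ne_of_lt (sKeys_strict h' hj))
  · exact h'
  · exact absurd e'.symm (ne_of_lt (sKeys_strict h' hi))

theorem card_syl : Nat.card (syl M) = 256 := by
  have hb : Function.Bijective (fun i : Fin 256 => (⟨sEl M i.val, sEl_mem M i.val⟩ : syl M)) := by
    refine ⟨fun i j h => Fin.ext (sEl_inj M i.2 j.2 (congrArg Subtype.val h)), fun x => ?_⟩
    obtain ⟨i, hi, e⟩ := mem_syl M x.2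
    exact ⟨⟨i, hi⟩, Subtype.ext e.symm⟩
  rw [← Nat.card_congr (Equiv.ofBijective _ hb), Nat.card_fin]

/-- Every `2`-subgroup is conjugate into the Sylow subgroup. -/
theorem exists_conj_syl (K : Subgroup H) (hK : IsPGroup 2 K) :
    ∃ k : H, ∀ x ∈ K, k * x * k⁻¹ ∈ syl M := by
  have := finite_H M
  have : Fact (Nat.Prime 2) := ⟨Nat.prime_two⟩
  have hS : IsPGroup 2 (syl M) := IsPGroup.of_card (n := 8) (by rw [card_syl M]; norm_num)
  obtain ⟨P, hP⟩ := hS.exists_le_sylow
  obtain ⟨n, hn⟩ := IsPGroup.iff_card.1 P.2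
  have hn8 : n ≤ 8 := by
    by_contra hc
    have h2 : 2 ^ 9 ∣ Nat.card H :=
      ((pow_dvd_pow 2 (by omega : 9 ≤ n)).trans (dvd_of_eq hn.symm)).trans (Subgroup.card_subgroup_dvd_card _)
    rw [M.gens.card] at h2
    norm_num at h2
  have hPeq : syl M = (P : Subgroup H) := Subgroup.eq_of_le_of_card_ge hP (by
    rw [card_syl M, hn]
    exact (Nat.pow_le_pow_right (by norm_num) hn8).trans (by norm_num))
  obtain ⟨Q, hQ⟩ := hK.exists_le_sylow
  obtain ⟨k, hk⟩ := MulAction.exists_smul_eq H Q P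
  refine ⟨k, fun x hx => ?_⟩
  rw [hPeq, ← hk]
  show k * x * k⁻¹ ∈ ((k • Q : Sylow 2 H) : Subgroup H)
  rw [Sylow.coe_subgroup_smul]
  exact Subgroup.smul_mem_pointwise_smul x (MulAut.conj k) _ (hQ hx)

theorem iEl_inj {i j : ℕ} (hi : i < 72) (hj : j < 72) (h : iEl M i = iEl M j) : i = j := by
  have e := sEl_inj M (iPos_lt hi) (iPos_lt hj) h
  have h1 := List.all_eq_true.1 iPos_spec i (List.mem_range.2 hi)
  rw [Bool.and_eq_true] at h1
  have h2 := List.all_eq_true.1 h1.2 j (List.mem_range.2 hj)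
  rw [Bool.or_eq_true] at h2
  rcases h2 with h2 | h2
  · exact Nat.eq_of_beq_eq_true h2
  · rw [e, Bool.not_eq_true', ← Bool.not_eq_true] at h2
    exact absurd (Nat.beq_refl _) h2

theorem exists_iEl {x : H} (hx : x ∈ syl M) (hx2 : x * x = 1) : ∃ j, j < 72 ∧ x = iEl M j := by
  obtain ⟨i, hi, rfl⟩ := mem_syl M hx
  have h := List.all_eq_true.1 sInv_spec i (List.mem_range.2 hi)
  split at h
  · have e : cmp (sM i) (sM i) = idM := IsM.eq_mat M ((isM_sEl M hi).mul M (isM_sEl M hi))
      (hx2.symm ▸ IsM.one M) (by rw [length_cmp, sM, length_unp]) rfl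
    rw [e] at h
    simp at h
  · rw [Bool.and_eq_true] at h
    exact ⟨_, of_decide_eq_true h.1, by rw [iEl, Nat.eq_of_beq_eq_true h.2]⟩

theorem iEl_mul {j i : ℕ} (hj : j < 72) (hi : i < 72) (hc : iEl M j * iEl M i = iEl M i * iEl M j) :
    tb j i ≠ 255 ∧ tb j i < 72 ∧ iEl M j * iEl M i = iEl M (tb j i) := by
  have h := List.all_eq_true.1 (List.all_eq_true.1 iTab_spec j (List.mem_range.2 hj)) i (List.mem_range.2 hi)
  split at h
  · have e : cmp (iM j) (iM i) = cmp (iM i) (iM j) := IsM.eq_mat M ((isM_iEl M hj).mul M (isM_iEl M hi))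
      (hc ▸ (isM_iEl M hi).mul M (isM_iEl M hj)) (by rw [length_cmp, iM, sM, length_unp])
      (by rw [length_cmp, iM, sM, length_unp])
    rw [e] at h
    simp at h
  · rename_i hne
    rw [Bool.and_eq_true] at h
    have ht := of_decide_eq_true h.1
    refine ⟨by omega, ht, IsM.unique M ((isM_iEl M hj).mul M (isM_iEl M hi)) ?_⟩
    rw [eq_of_beq h.2]
    exact isM_iEl M ht

end CfsgLib.J4Type.Elem
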