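import Cfsg.Agent.Lib.J4Type.ElemSylow
import Cfsg.Agent.Lib.J4Type.ElemCertSpan
import Cfsg.Agent.Lib.J4Type.ElemCertMoved

/-!
Involutions and elementary abelian subgroups of the group of the model of Janko-four type (piece D1).
-/
set_option autoImplicit false
set_option linter.unusedSectionVars false

namespace CfsgLib.J4Type.Elem

open CfsgLib.FischerTwoFour (QRep)

variable {H V : Type*} [Group H] [AddCommGroup V] {R : QRep H V} (M : Model R)

theorem code_zero : M.code 0 = 0 := by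
  have h := M.code_add 0 0
  rw [add_zero] at h
  have : M.code 0 = M.code 0 ^^^ M.code 0 := h
  rwa [Nat.xor_self] at this

theorem code_moved (h : H) (v : V) :
    M.code (R.ρ h v + v) = Nat.xor (M.code (R.ρ h v)) (M.code v) := M.code_add _ _

/-- The members inside a subgroup. -/
noncomputable def idx (A : Subgroup H) : Finset ℕ := by
  classical exact (Finset.range 72).filter fun j => iEl M j ∈ A

theorem mem_idx {A : Subgroup H} {j : ℕ} : j ∈ idx M A ↔ j < 72 ∧ iEl M j ∈ A := by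
  classical simp [idx]

theorem card_idx {A : Subgroup H} (hA : A ≤ syl M) (h2 : ∀ a ∈ A, a * a = 1) :
    (idx M A).card = Nat.card A := by
  have hb : Function.Bijective
      (fun j : idx M A => (⟨iEl M j.1, (mem_idx M).1 j.2 |>.2⟩ : A)) := by
    refine ⟨fun i j h => Subtype.ext (iEl_inj M ((mem_idx M).1 i.2).1 ((mem_idx M).1 j.2).1
      (congrArg Subtype.val h)), fun x => ?_⟩
    obtain ⟨j, hj, e⟩ := exists_iEl M (hA x.2) (h2 _ x.2)
    exact ⟨⟨j, (mem_idx M).2 ⟨hj, e ▸ x.2⟩⟩, Subtype.ext e.symm⟩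
  rw [← Nat.card_congr (Equiv.ofBijective _ hb), Nat.card_eq_fintype_card, Fintype.card_coe]

theorem tb_eq (j i : ℕ) : tb j i = byteAt (iTab.getD j 0) i := rfl

theorem mem?_iff {s : List ℕ} {i : ℕ} : mem? s i = true ↔ i ∈ s := by
  simp only [mem?, List.any_eq_true]
  exact ⟨fun ⟨x, hx, e⟩ => Nat.eq_of_beq_eq_true e ▸ hx, fun h => ⟨i, h, Nat.beq_refl i⟩⟩

theorem step_mem {p : List ℕ × ℕ} {j : ℕ} (hj : j < 72) (hok : okExt p.1 p.2 (iTab.getD j 0) j = true) :
    (p.1 ++ p.1.map (byteAt (iTab.getD j 0)), j) ∈ step p := by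
  have hlen : iTab.length = 72 := rfl
  refine List.mem_filterMap.2 ⟨(iTab.getD j 0, j), ?_, by rw [if_pos hok]⟩
  rw [List.mem_zipIdx_iff_getElem?, List.getD_eq_getElem _ _ (hlen ▸ hj), List.getElem?_eq_getElem]

/-- The search finds the canonical chain of every elementary abelian subgroup. -/
theorem exists_span {A : Subgroup H} (hA : A ≤ syl M) (h2 : ∀ a ∈ A, a * a = 1) :
    ∀ k, 2 ^ k ≤ Nat.card A → ∃ p ∈ spans k, (∀ x ∈ p.1, x ∈ idx M A) ∧
      (∀ x ∈ idx M A, x ≤ p.2 → x ∈ p.1) ∧ p.1.length = 2 ^ k := by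
  classical
  have hcomm : ∀ a ∈ A, ∀ b ∈ A, a * b = b * a := fun a ha b hb => by
    have hab := h2 _ (mul_mem ha hb)
    calc a * b = a * (a * b * (a * b)) * b := by rw [hab, mul_one]
      _ = (a * a) * (b * a) * (b * b) := by group
      _ = b * a := by rw [h2 _ ha, h2 _ hb, one_mul, mul_one]
  intro k
  induction k with
  | zero =>
    intro _
    have h0 : (0 : ℕ) ∈ idx M A := (mem_idx M).2 ⟨by norm_num, by rw [iEl_zero]; exact one_mem _⟩
    exact ⟨([0], 0), List.mem_singleton_self _, fun x hx => by rwa [List.mem_singleton.1 hx],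
      fun x _ hx => List.mem_singleton.2 (Nat.le_zero.1 hx), rfl⟩
  | succ k ih =>
    intro hk
    have hlt : 2 ^ k < 2 ^ (k + 1) := Nat.pow_lt_pow_right (by norm_num) (Nat.lt_succ_self k)
    obtain ⟨⟨s, l⟩, hp, hsub, hmin, hlen⟩ := ih (hlt.le.trans hk)
    simp only at hsub hmin hlen
    have hex : ∃ y, y ∈ idx M A ∧ y ∉ s := by
      by_contra hc
      have hle : (idx M A).card ≤ s.toFinset.card := Finset.card_le_card fun y hy =>
        List.mem_toFinset.2 (by_contra fun hys => hc ⟨y, hy, hys⟩)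
      have := s.toFinset_card_le
      rw [card_idx M hA h2] at hle
      omega
    set j := Nat.find hex with hjdef
    obtain ⟨hjA, hjs⟩ := Nat.find_spec hex
    have hjmin : ∀ x, x ∈ idx M A → x < j → x ∈ s := fun x hx hxj =>
      by_contra fun hxs => Nat.find_min hex hxj ⟨hx, hxs⟩
    obtain ⟨hj72, hjm⟩ := (mem_idx M).1 hjA
    have hprod : ∀ i ∈ s, tb j i ≠ 255 ∧ tb j i ∈ idx M A := fun i hi => by
      obtain ⟨hi72, him⟩ := (mem_idx M).1 (hsub i hi)
      obtain ⟨h1, h3, h4⟩ := iEl_mul M hj72 hi72 (hcomm _ hjm _ him)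
      exact ⟨h1, (mem_idx M).2 ⟨h3, h4 ▸ mul_mem hjm him⟩⟩
    have hok : okExt s l (iTab.getD j 0) j = true := by
      simp only [okExt, Bool.and_eq_true, Bool.or_eq_true, Bool.not_eq_true', List.all_eq_true]
      refine ⟨⟨Nat.ble_eq_true_of_le (Nat.lt_of_not_le fun h => hjs (hmin j hjA h)), ?_⟩, fun i hi => ?_⟩
      · rw [← Bool.not_eq_true, mem?_iff]; exact hjs
      · rw [← tb_eq]
        obtain ⟨h1, h3⟩ := hprod i hi
        refine ⟨?_, ?_⟩
        · rw [← Bool.not_eq_true]; exact fun h => h1 (Nat.eq_of_beq_eq_true h)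
        · by_cases hle : j ≤ tb j i
          · exact Or.inl (Nat.ble_eq_true_of_le hle)
          · exact Or.inr (mem?_iff.2 (hjmin _ h3 (Nat.lt_of_not_le hle)))
    refine ⟨_, List.mem_flatMap.2 ⟨(s, l), hp, step_mem hj72 hok⟩, ?_, ?_, ?_⟩
    · intro x hx
      rcases List.mem_append.1 hx with hx | hx
      · exact hsub x hx
      · obtain ⟨i, hi, rfl⟩ := List.mem_map.1 hx
        exact (hprod i hi).2
    · intro x hx hxj
      rcases Nat.lt_or_eq_of_le hxj with h | h
      · exact List.mem_append_left _ (hjmin x hx h)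
      · have h0 : (0 : ℕ) ∈ s := by
          refine hmin 0 ((mem_idx M).2 ⟨by norm_num, by rw [iEl_zero]; exact one_mem _⟩) (Nat.zero_le _)
        refine List.mem_append_right _ (List.mem_map.2 ⟨0, h0, ?_⟩)
        obtain ⟨-, h3, h4⟩ := iEl_mul M hj72 (by norm_num : 0 < 72) (by rw [iEl_zero, mul_one, one_mul])
        rw [iEl_zero, mul_one] at h4
        exact h ▸ (iEl_inj M hj72 h3 h4).symm
    · simp [hlen, pow_succ, mul_two]

/-- Exactly the members listed, when the sizes agree. -/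
theorem mem_of_span {A : Subgroup H} (hA : A ≤ syl M) (h2 : ∀ a ∈ A, a * a = 1) {s : List ℕ}
    (hs : ∀ x ∈ s, x ∈ idx M A) (hnd : s.Nodup) (hc : Nat.card A ≤ s.length) {a : H} :
    a ∈ A ↔ ∃ i ∈ s, iEl M i = a := by
  classical
  have e : s.toFinset = idx M A := Finset.eq_of_subset_of_card_le
    (fun x hx => hs x (List.mem_toFinset.1 hx))
    (by rw [card_idx M hA h2, List.toFinset_card_of_nodup hnd]; exact hc)
  constructor
  · intro ha
    obtain ⟨j, hj, rfl⟩ := exists_iEl M (hA ha) (h2 _ ha)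
    refine ⟨j, List.mem_toFinset.1 ?_, rfl⟩
    rw [e]
    exact (mem_idx M).2 ⟨hj, ha⟩
  · rintro ⟨i, hi, rfl⟩
    exact ((mem_idx M).1 (hs i hi)).2

/-- A vector with a given code. -/
noncomputable def vec {n : ℕ} (h : n < 4096) : V := (M.code_surj n h).choose

theorem code_vec {n : ℕ} (h : n < 4096) : M.code (vec M h) = n := (M.code_surj n h).choose_spec

include R in
theorem finite_V : Finite V := Nat.finite_of_card_ne_zero (by rw [R.card_V]; norm_num)

/-- A bound on common fixed vectors from a space of moved vectors. -/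
theorem ncard_fix_mul_le {s B : List ℕ} (hs : ∀ i ∈ s, i < 72) (hB : ∀ v ∈ B, v < 4096)
    (hm : movedBy s B = true) :
    {v : V | ∀ i ∈ s, R.ρ (iEl M i) v = v}.ncard * 2 ^ B.length ≤ 4096 := by
  classical
  have := finite_V (R := R)
  let F : Set V := {v | ∀ i ∈ s, R.ρ (iEl M i) v = v}
  let f : F × Fin (2 ^ B.length) → V := fun p => p.1.1 + vec M (app_lt B hB p.2.val)
  have hf : Function.Injective f := by
    rintro ⟨⟨v, hv⟩, c⟩ ⟨⟨v', hv'⟩, c'⟩ h
    simp only [f] at h
    set x := vec M (app_lt B hB c.val)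
    set x' := vec M (app_lt B hB c'.val)
    have hxx : x + x' = v + v' := by
      calc x + x' = (v + x) + (v + x') := by rw [add_add_add_comm, R.two v, zero_add]
        _ = (v' + x') + (v + x') := by rw [h]
        _ = v + v' := by rw [add_add_add_comm, R.two x', add_zero, add_comm]
    have hlt : Nat.xor c.val c'.val < 2 ^ B.length := Nat.xor_lt_two_pow c.2 c'.2
    have hcode : M.code (x + x') = app B (Nat.xor c.val c'.val) := by
      rw [M.code_add, code_vec, code_vec, app_xor]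
    have hm' := List.all_eq_true.1 hm _ (List.mem_range.2 hlt)
    rw [Bool.or_eq_true] at hm'
    have hc0 : Nat.xor c.val c'.val = 0 := by
      rcases hm' with h0 | h0
      · exact Nat.eq_of_beq_eq_true h0
      · obtain ⟨i, hi, hi2⟩ := List.any_eq_true.1 h0
        have hfix : R.ρ (iEl M i) (x + x') = x + x' := by rw [hxx, map_add, hv i hi, hv' i hi]
        have e := congrArg M.code hfix
        rw [isM_iEl M (hs i hi), hcode] at e
        rw [e, Bool.not_eq_true', ← Bool.not_eq_true] at hi2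
        exact absurd (Nat.beq_refl _) hi2
    have hcc : c = c' := Fin.ext (Nat.xor_eq_zero_iff.1 hc0)
    subst hcc
    exact Prod.ext (Subtype.ext (add_right_cancel h)) rfl
  have := Nat.card_le_card_of_injective f hf
  rwa [Nat.card_prod, Nat.card_fin, R.card_V, Nat.card_coe_set_eq] at this

theorem fix_le_of_five {A : Subgroup H} (hA : A ≤ syl M) (h2 : ∀ a ∈ A, a * a = 1)
    (hc : 32 ≤ Nat.card A) : {v : V | ∀ a ∈ A, R.ρ a v = v}.ncard ≤ 16 := by
  have := finite_V (R := R)
  obtain ⟨p, hp, hsub, -, -⟩ := exists_span M hA h2 5 hc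
  have h5 := List.all_eq_true.1 spans_five p hp
  rw [Bool.and_eq_true] at h5
  have hs : p.1 = five := eq_of_beq h5.1
  have hm := five_moved
  simp only [Bool.and_eq_true, beq_iff_eq, List.all_eq_true, decide_eq_true_eq] at hm
  have hl := members_lt
  simp only [Bool.and_eq_true, List.all_eq_true, decide_eq_true_eq, List.mem_append] at hl
  have h := ncard_fix_mul_le M (fun i hi => hl.1 i (Or.inr hi)) hm.1.1 hm.2
  rw [hm.1.2] at h
  have hsubset : {v : V | ∀ a ∈ A, R.ρ a v = v} ⊆ {v | ∀ i ∈ five, R.ρ (iEl M i) v = v} :=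
    fun v hv i hi => hv _ ((mem_idx M).1 (hsub i (hs ▸ hi))).2
  exact le_trans (Set.ncard_le_ncard hsubset (Set.toFinite _))
    (Nat.le_of_mul_le_mul_right (by simpa using h) (by norm_num : 0 < 2 ^ 8))

/-- The elementary subgroup of order `16` of a totally singular fixed space. -/
theorem sixteen_cases {A : Subgroup H} (hA : A ≤ syl M) (h2 : ∀ a ∈ A, a * a = 1)
    (hc : Nat.card A = 16) (hfix : 64 ≤ {v : V | ∀ a ∈ A, R.ρ a v = v}.ncard) :
    (∀ a, a ∈ A ↔ ∃ i ∈ rMem, iEl M i = a) ∧ {v : V | ∀ a ∈ A, R.ρ a v = v}.ncard ≤ 64 := by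
  have := finite_V (R := R)
  obtain ⟨p, hp, hsub, -, hlen⟩ := exists_span M hA h2 4 (by rw [hc]; norm_num)
  have h4 := List.all_eq_true.1 spans_four p hp
  simp only [Bool.and_eq_true, Bool.or_eq_true, beq_iff_eq, decide_eq_true_eq, List.any_eq_true] at h4
  obtain ⟨⟨-, hnd⟩, hcase⟩ := h4
  have hmem : ∀ {a}, a ∈ A ↔ ∃ i ∈ p.1, iEl M i = a := fun {a} =>
    mem_of_span M hA h2 hsub hnd (by rw [hlen, hc]; norm_num)
  have hsubset : {v : V | ∀ a ∈ A, R.ρ a v = v} ⊆ {v | ∀ i ∈ p.1, R.ρ (iEl M i) v = v} :=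
    fun v hv i hi => hv _ (hmem.2 ⟨i, hi, rfl⟩)
  have hl := members_lt
  simp only [Bool.and_eq_true, List.all_eq_true, decide_eq_true_eq, List.mem_append] at hl
  rcases hcase with e | ⟨q, hq, e⟩
  · refine ⟨fun a => e ▸ hmem, (Set.ncard_le_ncard hsubset (Set.toFinite _)).trans ?_⟩
    rw [e]
    have h := ncard_fix_mul_le M (s := rMem) (fun i hi => hl.1 i (Or.inl hi))
      (B := [64, 128, 256, 512, 1024, 2048]) (by decide) rMem_moved
    exact Nat.le_of_mul_le_mul_right (by simpa using h) (by norm_num : 0 < 2 ^ 6)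
  · exfalso
    have hq' := List.all_eq_true.1 four_moved q hq
    simp only [Bool.and_eq_true, beq_iff_eq, List.all_eq_true, decide_eq_true_eq] at hq'
    have h := ncard_fix_mul_le M (hl.2 q hq) hq'.1.1 hq'.2
    rw [hq'.1.2, e] at h
    have := Set.ncard_le_ncard hsubset (Set.toFinite _)
    omega

theorem rep_type {j : ℕ} (hj : j = 1 ∨ j = 2) {h : H} (hh : IsM M h (reps.getD j [])) :
    (fixSet R h).ncard = 64 ∧ commSet R h = fixSet R h ∧
      ∀ v ∈ fixSet R h, ∃ c, c < 64 ∧ M.code v = Nat.xor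
        (app (reps.getD j []) (app (repMoved.getD j []) c)) (app (repMoved.getD j []) c) := by
  classical
  have := finite_V (R := R)
  have hr := List.all_eq_true.1 rep_moved j (by rcases hj with rfl | rfl <;> simp)
  simp only [Bool.and_eq_true, Bool.or_eq_true, beq_iff_eq, List.all_eq_true, decide_eq_true_eq,
    List.mem_range] at hr
  obtain ⟨⟨hlen, hsq⟩, hmv⟩ := hr
  set B := repMoved.getD j [] with hB
  set m := reps.getD j [] with hm
  have hsq' : h * h = 1 := (hh.mul M hh).unique M (hsq ▸ IsM.one M)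
  have hxm : ∀ c : Fin 64, app B c.val < 4096 := fun c => (hmv c.val c.2).1
  let x : Fin 64 → V := fun c => vec M (hxm c)
  have hmove : ∀ c : Fin 64, c.val ≠ 0 → R.ρ h (x c) ≠ x c := fun c hc e => by
    have e' := congrArg M.code e
    rw [hh, code_vec] at e'
    rcases (hmv c.val c.2).2 with h0 | h0
    · exact hc (Nat.eq_of_beq_eq_true h0)
    · rw [e', Bool.not_eq_true', ← Bool.not_eq_true] at h0
      exact h0 (Nat.beq_refl _)
  have hxadd : ∀ c c' : Fin 64, x c + x c' = x ⟨Nat.xor c.val c'.val, Nat.xor_lt_two_pow (n := 6) c.2 c'.2⟩ :=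
    fun c c' => M.code_inj _ _ (by rw [M.code_add, code_vec, code_vec, code_vec, app_xor])
  have key : ∀ c c' : Fin 64, R.ρ h (x c + x c') = x c + x c' → c = c' := fun c c' e => by
    by_contra hne
    rw [hxadd] at e
    exact hmove _ (fun h0 => hne (Fin.ext (Nat.xor_eq_zero_iff.1 h0))) e
  have hsub : commSet R h ⊆ fixSet R h := by
    rintro _ ⟨v, rfl⟩
    show R.ρ h (R.ρ h v + v) = R.ρ h v + v
    rw [map_add, ← R.mul_apply, hsq', R.one_apply, add_comm]
  have hfixle : (fixSet R h).ncard * 64 ≤ 4096 := by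
    let f : fixSet R h × Fin 64 → V := fun p => p.1.1 + x p.2
    have hf : Function.Injective f := by
      rintro ⟨⟨v, hv⟩, c⟩ ⟨⟨v', hv'⟩, c'⟩ e
      simp only [f] at e
      have hxx : x c + x c' = v + v' := by
        calc x c + x c' = (v + x c) + (v + x c') := by rw [add_add_add_comm, R.two v, zero_add]
          _ = (v' + x c') + (v + x c') := by rw [e]
          _ = v + v' := by rw [add_add_add_comm, R.two (x c'), add_zero, add_comm]
      obtain rfl := key c c' (by rw [hxx, map_add, show R.ρ h v = v from hv, show R.ρ h v' = v' from hv'])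
      exact Prod.ext (Subtype.ext (add_right_cancel e)) rfl
    have := Nat.card_le_card_of_injective f hf
    rwa [Nat.card_prod, Nat.card_fin, R.card_V, Nat.card_coe_set_eq] at this
  let im : Fin 64 → V := fun c => R.ρ h (x c) + x c
  have him : Function.Injective im := fun c c' e => key c c' (by
    simp only [im] at e
    rw [map_add]
    calc R.ρ h (x c) + R.ρ h (x c') = (R.ρ h (x c) + x c) + x c + R.ρ h (x c') := by
          rw [add_assoc (R.ρ h (x c)), R.two, add_zero]
      _ = (R.ρ h (x c') + x c') + x c + R.ρ h (x c') := by rw [e]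
      _ = (R.ρ h (x c') + R.ρ h (x c')) + (x c + x c') := by abel
      _ = x c + x c' := by rw [R.two, zero_add])
  have himsub : Set.range im ⊆ fixSet R h := fun v hv => hsub (by obtain ⟨c, rfl⟩ := hv; exact ⟨x c, rfl⟩)
  have himcard : (Set.range im).ncard = 64 := by
    rw [← Nat.card_coe_set_eq, Nat.card_range_of_injective him, Nat.card_fin]
  have heq : Set.range im = fixSet R h :=
    Set.eq_of_subset_of_ncard_le himsub (by omega) (Set.toFinite _)
  have hcard : (fixSet R h).ncard = 64 := by rw [← heq, himcard]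
  refine ⟨hcard, Set.Subset.antisymm hsub (heq ▸ (by rintro _ ⟨c, rfl⟩; exact ⟨x c, rfl⟩)), fun v hv => ?_⟩
  rw [← heq] at hv
  obtain ⟨c, rfl⟩ := hv
  exact ⟨c.val, c.2, by rw [code_moved, hh, code_vec]⟩

theorem conj_fix (k h : H) (v : V) : R.ρ (k * h * k⁻¹) (R.ρ k v) = R.ρ k (R.ρ h v) := by
  simp only [← R.mul_apply]
  congr 2
  group

theorem fixSet_conj (k h : H) : fixSet R (k * h * k⁻¹) = (R.ρ k) '' fixSet R h := by
  ext v
  constructor
  · intro hv
    refine ⟨R.ρ k⁻¹ v, ?_, by rw [← R.mul_apply, mul_inv_cancel, R.one_apply]⟩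
    show R.ρ h (R.ρ k⁻¹ v) = R.ρ k⁻¹ v
    apply R.inj k
    rw [← conj_fix, ← R.mul_apply k, mul_inv_cancel, R.one_apply]
    exact hv
  · rintro ⟨u, hu, rfl⟩
    exact (conj_fix k h u).trans (congrArg _ hu)

theorem commSet_conj (k h : H) : commSet R (k * h * k⁻¹) = (R.ρ k) '' commSet R h := by
  ext v
  constructor
  · rintro ⟨u, rfl⟩
    refine ⟨R.ρ h (R.ρ k⁻¹ u) + R.ρ k⁻¹ u, ⟨_, rfl⟩, ?_⟩
    rw [map_add, ← conj_fix, ← R.mul_apply k, mul_inv_cancel, R.one_apply]
  · rintro ⟨_, ⟨u, rfl⟩, rfl⟩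
    exact ⟨R.ρ k u, by rw [map_add, ← conj_fix]⟩

theorem typeB_conj {h : H} (hh : IsTypeB R h) (k : H) : IsTypeB R (k * h * k⁻¹) where
  card_fix := by rw [fixSet_conj, Set.ncard_image_of_injective _ (fun _ _ => R.inj k), hh.card_fix]
  comm_eq := by rw [commSet_conj, fixSet_conj, hh.comm_eq]
  sing := by rw [fixSet_conj]; rintro _ ⟨u, hu, rfl⟩; rw [R.q_inv]; exact hh.sing u hu

theorem typeC_conj {h : H} (hh : IsTypeC R h) (k : H) : IsTypeC R (k * h * k⁻¹) where
  card_fix := by rw [fixSet_conj, Set.ncard_image_of_injective _ (fun _ _ => R.inj k), hh.card_fix]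
  comm_eq := by rw [commSet_conj, fixSet_conj, hh.comm_eq]
  nonsing := by
    obtain ⟨u, hu, hq⟩ := hh.nonsing
    exact ⟨R.ρ k u, by rw [fixSet_conj]; exact ⟨u, hu, rfl⟩, by rw [R.q_inv]; exact hq⟩

/-- The conjugate of a subgroup. -/
def cj (A : Subgroup H) (k : H) : Subgroup H := A.map (MulAut.conj k).toMonoidHom

theorem mem_cj {A : Subgroup H} {k a : H} : a ∈ cj A k ↔ k⁻¹ * a * k ∈ A := by
  constructor
  · rintro ⟨b, hb, rfl⟩
    simpa [mul_assoc] using hb
  · exact fun h => ⟨_, h, by simp [mul_assoc]⟩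

theorem cj_mem {A : Subgroup H} {k a : H} (h : a ∈ A) : k * a * k⁻¹ ∈ cj A k := ⟨a, h, rfl⟩

theorem card_cj (A : Subgroup H) (k : H) : Nat.card (cj A k) = Nat.card A :=
  Subgroup.card_map_of_injective (MulAut.conj k).injective

theorem sq_cj {A : Subgroup H} (h2 : ∀ a ∈ A, a * a = 1) (k : H) : ∀ a ∈ cj A k, a * a = 1 := by
  intro a ha
  have := h2 _ (mem_cj.1 ha)
  calc a * a = k * ((k⁻¹ * a * k) * (k⁻¹ * a * k)) * k⁻¹ := by group
    _ = 1 := by rw [this]; group

theorem fix_cj (A : Subgroup H) (k : H) :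
    {v : V | ∀ a ∈ cj A k, R.ρ a v = v} = (R.ρ k) '' {v : V | ∀ a ∈ A, R.ρ a v = v} := by
  ext v
  constructor
  · intro hv
    refine ⟨R.ρ k⁻¹ v, fun a ha => ?_, by rw [← R.mul_apply, mul_inv_cancel, R.one_apply]⟩
    apply R.inj k
    rw [← conj_fix, ← R.mul_apply k, mul_inv_cancel, R.one_apply]
    exact hv _ (cj_mem ha)
  · rintro ⟨u, hu, rfl⟩ _ ⟨a, ha, rfl⟩
    exact (conj_fix k a u).trans (congrArg _ (hu a ha))

theorem isPGroup_of_sq {A : Subgroup H} (h2 : ∀ a ∈ A, a * a = 1) : IsPGroup 2 A :=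
  fun a => ⟨1, Subtype.ext (by rw [pow_one, SubmonoidClass.coe_pow, sq]; exact h2 _ a.2)⟩

theorem exists_cj_syl {A : Subgroup H} (h2 : ∀ a ∈ A, a * a = 1) : ∃ k, cj A k ≤ syl M := by
  obtain ⟨k, hk⟩ := exists_conj_syl M A (isPGroup_of_sq h2)
  exact ⟨k, by rintro _ ⟨a, ha, rfl⟩; exact hk a ha⟩

theorem low_add {P : V → Prop} (h : ∀ e, e < 6 → ∀ v, M.code v = 2 ^ e → P v) (h0 : P 0)
    (hadd : ∀ u v, P u → P v → P (u + v)) (v : V) (hv : M.code v < 64) : P v := by
  have key : ∀ k, k ≤ 6 → ∀ v, M.code v < 2 ^ k → P v := by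
    intro k
    induction k with
    | zero =>
      intro _ v hv
      have : M.code v = M.code 0 := by rw [code_zero]; simpa using hv
      rw [M.code_inj _ _ this]; exact h0
    | succ k ih =>
      intro hk v hv
      have ih' := ih (by omega)
      by_cases hb : (M.code v).testBit k
      · obtain ⟨w, hw⟩ := M.code_surj (2 ^ k) (Nat.pow_lt_pow_right (n := 12) (by norm_num) (by omega))
        have hlt : M.code v ^^^ 2 ^ k < 2 ^ k := by
          refine Nat.lt_pow_two_of_testBit _ fun i hi => ?_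
          rw [Nat.testBit_xor, Nat.testBit_two_pow]
          rcases Nat.eq_or_lt_of_le hi with rfl | hi'
          · simp [hb]
          · rw [Nat.testBit_eq_false_of_lt (lt_of_lt_of_le hv (Nat.pow_le_pow_right (by norm_num) hi'))]
            simp [hi'.ne]
        have e : M.code (v + w) = M.code v ^^^ 2 ^ k := by rw [M.code_add, hw]; rfl
        have h1 := hadd _ _ (ih' _ (e ▸ hlt)) (h k (by omega) w hw)
        rwa [add_assoc, R.two, add_zero] at h1
      · refine ih' v (Nat.lt_pow_two_of_testBit _ fun i hi => ?_)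
        rcases Nat.eq_or_lt_of_le hi with rfl | hi'
        · simpa using hb
        · exact Nat.testBit_eq_false_of_lt (lt_of_lt_of_le hv (Nat.pow_le_pow_right (by norm_num) hi'))
  exact key 6 le_rfl v hv

theorem reps_lt : ∀ l, l < 3 → (reps.getD l []).all (fun c => decide (c < 4096)) = true := by
  decide +kernel

end CfsgLib.J4Type.Elem

namespace CfsgLib.J4Type.Model

open Elem
open CfsgLib.FischerTwoFour (QRep)

variable {H V : Type*} [Group H] [AddCommGroup V] {R : QRep H V} (M : Model R)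

include M

theorem invol_cases {h : H} (h2 : h * h = 1) (h1 : h ≠ 1) :
    M.IsInner h ∨ IsTypeB R h ∨ IsTypeC R h := by
  have hA : ∀ a ∈ Subgroup.zpowers h, a * a = 1 := by
    rintro _ ⟨n, rfl⟩
    rw [← zpow_add, ← two_mul, zpow_mul, zpow_two, h2, one_zpow]
  obtain ⟨k, hk⟩ := exists_cj_syl M hA
  set s := k * h * k⁻¹ with hs
  have hs2 : s * s = 1 := by
    calc s * s = k * (h * h) * k⁻¹ := by rw [hs]; group
      _ = 1 := by rw [h2]; group
  obtain ⟨j, hj, he⟩ := exists_iEl M (hk (cj_mem (Subgroup.mem_zpowers h))) hs2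
  have hj0 : j ≠ 0 := by
    rintro rfl
    rw [iEl_zero] at he
    exact h1 (conj_eq_one_iff.1 he)
  obtain ⟨j, rfl⟩ := Nat.exists_eq_succ_of_ne_zero hj0
  have hc := List.all_eq_true.1 iConj_spec j (List.mem_range.2 (by omega))
  simp only [Bool.and_eq_true, beq_iff_eq, List.all_eq_true, decide_eq_true_eq] at hc
  obtain ⟨⟨hj3, hw⟩, hmat⟩ := hc
  set w := (iConj.getD j (0, [])).2
  set l := (iConj.getD j (0, [])).1
  have hK := isM_wordE M (w := w) hw
  set K := wordE M w
  have hr : IsM M (K⁻¹ * s * K) (reps.getD l []) := by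
    intro v
    have hcols : ∀ c ∈ reps.getD l [], c < 4096 := fun c hcm =>
      of_decide_eq_true (List.all_eq_true.1 (reps_lt l hj3) c hcm)
    have hlt := app_lt _ hcols (M.code v)
    set y := vec M hlt
    have hy : R.ρ (K⁻¹ * s * K) v = y := by
      apply R.inj K
      refine M.code_inj _ _ ?_
      rw [← R.mul_apply, show K * (K⁻¹ * s * K) = s * K by group, hK, code_vec, ← app_cmp, ← hmat,
        (he.symm ▸ (isM_iEl M hj).mul M hK : IsM M (s * K) _)]
    rw [hy, code_vec]
  have hh : h = (k⁻¹ * K) * (K⁻¹ * s * K) * (k⁻¹ * K)⁻¹ := by rw [hs]; group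
  rcases (show l = 0 ∨ l = 1 ∨ l = 2 by omega) with hl | hl | hl
  · refine Or.inl ⟨(k⁻¹ * K)⁻¹, ?_⟩
    have e : K⁻¹ * s * K = M.gens.r 0 :=
      hr.unique M (by rw [hl, rep_zero]; exact isM_gE M (i := 4) (by norm_num))
    have e' : (k⁻¹ * K)⁻¹ * h * (k⁻¹ * K)⁻¹⁻¹ = M.gens.r 0 := by rw [← e, hs]; group
    rw [e']
    exact Subgroup.subset_closure ⟨0, rfl⟩
  · rw [hl] at hr
    obtain ⟨hc, he', hform⟩ := rep_type M (Or.inl rfl) hr
    refine Or.inr (Or.inl (hh ▸ typeB_conj ⟨hc, he', fun v hv => ?_⟩ _))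
    obtain ⟨c, hc, e⟩ := hform v hv
    have hq := List.all_eq_true.1 rep_sing c (List.mem_range.2 hc)
    rw [Bool.not_eq_true', ← e] at hq
    rw [M.code_q, hq]; rfl
  · rw [hl] at hr
    obtain ⟨hc, he', hform⟩ := rep_type M (Or.inr rfl) hr
    refine Or.inr (Or.inr (hh ▸ typeC_conj ⟨hc, he', ?_⟩ _))
    obtain ⟨c, hc64, hq⟩ := List.any_eq_true.1 rep_nonsing
    have hm := List.all_eq_true.1 rep_moved 2 (by simp)
    simp only [Bool.and_eq_true, List.all_eq_true, decide_eq_true_eq] at hm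
    have hcl := (hm.2 c hc64).1
    set x := vec M hcl
    refine ⟨R.ρ (K⁻¹ * s * K) x + x, ?_, ?_⟩
    · rw [← he']; exact ⟨x, rfl⟩
    · rw [M.code_q, code_moved, hr, code_vec, if_pos hq]

theorem elem_card_le {A : Subgroup H} (h2 : ∀ a ∈ A, a * a = 1) : Nat.card A ≤ 32 := by
  have := finite_H M
  obtain ⟨k, hk⟩ := exists_cj_syl M h2
  rw [← card_cj A k]
  have : Fact (Nat.Prime 2) := ⟨Nat.prime_two⟩
  obtain ⟨n, hn⟩ := IsPGroup.iff_card.1 (isPGroup_of_sq (sq_cj h2 k))
  rw [hn]
  by_contra hc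
  have h6 : 6 ≤ n := by
    by_contra h
    exact hc ((Nat.pow_le_pow_right (by norm_num) (by omega : n ≤ 5)).trans (by norm_num))
  obtain ⟨p, hp, -⟩ := exists_span M hk (sq_cj h2 k) 6 (hn ▸ Nat.pow_le_pow_right (by norm_num) h6)
  have := spans_six
  rw [List.isEmpty_iff] at this
  rw [this] at hp
  exact absurd hp List.not_mem_nil

theorem elem_five_fix {A : Subgroup H} (h2 : ∀ a ∈ A, a * a = 1) (hc : Nat.card A = 32) :
    {v | ∀ a ∈ A, R.ρ a v = v}.ncard ≤ 16 := by
  obtain ⟨k, hk⟩ := exists_cj_syl M h2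
  have h := fix_le_of_five M hk (sq_cj h2 k) (by rw [card_cj, hc])
  rwa [fix_cj, Set.ncard_image_of_injective _ (fun _ _ => R.inj k)] at h

theorem elem_five_comm {A : Subgroup H} (h2 : ∀ a ∈ A, a * a = 1) (hc : Nat.card A = 32) {b : H}
    (hb : b ∈ A) (hB : IsTypeB R b) (S : AddSubgroup V) (hS : Nat.card S ≤ 4) :
    ∃ a ∈ A, ∃ v ∈ fixSet R b, R.ρ a v + v ∉ S := by
  classical
  have := finite_V (R := R)
  obtain ⟨k, hk⟩ := exists_cj_syl M h2
  by_contra hno
  push Not at hno
  obtain ⟨p, hp, hsub, -, -⟩ := exists_span M hk (sq_cj h2 k) 5 (by rw [card_cj, hc]; norm_num)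
  have h5 := List.all_eq_true.1 spans_five p hp
  simp only [Bool.and_eq_true, beq_iff_eq, decide_eq_true_eq] at h5
  obtain ⟨hs, hnd⟩ := h5
  obtain ⟨i, hi, hib⟩ := (mem_of_span M hk (sq_cj h2 k) hsub hnd
    (by rw [card_cj, hc, hs]; rfl)).1 (cj_mem (k := k) hb)
  have hb1 : b ≠ 1 := fun e => by
    have h := hB.card_fix
    rw [e, show fixSet R (1 : H) = Set.univ from Set.eq_univ_of_forall fun v => R.one_apply v,
      Set.ncard_univ, R.card_V] at h
    omega
  have hi0 : Nat.beq i 0 = false := by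
    rw [← Bool.not_eq_true]
    intro e
    rw [Nat.eq_of_beq_eq_true e, iEl_zero] at hib
    exact hb1 (conj_eq_one_iff.1 hib.symm)
  have h := List.all_eq_true.1 five_comm i (hs ▸ hi)
  rw [hi0, Bool.false_or, List.any_eq_true] at h
  obtain ⟨e, -, h⟩ := h
  simp only [Bool.and_eq_true, beq_iff_eq, List.all_eq_true, decide_eq_true_eq] at h
  obtain ⟨⟨⟨-, hlen⟩, hall⟩, hndv⟩ := h
  have hval : ∀ n : Fin e.2.length, ∃ u : S,
      M.code (R.ρ k (u : V)) = Nat.xor (app (iM e.2[n.val].1) e.2[n.val].2) e.2[n.val].2 := by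
    intro n
    have hm := hall e.2[n.val] (List.getElem_mem n.2)
    have hlt : e.2[n.val].2 < 4096 := hm.1.2
    have hidx := (mem_idx M).1 (hsub _ (hs ▸ mem?_iff.1 hm.1.1))
    set a := k⁻¹ * iEl M e.2[n.val].1 * k with ha
    have haA : a ∈ A := mem_cj.1 hidx.2
    set v := R.ρ k⁻¹ (vec M hlt) with hv
    have hkv : R.ρ k v = vec M hlt := by rw [hv, ← R.mul_apply, mul_inv_cancel, R.one_apply]
    have hka : k * a * k⁻¹ = iEl M e.2[n.val].1 := by rw [ha]; group
    have hfix : v ∈ fixSet R b := by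
      apply R.inj k
      rw [← conj_fix, hkv, ← hib]
      refine M.code_inj _ _ ?_
      rw [isM_iEl M ((mem_idx M).1 (hsub i (hs ▸ hi))).1, code_vec]
      exact Nat.eq_of_beq_eq_true hm.2
    refine ⟨⟨_, hno a haA v hfix⟩, ?_⟩
    show M.code (R.ρ k (R.ρ a v + v)) = _
    rw [map_add, ← conj_fix, hkv, hka, M.code_add, isM_iEl M hidx.1, code_vec]
  choose f hf using hval
  have hinj : Function.Injective f := fun m n hmn => by
    have e' := (hf m).symm.trans (hmn ▸ hf n)
    exact Fin.ext ((List.Nodup.getElem_inj_iff hndv (hi := by simp) (hj := by simp)).1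
      (by simpa using e'))
  have := Nat.card_le_card_of_injective f hinj
  rw [Nat.card_fin, hlen] at this
  omega

theorem singfix_le {A : Subgroup H} {S : Set V} (h2 : ∀ a ∈ A, a * a = 1) (hS : IsSingFix R A S) :
    Nat.card A ≤ 16 := by
  have := finite_H M
  have := finite_V (R := R)
  obtain ⟨k, hk⟩ := exists_cj_syl M h2
  rw [← card_cj A k]
  have : Fact (Nat.Prime 2) := ⟨Nat.prime_two⟩
  obtain ⟨n, hn⟩ := IsPGroup.iff_card.1 (isPGroup_of_sq (sq_cj h2 k))
  rw [hn]
  by_contra hc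
  have h5 : 5 ≤ n := by
    by_contra h
    exact hc ((Nat.pow_le_pow_right (by norm_num) (by omega : n ≤ 4)).trans (by norm_num))
  have h := fix_le_of_five M hk (sq_cj h2 k)
    (hn ▸ le_trans (by norm_num : 32 ≤ 2 ^ 5) (Nat.pow_le_pow_right (by norm_num) h5))
  rw [fix_cj, Set.ncard_image_of_injective _ (fun _ _ => R.inj k)] at h
  have := Set.ncard_le_ncard (show S ⊆ {v | ∀ a ∈ A, R.ρ a v = v} from fun v hv a ha => hS.fixed a ha v hv)
    (Set.toFinite _)
  rw [hS.card] at this
  omega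

theorem singfix_unique {A B : Subgroup H} {S S' : Set V} (hA2 : ∀ a ∈ A, a * a = 1)
    (hAc : Nat.card A = 16) (hB2 : ∀ b ∈ B, b * b = 1) (hBc : Nat.card B = 16) (hS : IsSingFix R A S)
    (hS' : IsSingFix R B S') (hp : IsPGroup 2 ↥(A ⊔ B)) : A = B ∧ S = S' := by
  have := finite_V (R := R)
  obtain ⟨k, hk⟩ := exists_conj_syl M _ hp
  have main : ∀ {C : Subgroup H} {U : Set V}, C ≤ A ⊔ B → (∀ a ∈ C, a * a = 1) → Nat.card C = 16 →
      IsSingFix R C U → (∀ a, a ∈ cj C k ↔ ∃ i ∈ rMem, iEl M i = a) ∧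
        U = {v | ∀ a ∈ C, R.ρ a v = v} := by
    intro C U hC hC2 hCc hU
    have hle : cj C k ≤ syl M := by rintro _ ⟨a, ha, rfl⟩; exact hk a (hC ha)
    have hsub : U ⊆ {v | ∀ a ∈ C, R.ρ a v = v} := fun v hv a ha => hU.fixed a ha v hv
    have h64 := Set.ncard_le_ncard hsub (Set.toFinite _)
    rw [hU.card] at h64
    obtain ⟨h1, h3⟩ := sixteen_cases M hle (sq_cj hC2 k) (by rw [card_cj, hCc])
      (by rwa [fix_cj, Set.ncard_image_of_injective _ (fun _ _ => R.inj k)])
    rw [fix_cj, Set.ncard_image_of_injective _ (fun _ _ => R.inj k)] at h3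
    exact ⟨h1, Set.eq_of_subset_of_ncard_le hsub (by rw [hU.card]; exact h3) (Set.toFinite _)⟩
  obtain ⟨hA', hSA⟩ := main le_sup_left hA2 hAc hS
  obtain ⟨hB', hSB⟩ := main le_sup_right hB2 hBc hS'
  have hAB : A = B := Subgroup.map_injective (MulAut.conj k).injective
    (Subgroup.ext fun a => (hA' a).trans (hB' a).symm)
  exact ⟨hAB, by rw [hSA, hSB, hAB]⟩

theorem sing_card_le {S : Set V} (hadd : ∀ u ∈ S, ∀ v ∈ S, u + v ∈ S) (hsing : ∀ v ∈ S, R.q v = 0) :
    S.ncard ≤ 64 := by
  classical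
  have := finite_V (R := R)
  have := Fintype.ofFinite V
  rcases S.eq_empty_or_nonempty with rfl | ⟨u₀, hu₀⟩
  · simp
  have h0 : (0 : V) ∈ S := R.two u₀ ▸ hadd _ hu₀ _ hu₀
  have hb : ∀ u ∈ S, ∀ v ∈ S, R.b u v = 0 := fun u hu v hv => by
    have := R.q_add u v
    rw [hsing _ (hadd u hu v hv), hsing u hu, hsing v hv, add_zero, zero_add] at this
    exact this.symm
  let χ : V → V → ℤ := fun u v => if R.b u v = 0 then 1 else -1
  have hval : ∀ x : ZMod 2, x = 0 ∨ x = 1 := by decide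
  have flip : ∀ {α : Type _} [Fintype α] (e : α ≃ α) (f : α → ℤ), (∀ a, f (e a) = -f a) → ∑ a, f a = 0 := by
    intro α _ e f hf
    have h := Equiv.sum_comp e f
    simp only [hf, Finset.sum_neg_distrib] at h
    omega
  set T := S.toFinset
  have hTmem : ∀ {u}, u ∈ T ↔ u ∈ S := Set.mem_toFinset
  have hrow : ∀ u : V, ∑ v, χ u v = if u = 0 then 4096 else 0 := fun u => by
    split
    · subst u
      simp [χ, R.b_zero_left, ← Nat.card_eq_fintype_card, R.card_V]
    · rename_i hu
      obtain ⟨w, hw⟩ : ∃ w, R.b u w = 1 := by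
        by_contra hc
        exact hu (R.nondeg u fun v => (hval _).resolve_right fun h => hc ⟨v, h⟩)
      refine flip (Equiv.addRight w) _ fun v => ?_
      show χ u (v + w) = -χ u v
      simp only [χ, R.b_add_right, hw]
      rcases hval (R.b u v) with h | h <;> simp [h]
      all_goals decide
  have hcol : ∀ v : V, ∑ u ∈ T, χ u v = if ∀ u ∈ T, R.b u v = 0 then (T.card : ℤ) else 0 := fun v => by
    split
    · rename_i h
      rw [Finset.sum_congr rfl (g := fun _ => (1 : ℤ)) fun u hu => by simp [χ, h u hu]]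
      simp
    · rename_i h
      push Not at h
      obtain ⟨w, hwT, hw⟩ := h
      have hw1 := (hval _).resolve_left hw
      rw [← Finset.sum_coe_sort]
      have hws := hTmem.1 hwT
      refine flip
        ⟨fun u => ⟨u.1 + w, hTmem.2 (hadd _ (hTmem.1 u.2) _ hws)⟩,
         fun u => ⟨u.1 + w, hTmem.2 (hadd _ (hTmem.1 u.2) _ hws)⟩,
         fun u => Subtype.ext (by simp [add_assoc, R.two]),
         fun u => Subtype.ext (by simp [add_assoc, R.two])⟩ _ fun u => ?_
      show χ (u.1 + w) v = -χ u.1 v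
      simp only [χ, R.b_add, hw1]
      rcases hval (R.b u.1 v) with h | h <;> simp [h]
      all_goals decide
  set P := Finset.univ.filter fun v => ∀ u ∈ T, R.b u v = 0
  have hsum : (T.card : ℤ) * P.card = 4096 := by
    have h := Finset.sum_comm (s := T) (t := (Finset.univ : Finset V)) (f := χ)
    simp only [hrow, hcol, Finset.sum_ite_eq', Finset.sum_ite, Finset.sum_const_zero, Finset.sum_const,
      add_zero, nsmul_eq_mul] at h
    rw [if_pos (hTmem.2 h0)] at h
    rw [mul_comm]; exact_mod_cast h.symm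
  have hTP : T.card ≤ P.card := Finset.card_le_card fun v hv =>
    Finset.mem_filter.2 ⟨Finset.mem_univ _, fun u hu => hb u (hTmem.1 hu) v (hTmem.1 hv)⟩
  have hN : T.card * P.card = 4096 := by exact_mod_cast hsum
  rw [Set.ncard_eq_toFinset_card']
  change T.card ≤ 64
  by_contra hc
  have : 65 * 65 ≤ T.card * P.card := Nat.mul_le_mul (by omega) (by omega)
  omega

theorem singfix_rSub : IsSingFix R M.rSub {v | M.code v < 64} where
  card := by
    have hb : Function.Bijective (fun v : {v : V // M.code v < 64} => (⟨M.code v.1, v.2⟩ : Fin 64)) :=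
      ⟨fun u v h => Subtype.ext (M.code_inj _ _ (congrArg Fin.val h)), fun n => by
        obtain ⟨v, hv⟩ := M.code_surj n.val (by omega)
        exact ⟨⟨v, hv ▸ n.2⟩, Fin.ext hv⟩⟩
    rw [← Nat.card_coe_set_eq]
    exact (Nat.card_congr (Equiv.ofBijective _ hb)).trans (Nat.card_fin 64)
  add u hu v hv := by
    show M.code (u + v) < 64
    rw [M.code_add]; exact Nat.xor_lt_two_pow (n := 6) hu hv
  sing v hv := by
    have h := List.all_eq_true.1 low_sing (M.code v) (List.mem_range.2 hv)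
    rw [Bool.not_eq_true'] at h
    rw [M.code_q, h]; rfl
  fixed := by
    let F : Subgroup H :=
      { carrier := {h | ∀ v, M.code v < 64 → R.ρ h v = v}
        one_mem' := fun v _ => R.one_apply v
        mul_mem' := fun {a b} ha hb v hv => by rw [R.mul_apply, hb v hv, ha v hv]
        inv_mem' := fun {a} ha v hv => R.inj a (by rw [← R.mul_apply, mul_inv_cancel, R.one_apply, ha v hv]) }
    have hle : M.rSub ≤ F := (Subgroup.closure_le _).2 (by
      rintro _ ⟨i, rfl⟩ v hv
      refine M.code_inj _ _ ?_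
      rw [M.act_r]
      have hm : colsR.getD i.val [] ∈ colsR := by
        rw [List.getD_eq_getElem _ _ (show i.val < colsR.length from i.2)]; exact List.getElem_mem _
      exact Nat.eq_of_beq_eq_true (List.all_eq_true.1 (List.all_eq_true.1 colsR_fix _ hm) _ (List.mem_range.2 hv)))
    exact fun h hh v hv => hle hh v hv

end CfsgLib.J4Type.Model
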