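import Cfsg.Agent.Lib.J4Type.FusionLocal
import Cfsg.Agent.Lib.Involutions.Isolated
import Cfsg.Agent.S0215
import Mathlib.GroupTheory.Subgroup.Simple

/-!
The first fusion step in Janko-four type: in a simple group some conjugate of `z` other than `z` lies
in the subgroup of order `2^11`; with that subgroup unique in its `2`-groups, its normaliser moves `z`.
-/

set_option autoImplicit false
set_option linter.unusedSectionVars false

namespace CfsgLib.J4Type

universe u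

variable {G : Type u} [Group G] [Finite G]

/-- In a nonabelian simple group an involution commutes with another conjugate. -/
theorem exists_commuting_conj [IsSimpleGroup G] (hG : ¬ IsMulCommutative G) {z : G}
    (hz : orderOf z = 2) : ∃ g : G, Commute z (g * z * g⁻¹) ∧ g * z * g⁻¹ ≠ z := by
  by_contra hcon
  push Not at hcon
  have hiso : Cfsg.IsIsolatedInvolution z := ⟨hz, hcon⟩
  have : Fact (Nat.Prime 2) := ⟨Nat.prime_two⟩
  obtain ⟨T, hT⟩ := (IsPGroup.of_card (n := 1) (G := Subgroup.zpowers z)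
    (by rw [Nat.card_zpowers, hz, pow_one])).exists_le_sylow
  have hzT : z ∈ T := hT (Subgroup.mem_zpowers z)
  obtain ⟨N, hN, hodd, hcomm⟩ := Cfsg.Agent.S0215.result T z hz hzT fun g hg => by
    have hodd := CfsgLib.Involutions.Isolated.odd_orderOf_mul hiso (u := g * z * g⁻¹) (v := z)
      (isConj_iff.2 ⟨g, rfl⟩) (IsConj.refl z)
    obtain ⟨k, hk⟩ := IsPGroup.iff_orderOf.1 T.2 ⟨g * z * g⁻¹ * z, mul_mem hg hzT⟩
    rw [Subgroup.orderOf_mk] at hk
    rw [hk] at hodd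
    have hk0 : k = 0 := by
      by_contra hne
      exact hodd.not_two_dvd_nat (dvd_pow_self 2 hne)
    rw [hk0, pow_zero, orderOf_eq_one_iff] at hk
    have h1 : g * z * g⁻¹ = z⁻¹ := eq_inv_of_mul_eq_one_left hk
    rw [h1]
    exact inv_eq_of_mul_eq_one_right (by rw [← sq, ← hz, pow_orderOf_eq_one])
  rcases hN.eq_bot_or_eq_top with rfl | rfl
  · have hc : z ∈ Subgroup.center G := Subgroup.mem_center_iff.2 fun g => by
      have h := Subgroup.mem_bot.1 (hcomm g)
      rw [mul_inv_eq_one, mul_inv_eq_iff_eq_mul] at h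
      exact h.symm
    rcases (inferInstance : (Subgroup.center G).Normal).eq_bot_or_eq_top with h | h
    · rw [h, Subgroup.mem_bot] at hc
      rw [hc, orderOf_one] at hz
      omega
    · exact hG ⟨⟨fun a b => Subgroup.mem_center_iff.1 (h.symm ▸ Subgroup.mem_top b) a⟩⟩
  · rw [Subgroup.card_top] at hodd
    exact hodd.not_two_dvd_nat (hz ▸ orderOf_dvd_natCard z)

theorem card_eq_card_map_mul {A B : Type*} [Group A] [Finite A] [Group B] (f : A →* B) (K : Subgroup A) :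
    Nat.card K = Nat.card (K.map f) * Nat.card (f.ker.subgroupOf K) := by
  have e1 : (f.comp K.subtype).range = K.map f := by
    rw [MonoidHom.range_comp, Subgroup.range_subtype]
  have e2 : (f.comp K.subtype).ker = f.ker.subgroupOf K := rfl
  rw [← e1, ← e2, ← Nat.card_congr (QuotientGroup.quotientKerEquivRange (f.comp K.subtype)).toEquiv]
  exact Subgroup.card_eq_card_quotient_mul_card_subgroup _

namespace Ctx

variable {z : G} {P : Subgroup G} (X : Ctx z P)

include X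

theorem coe_mul_self {e : QQ z} (h : e * e = 1) : ((e : CC z) : G) * ((e : CC z) : G) = 1 :=
  congrArg (fun t : QQ z => ((t : CC z) : G)) h

/-- Some conjugate of `z` other than `z` lies in the subgroup of order `2^11`. -/
theorem exists_conj_mem_Vg [IsSimpleGroup G] (hG : ¬ IsMulCommutative G) :
    ∃ g : G, g * z * g⁻¹ ∈ X.Vg ∧ g * z * g⁻¹ ≠ z := by
  classical
  by_contra hcon
  push Not at hcon
  have := X.finite_VQ
  have hz2 : z * z = 1 := by rw [← sq, ← X.hyp.1]; exact pow_orderOf_eq_one z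
  -- a conjugate of `z` in `C(z)` that is conjugate into `VV` there is `z`
  have hV : ∀ (c : CC z) (h : G) (d : CC z), h * z * h⁻¹ = c → d * c * d⁻¹ ∈ X.VV → (c : G) = z := by
    intro c h d hc hd
    have hm : ((d : G) * h) * z * ((d : G) * h)⁻¹ ∈ X.Vg := by
      refine Subgroup.mem_map.2 ⟨_, hd, ?_⟩
      show (d : G) * (c : G) * (d : G)⁻¹ = _
      rw [← hc]; group
    have e := hcon _ hm
    have hzd : (d : G)⁻¹ * z * d = z := by
      have := Subgroup.mem_centralizer_singleton_iff.1 d.2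
      rw [mul_assoc, ← this, inv_mul_cancel_left]
    calc (c : G) = h * z * h⁻¹ := hc.symm
      _ = (d : G)⁻¹ * (((d : G) * h) * z * ((d : G) * h)⁻¹) * d := by group
      _ = z := by rw [e, hzd]
  have hQ : ∀ (e : QQ z) (h : G), h * z * h⁻¹ = ((e : CC z) : G) → ((e : CC z) : G) = z := by
    intro e h he
    have he2 : e * e = 1 := Subtype.ext (Subtype.ext (by
      show ((e : CC z) : G) * ((e : CC z) : G) = 1
      rw [← he]
      calc h * z * h⁻¹ * (h * z * h⁻¹) = h * (z * z) * h⁻¹ := by group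
        _ = 1 := by rw [hz2]; group))
    obtain ⟨d, hd⟩ := X.exists_mem_VV_of_sq he2
    exact hV _ h d he hd
  obtain ⟨g, hgc, hgne⟩ := exists_commuting_conj hG X.hyp.1
  set x : CC z := ⟨g * z * g⁻¹, Subgroup.mem_centralizer_singleton_iff.2 hgc.eq.symm⟩ with hxdef
  have hy_mem : g⁻¹ * z * g ∈ CC z := Subgroup.mem_centralizer_singleton_iff.2 (by
    calc g⁻¹ * z * g * z = g⁻¹ * (z * (g * z * g⁻¹)) * g := by group
      _ = g⁻¹ * ((g * z * g⁻¹) * z) * g := by rw [hgc.eq]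
      _ = z * (g⁻¹ * z * g) := by group)
  set y : CC z := ⟨g⁻¹ * z * g, hy_mem⟩ with hydef
  have hx2 : x * x = 1 := Subtype.ext (by
    show g * z * g⁻¹ * (g * z * g⁻¹) = 1
    calc g * z * g⁻¹ * (g * z * g⁻¹) = g * (z * z) * g⁻¹ := by group
      _ = 1 := by rw [hz2]; group)
  have hy2 : y * y = 1 := Subtype.ext (by
    show g⁻¹ * z * g * (g⁻¹ * z * g) = 1
    calc g⁻¹ * z * g * (g⁻¹ * z * g) = g⁻¹ * (z * z) * g := by group
      _ = 1 := by rw [hz2]; group)
  have hxQ : x ∉ QQ z := fun h => hgne (hQ ⟨x, h⟩ g rfl)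
  have hyne : (y : G) ≠ z := fun e => hgne (by
    have e' : g⁻¹ * z * g = z := e
    calc g * z * g⁻¹ = g * (g⁻¹ * z * g) * g⁻¹ := by rw [e']
      _ = z := by group)
  have hyQ : y ∉ QQ z := fun h => hyne (hQ ⟨y, h⟩ g⁻¹ (by show _ = g⁻¹ * z * g; group))
  -- the elementary subgroup carried over by `g`
  have hmemK : ∀ k : X.KK y hy2, g * ((k : QQ z) : CC z) * g⁻¹ ∈ CC z := fun k => by
    have hk : (g⁻¹ * z * g) * (((k : QQ z) : CC z) : G) = (((k : QQ z) : CC z) : G) * (g⁻¹ * z * g) :=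
      congrArg Subtype.val (X.KK_comm k.2)
    refine Subgroup.mem_centralizer_singleton_iff.2 ?_
    calc g * (((k : QQ z) : CC z) : G) * g⁻¹ * z
        = g * ((((k : QQ z) : CC z) : G) * (g⁻¹ * z * g)) * g⁻¹ := by group
      _ = g * ((g⁻¹ * z * g) * (((k : QQ z) : CC z) : G)) * g⁻¹ := by rw [hk]
      _ = _ := by group
  let φ : X.KK y hy2 →* CC z :=
    MonoidHom.mk' (fun k => ⟨g * ((k : QQ z) : CC z) * g⁻¹, hmemK k⟩) fun a b => Subtype.ext (by
      show g * ((((a : QQ z) : CC z) : G) * (((b : QQ z) : CC z) : G)) * g⁻¹ = _ * _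
      group)
  have hφ : Function.Injective φ := fun a b e => Subtype.ext (Subtype.ext (Subtype.ext
    (mul_left_cancel (mul_right_cancel (congrArg Subtype.val e : g * _ * g⁻¹ = g * _ * g⁻¹)))))
  set Kx : Subgroup (CC z) := φ.range with hKx
  have hcardK : Nat.card Kx = Nat.card (X.KK y hy2) :=
    (Nat.card_congr (MonoidHom.ofInjective hφ).toEquiv).symm
  -- conjugates of `z` made from the values `[y, f]`
  have hconjz : ∀ (f : QQ z) (c : CC z), (f : CC z) * y * (f : CC z)⁻¹ = c →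
      g * (c : G) * g⁻¹ = (g * ((f : CC z) : G) * g⁻¹) * z * (g * ((f : CC z) : G) * g⁻¹)⁻¹ := by
    intro f c hc
    rw [← hc]
    show g * (((f : CC z) : G) * (g⁻¹ * z * g) * ((f : CC z) : G)⁻¹) * g⁻¹ = _
    group
  have key1 : ∀ (k : X.KK y hy2) (f : QQ z), φ k ∈ QQ z →
      (f : CC z) * y * (f : CC z)⁻¹ = y * ((k : QQ z) : CC z) → k = 1 := by
    intro k f hk hf
    have e := hconjz f _ hf
    have e1 : g * ((y * ((k : QQ z) : CC z) : CC z) : G) * g⁻¹
        = (((⟨Ctx.zc z * φ k, mul_mem (Ctx.zc_mem X) hk⟩ : QQ z) : CC z) : G) := by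
      show g * (g⁻¹ * z * g * _) * g⁻¹ = z * (g * _ * g⁻¹)
      group
    have h := hQ _ _ (e.symm.trans e1)
    have hk1 : φ k = 1 := by
      refine Subtype.ext ?_
      exact mul_left_cancel (h.trans (mul_one z).symm)
    exact hφ (hk1.trans φ.map_one.symm)
  have hcm : ∀ (k : X.KK y hy2), φ k ∈ QQ z → k ≠ 1 →
      ∃ f : QQ z, X.cmQ y f = (k : QQ z) * X.zQ ∧ cjQ (f : CC z) (k : QQ z) = (k : QQ z) := by
    intro k hk hk1
    obtain ⟨f, hf | hf⟩ := X.exists_cm k.2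
    · exact absurd (key1 k f hk (by rw [X.conj_eq_mul_cmQ hy2, hf])) hk1
    refine ⟨f, hf, ?_⟩
    have hp : pr (cjQ (f : CC z) (k : QQ z)) = pr (k : QQ z) := by
      rw [← X.rho_pr', (QuotientGroup.eq_one_iff (f : CC z)).2 f.2, X.RR.one_apply]
    refine (X.pr_cases hp.symm).resolve_right fun h => hk1 ?_
    refine inv_eq_one.1 (key1 k⁻¹ f⁻¹ (by rw [map_inv]; exact inv_mem hk) ?_)
    have hki : (k : QQ z)⁻¹ = (k : QQ z) := inv_eq_of_mul_eq_one_right k.2.2
    have e1 : (f : CC z) * (y * ((k : QQ z) : CC z)) * (f : CC z)⁻¹ = y := by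
      have hv := congrArg (fun t : QQ z => (t : CC z)) h
      simp only [cjQ_val, Subgroup.coe_mul] at hv
      calc (f : CC z) * (y * ((k : QQ z) : CC z)) * (f : CC z)⁻¹
          = ((f : CC z) * y * (f : CC z)⁻¹) * ((f : CC z) * ((k : QQ z) : CC z) * (f : CC z)⁻¹) := by group
        _ = y * (((k : QQ z) * X.zQ * ((k : QQ z) * X.zQ) : QQ z) : CC z) := by
          rw [X.conj_eq_mul_cmQ hy2, hf, hv, mul_assoc]; rfl
        _ = y := by
          rw [show (k : QQ z) * X.zQ * ((k : QQ z) * X.zQ) = ((k : QQ z) * (k : QQ z)) * (X.zQ * X.zQ) by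
            rw [mul_assoc, ← mul_assoc X.zQ, X.zQ_comm]; group, k.2.2, X.zQ_sq]
          simp
    have e2 : ((k⁻¹ : X.KK y hy2) : QQ z) = (k : QQ z) := hki
    rw [e2]
    show (f : CC z)⁻¹ * y * ((f : CC z)⁻¹)⁻¹ = y * ((k : QQ z) : CC z)
    conv_lhs => rw [← e1]
    group
  -- both sides are bad as soon as `Kx` meets `O_2(C(z))`
  have hbad : (∃ k : X.KK y hy2, φ k ∈ QQ z ∧ k ≠ 1) → X.Bad x ∧ X.Bad y := by
    rintro ⟨k, hk, hk1⟩
    obtain ⟨f, hf, hfk⟩ := hcm k hk hk1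
    have hnzx : ¬ IsConj z (z * (g * z * g⁻¹)) := by
      intro hc
      have e1 : (f : CC z) * (y * ((k : QQ z) : CC z)) * (f : CC z)⁻¹ = y * Ctx.zc z := by
        have hv := congrArg (fun t : QQ z => (t : CC z)) hfk
        simp only [cjQ_val] at hv
        calc (f : CC z) * (y * ((k : QQ z) : CC z)) * (f : CC z)⁻¹
            = ((f : CC z) * y * (f : CC z)⁻¹) * ((f : CC z) * ((k : QQ z) : CC z) * (f : CC z)⁻¹) := by group
          _ = y * (((k : QQ z) * X.zQ * (k : QQ z) : QQ z) : CC z) := by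
            rw [X.conj_eq_mul_cmQ hy2, hf, hv, mul_assoc]; rfl
          _ = y * Ctx.zc z := by
            rw [mul_assoc (k : QQ z), X.zQ_comm, ← mul_assoc, k.2.2, one_mul]; rfl
      have e2 : z * (g * z * g⁻¹) = (g * ((f : CC z) : G) * g⁻¹) * (z * (φ k : G)) *
          (g * ((f : CC z) : G) * g⁻¹)⁻¹ := by
        have e3 := congrArg Subtype.val e1
        have e3' : ((f : CC z) : G) * (g⁻¹ * z * g * (((k : QQ z) : CC z) : G)) * ((f : CC z) : G)⁻¹
            = g⁻¹ * z * g * z := e3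
        calc z * (g * z * g⁻¹) = g * (g⁻¹ * z * g * z) * g⁻¹ := by group
          _ = g * (((f : CC z) : G) * (g⁻¹ * z * g * (((k : QQ z) : CC z) : G)) * ((f : CC z) : G)⁻¹) * g⁻¹ := by
            rw [e3']
          _ = _ := by
            show _ = (g * ((f : CC z) : G) * g⁻¹) * (z * (g * (((k : QQ z) : CC z) : G) * g⁻¹)) *
              (g * ((f : CC z) : G) * g⁻¹)⁻¹
            group
      obtain ⟨h, hh⟩ := isConj_iff.1 (hc.trans (isConj_iff.2 ⟨_, e2.symm⟩).symm)
      have := hQ ⟨Ctx.zc z * φ k, mul_mem (Ctx.zc_mem X) hk⟩ h hh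
      exact hk1 (hφ ((Subtype.ext (mul_left_cancel ((this : z * (φ k : G) = z).trans (mul_one z).symm))
        : φ k = 1).trans φ.map_one.symm))
    refine ⟨X.bad_of_not_z fun e he => hnzx ?_, X.bad_of_not_z fun e he => hnzx ?_⟩
    · have hv : (g * z * g⁻¹) * ((e : CC z) : G) * (g * z * g⁻¹)⁻¹ = ((e : CC z) : G) * z :=
        congrArg (fun t : QQ z => ((t : CC z) : G)) he
      refine (isConj_iff.2 ⟨g, rfl⟩ : IsConj z (g * z * g⁻¹)).trans
        (isConj_iff.2 ⟨((e : CC z) : G)⁻¹, ?_⟩)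
      have hci : z * (g * z * g⁻¹) = (g * z * g⁻¹) * z := hgc.eq
      set w := g * z * g⁻¹
      calc ((e : CC z) : G)⁻¹ * w * (((e : CC z) : G)⁻¹)⁻¹
          = ((e : CC z) : G)⁻¹ * (w * ((e : CC z) : G) * w⁻¹) * w := by group
        _ = z * w := by rw [hv]; group
    · have hv : (g⁻¹ * z * g) * ((e : CC z) : G) * (g⁻¹ * z * g)⁻¹ = ((e : CC z) : G) * z :=
        congrArg (fun t : QQ z => ((t : CC z) : G)) he
      refine isConj_iff.2 ⟨g * ((e : CC z) : G)⁻¹ * g⁻¹, ?_⟩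
      set w := g⁻¹ * z * g with hw
      have hwz : z * w = w * z := (Subgroup.mem_centralizer_singleton_iff.1 hy_mem).symm
      calc g * ((e : CC z) : G)⁻¹ * g⁻¹ * z * (g * ((e : CC z) : G)⁻¹ * g⁻¹)⁻¹
          = g * (((e : CC z) : G)⁻¹ * (w * ((e : CC z) : G) * w⁻¹) * w) * g⁻¹ := by rw [hw]; group
        _ = g * (z * w) * g⁻¹ := by rw [hv]; group
        _ = g * (w * z) * g⁻¹ := by rw [hwz]
        _ = z * (g * z * g⁻¹) := by rw [hw]; group
  -- the part inside `O_2(C(z))`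
  set I : Subgroup (X.KK y hy2) := (QQ z).comap φ with hI
  have hI4 : Nat.card I ≤ 4 := by
    by_cases htriv : ∀ k : X.KK y hy2, φ k ∈ QQ z → k = 1
    · have : I = ⊥ := (Subgroup.eq_bot_iff_forall _).2 fun k hk => htriv k hk
      rw [this, Subgroup.card_bot]; norm_num
    push Not at htriv
    obtain ⟨k₁, hk₁, hk₁1⟩ := htriv
    obtain ⟨f₁, hf₁, -⟩ := hcm k₁ hk₁ hk₁1
    have hflip : ∀ k : X.KK y hy2, φ k ∈ QQ z → k ≠ 1 → k ≠ k₁ →
        cjQ (f₁ : CC z) (k : QQ z) = (k : QQ z) * X.zQ := by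
      intro k hk hk1 hkk
      obtain ⟨f₂, hf₂, -⟩ := hcm k hk hk1
      have hp : pr (cjQ (f₁ : CC z) (k : QQ z)) = pr (k : QQ z) := by
        rw [← X.rho_pr', (QuotientGroup.eq_one_iff (f₁ : CC z)).2 f₁.2, X.RR.one_apply]
      refine (X.pr_cases hp.symm).resolve_left fun h => hkk ?_
      have hprod : X.cmQ y (f₁ * f₂) = (k₁ : QQ z) * (k : QQ z) := by
        have e : X.cmQ y (f₁ * f₂) = X.cmQ y f₁ * cjQ (f₁ : CC z) (X.cmQ y f₂) := by
          refine Subtype.ext ?_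
          simp only [Ctx.cmQ, map_mul, mul_inv_rev, Subgroup.coe_mul, Subgroup.coe_inv, cjQ_val]
          group
        rw [e, hf₁, hf₂, map_mul, h, X.cjQ_zQ]
        rw [mul_assoc, ← mul_assoc X.zQ, X.zQ_comm, mul_assoc (k : QQ z), X.zQ_sq, mul_one]
      have hone := key1 (k₁ * k) (f₁ * f₂) (by rw [map_mul]; exact mul_mem hk₁ hk)
        (by rw [X.conj_eq_mul_cmQ hy2, hprod]; rfl)
      have hkk' : k * k = 1 := Subtype.ext k.2.2
      calc k = k₁ * k * k := by rw [hone, one_mul]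
        _ = k₁ := by rw [mul_assoc, hkk', mul_one]
    have hclose : ∀ a b : X.KK y hy2, φ a ∈ QQ z → φ b ∈ QQ z → a ≠ 1 → a ≠ k₁ → b ≠ 1 → b ≠ k₁ →
        a * b = 1 ∨ a * b = k₁ := by
      intro a b ha hb ha1 hak hb1 hbk
      by_contra hne
      push Not at hne
      have h1 := hflip a ha ha1 hak
      have h2 := hflip b hb hb1 hbk
      have h3 := hflip (a * b) (by rw [map_mul]; exact mul_mem ha hb) hne.1 hne.2
      rw [Subgroup.coe_mul, map_mul, h1, h2] at h3
      have h4 : (a : QQ z) * X.zQ * ((b : QQ z) * X.zQ) = (a : QQ z) * (b : QQ z) := by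
        rw [mul_assoc, ← mul_assoc X.zQ, X.zQ_comm, mul_assoc (b : QQ z), X.zQ_sq, mul_one]
      rw [h4] at h3
      exact X.zQ_ne (left_eq_mul.1 h3)
    by_cases h2 : ∀ k : X.KK y hy2, φ k ∈ QQ z → k = 1 ∨ k = k₁
    · have hsub : (I : Set (X.KK y hy2)) ⊆ {1, k₁} := fun k hk => h2 k hk
      have := Set.ncard_le_ncard hsub (Set.toFinite _)
      have := this.trans (Set.ncard_insert_le _ _)
      rw [Set.ncard_singleton, ← Nat.card_coe_set_eq] at this
      exact le_trans this (by norm_num)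
    push Not at h2
    obtain ⟨k₂, hk₂, hk₂1, hk₂k⟩ := h2
    have hsub : (I : Set (X.KK y hy2)) ⊆ {1, k₁, k₂, k₁ * k₂} := by
      intro k hk
      by_cases h1 : k = 1
      · exact Or.inl h1
      by_cases h3 : k = k₁
      · exact Or.inr (Or.inl h3)
      refine Or.inr (Or.inr ?_)
      have hkk : k₂ * k₂ = 1 := Subtype.ext k₂.2.2
      have hk' : k = k * k₂ * k₂ := by rw [mul_assoc, hkk, mul_one]
      rcases hclose k k₂ hk hk₂ h1 h3 hk₂1 hk₂k with e | e
      · exact Or.inl (by rw [hk', e, one_mul])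
      · exact Or.inr (by rw [hk', e]; rfl)
    have := Set.ncard_le_ncard hsub (Set.toFinite _)
    have h4 : ({1, k₁, k₂, k₁ * k₂} : Set (X.KK y hy2)).ncard ≤ 4 := by
      have e1 := Set.ncard_insert_le (1 : X.KK y hy2) {k₁, k₂, k₁ * k₂}
      have e2 := Set.ncard_insert_le k₁ ({k₂, k₁ * k₂} : Set (X.KK y hy2))
      have e3 := Set.ncard_insert_le k₂ ({k₁ * k₂} : Set (X.KK y hy2))
      rw [Set.ncard_singleton] at e3
      omega
    have := this.trans h4
    rwa [← Nat.card_coe_set_eq] at this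
  -- the image of `Kx` and the commutators of it with elements commuting with `x`
  set A : Subgroup (CC z ⧸ QQ z) := Kx.map (QuotientGroup.mk' (QQ z)) with hA
  have hA2 : ∀ a ∈ A, a * a = 1 := by
    rintro _ ⟨_, ⟨k, rfl⟩, rfl⟩
    rw [← map_mul, ← map_mul, show k * k = 1 from Subtype.ext k.2.2, map_one, map_one]
  have hcardA : Nat.card (X.KK y hy2) ≤ Nat.card A * Nat.card I := by
    have h := card_eq_card_map_mul ((QuotientGroup.mk' (QQ z)).comp φ) (⊤ : Subgroup (X.KK y hy2))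
    rw [← Subgroup.map_map, ← MonoidHom.range_eq_map, Subgroup.card_top] at h
    rw [h]
    refine Nat.mul_le_mul le_rfl ?_
    refine Nat.card_le_card_of_injective
      (fun k : ((QuotientGroup.mk' (QQ z)).comp φ).ker.subgroupOf (⊤ : Subgroup (X.KK y hy2)) =>
        (⟨(k : (⊤ : Subgroup (X.KK y hy2))).1,
          (QuotientGroup.eq_one_iff (φ (k : (⊤ : Subgroup (X.KK y hy2))).1)).1 k.2⟩ : I)) ?_
    intro a b e
    exact Subtype.ext (Subtype.ext (congrArg (fun t : I => (t : X.KK y hy2)) e))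
  have hA32 : 32 ≤ Nat.card A := by
    by_cases htriv : ∀ k : X.KK y hy2, φ k ∈ QQ z → k = 1
    · have : Nat.card I = 1 := by
        rw [show I = ⊥ from (Subgroup.eq_bot_iff_forall _).2 fun k hk => htriv k hk, Subgroup.card_bot]
      rw [this, mul_one] at hcardA
      exact (X.card_KK_32 hy2 hyQ).trans hcardA
    push Not at htriv
    obtain ⟨-, hby⟩ := hbad htriv
    rcases X.bad_cases hy2 hyQ hby with hB | ⟨d, hd⟩
    · have h128 : 128 ≤ Nat.card (X.KK y hy2) := by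
        refine le_trans ?_ (X.card_KK_ge y hy2)
        rw [show {v | v ∈ commSet X.RR (QuotientGroup.mk y) ∧ X.RR.q v = 0} = commSet X.RR (QuotientGroup.mk y) from
          Set.ext fun v => ⟨And.left, fun hv => ⟨hv, hB.sing v (hB.comm_eq ▸ hv)⟩⟩, hB.comm_eq, hB.card_fix]
      have := Nat.mul_le_mul_left (Nat.card A) hI4
      omega
    · exact absurd (hV y g⁻¹ d (by show _ = g⁻¹ * z * g; group) hd) hyne
  have hA5 : Nat.card A = 32 := le_antisymm (X.model.elem_card_le hA2) hA32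
  -- the commutators land over `I`
  let S : AddSubgroup (VQ (QQ z)) :=
    { carrier := {v | ∃ i : I, ∃ q : QQ z, (q : CC z) = φ i.1 ∧ pr q = v}
      zero_mem' := ⟨1, 1, by rw [OneMemClass.coe_one, OneMemClass.coe_one, map_one], pr_one⟩
      add_mem' := by
        rintro _ _ ⟨i, q, hq, rfl⟩ ⟨j, r, hr, rfl⟩
        exact ⟨i * j, q * r, by rw [Subgroup.coe_mul, Subgroup.coe_mul, map_mul, hq, hr], pr_mul q r⟩
      neg_mem' := by
        rintro _ ⟨i, q, hq, rfl⟩
        exact ⟨i, q, hq, (neg_eq_of_add_eq_zero_left (X.RR.two _)).symm⟩ }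
  have hScard : Nat.card S ≤ Nat.card I := by
    refine Nat.card_le_card_of_surjective
      (fun i : I => (⟨pr (⟨φ i.1, i.2⟩ : QQ z), i, ⟨φ i.1, i.2⟩, rfl, rfl⟩ : S)) ?_
    rintro ⟨_, i, q, hq, rfl⟩
    exact ⟨i, Subtype.ext (congrArg pr (Subtype.ext hq.symm))⟩
  have hcomm : ∀ a ∈ A, ∀ v ∈ X.goodVec x, X.RR.ρ a v + v ∈ S := by
    rintro _ ⟨_, ⟨k, rfl⟩, rfl⟩ v ⟨e, rfl, he⟩
    have hxe : (g * z * g⁻¹) * ((e : CC z) : G) * (g * z * g⁻¹)⁻¹ = ((e : CC z) : G) :=
      congrArg (fun t : QQ z => ((t : CC z) : G)) he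
    have hez : ((e : CC z) : G) * z = z * ((e : CC z) : G) :=
      Subgroup.mem_centralizer_singleton_iff.1 (e : CC z).2
    have hc_mem : g⁻¹ * ((e : CC z) : G) * g ∈ CC z := Subgroup.mem_centralizer_singleton_iff.2 (by
      calc g⁻¹ * ((e : CC z) : G) * g * z = g⁻¹ * (((e : CC z) : G) * (g * z * g⁻¹)) * g := by group
        _ = g⁻¹ * ((g * z * g⁻¹) * ((e : CC z) : G)) * g := by rw [mul_inv_eq_iff_eq_mul.1 hxe]
        _ = z * (g⁻¹ * ((e : CC z) : G) * g) := by group)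
    set c : CC z := ⟨g⁻¹ * ((e : CC z) : G) * g, hc_mem⟩
    have hcy : c * y = y * c := Subtype.ext (by
      show g⁻¹ * ((e : CC z) : G) * g * (g⁻¹ * z * g) = g⁻¹ * z * g * (g⁻¹ * ((e : CC z) : G) * g)
      calc g⁻¹ * ((e : CC z) : G) * g * (g⁻¹ * z * g) = g⁻¹ * (((e : CC z) : G) * z) * g := by group
        _ = g⁻¹ * (z * ((e : CC z) : G)) * g := by rw [hez]
        _ = _ := by group)
    set k' : X.KK y hy2 := ⟨cjQ c (k : QQ z), X.KK_conj hcy k.2⟩
    have hk' : φ k' = (e : CC z) * φ k * (e : CC z)⁻¹ := Subtype.ext (by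
      show g * (g⁻¹ * ((e : CC z) : G) * g * (((k : QQ z) : CC z) : G) *
        (g⁻¹ * ((e : CC z) : G) * g)⁻¹) * g⁻¹ = ((e : CC z) : G) * (g * _ * g⁻¹) * ((e : CC z) : G)⁻¹
      group)
    have heq : ((cjQ (φ k) e * e⁻¹ : QQ z) : CC z) = φ (k * k'⁻¹) := by
      rw [map_mul, map_inv, hk', Subgroup.coe_mul, cjQ_val, Subgroup.coe_inv]
      group
    have hmem : φ (k * k'⁻¹) ∈ QQ z := by rw [← heq]; exact (cjQ (φ k) e * e⁻¹).2
    refine ⟨⟨k * k'⁻¹, hmem⟩, _, heq, ?_⟩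
    rw [pr_mul, X.pr_inv', ← X.rho_pr']
    rfl
  by_cases htriv : ∀ k : X.KK y hy2, φ k ∈ QQ z → k = 1
  · have h1 : Nat.card I = 1 := by
      rw [show I = ⊥ from (Subgroup.eq_bot_iff_forall _).2 fun k hk => htriv k hk, Subgroup.card_bot]
    have : Subsingleton S := by
      have h0 : 0 < Nat.card S := Nat.card_pos
      exact (Nat.card_eq_one_iff_unique.1 (by omega)).1
    have hfix : X.goodVec x ⊆ {v | ∀ a ∈ A, X.RR.ρ a v = v} := fun v hv a ha => by
      have h0 : X.RR.ρ a v + v = 0 := congrArg Subtype.val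
        (Subsingleton.elim (⟨_, hcomm a ha v hv⟩ : S) 0)
      calc X.RR.ρ a v = X.RR.ρ a v + v + v := by rw [add_assoc, X.RR.two, add_zero]
        _ = v := by rw [h0, zero_add]
    have := (X.goodVec_32 hx2 hxQ).trans (Set.ncard_le_ncard hfix (Set.toFinite _))
    exact absurd (this.trans (X.model.elem_five_fix hA2 hA5)) (by norm_num)
  push Not at htriv
  obtain ⟨hbx, -⟩ := hbad htriv
  rcases X.bad_cases hx2 hxQ hbx with hB | ⟨d, hd⟩
  · have hxA : (QuotientGroup.mk x : CC z ⧸ QQ z) ∈ A := by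
      have hzK : (X.zQ : QQ z) ∈ X.KK y hy2 := ⟨⟨0, by simp [X.pr_zQ]⟩, X.zQ_sq⟩
      exact ⟨x, ⟨⟨X.zQ, hzK⟩, rfl⟩, rfl⟩
    obtain ⟨a, ha, v, hv, hnot⟩ := X.model.elem_five_comm hA2 hA5 hxA hB S (hScard.trans hI4)
    obtain ⟨e, rfl⟩ := pr_surj v
    exact hnot (hcomm a ha _ ⟨e, rfl, hbx e hv⟩)
  · exact hgne (hV x g d rfl hd)

/-- The normaliser of the subgroup of order `2^11` moves `z`, once that subgroup is known to be the
only one of its kind in every `2`-subgroup of `G`. -/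
theorem exists_moved_of [IsSimpleGroup G] (hG : ¬ IsMulCommutative G)
    (hcomm : ∀ a ∈ X.Vg, ∀ b ∈ X.Vg, a * b = b * a) (hsq : ∀ a ∈ X.Vg, a * a = 1)
    (hcard : Nat.card X.Vg = 2 ^ 11) (hzV : z ∈ X.Vg)
    (huniq : ∀ T A B : Subgroup G, IsPGroup 2 T → A ≤ T → B ≤ T → (∀ a ∈ A, a * a = 1) →
      Nat.card A = 2 ^ 11 → (∀ b ∈ B, b * b = 1) → Nat.card B = 2 ^ 11 → A = B) :
    ∃ m ∈ Subgroup.normalizer (X.Vg : Set G), m * z * m⁻¹ ≠ z := by
  obtain ⟨g, hg, hne⟩ := X.exists_conj_mem_Vg hG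
  set a := g * z * g⁻¹ with ha
  set C : Subgroup G := Subgroup.centralizer ({a} : Set G)
  have hp : ∀ B : Subgroup G, (∀ b ∈ B, b * b = 1) → IsPGroup 2 B := fun B hB b =>
    ⟨1, Subtype.ext (by rw [pow_one, SubmonoidClass.coe_pow, sq]; exact hB _ b.2)⟩
  set W : Subgroup G := X.Vg.map (MulAut.conj g).toMonoidHom with hW
  have hWsq : ∀ b ∈ W, b * b = 1 := by
    rintro _ ⟨b, hb, rfl⟩
    rw [← map_mul, hsq b hb, map_one]
  have hV1 : X.Vg ≤ C := fun b hb => Subgroup.mem_centralizer_singleton_iff.2 (hcomm b hb a hg)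
  have hW1 : W ≤ C := by
    rintro _ ⟨b, hb, rfl⟩
    refine Subgroup.mem_centralizer_singleton_iff.2 ?_
    show g * b * g⁻¹ * a = a * (g * b * g⁻¹)
    rw [ha]
    calc g * b * g⁻¹ * (g * z * g⁻¹) = g * (b * z) * g⁻¹ := by group
      _ = g * (z * b) * g⁻¹ := by rw [hcomm b hb z hzV]
      _ = _ := by group
  have : Fact (Nat.Prime 2) := ⟨Nat.prime_two⟩
  obtain ⟨S, hS⟩ := ((hp _ hsq).comap_of_injective C.subtype C.subtype_injective).exists_le_sylow
  obtain ⟨T, hT⟩ := ((hp _ hWsq).comap_of_injective C.subtype C.subtype_injective).exists_le_sylow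
  obtain ⟨k, hk⟩ := MulAction.exists_smul_eq C T S
  have hWk : W.map (MulAut.conj (k : G)).toMonoidHom = X.Vg := by
    refine huniq ((S : Subgroup C).map C.subtype) _ _ (S.2.map _) ?_ ?_ ?_ ?_ hsq hcard
    · rintro _ ⟨b, hb, rfl⟩
      refine ⟨k * ⟨b, hW1 hb⟩ * k⁻¹, ?_, rfl⟩
      rw [← hk]
      show k * ⟨b, hW1 hb⟩ * k⁻¹ ∈ ((k • T : Sylow 2 C) : Subgroup C)
      rw [Sylow.coe_subgroup_smul]
      exact Subgroup.smul_mem_pointwise_smul _ (MulAut.conj k) _ (hT hb)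
    · intro b hb
      exact ⟨⟨b, hV1 hb⟩, hS hb, rfl⟩
    · rintro _ ⟨b, hb, rfl⟩
      rw [← map_mul, hWsq b hb, map_one]
    · rw [Subgroup.card_map_of_injective (MulAut.conj (k : G)).injective, hW,
        Subgroup.card_map_of_injective (MulAut.conj g).injective, hcard]
  have hka : (k : G) * a = a * (k : G) := Subgroup.mem_centralizer_singleton_iff.1 k.2
  refine ⟨(k : G) * g, ?_, ?_⟩
  · refine Subgroup.mem_normalizer_iff.2 fun b => ⟨fun hb => ?_, fun hb => ?_⟩
    · rw [← hWk]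
      exact ⟨g * b * g⁻¹, ⟨b, hb, rfl⟩, by
        show (k : G) * (g * b * g⁻¹) * (k : G)⁻¹ = _
        group⟩
    · rw [← hWk] at hb
      obtain ⟨_, ⟨c, hc, rfl⟩, e⟩ := hb
      have e' : (k : G) * (g * c * g⁻¹) * (k : G)⁻¹ = (k : G) * g * b * ((k : G) * g)⁻¹ := e
      have hbc : c = b := by
        calc c = ((k : G) * g)⁻¹ * ((k : G) * (g * c * g⁻¹) * (k : G)⁻¹) * ((k : G) * g) := by group
          _ = b := by rw [e']; group
      exact hbc ▸ hc
  · have e : (k : G) * g * z * ((k : G) * g)⁻¹ = a := by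
      calc (k : G) * g * z * ((k : G) * g)⁻¹ = (k : G) * a * (k : G)⁻¹ := by rw [ha]; group
        _ = a := by rw [hka, mul_inv_cancel_right]
    rw [e]
    exact hne

end Ctx

end CfsgLib.J4Type
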