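import Cfsg.Agent.Lib.J4Type.FiveData
import Cfsg.Agent.Lib.GolayIndex.Main
import Cfsg.Agent.Lib.MathieuAut22.Main
import Cfsg.Agent.Lib.ThreeTrans.Torsion.Basic

/-!
# Facts about the elements of order five of `M24`
-/

set_option autoImplicit false
set_option maxRecDepth 20000

namespace CfsgLib.J4Type

open Cfsg CfsgLib.Golay CfsgLib.Schur.GolaySearch CfsgLib.ThreeTrans.Torsion
open scoped Pointwise
open Subgroup (mem_centralizer_singleton_iff)

/-- An element of odd order which permutes two points fixes both. -/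
theorem fix_of_odd {g : M24} {p q : GolayPt} (hg : g • ({p, q} : Finset GolayPt) = {p, q})
    (hodd : ¬ 2 ∣ orderOf g) : g • p = p ∧ g • q = q := by
  classical
  have hset : ∀ r ∈ ({p, q} : Finset GolayPt), g • r = p ∨ g • r = q := fun r hr => by
    have h := Finset.smul_mem_smul_finset (a := g) hr
    rwa [hg, Finset.mem_insert, Finset.mem_singleton] at h
  have h2 : ∀ r ∈ ({p, q} : Finset GolayPt), g ^ 2 • r = r := by
    intro r hr
    rw [pow_two, mul_smul]
    by_cases hpq : p = q
    · subst hpq
      simp only [Finset.insert_eq_of_mem, Finset.mem_singleton] at hr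
      subst hr
      have h := hset r (by simp)
      simp only [or_self] at h
      rw [h, h]
    · rcases hset p (by simp) with hp | hp <;> rcases hset q (by simp) with hq | hq
      · exact absurd (MulAction.injective g (hp.trans hq.symm)) hpq
      · rw [Finset.mem_insert, Finset.mem_singleton] at hr
        rcases hr with rfl | rfl
        · rw [hp, hp]
        · rw [hq, hq]
      · rw [Finset.mem_insert, Finset.mem_singleton] at hr
        rcases hr with rfl | rfl
        · rw [hp, hq]
        · rw [hq, hp]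
      · exact absurd (MulAction.injective g (hp.trans hq.symm)) hpq
  obtain ⟨k, hk⟩ := exists_pow_eq_self_of_coprime (x := g) (n := 2)
    ((Nat.Prime.coprime_iff_not_dvd Nat.prime_two).2 hodd)
  have hfix : ∀ r ∈ ({p, q} : Finset GolayPt), g • r = r := fun r hr => by
    have h : g ^ 2 ∈ MulAction.stabilizer M24 r := h2 r hr
    have h' := pow_mem h k
    rwa [hk] at h'
  exact ⟨hfix p (by simp), hfix q (by simp)⟩

/-- Counting a subgroup by its image lists. -/
theorem natCard_subgroup_of_list {H : Subgroup M24} {L : List (List ℕ)} (hnd : L.Nodup)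
    (hgen : ∀ l ∈ L, genOK l = true) (hH : ∀ σ : M24, σ ∈ H ↔ toList (σ : Equiv.Perm GolayPt) ∈ L) :
    Nat.card H = L.length := by
  classical
  rw [← List.toFinset_card_of_nodup hnd, ← Fintype.card_coe, ← Nat.card_eq_fintype_card]
  refine Nat.card_congr (Equiv.ofBijective
    (fun σ => ⟨toList (σ.1 : Equiv.Perm GolayPt), List.mem_toFinset.mpr ((hH σ.1).mp σ.2)⟩) ⟨?_, ?_⟩)
  · intro a b h
    exact Subtype.ext (Subtype.ext (toList_injective (congrArg Subtype.val h)))
  · rintro ⟨l, hl⟩
    rw [List.mem_toFinset] at hl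
    obtain ⟨τ, hτ, hτl⟩ := exists_perm (hgen l hl)
    exact ⟨⟨⟨τ, hτ⟩, (hH ⟨τ, hτ⟩).mpr (by show toList τ ∈ L; rw [hτl]; exact hl)⟩, Subtype.ext hτl⟩

/-- What is used about an element `y` of order five of `M24`. -/
structure FiveElt (y : M24) : Prop where
  order : orderOf y = 5
  card_cent : Nat.card (Subgroup.centralizer ({y} : Set M24)) = 60
  four : ∃ g : M24, g ^ 4 = 1 ∧ g * y * g⁻¹ = y ^ 2
  no_central : ∀ i : M24, orderOf i = 2 → Commute i y → ∃ c, Commute c y ∧ ¬ Commute i c
  card_pair : ∀ p q : GolayPt, p ≠ q → y • p = p → y • q = q →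
    Nat.card (Subgroup.centralizer ({y} : Set M24) ⊓ MulAction.stabilizer M24 ({p, q} : Finset GolayPt) :
      Subgroup M24) = 10

theorem exists_fiveElt : ∃ y : M24, FiveElt y := by
  classical
  obtain ⟨hgen, h5, hne, hok⟩ := FiveData.fiveL_facts
  obtain ⟨z, hzm, hz⟩ := exists_perm hgen
  set y : M24 := ⟨z, hzm⟩ with hy
  have hval : ∀ σ τ : M24, toList (σ : Equiv.Perm GolayPt) = toList (τ : Equiv.Perm GolayPt) → σ = τ :=
    fun σ τ h => Subtype.ext (toList_injective h)
  have hord : orderOf y = 5 := by
    have : Fact (Nat.Prime 5) := ⟨by norm_num⟩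
    refine orderOf_eq_prime ?_ fun e => hne ?_
    · refine Subtype.ext (toList_injective ?_)
      rw [show y ^ 5 = y * (y * (y * (y * y))) by simp [pow_succ, mul_assoc]]
      simp only [hy, Subgroup.coe_mul, toList_mul, OneMemClass.coe_one, toList_one, hz, h5]
    · rw [← hz, show z = (y : Equiv.Perm GolayPt) from rfl, e, OneMemClass.coe_one, toList_one]
  have hfix : ∀ r : GolayPt, y • r = r ↔ (idx r).val ∈ FiveData.fiveFix := by
    intro r
    have h := FiveData.fiveFix_spec
    simp only [List.all_eq_true, List.mem_range, beq_iff_eq] at h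
    have h' := h (idx r).val (idx r).isLt
    rw [← List.contains_iff_mem, ← h', ← hz, toList_getD]
    constructor
    · intro hr
      rw [show z r = r from hr, Nat.beq_refl]
    · intro hr
      exact idx_injective (Fin.ext (Nat.eq_of_beq_eq_true hr))
  have hmem : ∀ σ : M24, σ ∈ Subgroup.centralizer ({y} : Set M24) ↔
      toList (σ : Equiv.Perm GolayPt) ∈ FiveData.found := by
    intro σ
    constructor
    · intro hσ
      have hc : Commute σ y := mem_centralizer_singleton_iff.1 hσ
      rw [← FiveData.search_eq]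
      refine mem_searchImg_start σ.2 (x := z) (t := z)
        (mul_inv_eq_iff_eq_mul.2 (congrArg Subtype.val hc.eq)) hz hz hok fun s hs c hcs => ?_
      have hs' := List.all_eq_true.mp FiveData.stages_heads s hs
      simp only [Bool.or_eq_true, Bool.and_eq_true, beq_iff_eq, List.all_eq_true,
        List.contains_iff_mem] at hs'
      rcases hs' with e | ⟨e, hfx⟩
      · rw [e, List.mem_range]
        have hl := toList_length (σ : Equiv.Perm GolayPt)
        by_cases hh : c < (toList (σ : Equiv.Perm GolayPt)).length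
        · rw [List.getD_eq_getElem _ _ hh, toList_getElem]; exact Fin.isLt _
        · rw [List.getD_eq_default _ _ (by omega)]; norm_num
      · rw [e]
        have hcm := hfx c (List.mem_of_head? hcs)
        have hc24 : ∀ i ∈ FiveData.fiveFix, i < 24 := by decide +kernel
        set p := pt ⟨c, hc24 c hcm⟩ with hp
        have hidx : (idx p).val = c := by rw [hp, idx_pt]
        rw [← hidx, toList_getD]
        refine (hfix (σ • p)).1 ?_
        rw [← mul_smul, ← hc.eq, mul_smul, (hfix p).2 (hidx ▸ hcm)]
    · intro hl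
      have h := List.all_eq_true.mp FiveData.found_valid _ hl
      simp only [Bool.and_eq_true, beq_iff_eq] at h
      rw [← hz, ← toList_mul, ← toList_mul] at h
      exact mem_centralizer_singleton_iff.2 (Subtype.ext (toList_injective h.2))
  have hgenf : ∀ l ∈ FiveData.found, genOK l = true := fun l hl => by
    have h := List.all_eq_true.mp FiveData.found_valid l hl
    simp only [Bool.and_eq_true] at h
    exact h.1
  refine ⟨y, hord, ?_, ?_, ?_, ?_⟩
  · rw [natCard_subgroup_of_list FiveData.found_counts.1 hgenf hmem, FiveData.found_counts.2]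
  · obtain ⟨hg, hg4, hgy⟩ := FiveData.fourL_facts
    obtain ⟨w, hwm, hw⟩ := exists_perm hg
    refine ⟨⟨w, hwm⟩, hval _ _ ?_, mul_inv_eq_iff_eq_mul.2 (hval _ _ ?_)⟩
    · rw [show (⟨w, hwm⟩ : M24) ^ 4 = ⟨w, hwm⟩ * (⟨w, hwm⟩ * (⟨w, hwm⟩ * ⟨w, hwm⟩)) by
        simp [pow_succ, mul_assoc]]
      simp only [Subgroup.coe_mul, toList_mul, OneMemClass.coe_one, toList_one, hw, hg4]
    · simp only [hy, pow_two, Subgroup.coe_mul, toList_mul, hw, hz, hgy]
  · intro i hi hiy
    have h := List.all_eq_true.mp FiveData.found_no_central _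
      ((hmem i).1 (mem_centralizer_singleton_iff.2 hiy.eq))
    simp only [Bool.or_eq_true, beq_iff_eq, Bool.not_eq_true', beq_eq_false_iff_ne, ne_eq,
      List.any_eq_true] at h
    rcases h with (h | h) | ⟨l, hl, hne'⟩
    · exfalso
      have : i = 1 := hval i 1 (h.trans toList_one.symm)
      rw [this, orderOf_one] at hi
      norm_num at hi
    · exfalso
      apply h
      rw [← toList_mul, ← Subgroup.coe_mul, ← pow_two, ← hi, pow_orderOf_eq_one, OneMemClass.coe_one,
        toList_one]
    · obtain ⟨τ, hτ, hτl⟩ := exists_perm (hgenf l hl)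
      refine ⟨⟨τ, hτ⟩, mem_centralizer_singleton_iff.1 ((hmem ⟨τ, hτ⟩).2 (hτl ▸ hl)), fun hcm => hne' ?_⟩
      rw [← hτl, ← toList_mul, ← toList_mul]
      exact congrArg toList (congrArg Subtype.val hcm.eq)
  · intro p q hpq hp hq
    have hlist := List.all_eq_true.mp FiveData.found_pairs _ ((hfix p).1 hp)
    have hlist' := List.all_eq_true.mp hlist _ ((hfix q).1 hq)
    rw [Bool.or_eq_true] at hlist'
    have h10 := Nat.eq_of_beq_eq_true (hlist'.resolve_left fun e =>
      hpq (idx_injective (Fin.ext (Nat.eq_of_beq_eq_true e))))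
    rw [← h10]
    refine natCard_subgroup_of_list (FiveData.found_counts.1.filter _)
      (fun l hl => hgenf l (List.mem_filter.1 hl).1) fun σ => ?_
    rw [Subgroup.mem_inf, hmem, List.mem_filter]
    refine and_congr_right fun _ => ?_
    rw [MulAction.mem_stabilizer_iff, FiveData.pairFix]
    simp only [Bool.or_eq_true, Bool.and_eq_true, toList_getD]
    have hbeq : ∀ a b : GolayPt, Nat.beq (idx a).val (idx b).val = true ↔ a = b := fun a b =>
      ⟨fun e => idx_injective (Fin.ext (Nat.eq_of_beq_eq_true e)), fun e => by rw [e, Nat.beq_refl]⟩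
    simp only [hbeq]
    constructor
    · intro h
      have hmem' : ∀ r ∈ ({p, q} : Finset GolayPt), σ • r ∈ ({p, q} : Finset GolayPt) := fun r hr => by
        have h' := Finset.smul_mem_smul_finset (a := σ) hr
        rwa [h] at h'
      have h1 := hmem' p (by simp)
      have h2 := hmem' q (by simp)
      simp only [Finset.mem_insert, Finset.mem_singleton] at h1 h2
      rcases h1 with h1 | h1 <;> rcases h2 with h2 | h2
      · exact absurd (MulAction.injective σ (h1.trans h2.symm)) hpq
      · exact Or.inl ⟨h1, h2⟩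
      · exact Or.inr ⟨h1, h2⟩
      · exact absurd (MulAction.injective σ (h1.trans h2.symm)) hpq
    · rintro (⟨h1, h2⟩ | ⟨h1, h2⟩) <;>
        rw [Finset.smul_finset_insert, Finset.smul_finset_singleton]
      · rw [show σ • p = p from h1, show σ • q = q from h2]
      · rw [show σ • p = q from h1, show σ • q = p from h2, Finset.pair_comm]

/-- In the stabiliser of two points the centraliser of an element of order five has order ten. -/
theorem card_centralizer_five_setStab (b : ↥(Steiner.Witt.setStab MathieuAut22.twoPts)) (hb : orderOf b = 5) :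
    Nat.card (Subgroup.centralizer ({b} : Set ↥(Steiner.Witt.setStab MathieuAut22.twoPts))) = 10 := by
  classical
  obtain ⟨y, hy⟩ := exists_fiveElt
  have : Fact (Nat.Prime 5) := ⟨by norm_num⟩
  set b' : M24 := ⟨b, b.2.1⟩ with hb'
  have hb'5 : orderOf b' = 5 := by rw [← hb, ← Subgroup.orderOf_coe, ← Subgroup.orderOf_coe b]
  obtain ⟨g, -, hg⟩ := conj_of_card (p := 5) (⊤ : Subgroup M24) (X := Subgroup.zpowers b')
    (Y := Subgroup.zpowers y) (by rw [Subgroup.card_top, natCard_M24]; norm_num) le_top le_top
    (by rw [Nat.card_zpowers, hb'5]) (by rw [Nat.card_zpowers, hy.order])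
  have hbstab : b' • ({none, some 0} : Finset GolayPt) = {none, some 0} := b.2.2
  obtain ⟨hbp, hbq⟩ := fix_of_odd hbstab (by rw [hb'5]; norm_num)
  have hy' : g⁻¹ * y * g ∈ Subgroup.zpowers b' := mem_map_conj.1 (hg ▸ Subgroup.mem_zpowers y)
  have hyfix : ∀ r : GolayPt, b' • r = r → y • (g • r) = g • r := by
    intro r hr
    have h : g⁻¹ * y * g ∈ MulAction.stabilizer M24 r :=
      (Subgroup.zpowers_le.2 (show b' ∈ MulAction.stabilizer M24 r from hr)) hy'
    rw [MulAction.mem_stabilizer_iff, mul_smul, mul_smul, inv_smul_eq_iff] at h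
    exact h
  rw [← hy.card_pair (g • none) (g • some 0) (fun e => by simpa using MulAction.injective g e)
    (hyfix _ hbp) (hyfix _ hbq)]
  -- transport by conjugation
  have hcomm : ∀ m : M24, Commute m b' ↔ Commute (g * m * g⁻¹) y := by
    intro m
    constructor
    · intro h
      obtain ⟨j, hj⟩ := Subgroup.mem_zpowers_iff.1 hy'
      exact (commute_conj_fix (g := g) (a := g⁻¹ * y * g) (b := y) (by group)
        (x := g * m * g⁻¹)).1 (by simpa [mul_assoc, ← hj] using h.zpow_right j)
    · intro h
      have hmem : g * b' * g⁻¹ ∈ Subgroup.zpowers y := hg ▸ ⟨b', Subgroup.mem_zpowers b', rfl⟩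
      obtain ⟨j, hj⟩ := Subgroup.mem_zpowers_iff.1 hmem
      have h' := (commute_conj_fix (g := g) (a := b') (b := g * b' * g⁻¹) rfl (x := g * m * g⁻¹)).2
        (hj ▸ h.zpow_right j)
      simpa [mul_assoc] using h'
  refine Nat.card_congr
    { toFun := fun m => ⟨g * ⟨(m.1 : Equiv.Perm GolayPt), m.1.2.1⟩ * g⁻¹, ?_, ?_⟩
      invFun := fun m => ⟨⟨((g⁻¹ * m.1 * g : M24) : Equiv.Perm GolayPt), (g⁻¹ * m.1 * g).2, ?_⟩, ?_⟩
      left_inv := fun m => ?_
      right_inv := fun m => ?_ }
  · exact mem_centralizer_singleton_iff.2 ((hcomm _).1 (Subtype.ext (congrArg (fun a : ↥(Steiner.Witt.setStab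
      MathieuAut22.twoPts) => (a : Equiv.Perm GolayPt)) (mem_centralizer_singleton_iff.1 m.2)))).eq
  · show (g * _ * g⁻¹ : M24) • ({g • none, g • some 0} : Finset GolayPt) = _
    rw [show ({g • none, g • some 0} : Finset GolayPt) = g • {none, some 0} by
      rw [Finset.smul_finset_insert, Finset.smul_finset_singleton], smul_smul, inv_mul_cancel_right,
      mul_smul]
    congr 1
    exact m.1.2.2
  · obtain ⟨mm, -, hm⟩ := m
    have h : mm • ({g • none, g • some 0} : Finset GolayPt) = {g • none, g • some 0} := hm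
    rw [show ({g • none, g • some 0} : Finset GolayPt) = g • {none, some 0} by
      rw [Finset.smul_finset_insert, Finset.smul_finset_singleton]] at h
    show (g⁻¹ * mm * g : M24) • ({none, some 0} : Finset GolayPt) = {none, some 0}
    rw [mul_smul, mul_smul, h, inv_smul_smul]
  · refine mem_centralizer_singleton_iff.2 ?_
    have h : Commute (g⁻¹ * m.1 * g) b' := (hcomm _).2 (by
      rw [show g * (g⁻¹ * m.1 * g) * g⁻¹ = m.1 by group]
      exact mem_centralizer_singleton_iff.1 m.2.1)
    exact Subtype.ext (congrArg Subtype.val h.eq :)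
  · refine Subtype.ext (Subtype.ext ?_)
    have h : g⁻¹ * (g * ⟨_, m.1.2.1⟩ * g⁻¹) * g = (⟨_, m.1.2.1⟩ : M24) := by group
    exact (congrArg Subtype.val h :)
  · refine Subtype.ext ?_
    show g * (g⁻¹ * m.1 * g) * g⁻¹ = m.1
    group

end CfsgLib.J4Type
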