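import Cfsg.Statements.S5573
import Cfsg.Agent.S3035
import Cfsg.Agent.Lib.TwoGroups.Semidihedral
import Cfsg.Agent.Lib.Recog.PermSpectrum

/-!
# Small group facts for the 7-local subgroup
-/

set_option autoImplicit false

namespace CfsgLib.J4Type

universe u

/-- Order of a subgroup through a homomorphism. -/
theorem card_eq_inf_ker_mul_map {A B : Type*} [Group A] [Group B] [Finite A] (f : A →* B)
    (X : Subgroup A) :
    Nat.card X = Nat.card (X ⊓ f.ker : Subgroup A) * Nat.card (X.map f) := by
  rw [Subgroup.card_eq_card_quotient_mul_card_subgroup (f.comp X.subtype).ker, mul_comm]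
  congr 1
  · refine Nat.card_congr ?_
    exact
      { toFun := fun a => ⟨(a.1 : A), a.1.2, a.2⟩
        invFun := fun a => ⟨⟨a.1, a.2.1⟩, a.2.2⟩
        left_inv := fun a => rfl
        right_inv := fun a => rfl }
  · rw [Nat.card_congr (QuotientGroup.quotientKerEquivRange (f.comp X.subtype)).toEquiv,
      MonoidHom.range_comp, Subgroup.range_subtype]

/-- A group of order eight in which a conjugation sends an involution `v` to its product with a
central involution is dihedral. -/
theorem dihedral_four {D : Type*} [Group D] (hD : Nat.card D = 8) {t v g : D}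
    (htc : ∀ d : D, d * t = t * d) (ht : t * t = 1) (ht1 : t ≠ 1) (hv : v * v = 1) (hv1 : v ≠ 1)
    (hvt : v ≠ t) (hg : g * v * g⁻¹ = v * t) :
    Nonempty (D ≃* DihedralGroup 4) := by
  have : Finite D := Nat.finite_of_card_ne_zero (by rw [hD]; norm_num)
  have : Fact (Nat.Prime 2) := ⟨Nat.prime_two⟩
  -- the four-group generated by `t` and `v`
  have htv : Commute v t := htc v
  let U : Subgroup D :=
    { carrier := {1, t, v, v * t}
      one_mem' := Or.inl rfl
      mul_mem' := by
        have f1 : t * v = v * t := htv.eq.symm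
        have f2 : v * t * v = t := by rw [mul_assoc, f1, ← mul_assoc, hv, one_mul]
        have f3 : v * t * t = v := by rw [mul_assoc, ht, mul_one]
        have f4 : v * (v * t) = t := by rw [← mul_assoc, hv, one_mul]
        have f5 : t * (v * t) = v := by rw [← mul_assoc, f1, f3]
        have f6 : v * t * (v * t) = 1 := by rw [← mul_assoc, f2, ht]
        rintro a b (h | h | h | h) (k | k | k | k) <;>
          (rw [h, k]; simp [ht, hv, f1, f2, f3, f4, f5, f6])
      inv_mem' := by
        rintro a (h | h | h | h) <;>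
          (rw [h]; simp [inv_eq_of_mul_eq_one_right ht, inv_eq_of_mul_eq_one_right hv, htv.eq]) }
  have hgv : ¬ Commute g v := by
    intro h
    rw [h.eq, mul_inv_cancel_right] at hg
    exact ht1 (by simpa using hg.symm)
  have hgU : g ∉ U := by
    rintro (h | h | h | h) <;> rw [h] at hgv
    · exact hgv (Commute.one_left v)
    · exact hgv htv.symm
    · exact hgv (Commute.refl v)
    · exact hgv ((Commute.refl v).mul_left htv.symm)
  have hU : Nat.card U = 4 := by
    show ({1, t, v, v * t} : Set D).ncard = 4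
    have h1 : v * t ≠ 1 := fun e => hvt (by rw [eq_inv_of_mul_eq_one_left e, inv_eq_of_mul_eq_one_right ht])
    rw [Set.ncard_insert_of_notMem, Set.ncard_insert_of_notMem, Set.ncard_pair]
    · intro e; exact ht1 (by simpa using e.symm)
    · simp only [Set.mem_insert_iff, Set.mem_singleton_iff, not_or]
      exact ⟨hvt.symm, fun e => hv1 (by simpa using e.symm)⟩
    · simp only [Set.mem_insert_iff, Set.mem_singleton_iff, not_or]
      exact ⟨ht1.symm, hv1.symm, h1.symm⟩
  have hidx : U.index = 2 := by
    have h := U.card_mul_index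
    rw [hU, hD] at h
    omega
  have hg2U : g * g ∈ U := Subgroup.mul_self_mem_of_index_two hidx g
  have hg2 : g * g = 1 ∨ g * g = t := by
    have hcg : Commute g (g * g) := (Commute.refl g).mul_right (Commute.refl g)
    rcases hg2U with h | h | h | h
    · exact Or.inl h
    · exact Or.inr h
    · exact absurd (h ▸ hcg) hgv
    · exfalso
      have h' : Commute g (v * t) := h ▸ hcg
      have h'' : Commute g v := by
        have := h'.mul_right (htc g : Commute g t)
        rwa [mul_assoc, ht, mul_one] at this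
      exact hgv h''
  have hvi : v⁻¹ = v := inv_eq_of_mul_eq_one_right hv
  have hgvg : g * v = v * t * g := mul_inv_eq_iff_eq_mul.1 hg
  obtain ⟨r, hr, hrv⟩ : ∃ r : D, r * r = t ∧ v * r * v⁻¹ = r⁻¹ := by
    rcases hg2 with h | h
    · refine ⟨v * g, ?_, ?_⟩
      · calc v * g * (v * g) = v * (g * v) * g := by group
          _ = v * (v * t * g) * g := by rw [hgvg]
          _ = (v * v) * t * (g * g) := by group
          _ = t := by rw [hv, h, one_mul, mul_one]
      · rw [mul_inv_rev, ← mul_assoc, hv, one_mul, inv_eq_of_mul_eq_one_right h]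
    · refine ⟨g, h, ?_⟩
      refine eq_inv_of_mul_eq_one_left ?_
      calc v * g * v⁻¹ * g = v * (g * v) * g := by rw [hvi]; group
        _ = v * (v * t * g) * g := by rw [hgvg]
        _ = (v * v) * t * (g * g) := by group
        _ = 1 := by rw [hv, h, one_mul, ht]
  have hr4 : r ^ 4 = 1 := by
    rw [show r ^ 4 = (r * r) * (r * r) by simp [pow_succ, mul_assoc], hr, ht]
  have hord : orderOf r = 4 := by
    refine orderOf_eq_prime_pow (p := 2) (n := 1) ?_ (by simpa using hr4)
    simpa [pow_succ, hr] using ht1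
  have hnot : v ∉ Subgroup.zpowers r := by
    rintro ⟨k, hk⟩
    have hc : Commute v r := hk ▸ (Commute.refl r).zpow_left k
    rw [hc.eq, mul_inv_cancel_right] at hrv
    have h2 : r * r = 1 := by nth_rewrite 1 [hrv]; exact inv_mul_cancel r
    exact ht1 (hr ▸ h2)
  let φ := TwoGroups.SD.dihedralHom (m := 4) r v hr4 hv hrv
  have hinj : Function.Injective φ :=
    TwoGroups.SD.dihedralHom_injective (m := 4) r v hr4 hv hrv hord hnot
  have hbij : Function.Bijective φ := by
    refine hinj.bijective_of_nat_card_le ?_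
    rw [hD, DihedralGroup.nat_card]
  exact ⟨(MulEquiv.ofBijective φ hbij).symm⟩

/-- A dihedral group of order eight has only one central involution. -/
theorem dihedral_four_center : ∀ a b : DihedralGroup 4, (∀ c, a * c = c * a) → (∀ c, b * c = c * b) →
    a ≠ 1 → b ≠ 1 → a = b := by
  decide +kernel

theorem perm_four_six : ∀ σ : Equiv.Perm (Fin 4), σ ^ 6 = 1 → σ ^ 2 = 1 ∨ σ ^ 3 = 1 := by
  decide +kernel

theorem sl_three_two_six : ∀ M : Matrix (Fin 3) (Fin 3) (ZMod 2),
    M ^ 6 = 1 → M ^ 2 = 1 ∨ M ^ 3 = 1 ∨ M.det = 0 := by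
  decide +kernel

/-- A group with an involution of dihedral centraliser of order eight, an element of order six and a
conjugate of the involution other than itself in its centraliser is the symmetric group of
degree five. -/
theorem iso_perm_five {Q : Type u} [Group Q] [Finite Q] {t v s w : Q} (ht : orderOf t = 2)
    (hD : Nonempty (↥(Subgroup.centralizer ({t} : Set Q)) ≃* DihedralGroup 4))
    (hvt : Commute v t) (hv : v ≠ t) (hc : s * t * s⁻¹ = v) (hw : orderOf w = 6) :
    Nonempty (Q ≃* Equiv.Perm (Fin 5)) := by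
  have hno : ∀ {P : Type} [Group P] (_ : Q ≃* P), (∀ p : P, p ^ 6 = 1 → p ^ 2 = 1 ∨ p ^ 3 = 1) → False := by
    intro P _ e h
    have hp : orderOf (e w) = 6 := (MulEquiv.orderOf_eq e w).trans hw
    rcases h (e w) (by rw [← hp, pow_orderOf_eq_one]) with h' | h' <;>
      · have h'' := orderOf_dvd_of_pow_eq_one h'
        rw [hp] at h''
        norm_num at h''
  rcases Cfsg.Agent.S3035.result t ht hD with hO | ⟨⟨e⟩⟩ | h | ⟨⟨e⟩⟩ | ⟨⟨e⟩⟩
  · exfalso
    have : (Cfsg.oddCore Q).Normal := inferInstance
    obtain ⟨d, hd, o, ho, hdo⟩ := Subgroup.mem_sup_of_normal_right.1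
      (show s⁻¹ ∈ Subgroup.centralizer ({t} : Set Q) ⊔ Cfsg.oddCore Q from hO ▸ Subgroup.mem_top _)
    have hdt : d⁻¹ * t * d = t := by
      rw [mul_assoc, ← Subgroup.mem_centralizer_singleton_iff.1 hd, inv_mul_cancel_left]
    have hs : v = o⁻¹ * t * o := by
      rw [← hc, show s = (d * o)⁻¹ by rw [hdo, inv_inv]]
      calc (d * o)⁻¹ * t * (d * o)⁻¹⁻¹ = o⁻¹ * (d⁻¹ * t * d) * o := by group
        _ = _ := by rw [hdt]
    have hmem : t * v ∈ Cfsg.oddCore Q := by
      rw [hs, show t * (o⁻¹ * t * o) = (t * o⁻¹ * t) * o by group]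
      refine mul_mem ?_ ho
      have ht' : t⁻¹ = t := inv_eq_of_mul_eq_one_right (by rw [← sq, ← ht, pow_orderOf_eq_one])
      have := Subgroup.Normal.conj_mem (H := Cfsg.oddCore Q) inferInstance _ (inv_mem ho) t
      rwa [ht'] at this
    have h2 : (t * v) ^ 2 = 1 := by
      rw [(hvt.symm).mul_pow, ← hc, conj_pow, ← ht, pow_orderOf_eq_one]
      simp
    have hodd : ¬ 2 ∣ orderOf (⟨t * v, hmem⟩ : Cfsg.oddCore Q) := fun hd =>
      CfsgLib.PCore.not_dvd_card_pPrimeCore (p := 2) (G := Q) (hd.trans (orderOf_dvd_natCard _))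
    rw [Subgroup.orderOf_mk] at hodd
    rcases (Nat.dvd_prime Nat.prime_two).1 (orderOf_dvd_of_pow_eq_one h2) with h1 | h1
    · rw [orderOf_eq_one_iff, mul_eq_one_iff_inv_eq,
        inv_eq_of_mul_eq_one_right (by rw [← sq, ← ht, pow_orderOf_eq_one])] at h1
      exact hv h1.symm
    · exact hodd (by rw [h1])
  · exact (hno e perm_four_six).elim
  · exact h
  · refine (hno e fun p hp => ?_).elim
    rcases sl_three_two_six p.1 (by
        rw [← Matrix.SpecialLinearGroup.coe_pow, hp, Matrix.SpecialLinearGroup.coe_one]) with h | h | h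
    · exact Or.inl (Subtype.ext (by simpa using h))
    · exact Or.inr (Subtype.ext (by simpa using h))
    · exact absurd (p.2.symm.trans h) one_ne_zero
  · exfalso
    have h6 : 6 ∈ Set.range (orderOf : ↥(alternatingGroup (Fin 6)) → ℕ) :=
      ⟨e w, (MulEquiv.orderOf_eq e w).trans hw⟩
    rw [CfsgLib.Recog.range_orderOf_alternating_six] at h6
    revert h6
    decide

end CfsgLib.J4Type
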