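import Cfsg.Agent.Lib.J4Type.SevenM24
import Cfsg.Agent.Lib.J4Type.SevenGroup
import Cfsg.Agent.Lib.Golay.M24Group
import Cfsg.Agent.Lib.ThreeTrans.Torsion.Basic

/-!
# The seven-local structure in Janko-four type

Everything follows from the maximal 2-local `N(V) = V : M24`, its orbit of length 276 with centralisers
inside it, and the fact that an element of order three has an involution commuting with its whole
centraliser.
-/

set_option autoImplicit false

namespace CfsgLib.J4Type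

open Cfsg CfsgLib.ThreeTrans.Torsion
open Subgroup (mem_centralizer_singleton_iff)

universe u

variable {G : Type u} [Group G]

theorem centralizer_zpowers (x : G) :
    Subgroup.centralizer (Subgroup.zpowers x : Set G) = Subgroup.centralizer ({x} : Set G) := by
  rw [Subgroup.zpowers_eq_closure, Subgroup.centralizer_closure]

/-- A group with centre of index dividing three is commutative. -/
theorem comm_of_index {A : Type*} [Group A] [Finite A] (h : (Subgroup.center A).index ∣ 3) (a b : A) :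
    a * b = b * a := by
  have : IsCyclic (A ⧸ Subgroup.center A) := by
    rcases (Nat.dvd_prime Nat.prime_three).1 h with h | h
    · have : Subsingleton (A ⧸ Subgroup.center A) := (Nat.card_eq_one_iff_unique.1 h).1
      infer_instance
    · have : Fact (Nat.Prime 3) := ⟨Nat.prime_three⟩
      exact isCyclic_of_prime_card h
  exact ((QuotientGroup.mk' (Subgroup.center A)).isMulCommutative_of_isCyclic_of_ker_le_center
    (by rw [QuotientGroup.ker_mk'])).is_comm.comm a b

/-- The projection of the normaliser of `V` onto a complement isomorphic to `M24`. -/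
theorem exists_proj {V K : Subgroup G} (hKN : K ≤ Subgroup.normalizer (V : Set G)) (hKV : K ⊓ V = ⊥)
    (hKs : K ⊔ V = Subgroup.normalizer (V : Set G)) (e : K ≃* M24) :
    ∃ π : Subgroup.normalizer (V : Set G) →* M24,
      (∀ n, π n = 1 ↔ (n : G) ∈ V) ∧ ∀ k : K, π ⟨k, hKN k.2⟩ = e k := by
  let mk := QuotientGroup.mk' (V.subgroupOf (Subgroup.normalizer (V : Set G)))
  let ψ : K →* _ := mk.comp (Subgroup.inclusion hKN)
  have hinj : Function.Injective ψ := by
    refine (injective_iff_map_eq_one ψ).2 fun k hk => ?_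
    have hkV : (k : G) ∈ V := Subgroup.mem_subgroupOf.1
      ((QuotientGroup.eq_one_iff (N := V.subgroupOf (Subgroup.normalizer (V : Set G)))
        (Subgroup.inclusion hKN k)).1 hk)
    have h : (k : G) ∈ K ⊓ V := ⟨k.2, hkV⟩
    rw [hKV, Subgroup.mem_bot] at h
    exact Subtype.ext h
  have hsurj : Function.Surjective ψ := by
    intro q
    obtain ⟨n, rfl⟩ := QuotientGroup.mk'_surjective _ q
    have hn : (n : G) ∈ ((K ⊔ V : Subgroup G) : Set G) := by rw [hKs]; exact n.2
    rw [Subgroup.coe_mul_of_left_le_normalizer_right K V hKN] at hn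
    obtain ⟨k, hk, v, hv, hkv⟩ := hn
    refine ⟨⟨k, hk⟩, QuotientGroup.eq.2 (Subgroup.mem_subgroupOf.2 ?_)⟩
    show k⁻¹ * (n : G) ∈ V
    rw [← hkv, inv_mul_cancel_left]
    exact hv
  let E := MulEquiv.ofBijective ψ ⟨hinj, hsurj⟩
  refine ⟨(e.toMonoidHom.comp E.symm.toMonoidHom).comp mk, fun n => ?_, fun k => ?_⟩
  · show e (E.symm (mk n)) = 1 ↔ _
    rw [map_eq_one_iff e e.injective, map_eq_one_iff E.symm E.symm.injective]
    exact (QuotientGroup.eq_one_iff n).trans Subgroup.mem_subgroupOf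
  · show e (E.symm (mk ⟨k, _⟩)) = e k
    exact congrArg e (E.symm_apply_apply k)

variable [Finite G]

/-- Order of a subgroup of the normaliser of `V` through the projection. -/
theorem card_eq_inf_mul_image {V N : Subgroup G} (π : N →* M24)
    (hπ : ∀ n, π n = 1 ↔ (n : G) ∈ V) {X : Subgroup G} (hX : X ≤ N) :
    Nat.card X = Nat.card (X ⊓ V : Subgroup G) * Nat.card ((X.subgroupOf N).map π) := by
  have hk : X.subgroupOf N ⊓ π.ker = (X ⊓ V).subgroupOf N := by
    ext n
    simp [Subgroup.mem_subgroupOf, MonoidHom.mem_ker, hπ]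
  rw [← Nat.card_congr (Subgroup.subgroupOfEquivOfLe hX).toEquiv, card_eq_inf_ker_mul_map π, hk,
    Nat.card_congr (Subgroup.subgroupOfEquivOfLe (inf_le_left.trans hX)).toEquiv]

/-- An element of order seven in the complement, and the orders of the intersections of its
centraliser and normaliser with `N(V)` relative to the fixed points. -/
theorem seven_in_complement {V K : Subgroup G}
    (hKN : K ≤ Subgroup.normalizer (V : Set G)) (π : Subgroup.normalizer (V : Set G) →* M24)
    (hπ : ∀ n, π n = 1 ↔ (n : G) ∈ V) (e : K ≃* M24) (he : ∀ k : K, π ⟨k, hKN k.2⟩ = e k) :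
    ∃ x : G, ∃ hxN : x ∈ Subgroup.normalizer (V : Set G), orderOf x = 7 ∧ orderOf (π ⟨x, hxN⟩) = 7 ∧
      (((Subgroup.normalizer (V : Set G) ⊓ Subgroup.centralizer {x}).subgroupOf
          (Subgroup.normalizer (V : Set G))).map π = Subgroup.centralizer {π ⟨x, hxN⟩}) ∧
      Nat.card (Subgroup.normalizer (V : Set G) ⊓ Subgroup.centralizer {x} : Subgroup G) =
        Nat.card (V ⊓ Subgroup.centralizer {x} : Subgroup G) * 42 ∧
      Nat.card (Subgroup.normalizer (V : Set G) ⊓
          Subgroup.normalizer (Subgroup.zpowers x : Set G) : Subgroup G) =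
        Nat.card (V ⊓ Subgroup.centralizer {x} : Subgroup G) * 126 := by
  have : Fact (Nat.Prime 7) := ⟨by norm_num⟩
  obtain ⟨y, hy⟩ := exists_prime_orderOf_dvd_card' (G := M24) 7 (by rw [Golay.natCard_M24]; norm_num)
  obtain ⟨k0, rfl⟩ := e.surjective y
  have hx : orderOf (k0 : G) = 7 := by
    rw [Subgroup.orderOf_coe, ← hy, MulEquiv.orderOf_eq]
  have hπx : π ⟨k0, hKN k0.2⟩ = e k0 := he k0
  have hle : V ≤ Subgroup.normalizer (V : Set G) := Subgroup.le_normalizer
  have hzc : Nat.card (Subgroup.zpowers (e k0)) = 7 := by rw [Nat.card_zpowers, hy]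
  obtain ⟨hn126, hc42, -⟩ := Agent.S5604.result (Subgroup.zpowers (e k0)) hzc
  rw [centralizer_zpowers] at hc42
  have hC : ((Subgroup.normalizer (V : Set G) ⊓ Subgroup.centralizer {(k0 : G)}).subgroupOf
      (Subgroup.normalizer (V : Set G))).map π = Subgroup.centralizer {e k0} := by
    ext m
    simp only [Subgroup.mem_map, Subgroup.mem_subgroupOf, Subgroup.mem_inf,
      mem_centralizer_singleton_iff]
    constructor
    · rintro ⟨n, ⟨-, hn⟩, rfl⟩
      rw [← hπx, ← map_mul, ← map_mul]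
      exact congrArg π (Subtype.ext hn)
    · intro hm
      obtain ⟨k, rfl⟩ := e.surjective m
      rw [← map_mul, ← map_mul] at hm
      exact ⟨⟨k, hKN k.2⟩, ⟨hKN k.2, congrArg Subtype.val (e.injective hm)⟩, he k⟩
  have hN : ((Subgroup.normalizer (V : Set G) ⊓
      Subgroup.normalizer (Subgroup.zpowers (k0 : G) : Set G)).subgroupOf
      (Subgroup.normalizer (V : Set G))).map π =
      Subgroup.normalizer (Subgroup.zpowers (e k0) : Set M24) := by
    ext m
    simp only [Subgroup.mem_map, Subgroup.mem_subgroupOf, Subgroup.mem_inf]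
    constructor
    · rintro ⟨n, ⟨-, hn⟩, rfl⟩
      rw [← map_conj_eq_iff, MonoidHom.map_zpowers]
      rw [← map_conj_eq_iff, MonoidHom.map_zpowers] at hn
      have hmem : (n : G) * (k0 : G) * (n : G)⁻¹ ∈ Subgroup.zpowers (k0 : G) := by
        exact le_of_eq hn (Subgroup.mem_zpowers _)
      obtain ⟨j, hj⟩ := Subgroup.mem_zpowers_iff.1 hmem
      have hpi : π n * e k0 * (π n)⁻¹ = e k0 ^ j := by
        rw [← hπx, ← map_inv, ← map_mul, ← map_mul, ← map_zpow]
        exact congrArg π (Subtype.ext (by simp [hj]))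
      refine Subgroup.eq_of_le_of_card_ge ?_ ?_
      · rw [Subgroup.zpowers_le]
        exact ⟨j, hpi.symm⟩
      · rw [hzc, Nat.card_zpowers, MulEquiv.coe_toMonoidHom, MulEquiv.orderOf_eq, hy]
    · intro hm
      obtain ⟨k, rfl⟩ := e.surjective m
      refine ⟨⟨k, hKN k.2⟩, ⟨hKN k.2, ?_⟩, he k⟩
      rw [← map_conj_eq_iff, MonoidHom.map_zpowers]
      obtain ⟨j, hj⟩ := Subgroup.mem_zpowers_iff.1
        ((Subgroup.mem_normalizer_iff.1 hm (e k0)).1 (Subgroup.mem_zpowers _))
      rw [← map_inv, ← map_mul, ← map_mul, ← map_zpow] at hj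
      refine Subgroup.eq_of_le_of_card_ge ?_ ?_
      · rw [Subgroup.zpowers_le]
        exact ⟨j, (congrArg Subtype.val (e.injective hj) :)⟩
      · rw [Nat.card_zpowers, Nat.card_zpowers, MulEquiv.coe_toMonoidHom, MulEquiv.orderOf_eq]
  -- the kernels
  have hinfC : (Subgroup.normalizer (V : Set G) ⊓ Subgroup.centralizer {(k0 : G)}) ⊓ V =
      V ⊓ Subgroup.centralizer {(k0 : G)} := by
    rw [inf_comm _ V, ← inf_assoc, inf_eq_left.2 hle]
  have hinfN : (Subgroup.normalizer (V : Set G) ⊓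
      Subgroup.normalizer (Subgroup.zpowers (k0 : G) : Set G)) ⊓ V =
      V ⊓ Subgroup.centralizer {(k0 : G)} := by
    ext v
    simp only [Subgroup.mem_inf, mem_centralizer_singleton_iff]
    constructor
    · rintro ⟨⟨hvN, hvX⟩, hvV⟩
      obtain ⟨j, hj⟩ := Subgroup.mem_zpowers_iff.1
        ((Subgroup.mem_normalizer_iff.1 hvX (k0 : G)).1 (Subgroup.mem_zpowers _))
      have hj' := congrArg π (Subtype.ext (by simpa using hj.symm) :
        (⟨v, hvN⟩ : Subgroup.normalizer (V : Set G)) * ⟨k0, hKN k0.2⟩ * ⟨v, hvN⟩⁻¹ =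
          ⟨k0, hKN k0.2⟩ ^ j)
      rw [map_mul, map_mul, map_inv, map_zpow, (hπ ⟨v, hvN⟩).2 hvV, hπx, inv_one, one_mul, mul_one] at hj'
      have hdvd : (7 : ℤ) ∣ j - 1 := by
        have h := orderOf_dvd_iff_zpow_eq_one.2
          (show e k0 ^ (j - 1) = 1 by rw [zpow_sub_one, ← hj', mul_inv_cancel])
        rwa [hy] at h
      have hj1 : (k0 : G) ^ j = k0 := by
        have h := orderOf_dvd_iff_zpow_eq_one.1 (show (orderOf (k0 : G) : ℤ) ∣ j - 1 by rw [hx]; exact hdvd)
        rw [zpow_sub_one, mul_inv_eq_one] at h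
        exact h
      rw [hj1] at hj
      exact ⟨hvV, mul_inv_eq_iff_eq_mul.1 hj.symm⟩
    · rintro ⟨hvV, hv⟩
      refine ⟨⟨hle hvV, Subgroup.centralizer_le_normalizer _ ?_⟩, hvV⟩
      rw [centralizer_zpowers]
      exact mem_centralizer_singleton_iff.2 hv
  refine ⟨k0, hKN k0.2, hx, by rw [hπx, hy], by rw [hC, hπx], ?_, ?_⟩
  · rw [card_eq_inf_mul_image π hπ inf_le_left, hinfC, hC, hc42]
  · rw [card_eq_inf_mul_image π hπ inf_le_left, hinfN, hN, hn126]

/-- The fixed points of the element of order seven form a four-group whose involutions lie in the orbit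
of length 276 and are conjugate under its normaliser. -/
theorem fixed_points {V : Subgroup G} (hVc : Nat.card V = 2 ^ 11)
    (hN : Nat.card (Subgroup.normalizer (V : Set G)) = 2 ^ 11 * 244823040)
    {z' t : G} (hz'V : z' ∈ V) (htV : t ∈ V) (hz'1 : z' ≠ 1) (ht1 : t ≠ 1) (hne : ¬ IsConj z' t)
    (h1771 : {v : G | ∃ n ∈ Subgroup.normalizer (V : Set G), n * z' * n⁻¹ = v}.ncard = 1771)
    (h276 : {v : G | ∃ n ∈ Subgroup.normalizer (V : Set G), n * t * n⁻¹ = v}.ncard = 276)
    {x : G} (hxN : x ∈ Subgroup.normalizer (V : Set G)) (hx : orderOf x = 7)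
    (hcard : Nat.card (Subgroup.normalizer (V : Set G) ⊓
          Subgroup.normalizer (Subgroup.zpowers x : Set G) : Subgroup G) =
        Nat.card (V ⊓ Subgroup.centralizer {x} : Subgroup G) * 126) :
    Nat.card (V ⊓ Subgroup.centralizer {x} : Subgroup G) = 4 ∧
      ∀ v ∈ V ⊓ Subgroup.centralizer {x}, v ≠ 1 →
        (∃ n ∈ Subgroup.normalizer (V : Set G), n * t * n⁻¹ = v) ∧
        ∀ w ∈ V ⊓ Subgroup.centralizer {x}, w ≠ 1 → ∃ n ∈ Subgroup.normalizer (V : Set G) ⊓
          Subgroup.normalizer (Subgroup.zpowers x : Set G), n * v * n⁻¹ = w := by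
  classical
  have : Fact (Nat.Prime 7) := ⟨by norm_num⟩
  set N := Subgroup.normalizer (V : Set G) with hNdef
  set F := V ⊓ Subgroup.centralizer ({x} : Set G) with hF
  have hX : Nat.card (Subgroup.zpowers x) = 7 := by rw [Nat.card_zpowers, hx]
  have hXN : Subgroup.zpowers x ≤ N := Subgroup.zpowers_le.2 hxN
  set O1 := {v : G | ∃ n ∈ N, n * z' * n⁻¹ = v} with hO1
  set O2 := {v : G | ∃ n ∈ N, n * t * n⁻¹ = v} with hO2
  have hconjV : ∀ n ∈ N, ∀ v ∈ V, n * v * n⁻¹ ∈ V := fun n hn v hv =>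
    (Subgroup.mem_normalizer_iff.1 hn v).1 hv
  have hsub : ∀ a ∈ V, a ≠ 1 → {v : G | ∃ n ∈ N, n * a * n⁻¹ = v} ⊆ (V : Set G) \ {1} := by
    rintro a ha ha1 _ ⟨n, hn, rfl⟩
    exact ⟨hconjV n hn a ha, fun h => ha1 (conj_eq_one_iff.1 h)⟩
  have hdisj : Disjoint O1 O2 := by
    rw [Set.disjoint_left]
    rintro v ⟨n, -, rfl⟩ ⟨m, -, hm⟩
    exact hne ((isConj_iff.2 ⟨n, rfl⟩).trans (isConj_iff.2 ⟨m, hm⟩).symm)
  have hunion : O1 ∪ O2 = (V : Set G) \ {1} := by
    refine Set.eq_of_subset_of_ncard_le (Set.union_subset (hsub _ hz'V hz'1) (hsub _ htV ht1)) ?_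
    rw [Set.ncard_union_eq hdisj, h1771, h276, Set.ncard_sdiff_singleton_of_mem (Subgroup.one_mem V),
      ← Nat.card_coe_set_eq]
    exact le_of_eq (by rw [show Nat.card ↥(V : Set G) = 2 ^ 11 from hVc]; norm_num)
  have hxcomm : ∀ v, (∀ y ∈ Subgroup.zpowers x, Commute y v) ↔ v ∈ Subgroup.centralizer ({x} : Set G) := by
    intro v
    rw [mem_centralizer_singleton_iff]
    refine ⟨fun h => (h x (Subgroup.mem_zpowers x)).eq.symm, fun h y hy => ?_⟩
    obtain ⟨j, rfl⟩ := Subgroup.mem_zpowers_iff.1 hy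
    exact (show Commute x v from h.symm).zpow_left j
  -- stabilisers in the orbits
  have hstab : ∀ a : G, ∀ v, (∃ n ∈ N, n * a * n⁻¹ = v) → Nat.card N =
      {v : G | ∃ n ∈ N, n * a * n⁻¹ = v}.ncard *
        Nat.card (N ⊓ Subgroup.centralizer ({v} : Set G) : Subgroup G) := by
    rintro a _ ⟨m, hm, rfl⟩
    refine card_eq_orbit_mul N ⟨m, hm, rfl⟩ (fun k hk => ⟨k * m, mul_mem hk hm, by group⟩) ?_
    rintro b ⟨n, hn, rfl⟩
    exact ⟨n * m⁻¹, mul_mem hn (inv_mem hm), by group⟩
  have hnot : ∀ v ∈ F, v ≠ 1 → v ∈ O2 := by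
    intro v hv hv1
    rcases (hunion.symm ▸ (⟨hv.1, hv1⟩ : v ∈ (V : Set G) \ {1}) : v ∈ O1 ∪ O2) with h | h
    · exfalso
      have h1 := hstab z' v h
      rw [h1771, hN] at h1
      have h7 : 7 ∣ Nat.card (N ⊓ Subgroup.centralizer ({v} : Set G) : Subgroup G) := by
        rw [← hX]
        exact Subgroup.card_dvd_of_le (le_inf hXN (Subgroup.zpowers_le.2
          (mem_centralizer_singleton_iff.2 (mem_centralizer_singleton_iff.1 hv.2).symm)))
      omega
    · exact h
  have htrans : ∀ v ∈ F, v ≠ 1 → ∀ w ∈ F, w ≠ 1 →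
      ∃ n ∈ N ⊓ Subgroup.normalizer (Subgroup.zpowers x : Set G), n * v * n⁻¹ = w := by
    intro v hv hv1 w hw hw1
    obtain ⟨a, ha, hav⟩ := hnot v hv hv1
    obtain ⟨b, hb, hbw⟩ := hnot w hw hw1
    have h49 : ¬ 7 ^ 2 ∣ Nat.card (N ⊓ Subgroup.centralizer ({w} : Set G) : Subgroup G) := by
      intro h
      have h1 := hstab t w ⟨b, hb, hbw⟩
      rw [h276, hN] at h1
      omega
    obtain ⟨n, hn, hnX, hnv⟩ := exists_normalizer (a := v) (b := w) (g := b * a⁻¹) hXN
      (fun Y Y' hY hY' hYw hY'w hcY hcY' => by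
        have hle : ∀ Z : Subgroup G, Z ≤ N → (∀ z ∈ Z, Commute z w) →
            Z ≤ N ⊓ Subgroup.centralizer ({w} : Set G) := fun Z hZ hZw z hz =>
          ⟨hZ hz, mem_centralizer_singleton_iff.2 (hZw z hz).eq⟩
        obtain ⟨g, hg, hgY⟩ := conj_of_card (N ⊓ Subgroup.centralizer ({w} : Set G)) h49
          (hle Y hY hYw) (hle Y' hY' hY'w) (hcY.trans hX) (hcY'.trans hX)
        exact ⟨g, hg.1, mem_centralizer_singleton_iff.1 hg.2, hgY⟩)
      ((hxcomm v).2 hv.2) ((hxcomm w).2 hw.2) (mul_mem hb (inv_mem ha))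
      (by rw [← hav, ← hbw]; group)
    exact ⟨n, ⟨hn, hnX⟩, hnv⟩
  -- the number of fixed points
  have hpow : ∃ c, c ≤ 11 ∧ Nat.card F = 2 ^ c :=
    (Nat.dvd_prime_pow Nat.prime_two).1 (hVc ▸ Subgroup.card_dvd_of_le inf_le_left)
  have hmod : 2 ^ 11 ≡ Nat.card F [MOD 7] := by
    have h := ncard_modEq hX (O := (V : Set G)) fun y hy v hv => hconjV y (hXN hy) v hv
    rw [← Nat.card_coe_set_eq, show Nat.card ↥(V : Set G) = 2 ^ 11 from hVc] at h
    rwa [show {a ∈ (V : Set G) | ∀ y ∈ Subgroup.zpowers x, Commute y a} = (F : Set G) from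
      Set.ext fun v => and_congr Iff.rfl (hxcomm v), ← Nat.card_coe_set_eq] at h
  have hdvd : Nat.card F - 1 ∣ Nat.card F * 126 := by
    by_cases hF1 : ∀ v ∈ F, v = 1
    · exfalso
      have : F = ⊥ := (Subgroup.eq_bot_iff_forall F).2 hF1
      rw [this, Subgroup.card_bot] at hmod
      exact absurd hmod (by decide)
    · push Not at hF1
      obtain ⟨v, hv, hv1⟩ := hF1
      rw [← hcard, show Nat.card F - 1 = ((F : Set G) \ {1}).ncard by
        rw [Set.ncard_sdiff_singleton_of_mem (Subgroup.one_mem F), ← Nat.card_coe_set_eq]; rfl]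
      refine Dvd.intro _ (card_eq_orbit_mul _ (O := (F : Set G) \ {1}) ⟨hv, hv1⟩ ?_
        fun w hw => htrans v hv hv1 w hw.1 hw.2).symm
      rintro k ⟨hkN, hkX⟩
      refine ⟨⟨hconjV k hkN v hv.1, (hxcomm _).1 fun y hy => ?_⟩, fun h => hv1 (conj_eq_one_iff.1 h)⟩
      exact (commute_conj_fix rfl).1 ((hxcomm v).2 hv.2 _ ((Subgroup.mem_normalizer_iff''.1 hkX y).1 hy))
  obtain ⟨c, hc, hFc⟩ := hpow
  refine ⟨?_, fun v hv hv1 => ⟨hnot v hv hv1, fun w hw hw1 => htrans v hv hv1 w hw hw1⟩⟩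
  rw [hFc] at hmod hdvd ⊢
  unfold Nat.ModEq at hmod
  interval_cases c <;> first | decide | (norm_num at hmod; done) | (norm_num at hdvd)

end CfsgLib.J4Type
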