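import Cfsg.Agent.Lib.J4Type.Setting
import Cfsg.Agent.Lib.J4Type.FiveM24
import Cfsg.Agent.Lib.J4Type.Seven
import Cfsg.Agent.Lib.LocalEvenSix.Lattice
import Cfsg.Agent.Lib.MathieuAut22.Main

/-!
# The centraliser in `C(z)` of an element of order five in Janko-four type
-/

set_option autoImplicit false

namespace CfsgLib.J4Type

open scoped commutatorElement

open Cfsg CfsgLib.ThreeTrans.Torsion
open Subgroup (mem_centralizer_singleton_iff)

universe u

variable {G : Type u} [Group G] [Finite G]

/-- The extraspecial subgroup at `z`: inclusion, normality, squares and commutators. -/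
theorem core_facts {z : G} {P : Subgroup G} (h : Cfsg.IsOfJankoFourTypeWith z P) :
    twoCoreOfCentralizer z ≤ Subgroup.centralizer ({z} : Set G) ∧ z ∈ twoCoreOfCentralizer z ∧
    (∀ v ∈ Subgroup.centralizer ({z} : Set G), ∀ a ∈ twoCoreOfCentralizer z,
      v * a * v⁻¹ ∈ twoCoreOfCentralizer z) ∧
    (∀ a ∈ twoCoreOfCentralizer z, a * a = 1 ∨ a * a = z) ∧
    (∀ a ∈ twoCoreOfCentralizer z, ∀ b ∈ twoCoreOfCentralizer z,
      a * b * a⁻¹ = b ∨ a * b * a⁻¹ = z * b) := by
  obtain ⟨hz, hex, -, -, -, -, hfix, -, -⟩ := h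
  have hzE : z ∈ twoCoreOfCentralizer z :=
    ((hfix ▸ Subgroup.mem_zpowers z : z ∈ twoCoreOfCentralizer z ⊓ Subgroup.centralizer (P : Set G))).1
  have hle : twoCoreOfCentralizer z ≤ Subgroup.centralizer ({z} : Set G) := Subgroup.map_subtype_le _
  set E := twoCoreOfCentralizer z with hE
  have hzc : (⟨z, hzE⟩ : E) ∈ Subgroup.center E :=
    Subgroup.mem_center_iff.2 fun a => Subtype.ext (mem_centralizer_singleton_iff.1 (hle a.2))
  have hcen : ∀ a : E, a ∈ Subgroup.center E → (a : G) = 1 ∨ (a : G) = z := by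
    intro a ha
    by_contra! hne
    have hsub : ({1, ⟨z, hzE⟩, a} : Set E) ⊆ Subgroup.center E := by
      rintro b (rfl | rfl | rfl)
      exacts [one_mem _, hzc, ha]
    have h3 : ({1, ⟨z, hzE⟩, a} : Set E).ncard = 3 := by
      have hz1 : (1 : E) ≠ ⟨z, hzE⟩ := fun e => by
        have he : (1 : G) = z := congrArg Subtype.val e
        rw [← he, orderOf_one] at hz
        norm_num at hz
      rw [Set.ncard_insert_of_notMem, Set.ncard_pair]
      · exact fun e => hne.2 (congrArg Subtype.val e).symm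
      · simp only [Set.mem_insert_iff, Set.mem_singleton_iff, not_or]
        exact ⟨hz1, fun e => hne.1 (congrArg Subtype.val e).symm⟩
    have h := Set.ncard_le_ncard hsub
    rw [h3, ← Nat.card_coe_set_eq, SetLike.coe_sort_coe, hex.2] at h
    omega
  refine ⟨hle, hzE, ?_, ?_, ?_⟩
  · intro v hv a ha
    obtain ⟨q, hq, rfl⟩ := ha
    have hn : (Cfsg.pCore 2 ↥(Subgroup.centralizer ({z} : Set G))).Normal := QQ_normal z
    exact ⟨⟨v, hv⟩ * q * ⟨v, hv⟩⁻¹, hn.conj_mem q hq _, rfl⟩
  · intro a ha
    have h := CfsgLib.PGroup.extraspecial_pow_mem_center hex ⟨a, ha⟩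
    rcases hcen _ h with e | e <;> rw [SubgroupClass.coe_pow, sq] at e
    exacts [Or.inl e, Or.inr e]
  · intro a ha b hb
    have h := CfsgLib.PGroup.extraspecial_comm_mem_center hex ⟨a, ha⟩ ⟨b, hb⟩
    rcases hcen _ h with e | e <;>
      rw [commutatorElement_def] at e <;>
      simp only [Subgroup.coe_mul, InvMemClass.coe_inv, mul_inv_eq_iff_eq_mul] at e
    · left; rw [mul_inv_eq_iff_eq_mul, e, one_mul]
    · right; rw [mul_inv_eq_iff_eq_mul, e]

/-- The centraliser in `C(z)` of an element of order five. -/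
theorem card_cent_five {z : G} {P : Subgroup G} (h : Cfsg.IsOfJankoFourTypeWith z P) {x t : G}
    (hx : orderOf x = 5) (hxz : Commute x z) (ht : t * t = 1) (ht1 : t ≠ 1)
    (htx : Commute t x) (htz' : Commute t z)
    (h80 : Nat.card (Subgroup.centralizer {x} ⊓ Subgroup.centralizer {t} : Subgroup G) = 80)
    (h480 : 480 ∣ Nat.card (Subgroup.centralizer {x} ⊓ Subgroup.centralizer {z} : Subgroup G)) :
    Nat.card (Subgroup.centralizer {x} ⊓ Subgroup.centralizer {z} : Subgroup G) = 960 ∧
      Nat.card (Subgroup.centralizer ({z} : Set G)) = 2 ^ 13 * 3 * 887040 := by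
  classical
  have : Fact (Nat.Prime 5) := ⟨by norm_num⟩
  obtain ⟨hle, hzE, hnorm, hsq, hcomm⟩ := core_facts h
  obtain ⟨hz, hex, hE13, -, ⟨N, hEN, hNC, hCN, hNc, ⟨hn, ⟨iso⟩⟩, -⟩, -⟩ := h
  set E := twoCoreOfCentralizer z with hE
  set C := Subgroup.centralizer ({z} : Set G) with hC
  have hzz : z * z = 1 := by rw [← sq, ← hz, pow_orderOf_eq_one]
  -- the homomorphism onto the automorphism group
  let φ : C →* MulAut ↥Spor.M22 := iso.toMonoidHom.comp (QuotientGroup.mk' (N.subgroupOf C))
  have hker : ∀ c : C, φ c = 1 ↔ (c : G) ∈ N := fun c => by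
    show iso (QuotientGroup.mk c) = 1 ↔ _
    rw [map_eq_one_iff iso iso.injective, QuotientGroup.eq_one_iff, Subgroup.mem_subgroupOf]
  have hsurj : Function.Surjective φ := iso.surjective.comp (QuotientGroup.mk'_surjective _)
  have hCc : Nat.card C = 2 ^ 13 * 3 * 887040 := by
    rw [Subgroup.card_eq_card_quotient_mul_card_subgroup (N.subgroupOf C), Nat.card_congr iso.toEquiv,
      MathieuAut22.natCard_mulAut_sporM22, Nat.card_congr (Subgroup.subgroupOfEquivOfLe hNC).toEquiv,
      hNc, hE13]
    ring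
  refine ⟨?_, hCc⟩
  set L := Subgroup.centralizer ({x} : Set G) ⊓ C with hL
  set E1 := E ⊓ Subgroup.centralizer ({x} : Set G) with hE1
  set xC : C := ⟨x, mem_centralizer_singleton_iff.2 hxz.eq⟩ with hxC
  have hX : Nat.card (Subgroup.zpowers x) = 5 := by rw [Nat.card_zpowers, hx]
  -- the order of `E1`
  obtain ⟨n, hn13, hE1c⟩ := (Nat.dvd_prime_pow Nat.prime_two).1
    (hE13 ▸ Subgroup.card_dvd_of_le (inf_le_left : E1 ≤ E))
  have hmod : 2 ^ 13 ≡ 2 ^ n [MOD 5] := by
    have hst : ∀ y ∈ Subgroup.zpowers x, ∀ a ∈ (E : Set G), y * a * y⁻¹ ∈ (E : Set G) := fun y hy a ha =>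
      hnorm y (Subgroup.zpowers_le.2 (mem_centralizer_singleton_iff.2 hxz.eq) hy) a ha
    have hm := ncard_modEq hX hst
    rw [← Nat.card_coe_set_eq, show Nat.card ↥(E : Set G) = 2 ^ 13 from hE13] at hm
    rwa [show {a ∈ (E : Set G) | ∀ y ∈ Subgroup.zpowers x, Commute y a} = (E1 : Set G) from
      Set.ext fun a => and_congr Iff.rfl (by
        show _ ↔ a ∈ Subgroup.centralizer ({x} : Set G)
        rw [← centralizer_zpowers, Subgroup.mem_centralizer_iff]; rfl),
      ← Nat.card_coe_set_eq, SetLike.coe_sort_coe, hE1c] at hm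
  have hE1L : E1 ≤ L := fun a ha => ⟨ha.2, hle ha.1⟩
  -- at most `2 ^ 8`
  set A := E1 ⊓ Subgroup.centralizer ({t} : Set G) with hA
  have hA16 : Nat.card A ∣ 16 := by
    have h1 : Nat.card A ∣ 2 ^ n := hE1c ▸ Subgroup.card_dvd_of_le inf_le_left
    have h2 : Nat.card A ∣ 16 * 5 := by
      rw [← show Nat.card (Subgroup.centralizer {x} ⊓ Subgroup.centralizer {t} : Subgroup G) = 16 * 5 from h80]
      exact Subgroup.card_dvd_of_le fun a ha => ⟨ha.1.2, ha.2⟩
    exact (Nat.Coprime.coprime_dvd_left h1 (Nat.Coprime.pow_left n (by norm_num))).dvd_of_dvd_mul_right h2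
  let P1 : Set G := {a | a ∈ E1 ∧ (t * a * t⁻¹ = a ∨ t * a * t⁻¹ = z * a)}
  have hP1 : P1.ncard ≤ 2 * Nat.card A := by
    have hcA : (A : Set G).ncard = Nat.card A := (Nat.card_coe_set_eq _).symm
    have hfixA : ∀ a ∈ E1, t * a * t⁻¹ = a → a ∈ A := fun a ha hat =>
      ⟨ha, mem_centralizer_singleton_iff.2 (mul_inv_eq_iff_eq_mul.1 hat).symm⟩
    by_cases hne : ∃ a0 ∈ E1, t * a0 * t⁻¹ = z * a0
    · obtain ⟨a0, ha0, ha0t⟩ := hne
      have hsub : P1 ⊆ (A : Set G) ∪ (fun a => a * a0) '' (A : Set G) := by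
        rintro a ⟨ha, hat | hat⟩
        · exact Or.inl (hfixA a ha hat)
        · refine Or.inr ⟨a * a0⁻¹, hfixA _ (mul_mem ha (E1.inv_mem ha0)) ?_, inv_mul_cancel_right _ _⟩
          rw [show t * (a * a0⁻¹) * t⁻¹ = (t * a * t⁻¹) * (t * a0 * t⁻¹)⁻¹ by group, hat, ha0t,
            mul_inv_rev, inv_eq_of_mul_eq_one_right hzz]
          have hzc : Commute z (a * a0⁻¹) :=
            (mem_centralizer_singleton_iff.1 (hle (mul_mem ha.1 (E.inv_mem ha0.1))) :
              Commute (a * a0⁻¹) z).symm
          calc z * a * (a0⁻¹ * z) = (z * (a * a0⁻¹)) * z := by group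
            _ = (a * a0⁻¹) * (z * z) := by rw [hzc.eq]; group
            _ = a * a0⁻¹ := by rw [hzz, mul_one]
      refine (Set.ncard_le_ncard hsub).trans ((Set.ncard_union_le _ _).trans ?_)
      have h' := Set.ncard_image_le (f := fun a => a * a0) (Set.toFinite (A : Set G))
      rw [hcA] at h' ⊢
      omega
    · push Not at hne
      refine (Set.ncard_le_ncard (t := (A : Set G)) fun a ha => hfixA a ha.1
        (ha.2.resolve_right (hne a ha.1))).trans ?_
      rw [hcA]
      omega
  have hn8 : n ≤ 8 := by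
    have hAle := Nat.le_of_dvd (by norm_num) hA16
    have hcE1 : (E1 : Set G).ncard = 2 ^ n := by rw [← Nat.card_coe_set_eq, SetLike.coe_sort_coe, hE1c]
    have hbound : 2 ^ n ≤ 256 := by
      by_cases htE : t ∈ E
      · have hsub : (E1 : Set G) ⊆ P1 := fun a ha => ⟨ha, hcomm t htE a ha.1⟩
        have h' := (Set.ncard_le_ncard hsub).trans hP1
        omega
      · -- a central involution outside `A`
        have hA8 : Nat.card A ≤ 8 := by
          by_contra hgt
          have h16 : Nat.card A = 16 := by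
            generalize Nat.card A = m at *
            interval_cases m <;> omega
          have htA : t ∉ A := fun h => htE h.1.1
          have hto : orderOf t = 2 := orderOf_eq_prime (by rw [sq, ht]) ht1
          have hAn : A ≤ Subgroup.normalizer (Subgroup.zpowers t : Set G) := fun a ha => by
            refine Subgroup.centralizer_le_normalizer _ ?_
            rw [centralizer_zpowers]
            exact ha.2
          have hBp : IsPGroup 2 ↥(A ⊔ Subgroup.zpowers t) :=
            (IsPGroup.of_card (n := 4) h16).to_sup_of_normal_right'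
              (IsPGroup.of_card (n := 1) (by rw [Nat.card_zpowers, pow_one, hto])) hAn
          obtain ⟨m, hm⟩ := hBp.exists_card_eq
          have hd : Nat.card ↥(A ⊔ Subgroup.zpowers t) ∣ 80 := by
            rw [← h80]
            refine Subgroup.card_dvd_of_le (sup_le (fun a ha => ⟨ha.1.2, ha.2⟩) (Subgroup.zpowers_le.2 ?_))
            exact ⟨mem_centralizer_singleton_iff.2 htx.eq, mem_centralizer_singleton_iff.2 rfl⟩
          rw [hm] at hd
          have h16' : 2 ^ m ∣ 16 :=
            (Nat.Coprime.pow_left m (by norm_num : Nat.Coprime 2 5)).dvd_of_dvd_mul_right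
              (show 2 ^ m ∣ 16 * 5 from hd)
          have := Set.ncard_lt_ncard (SetLike.coe_ssubset_coe.2 (lt_of_le_not_ge (le_sup_left : A ≤ A ⊔ Subgroup.zpowers t)
            fun h => htA (h (Subgroup.mem_sup_right (Subgroup.mem_zpowers t)))))
          rw [← Nat.card_coe_set_eq, ← Nat.card_coe_set_eq, SetLike.coe_sort_coe, SetLike.coe_sort_coe,
            h16, hm] at this
          have := Nat.le_of_dvd (by norm_num) h16'
          omega
        have hP16 : P1.ncard ≤ 16 := by omega
        -- fibres of the commutator map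
        have htE1 : ∀ a ∈ E1, t * a * t⁻¹ ∈ E1 := fun a ha =>
          ⟨hnorm t (mem_centralizer_singleton_iff.2 htz'.eq) a ha.1,
            mem_centralizer_singleton_iff.2 ((commute_conj_fix (g := t) (a := x) (b := x)
              (by rw [htx.eq, mul_inv_cancel_right])).1
              (by rw [show t⁻¹ * (t * a * t⁻¹) * t = a by group]
                  exact mem_centralizer_singleton_iff.1 ha.2)).eq⟩
        let δ : G → G := fun a => a * (t * a * t⁻¹)
        have hti : t⁻¹ = t := inv_eq_of_mul_eq_one_right ht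
        have himg : δ '' (E1 : Set G) ⊆ P1 := by
          rintro _ ⟨a, ha, rfl⟩
          refine ⟨mul_mem ha (htE1 a ha), ?_⟩
          have e : t * (a * (t * a * t⁻¹)) * t⁻¹ = (t * a * t⁻¹) * (t * t * a * (t⁻¹ * t⁻¹)) := by group
          rw [e, hti, ht, one_mul, mul_one]
          have hm := (htE1 a ha).1
          rw [hti] at hm
          rcases hcomm (t * a * t) hm a ha.1 with hc | hc
          · refine Or.inl ((mul_inv_eq_iff_eq_mul.1 hc).trans ?_)
            show a * (t * a * t) = a * (t * a * t⁻¹)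
            rw [hti]
          · refine Or.inr ((mul_inv_eq_iff_eq_mul.1 hc).trans ?_)
            show z * a * (t * a * t) = z * (a * (t * a * t⁻¹))
            rw [hti, mul_assoc z a]
        have hfib : ∀ a ∈ E1, ({b ∈ (E1 : Set G) | δ b = δ a}).ncard ≤ 16 := by
          intro a ha
          refine le_trans ?_ hP16
          refine Set.ncard_le_ncard_of_injOn (fun b => a⁻¹ * b) ?_ (fun b _ c _ hbc => mul_left_cancel hbc)
          rintro b ⟨hb, hbδ⟩
          refine ⟨mul_mem (E1.inv_mem ha) hb, ?_⟩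
          have hbδ' : b * (t * b * t⁻¹) = a * (t * a * t⁻¹) := hbδ
          have e : t * (a⁻¹ * b) * t⁻¹ = (t * a * t⁻¹)⁻¹ * (t * b * t⁻¹) := by group
          have e2 : t * b * t⁻¹ = b⁻¹ * (a * (t * a * t⁻¹)) := by rw [← hbδ']; group
          rw [e, e2]
          set c := t * a * t⁻¹ with hc
          have hcE : c ∈ E := (htE1 a ha).1
          have hba : b⁻¹ * a ∈ E := mul_mem (E.inv_mem hb.1) ha.1
          have key : c⁻¹ * (b⁻¹ * (a * c)) = b⁻¹ * a ∨ c⁻¹ * (b⁻¹ * (a * c)) = z * (b⁻¹ * a) := by
            rcases hcomm c⁻¹ (E.inv_mem hcE) (b⁻¹ * a) hba with e' | e'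
            · left; rw [← e']; group
            · right; rw [← e']; group
          have hswap : b⁻¹ * a = a⁻¹ * b ∨ b⁻¹ * a = z * (a⁻¹ * b) := by
            have hm : a⁻¹ * b ∈ E := mul_mem (E.inv_mem ha.1) hb.1
            rcases hsq _ hm with e' | e'
            · left
              rw [show b⁻¹ * a = (a⁻¹ * b)⁻¹ by group, inv_eq_of_mul_eq_one_right e']
            · right
              rw [show b⁻¹ * a = (a⁻¹ * b)⁻¹ by group]
              refine inv_eq_of_mul_eq_one_right ?_
              have hzm : Commute (a⁻¹ * b) z := mem_centralizer_singleton_iff.1 (hle hm)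
              rw [← mul_assoc, hzm.eq, mul_assoc, e', hzz]
          rcases key with e' | e' <;> rcases hswap with e'' | e'' <;> rw [e', e'']
          · exact Or.inl rfl
          · exact Or.inr rfl
          · exact Or.inr rfl
          · left; rw [← mul_assoc, hzz, one_mul]
        have hfin : (E1 : Set G).toFinite.toFinset.card ≤
            16 * ((E1 : Set G).toFinite.toFinset.image δ).card := by
          refine Finset.card_le_mul_card_image _ 16 fun b hb => ?_
          obtain ⟨a, ha, rfl⟩ := Finset.mem_image.1 hb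
          rw [Set.Finite.mem_toFinset] at ha
          have h' := hfib a ha
          rw [Set.ncard_eq_toFinset_card _ (Set.toFinite _)] at h'
          refine le_trans (le_of_eq (congrArg Finset.card ?_)) h'
          ext b
          simp
        have himg' : ((E1 : Set G).toFinite.toFinset.image δ).card ≤ P1.ncard := by
          rw [Set.ncard_eq_toFinset_card P1 (Set.toFinite _)]
          refine Finset.card_le_card fun b hb => ?_
          obtain ⟨a, ha, rfl⟩ := Finset.mem_image.1 hb
          rw [Set.Finite.mem_toFinset] at ha ⊢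
          exact himg ⟨a, ha, rfl⟩
        rw [← hcE1, Set.ncard_eq_toFinset_card _ (Set.toFinite _)]
        omega
    by_contra hlt
    have : 2 ^ 9 ≤ 2 ^ n := Nat.pow_le_pow_right (by norm_num) (by omega)
    omega
  -- the kernel and the image
  have hLN : Nat.card (L ⊓ N : Subgroup G) ≤ 3 * 2 ^ n ∧ Nat.card (L ⊓ N : Subgroup G) ∣ 3 * 2 ^ 13 := by
    refine ⟨?_, by rw [← hE13, ← hNc]; exact Subgroup.card_dvd_of_le inf_le_right⟩
    have h' := LocalEvenSix.card_mul_card_le E (L ⊓ N)
    have hsup : Nat.card ↥(E ⊔ (L ⊓ N)) ≤ 3 * 2 ^ 13 := by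
      rw [← hE13, ← hNc]
      exact Nat.le_of_dvd Nat.card_pos (Subgroup.card_dvd_of_le (sup_le hEN inf_le_right))
    have hinf : Nat.card ↥(E ⊓ (L ⊓ N)) ≤ 2 ^ n := by
      rw [← hE1c]
      exact Nat.le_of_dvd Nat.card_pos (Subgroup.card_dvd_of_le fun a ha => ⟨ha.1, ha.2.1.1⟩)
    rw [hE13] at h'
    have := Nat.mul_le_mul hsup hinf
    nlinarith
  have hE1N : Nat.card E1 ∣ Nat.card (L ⊓ N : Subgroup G) :=
    Subgroup.card_dvd_of_le (le_inf hE1L (inf_le_left.trans hEN))
  set yb := φ xC with hyb
  have hy5 : orderOf yb = 5 := by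
    have hd : orderOf yb ∣ 5 := by
      have : orderOf xC = 5 := by rw [← hx, ← Subgroup.orderOf_coe]
      exact this ▸ orderOf_map_dvd φ xC
    refine ((Nat.dvd_prime (by norm_num)).1 hd).resolve_left fun e => ?_
    have hm : x ∈ N := (hker xC).1 (orderOf_eq_one_iff.1 e)
    have := Subgroup.orderOf_dvd_natCard N hm
    rw [hx, hNc, hE13] at this
    norm_num at this
  set M := Subgroup.centralizer ({yb} : Set (MulAut ↥Spor.M22)) with hM
  have hM10 : Nat.card M = 10 := by
    have ha := MathieuAut22.autM22Equiv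
    set b := MathieuAut22.autM22Equiv.symm yb with hb
    have hb5 : orderOf b = 5 := by rw [hb, MulEquiv.orderOf_eq, hy5]
    rw [← card_centralizer_five_setStab b hb5]
    refine Nat.card_congr (MathieuAut22.autM22Equiv.symm.toEquiv.subtypeEquiv fun m => ?_)
    rw [hM, mem_centralizer_singleton_iff, mem_centralizer_singleton_iff, hb]
    show _ ↔ MathieuAut22.autM22Equiv.symm m * _ = _ * MathieuAut22.autM22Equiv.symm m
    rw [← map_mul, ← map_mul, MathieuAut22.autM22Equiv.symm.injective.eq_iff]
  have himage : (L.subgroupOf C).map φ = M := by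
    refine le_antisymm ?_ fun m hm => ?_
    · rintro _ ⟨c, hc, rfl⟩
      refine mem_centralizer_singleton_iff.2 ?_
      rw [hyb, ← map_mul, ← map_mul]
      exact congrArg φ (Subtype.ext (mem_centralizer_singleton_iff.1 hc.1))
    · obtain ⟨c, hc⟩ := hsurj m
      set K := ((Subgroup.zpowers yb).comap φ).map C.subtype with hK
      have hKc : Nat.card K = 2 ^ 13 * 3 * 5 := by
        rw [hK, ← Nat.card_congr (Subgroup.equivMapOfInjective _ C.subtype C.subtype_injective).toEquiv]
        have h' := card_eq_inf_ker_mul_map φ ((Subgroup.zpowers yb).comap φ)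
        rw [inf_eq_right.2 (fun a ha => by
            rw [Subgroup.mem_comap, MonoidHom.mem_ker.1 ha]; exact one_mem _),
          Subgroup.map_comap_eq_self_of_surjective hsurj, Nat.card_zpowers, hy5,
          show φ.ker = N.subgroupOf C from Subgroup.ext fun a => hker a,
          Nat.card_congr (Subgroup.subgroupOfEquivOfLe hNC).toEquiv, hNc, hE13] at h'
        rw [h']
        norm_num
      have hcx : (c : G) * x * (c : G)⁻¹ ∈ K := by
        refine ⟨c * xC * c⁻¹, ?_, rfl⟩
        rw [SetLike.mem_coe, Subgroup.mem_comap, map_mul, map_mul, map_inv, hc,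
          mem_centralizer_singleton_iff.1 hm, mul_inv_cancel_right]
        exact Subgroup.mem_zpowers _
      obtain ⟨r, ⟨rC, hrC, rfl⟩, hr⟩ := conj_of_card (p := 5) K (by rw [hKc]; norm_num)
        (X := (Subgroup.zpowers x).map (MulAut.conj (c : G)).toMonoidHom) (Y := Subgroup.zpowers x)
        (by rw [MonoidHom.map_zpowers, Subgroup.zpowers_le]; exact hcx)
        (by rw [Subgroup.zpowers_le]; exact ⟨xC, Subgroup.mem_zpowers _, rfl⟩)
        (by rw [card_map_conj, hX]) hX
      rw [← map_conj_mul, MonoidHom.map_zpowers] at hr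
      obtain ⟨j, hj⟩ := Subgroup.mem_zpowers_iff.1
        (hr ▸ Subgroup.mem_zpowers _ : (MulAut.conj ((rC : G) * c)).toMonoidHom x ∈ Subgroup.zpowers x)
      have hj' : xC ^ j = rC * c * xC * (rC * c)⁻¹ := Subtype.ext (by
        simp only [SubgroupClass.coe_zpow, hxC, Subgroup.coe_mul, InvMemClass.coe_inv]
        exact hj)
      obtain ⟨i, hi⟩ := Subgroup.mem_zpowers_iff.1 (hrC : φ rC ∈ Subgroup.zpowers yb)
      have hyj : yb ^ j = yb := by
        have h' := congrArg φ hj'
        rw [map_zpow, map_mul, map_mul, map_inv, map_mul, hc, ← hi, ← hyb] at h'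
        rw [h']
        have hcm : Commute (yb ^ i * m) yb :=
          ((Commute.refl yb).zpow_left i).mul_left (mem_centralizer_singleton_iff.1 hm)
        rw [hcm.eq, mul_inv_cancel_right]
      have hxj : x ^ j = x := by
        have hd : (5 : ℤ) ∣ j - 1 := by
          have h' := orderOf_dvd_iff_zpow_eq_one.2 (show yb ^ (j - 1) = 1 by
            rw [zpow_sub_one, hyj, mul_inv_cancel])
          rwa [hy5] at h'
        have h' := orderOf_dvd_iff_zpow_eq_one.1 (show (orderOf x : ℤ) ∣ j - 1 by rw [hx]; exact hd)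
        rw [zpow_sub_one, mul_inv_eq_one] at h'
        exact h'
      have hrcL : (rC * c : C) ∈ L.subgroupOf C := by
        refine ⟨mem_centralizer_singleton_iff.2 ?_, (rC * c).2⟩
        have h' : x = ((rC * c : C) : G) * x * ((rC * c : C) : G)⁻¹ := by
          have e := congrArg Subtype.val hj'
          rw [SubgroupClass.coe_zpow] at e
          exact hxj.symm.trans e
        exact (mul_inv_eq_iff_eq_mul.1 h'.symm)
      have hxL : xC ∈ L.subgroupOf C := ⟨mem_centralizer_singleton_iff.2 rfl, xC.2⟩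
      refine ⟨xC ^ (-i) * (rC * c), mul_mem (zpow_mem hxL _) hrcL, ?_⟩
      rw [map_mul, map_zpow, map_mul, hc, ← hi, ← hyb, zpow_neg, inv_mul_cancel_left]
  have hLc : Nat.card L = Nat.card (L ⊓ N : Subgroup G) * 10 := by
    have h' := card_eq_inf_ker_mul_map φ (L.subgroupOf C)
    rw [himage, hM10, Nat.card_congr (Subgroup.subgroupOfEquivOfLe inf_le_right).toEquiv,
      show L.subgroupOf C ⊓ φ.ker = (L ⊓ N).subgroupOf C from Subgroup.ext fun a => by
        simp [Subgroup.mem_subgroupOf, MonoidHom.mem_ker, hker],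
      Nat.card_congr (Subgroup.subgroupOfEquivOfLe (inf_le_left.trans inf_le_right)).toEquiv] at h'
    exact h'
  rw [hLc] at h480 ⊢
  obtain ⟨h1, h2⟩ := hLN
  rw [hE1c] at hE1N
  generalize Nat.card ↥(L ⊓ N) = k at *
  obtain ⟨q, rfl⟩ := hE1N
  have hq : q ≤ 3 := Nat.le_of_mul_le_mul_left (by linarith : 2 ^ n * q ≤ 2 ^ n * 3) (by positivity)
  unfold Nat.ModEq at hmod
  interval_cases n <;> (try (norm_num at hmod; done)) <;> interval_cases q <;>
    first | (norm_num; done) | (norm_num at h480; done) | norm_num at h2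

end CfsgLib.J4Type
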