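import Cfsg.Agent.Lib.J4Type.FiveE
import Cfsg.Agent.Lib.FTCons.AbelianFactor

/-!
# The class of the central involution is the elementary subgroup of order eight
-/

set_option autoImplicit false
set_option linter.unusedSectionVars false

namespace CfsgLib.J4Type

open CfsgLib.ThreeTrans.Torsion
open Subgroup (mem_centralizer_singleton_iff)

variable {Q : Type*} [Group Q] [Finite Q] {z t : Q} {D F F' : Subgroup Q}

/-- An involution acting on an elementary subgroup fixes at least the square root of its order. -/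
theorem sq_card_fixed_le {A : Subgroup Q} (hA : ∀ a ∈ A, a * a = 1) {v : Q} (hv : v * v = 1)
    (hn : ∀ a ∈ A, v * a * v⁻¹ ∈ A) :
    Nat.card A ≤ Nat.card (A ⊓ Subgroup.centralizer ({v} : Set Q) : Subgroup Q) ^ 2 := by
  have hcomm : ∀ a ∈ A, ∀ b ∈ A, Commute a b := fun a ha b hb =>
    comm_of_sq (hA a ha) (hA b hb) (hA _ (mul_mem ha hb))
  have hvi : v⁻¹ = v := inv_eq_of_mul_eq_one_right hv
  let δ : A →* A := MonoidHom.mk' (fun a => ⟨a * (v * a * v⁻¹), mul_mem a.2 (hn a a.2)⟩) fun a b =>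
    Subtype.ext (by
      show (a : Q) * b * (v * (a * b) * v⁻¹) = a * (v * a * v⁻¹) * (b * (v * b * v⁻¹))
      rw [show v * ((a : Q) * b) * v⁻¹ = (v * a * v⁻¹) * (v * b * v⁻¹) by group, mul_assoc (a : Q) b,
        ← mul_assoc (b : Q), (hcomm b b.2 _ (hn a a.2)).eq]
      group)
  have hK : Nat.card δ.ker ≤ Nat.card (A ⊓ Subgroup.centralizer ({v} : Set Q) : Subgroup Q) := by
    refine Nat.card_le_card_of_injective (fun a => ⟨((a : A) : Q), (a : A).2, ?_⟩)
      fun a b h => Subtype.ext (Subtype.ext (congrArg Subtype.val h :))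
    have h : ((a : A) : Q) * (v * (a : A) * v⁻¹) = 1 := congrArg Subtype.val a.2
    have h' := eq_inv_of_mul_eq_one_right h
    rw [inv_eq_of_mul_eq_one_right (hA _ (a : A).2)] at h'
    exact mem_centralizer_singleton_iff.2 (mul_inv_eq_iff_eq_mul.1 h').symm
  have hR : Nat.card δ.range ≤ Nat.card (A ⊓ Subgroup.centralizer ({v} : Set Q) : Subgroup Q) := by
    refine Nat.card_le_card_of_injective (fun a => ⟨((a : A) : Q), (a : A).2, ?_⟩)
      fun a b h => Subtype.ext (Subtype.ext (congrArg Subtype.val h :))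
    obtain ⟨b, hb⟩ := a.2
    rw [← hb]
    refine mem_centralizer_singleton_iff.2 (mul_inv_eq_iff_eq_mul.1 ?_).symm
    show v * ((b : Q) * (v * b * v⁻¹)) * v⁻¹ = b * (v * b * v⁻¹)
    rw [(hcomm b b.2 _ (hn b b.2)).eq, hvi]
    rw [show v * (v * (b : Q) * v * b) * v = (v * v) * b * (v * b * v) by group, hv, one_mul,
      (hcomm b b.2 _ (by simpa [hvi] using hn b b.2)).eq]
  have h := δ.ker.card_eq_card_quotient_mul_card_subgroup
  rw [Nat.card_congr (QuotientGroup.quotientKerEquivRange δ).toEquiv] at h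
  rw [h, sq]
  exact Nat.mul_le_mul hR hK

namespace FivePair

variable (P : FivePair z t D F F')
include P

theorem normE {v : Q} (hv : v ∈ Subgroup.centralizer ({z} : Set Q)) {e : Q} (he : e ∈ P.E) :
    v * e * v⁻¹ ∈ P.E := by
  obtain ⟨f, hf, g, hg, rfl, hfg, hiff⟩ := he
  have hvz : Commute v z := mem_centralizer_singleton_iff.1 hv
  have hZ : ∀ x : Q, (v * x * v⁻¹ = 1 ∨ v * x * v⁻¹ = z) ↔ (x = 1 ∨ x = z) := by
    intro x
    rw [conj_eq_one_iff]
    refine or_congr Iff.rfl ⟨fun h => ?_, fun h => by rw [h, hvz.eq, mul_inv_cancel_right]⟩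
    calc x = v⁻¹ * (v * x * v⁻¹) * v := by group
      _ = v⁻¹ * z * v := by rw [h]
      _ = z := by rw [mul_assoc, ← hvz.eq, inv_mul_cancel_left]
  have hc : Commute (v * f * v⁻¹) (v * g * v⁻¹) := by
    have h := hfg.map (MulAut.conj v).toMonoidHom
    simpa using h
  have e' : v * (f * g) * v⁻¹ = (v * f * v⁻¹) * (v * g * v⁻¹) := by group
  rw [e']
  by_cases hvD : v ∈ D
  · exact ⟨_, P.normF v hvD f hf, _, P.normF' v hvD g hg, rfl, hc, (hZ f).trans (hiff.trans (hZ g).symm)⟩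
  · exact ⟨_, (P.swap v hv hvD).2 g hg, _, (P.swap v hv hvD).1 f hf, hc.eq.symm, hc.symm,
      (hZ g).trans (hiff.symm.trans (hZ f).symm)⟩

/-- Nothing of `F` or `F'` outside the centre centralises `E`. -/
theorem not_comm_E {x : Q} (hx : x ∈ F ∨ x ∈ F') (h1 : x ≠ 1) (h2 : x ≠ z)
    (h : ∀ e ∈ P.E, Commute e x) : False := by
  have h16 := (P.cent_le_sup hx h1 h2).2.2
  have hE : P.E ≤ Subgroup.centralizer ({x} : Set Q) := fun e he => mem_centralizer_singleton_iff.2 (h e he).eq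
  obtain ⟨A, hA, hA8, hAC⟩ : ∃ A : Subgroup Q, (∀ a ∈ A, a ∈ F ∨ a ∈ F') ∧ Nat.card A = 8 ∧
      A ≤ Subgroup.centralizer ({x} : Set Q) := by
    rcases hx with hx | hx
    · exact ⟨F, fun a ha => Or.inl ha, P.card_F, fun a ha => mem_centralizer_singleton_iff.2 (P.commF ha hx).eq⟩
    · exact ⟨F', fun a ha => Or.inr ha, P.card_F', fun a ha => mem_centralizer_singleton_iff.2 (P.commF' ha hx).eq⟩
  have hle := LocalEvenSix.card_mul_card_le A P.E
  have hsup : Nat.card ↥(A ⊔ P.E) ≤ 16 := by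
    rw [← h16]; exact Nat.le_of_dvd Nat.card_pos (Subgroup.card_dvd_of_le (sup_le hAC hE))
  have hinf : Nat.card ↥(A ⊓ P.E) ≤ 2 := by
    rw [← SetLike.coe_sort_coe, Nat.card_coe_set_eq]
    refine (Set.ncard_le_ncard (t := {1, z}) fun y hy => ?_).trans
      ((Set.ncard_insert_le _ _).trans (by rw [Set.ncard_singleton]))
    exact P.E_not_side hy.2 (hA y hy.1)
  rw [hA8, P.card_E] at hle
  nlinarith [Nat.mul_le_mul hsup hinf]

theorem not_comm_side {w : Q} (hw : w ∈ P.E) (h1 : w ≠ 1) (h2 : w ≠ z) :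
    (¬ ∀ f ∈ F, Commute f w) ∧ ¬ ∀ g ∈ F', Commute g w := by
  obtain ⟨f, hf, g, hg, rfl, hfg, hiff⟩ := hw
  have hno : ¬ (f = 1 ∨ f = z) := by
    intro h
    have hg' := hiff.1 h
    rcases h with e | e <;> rcases hg' with e' | e' <;> simp [e, e', P.zz] at h1 h2
  refine ⟨fun h => ?_, fun h => ?_⟩
  · refine (not_congr hiff).1 hno (P.center_F' hg fun a ha => ?_)
    have h' : Commute a (f⁻¹ * (f * g)) := ((P.commF ha hf).inv_right).mul_right (h a ha)
    rwa [inv_mul_cancel_left] at h'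
  · refine hno (P.center_F hf fun a ha => ?_)
    have h' : Commute a ((f * g) * g⁻¹) := (h a ha).mul_right (P.commF' ha hg).inv_right
    rwa [mul_inv_cancel_right] at h'

/-- Commutators inside `F F'` are central. -/
theorem conj_in_sup {a b : Q} (ha : a ∈ F ⊔ F') (hb : b ∈ F ⊔ F') (hb2 : b * b = 1) :
    a * b * a⁻¹ = b ∨ a * b * a⁻¹ = z * b := by
  have hbi : b⁻¹ = b := inv_eq_of_mul_eq_one_right hb2
  have key : a * b * a⁻¹ = (a * b) * (a * b) * (b * (a * a) * b)⁻¹ * b := by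
    rw [mul_inv_rev, mul_inv_rev, mul_inv_rev, hbi]
    calc a * b * a⁻¹ = a * b * a⁻¹ * (b * b) := by rw [hb2, mul_one]
      _ = a * b * (a * b) * (b * (a⁻¹ * a⁻¹ * b)) * b := by
          rw [show a * b * (a * b) * (b * (a⁻¹ * a⁻¹ * b)) * b = a * b * a * (b * b) * a⁻¹ * a⁻¹ * (b * b) by group,
            hb2, mul_one]
          group
  have hzb : Commute b z := P.comm_z (P.sup_le_D hb)
  have hin : b * (a * a) * b = 1 ∨ b * (a * a) * b = z := by
    rcases P.sq_sup ha with h | h <;> rw [h]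
    · left; rw [mul_one, hb2]
    · right; rw [hzb.eq, mul_assoc, hb2, mul_one]
  rcases P.sq_sup (mul_mem ha hb) with h | h <;> rcases hin with h' | h' <;> rw [h, h'] at key <;>
    simp [inv_eq_of_mul_eq_one_right P.zz, P.zz] at key
  exacts [Or.inl key, Or.inr key, Or.inr key, Or.inl key]

theorem card_side : ((P.E : Set Q) \ {1, z}).ncard = 6 := by
  rw [Set.ncard_sdiff (by rintro a (rfl | rfl); exacts [one_mem _, P.zE]), Set.ncard_pair P.z_ne.symm,
    ← Nat.card_coe_set_eq, show Nat.card ↥(P.E : Set Q) = 8 from P.card_E]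

theorem index_two : (D.subgroupOf (Subgroup.centralizer ({z} : Set Q))).index = 2 := by
  have h := (D.subgroupOf (Subgroup.centralizer ({z} : Set Q))).card_mul_index
  rw [Nat.card_congr (Subgroup.subgroupOfEquivOfLe P.D_le).toEquiv, P.card_D, P.card_C] at h
  omega

theorem mul_mem_D {a b : Q} (ha : a ∈ Subgroup.centralizer ({z} : Set Q))
    (hb : b ∈ Subgroup.centralizer ({z} : Set Q)) (hna : a ∉ D) (hnb : b ∉ D) : a * b ∈ D := by
  have h := Subgroup.mul_mem_iff_of_index_two P.index_two (a := ⟨a, ha⟩) (b := ⟨b, hb⟩)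
  simp only [Subgroup.mem_subgroupOf, hna, hnb, iff_self, Subgroup.coe_mul] at h
  exact h.2 trivial

/-- The elements of two-power order of `D` lie in `F F'`. -/
theorem two_mem_sup {x : Q} (hx : x ∈ D) {n : ℕ} (h : x ^ 2 ^ n = 1) : x ∈ F ⊔ F' := by
  have hn : ((F ⊔ F').subgroupOf D).Normal := ⟨fun y hy k => Subgroup.mem_subgroupOf.2
    (P.conj_sup (P.D_le k.2) (Subgroup.mem_subgroupOf.1 hy))⟩
  have hidx : ((F ⊔ F').subgroupOf D).index = 3 := by
    have h' := ((F ⊔ F').subgroupOf D).card_mul_index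
    rw [Nat.card_congr (Subgroup.subgroupOfEquivOfLe P.sup_le_D).toEquiv, P.card_sup, P.card_D] at h'
    omega
  have h3 : x ^ 3 ∈ F ⊔ F' := by
    have h' := Subgroup.pow_index_mem ((F ⊔ F').subgroupOf D) ⟨x, hx⟩
    rw [hidx] at h'
    exact h'
  obtain ⟨m, hm⟩ := exists_pow_eq_self_of_coprime (x := x) (n := 3)
    (Nat.Coprime.coprime_dvd_right (orderOf_dvd_of_pow_eq_one h) (Nat.Coprime.pow_right n (by norm_num)))
  rw [← hm]
  exact pow_mem h3 m

theorem cent_le_of_conj_t {k x : Q} (hkx : k * t * k⁻¹ = x) :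
    Subgroup.centralizer ({x} : Set Q) ≤ Subgroup.centralizer ({k * z * k⁻¹} : Set Q) ∧
      Nat.card (Subgroup.centralizer ({x} : Set Q)) = 16 := by
  have hmap : (Subgroup.centralizer ({t} : Set Q)).map (MulAut.conj k).toMonoidHom =
      Subgroup.centralizer {x} := by
    ext y
    rw [mem_map_conj, mem_centralizer_singleton_iff, mem_centralizer_singleton_iff]
    exact commute_conj_fix hkx
  refine ⟨?_, by rw [← hmap, card_map_conj, P.card_Ct]⟩
  intro y hy
  rw [← hmap, mem_map_conj] at hy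
  exact mem_centralizer_singleton_iff.2 ((commute_conj_fix (g := k) (a := z) rfl).1 (P.comm_z (P.Ct_le hy))).eq

/-- The involutions of `E` are conjugate to `z`. -/
theorem not_conj_t {w : Q} (hw : w ∈ P.E) (h1 : w ≠ 1) (h2 : w ≠ z) : ¬ IsConj t w := by
  intro hconj
  obtain ⟨k, hk⟩ := isConj_iff.1 hconj
  obtain ⟨-, h16⟩ := P.cent_le_of_conj_t hk
  set O := F ⊔ F' with hO
  set S := {b : Q | ∃ o ∈ O, o * w * o⁻¹ = b} with hS
  have horb : Nat.card O = S.ncard * Nat.card (O ⊓ Subgroup.centralizer ({w} : Set Q) : Subgroup Q) :=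
    card_eq_orbit_mul O ⟨1, one_mem _, by group⟩ (fun o ho => ⟨o, ho, rfl⟩) fun b hb => hb
  have hsub : S ⊆ {w, z * w} := by
    rintro _ ⟨o, ho, rfl⟩
    exact P.conj_in_sup ho (P.E_le hw) (P.sqE hw)
  have hle2 : S.ncard ≤ 2 :=
    (Set.ncard_le_ncard hsub).trans ((Set.ncard_insert_le _ _).trans (by rw [Set.ncard_singleton]))
  rw [P.card_sup] at horb
  have hwO : Subgroup.centralizer ({w} : Set Q) ≤ O := inf_eq_right.1 (Subgroup.eq_of_le_of_card_ge
    (inf_le_right : O ⊓ Subgroup.centralizer ({w} : Set Q) ≤ _) (by rw [h16]; nlinarith))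
  -- the pullback of `z` is central in the centraliser of `t`
  set y := k⁻¹ * z * k with hy
  have hcy : ∀ s, Commute s t → Commute s y := by
    intro s hs
    have h : k * s * k⁻¹ ∈ Subgroup.centralizer ({w} : Set Q) :=
      mem_centralizer_singleton_iff.2 ((commute_conj_fix hk).1 (by simpa [mul_assoc] using hs)).eq
    have h' := (commute_conj_fix (g := k) (a := y) (b := z) (by rw [hy]; group) (x := k * s * k⁻¹)).2
      (P.comm_z (P.sup_le_D (hwO h)))
    simpa [mul_assoc] using h'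
  have hyt : Commute y t := by
    have h : Commute (k * y * k⁻¹) w := by
      rw [hy, show k * (k⁻¹ * z * k) * k⁻¹ = z by group]
      exact (P.comm_z (P.sup_le_D (P.E_le hw))).symm
    simpa [mul_assoc] using (commute_conj_fix hk).2 h
  have hyconj : IsConj z y := isConj_iff.2 ⟨k⁻¹, by rw [hy]; group⟩
  have hy1 : y ≠ 1 := fun h => P.z_ne (by rw [← conj_eq_one_iff (a := k⁻¹)]; simpa [hy] using h)
  have hy2 : y * y = 1 := by
    rw [hy, show k⁻¹ * z * k * (k⁻¹ * z * k) = k⁻¹ * (z * z) * k by group, P.zz]; group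
  have hyO : y ∈ O := (P.cent_le_sup (Or.inl P.tF) (fun h => by
      have := P.ht; rw [h, orderOf_one] at this; norm_num at this)
    (fun h => P.nconj (by rw [h]))).1 (mem_centralizer_singleton_iff.2 hyt.eq)
  have hcF : ∀ f ∈ F, Commute f y := fun f hf => hcy f (P.commF hf P.tF)
  have hyz : y = z := by
    by_contra hne
    rcases P.invol_sup hyO hy2 with h | h | h
    · obtain ⟨d, -, hd⟩ := P.orbit y h hy1 hne
      exact P.nconj (hyconj.trans (isConj_iff.2 ⟨d, hd⟩).symm)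
    · rcases P.center_F' h hcF with e | e
      exacts [hy1 e, hne e]
    · exact (P.not_comm_side h hy1 hne).1 hcF
  have hkC : k ∈ Subgroup.centralizer ({z} : Set Q) := by
    refine mem_centralizer_singleton_iff.2 ?_
    calc k * z = k * y := by rw [hyz]
      _ = z * k := by rw [hy]; group
  have hside : w ∈ F ∨ w ∈ F' := by
    rw [← hk]
    by_cases hkD : k ∈ D
    · exact Or.inl (P.normF k hkD t P.tF)
    · exact Or.inr ((P.swap k hkC hkD).1 t P.tF)
  rcases P.E_not_side hw hside with e | e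
  exacts [h1 e, h2 e]

theorem conjE {w : Q} (hw : w ∈ P.E) (h1 : w ≠ 1) : IsConj z w := by
  by_cases h2 : w = z
  · rw [h2]
  · exact (P.invol w (orderOf_eq_prime (by rw [sq]; exact P.sqE hw) h1)).resolve_right (P.not_conj_t hw h1 h2)

theorem mem_E_of_conj {o : Q} (ho : o ∈ F ⊔ F') (hc : IsConj z o) : o ∈ P.E := by
  obtain ⟨k, hk⟩ := isConj_iff.1 hc
  have h2 : o * o = 1 := by
    rw [← hk, show k * z * k⁻¹ * (k * z * k⁻¹) = k * (z * z) * k⁻¹ by group, P.zz]; group
  have h1 : o ≠ 1 := fun h => P.z_ne (conj_eq_one_iff.1 (hk.trans h))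
  by_cases hoz : o = z
  · rw [hoz]; exact P.zE
  rcases P.invol_sup ho h2 with h | h | h
  · obtain ⟨d, -, hd⟩ := P.orbit o h h1 hoz
    exact absurd (hc.trans (isConj_iff.2 ⟨d, hd⟩).symm) P.nconj
  · obtain ⟨d, -, hd⟩ := P.exists_conj_t (Or.inr h) h1 hoz
    exact absurd (hc.trans (isConj_iff.2 ⟨d, hd⟩).symm) P.nconj
  · exact h

theorem trans_E {w w' : Q} (hw : w ∈ P.E) (hw' : w' ∈ P.E) (h : w ≠ 1 ∧ w ≠ z) (h' : w' ≠ 1 ∧ w' ≠ z) :
    ∃ v ∈ Subgroup.centralizer ({z} : Set Q), v * w * v⁻¹ = w' := by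
  have hns := (P.not_comm_side hw' h'.1 h'.2).1
  obtain ⟨f, hf, g, hg, rfl, hfg, hiff⟩ := hw
  obtain ⟨f', hf', g', hg', rfl, hfg', hiff'⟩ := hw'
  have hno : ∀ a b : Q, ((a = 1 ∨ a = z) ↔ (b = 1 ∨ b = z)) → a * b ≠ 1 ∧ a * b ≠ z →
      (a ≠ 1 ∧ a ≠ z) ∧ (b ≠ 1 ∧ b ≠ z) := by
    intro a b hab hne
    have ha : ¬ (a = 1 ∨ a = z) := by
      intro ha
      have hb := hab.1 ha
      rcases ha with e | e <;> rcases hb with e' | e' <;> simp [e, e', P.zz] at hne
    exact ⟨not_or.1 ha, not_or.1 ((not_congr hab).1 ha)⟩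
  obtain ⟨⟨hf1, hfz⟩, hg1⟩ := hno f g hiff h
  obtain ⟨⟨hf1', hfz'⟩, hg1'⟩ := hno f' g' hiff' h'
  obtain ⟨d₁, hd₁, e₁⟩ := P.orbit f hf hf1 hfz
  obtain ⟨d₂, hd₂, e₂⟩ := P.orbit f' hf' hf1' hfz'
  set d := d₂ * d₁⁻¹ with hd
  have hdD : d ∈ D := mul_mem hd₂ (inv_mem hd₁)
  have hdf : d * f * d⁻¹ = f' := by rw [hd, ← e₁, ← e₂]; group
  have hdg : d * g * d⁻¹ ∈ F' := P.normF' d hdD g hg
  have hdg1 : d * g * d⁻¹ ≠ 1 ∧ d * g * d⁻¹ ≠ z := by
    refine ⟨fun e => hg1.1 (conj_eq_one_iff.1 e), fun e => hg1.2 ?_⟩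
    calc g = d⁻¹ * (d * g * d⁻¹) * d := by group
      _ = z := by rw [e, mul_assoc, ← (P.comm_z hdD).eq, inv_mul_cancel_left]
  have hcd : Commute f' (d * g * d⁻¹) := by
    have h := hfg.map (MulAut.conj d).toMonoidHom
    rw [← hdf]
    simpa using h
  have hp := P.partner_unique hf' hf1' hfz' hdg hg' hcd hfg' hdg1 hg1'
  have hw'' : d * (f * g) * d⁻¹ = f' * (d * g * d⁻¹) := by rw [← hdf]; group
  rcases hp with e | e
  · refine ⟨d, P.D_le hdD, ?_⟩
    rw [hw'', eq_inv_of_mul_eq_one_left e, inv_eq_of_mul_eq_one_right (P.sqF' g' hg')]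
  · obtain ⟨a, ha, hna⟩ : ∃ a ∈ F, ¬ Commute a (f' * g') := by
      by_contra! hall; exact hns hall
    have hdg' : d * g * d⁻¹ = z * g' := by
      calc d * g * d⁻¹ = d * g * d⁻¹ * g' * g' := by rw [mul_assoc _ g' g', P.sqF' g' hg', mul_one]
        _ = z * g' := by rw [e]
    refine ⟨a * d, mul_mem (P.D_le (P.F_le ha)) (P.D_le hdD), ?_⟩
    rw [show a * d * (f * g) * (a * d)⁻¹ = a * (d * (f * g) * d⁻¹) * a⁻¹ by group, hw'', hdg']
    have hz' : Commute f' z := P.comm_z (P.F_le hf')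
    have haz : Commute a z := P.comm_z (P.F_le ha)
    have hm : f' * g' ∈ F ⊔ F' := mul_mem (Subgroup.mem_sup_left hf') (Subgroup.mem_sup_right hg')
    rcases P.conj_in_sup (Subgroup.mem_sup_left ha) hm (P.eset_sq ⟨f', hf', g', hg', rfl, hfg', hiff'⟩)
      with h3 | h3
    · exact absurd (mul_inv_eq_iff_eq_mul.1 h3) hna
    · calc a * (f' * (z * g')) * a⁻¹ = a * ((f' * z) * g') * a⁻¹ := by group
        _ = a * ((z * f') * g') * a⁻¹ := by rw [hz'.eq]
        _ = (a * z) * (f' * g') * a⁻¹ := by group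
        _ = (z * a) * (f' * g') * a⁻¹ := by rw [haz.eq]
        _ = z * (a * (f' * g') * a⁻¹) := by group
        _ = z * (z * (f' * g')) := by rw [h3]
        _ = f' * g' := by rw [← mul_assoc, P.zz, one_mul]

/-- The joint centraliser of `z` and another involution of `E`, and its part in `F F'`. -/
theorem card_pair_cent {w : Q} (hw : w ∈ P.E) (h1 : w ≠ 1) (h2 : w ≠ z) :
    Nat.card (Subgroup.centralizer ({z} : Set Q) ⊓ Subgroup.centralizer ({w} : Set Q) : Subgroup Q) = 32 ∧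
      16 ≤ Nat.card (((F ⊔ F') ⊓ Subgroup.centralizer ({w} : Set Q)) : Subgroup Q) := by
  set C := Subgroup.centralizer ({z} : Set Q) with hC
  have hne : ∀ v ∈ C, v * w * v⁻¹ ≠ 1 ∧ v * w * v⁻¹ ≠ z := fun v hv =>
    ⟨fun h => h1 (conj_eq_one_iff.1 h), fun h => h2 (by
      calc w = v⁻¹ * (v * w * v⁻¹) * v := by group
        _ = z := by rw [h, mul_assoc, ← (mem_centralizer_singleton_iff.1 hv), inv_mul_cancel_left])⟩
  have horb := card_eq_orbit_mul C (O := (P.E : Set Q) \ {1, z})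
    (show w ∈ (P.E : Set Q) \ {1, z} from ⟨hw, by simp [h1, h2]⟩)
    (fun v hv => ⟨P.normE hv hw, by simp [hne v hv]⟩) (fun b hb => P.trans_E hw hb.1 ⟨h1, h2⟩
      ⟨fun e => hb.2 (Or.inl e), fun e => hb.2 (Or.inr e)⟩)
  rw [P.card_side, P.card_C] at horb
  have h32 : Nat.card (C ⊓ Subgroup.centralizer ({w} : Set Q) : Subgroup Q) = 32 := by omega
  refine ⟨h32, ?_⟩
  set T := C ⊓ Subgroup.centralizer ({w} : Set Q) with hT
  have hle : T ⊓ D ≤ (F ⊔ F') ⊓ Subgroup.centralizer ({w} : Set Q) := by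
    refine fun x hx => ⟨P.two_mem_sup hx.2 (n := 5) ?_, hx.1.2⟩
    have h := Subgroup.orderOf_dvd_natCard T hx.1
    rw [h32] at h
    exact orderOf_dvd_iff_pow_eq_one.1 h
  have h := LocalEvenSix.card_mul_card_le T D
  have hsup : Nat.card ↥(T ⊔ D) ≤ 192 := by
    rw [← P.card_C]; exact Nat.le_of_dvd Nat.card_pos (Subgroup.card_dvd_of_le (sup_le inf_le_left P.D_le))
  rw [h32, P.card_D] at h
  have h16 : 16 ≤ Nat.card ↥(T ⊓ D) := by nlinarith
  exact h16.trans (Nat.le_of_dvd Nat.card_pos (Subgroup.card_dvd_of_le hle))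

/-- An involution outside `D` centralises at most eight elements of `F F'`. -/
theorem card_outer_cent {v : Q} (hv : v ∈ Subgroup.centralizer ({z} : Set Q)) (hvD : v ∉ D) :
    Nat.card (((F ⊔ F') ⊓ Subgroup.centralizer ({v} : Set Q)) : Subgroup Q) ≤ 8 := by
  set B := (F ⊔ F') ⊓ Subgroup.centralizer ({v} : Set Q) with hB
  have h := LocalEvenSix.card_mul_card_le F B
  have hsup : Nat.card ↥(F ⊔ B) ≤ 32 := by
    rw [← P.card_sup]
    exact Nat.le_of_dvd Nat.card_pos (Subgroup.card_dvd_of_le (sup_le le_sup_left inf_le_left))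
  have hinf : Nat.card ↥(F ⊓ B) ≤ 2 := by
    rw [← SetLike.coe_sort_coe, Nat.card_coe_set_eq]
    refine (Set.ncard_le_ncard (t := {1, z}) fun y hy => ?_).trans
      ((Set.ncard_insert_le _ _).trans (by rw [Set.ncard_singleton]))
    have hcv : Commute y v := mem_centralizer_singleton_iff.1 hy.2.2
    exact P.inter y hy.1 (by
      have := (P.swap v hv hvD).1 y hy.1
      rwa [hcv.symm.eq, mul_inv_cancel_right] at this)
  rw [P.card_F] at h
  nlinarith [Nat.mul_le_mul hsup hinf]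

theorem pull_mem_E {w k : Q} (hw : w ∈ P.E) (h1 : w ≠ 1) (h2 : w ≠ z) (hk : k * z * k⁻¹ = w) :
    k⁻¹ * z * k ∈ P.E ∧ k⁻¹ * z * k ≠ 1 ∧ k⁻¹ * z * k ≠ z := by
  set v := k⁻¹ * z * k with hv
  have hv1 : v ≠ 1 := fun h => P.z_ne (by
    calc z = k * v * k⁻¹ := by rw [hv]; group
      _ = 1 := by rw [h]; group)
  have hvz : v ≠ z := fun h => h2 (by
    calc w = k * z * k⁻¹ := hk.symm
      _ = k * v * k⁻¹ := by rw [h]
      _ = z := by rw [hv]; group)
  refine ⟨?_, hv1, hvz⟩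
  have hvC : v ∈ Subgroup.centralizer ({z} : Set Q) := by
    refine mem_centralizer_singleton_iff.2 ((commute_conj_fix (g := k) (a := z) hk (x := z)).2 ?_).eq
    exact (P.comm_z (P.sup_le_D (P.E_le hw))).symm
  have hconj : IsConj z v := isConj_iff.2 ⟨k⁻¹, by rw [hv]; group⟩
  by_contra hvE
  have hvD : v ∉ D := fun h => hvE (P.mem_E_of_conj (P.two_mem_sup h (n := 1) (by
    rw [pow_one, sq, hv, show k⁻¹ * z * k * (k⁻¹ * z * k) = k⁻¹ * (z * z) * k by group, P.zz]; group)) hconj)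
  have h8 := P.card_outer_cent hvC hvD
  set T := Subgroup.centralizer ({z} : Set Q) ⊓ Subgroup.centralizer ({v} : Set Q) with hT
  have h32 : Nat.card T = 32 := by
    have hmap : (Subgroup.centralizer ({z} : Set Q) ⊓ Subgroup.centralizer ({w} : Set Q)).map
        (MulAut.conj k⁻¹).toMonoidHom = T := by
      ext y
      rw [mem_map_conj, inv_inv, Subgroup.mem_inf, hT, Subgroup.mem_inf, and_comm]
      simp only [mem_centralizer_singleton_iff]
      refine and_congr ?_ ?_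
      · exact (commute_conj_fix (g := k⁻¹) (a := w) (b := z) (by rw [← hk]; group) (x := y) |>.symm
          |> fun h => by rw [inv_inv] at h; exact h.symm)
      · exact (commute_conj_fix (g := k⁻¹) (a := z) (b := v) (by rw [hv]; group) (x := y)
          |> fun h => by rw [inv_inv] at h; exact h)
    rw [← hmap, card_map_conj, (P.card_pair_cent hw h1 h2).1]
  have hle : T ⊓ D ≤ (F ⊔ F') ⊓ Subgroup.centralizer ({v} : Set Q) := by
    refine fun x hx => ⟨P.two_mem_sup hx.2 (n := 5) ?_, hx.1.2⟩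
    have h := Subgroup.orderOf_dvd_natCard T hx.1
    rw [h32] at h
    exact orderOf_dvd_iff_pow_eq_one.1 h
  have h := LocalEvenSix.card_mul_card_le T D
  have hsup : Nat.card ↥(T ⊔ D) ≤ 192 := by
    rw [← P.card_C]; exact Nat.le_of_dvd Nat.card_pos (Subgroup.card_dvd_of_le (sup_le inf_le_left P.D_le))
  rw [h32, P.card_D] at h
  have h16 : 16 ≤ Nat.card ↥(T ⊓ D) := by nlinarith
  have := h16.trans (Nat.le_of_dvd Nat.card_pos (Subgroup.card_dvd_of_le hle))
  omega

/-- The elementary subgroups of the involutions of `E` coincide. -/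
theorem mem_normalizer_E {w k : Q} (hw : w ∈ P.E) (h1 : w ≠ 1) (hk : k * z * k⁻¹ = w) :
    k ∈ Subgroup.normalizer (P.E : Set Q) := by
  by_cases h2 : w = z
  · refine Subgroup.mem_normalizer_fintype fun e he => P.normE (mem_centralizer_singleton_iff.2 ?_) he
    exact mul_inv_eq_iff_eq_mul.1 (hk.trans h2)
  obtain ⟨hvE, hv1, hv2⟩ := P.pull_mem_E hw h1 h2 hk
  set v := k⁻¹ * z * k with hv
  set O := F ⊔ F' with hO
  set T := Subgroup.centralizer ({z} : Set Q) ⊓ Subgroup.centralizer ({w} : Set Q) with hT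
  set A := O ⊓ Subgroup.centralizer ({w} : Set Q) with hA
  set B := (O ⊓ Subgroup.centralizer ({v} : Set Q)).map (MulAut.conj k).toMonoidHom with hB
  have hAT : A ≤ T := fun x hx => ⟨P.sup_le_C hx.1, hx.2⟩
  have hBT : B ≤ T := by
    intro x hx
    rw [hB, mem_map_conj] at hx
    exact ⟨mem_centralizer_singleton_iff.2 ((commute_conj_fix (g := k) (a := v) (b := z) (by rw [hv]; group)).1
        (mem_centralizer_singleton_iff.1 hx.2)).eq,
      mem_centralizer_singleton_iff.2 ((commute_conj_fix hk).1 (P.comm_z (P.sup_le_D hx.1))).eq⟩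
  have hA16 := (P.card_pair_cent hw h1 h2).2
  have hB16 : 16 ≤ Nat.card B := by rw [hB, card_map_conj]; exact (P.card_pair_cent hvE hv1 hv2).2
  have hle := LocalEvenSix.card_mul_card_le A B
  have hsup : Nat.card ↥(A ⊔ B) ≤ 32 := by
    rw [← (P.card_pair_cent hw h1 h2).1]
    exact Nat.le_of_dvd Nat.card_pos (Subgroup.card_dvd_of_le (sup_le hAT hBT))
  have h8 : 8 ≤ Nat.card ↥(A ⊓ B) := by nlinarith [Nat.mul_le_mul hA16 hB16]
  have hwns := P.not_comm_side hw h1 h2
  have hsubE : A ⊓ B ≤ P.E ⊓ P.E.map (MulAut.conj k).toMonoidHom := by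
    rintro x ⟨hxA, hxB⟩
    obtain ⟨o, ⟨ho, -⟩, hox⟩ := hxB
    have hox' : k * o * k⁻¹ = x := by simpa using hox
    have hx2 : x * x = 1 := by
      rcases P.sq_sup hxA.1 with h | h
      · exact h
      · exfalso
        have hx' : x * x = k * (o * o) * k⁻¹ := by rw [← hox']; group
        rcases P.sq_sup ho with h' | h' <;> rw [h'] at hx' <;> rw [h] at hx'
        · exact P.z_ne (by rw [hx']; group)
        · exact h2 (hk.symm.trans hx'.symm)
    by_cases hx1 : x = 1
    · rw [hx1]; exact one_mem _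
    have ho1 : o ≠ 1 := fun h => hx1 (by rw [← hox', h]; group)
    have ho2 : o * o = 1 := by
      have : k * (o * o) * k⁻¹ = 1 := by rw [← hx2, ← hox']; group
      exact conj_eq_one_iff.1 this
    -- `x` is conjugate to `z`
    have hxz : IsConj z x := by
      by_contra hnc
      have hxz' : x ≠ z := fun h => hnc (by rw [h])
      have hxs : x ∈ F ∨ x ∈ F' := by
        rcases P.invol_sup hxA.1 hx2 with h | h | h
        exacts [Or.inl h, Or.inr h, absurd (P.conjE h hx1) hnc]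
      have hoz : o ≠ z := fun h => hnc (isConj_iff.2 ⟨k, by rw [← h]; exact hox'⟩)
      have hos : o ∈ F ∨ o ∈ F' := by
        rcases P.invol_sup ho ho2 with h | h | h
        exacts [Or.inl h, Or.inr h, absurd ((P.conjE h ho1).trans (isConj_iff.2 ⟨k, hox'⟩)) hnc]
      -- the centraliser of `x` centralises `w`
      have hcw : ∀ a, Commute a x → Commute a w := fun a ha =>
        (commute_conj_fix hk).1 (P.comm_z ((P.cent_le_sup hos ho1 hoz).2.1
          (mem_centralizer_singleton_iff.2 ((commute_conj_fix hox').2 ha).eq)))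
      rcases hxs with h | h
      · exact hwns.1 fun f hf => hcw f (P.commF hf h)
      · exact hwns.2 fun g hg => hcw g (P.commF' hg h)
    exact ⟨P.mem_E_of_conj hxA.1 hxz, ⟨o, P.mem_E_of_conj ho
      (hxz.trans (isConj_iff.2 ⟨k, hox'⟩).symm), hox⟩⟩
  have hE1 : A ⊓ B = P.E :=
    Subgroup.eq_of_le_of_card_ge (fun x hx => (hsubE hx).1) (by rw [P.card_E]; exact h8)
  have hE2 : A ⊓ B = P.E.map (MulAut.conj k).toMonoidHom :=
    Subgroup.eq_of_le_of_card_ge (fun x hx => (hsubE hx).2) (by rw [card_map_conj, P.card_E]; exact h8)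
  rw [← map_conj_eq_iff, ← hE2, hE1]

theorem normalizer_of_meet {k x : Q} (hx : x ∈ P.E) (hx1 : x ≠ 1) (h : k⁻¹ * x * k ∈ P.E) :
    k ∈ Subgroup.normalizer (P.E : Set Q) := by
  have hy1 : k⁻¹ * x * k ≠ 1 := fun e => hx1 (by
    calc x = k * (k⁻¹ * x * k) * k⁻¹ := by group
      _ = 1 := by rw [e]; group)
  obtain ⟨a, ha⟩ := isConj_iff.1 (P.conjE h hy1)
  have h1 := P.mem_normalizer_E h hy1 ha
  have h2 := P.mem_normalizer_E hx hx1 (k := k * a) (by
    rw [show k * a * z * (k * a)⁻¹ = k * (a * z * a⁻¹) * k⁻¹ by group, ha]; group)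
  simpa using mul_mem h2 (inv_mem h1)

/-- The conjugates of `z` in its centraliser lie in `E`. -/
theorem conj_in_cent {v : Q} (hv : v ∈ Subgroup.centralizer ({z} : Set Q)) (hc : IsConj z v) : v ∈ P.E := by
  obtain ⟨g, hg⟩ := isConj_iff.1 hc
  by_contra hvE
  have hv2 : v * v = 1 := by
    rw [← hg, show g * z * g⁻¹ * (g * z * g⁻¹) = g * (z * z) * g⁻¹ by group, P.zz]; group
  have hvD : v ∉ D := fun h => hvE (P.mem_E_of_conj (P.two_mem_sup h (n := 1) (by rw [pow_one, sq, hv2])) hc)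
  set z' := g⁻¹ * z * g with hz'
  have hgz' : g * z' * g⁻¹ = z := by rw [hz']; group
  have hz'C : Commute z' z := (commute_conj_fix hg).2 (mem_centralizer_singleton_iff.1 hv).symm
  have hz'2 : z' * z' = 1 := by
    rw [hz', show g⁻¹ * z * g * (g⁻¹ * z * g) = g⁻¹ * (z * z) * g by group, P.zz]; group
  have hno : g ∉ Subgroup.normalizer (P.E : Set Q) := fun h =>
    hvE (hg ▸ (Subgroup.mem_normalizer_iff.1 h z).1 P.zE)
  have hfix := sq_card_fixed_le (A := P.E) (fun a ha => P.sqE ha) hz'2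
    (fun a ha => P.normE (mem_centralizer_singleton_iff.2 hz'C.eq) ha)
  rw [P.card_E] at hfix
  obtain ⟨e, he, hez', he1, hez⟩ : ∃ e ∈ P.E, Commute e z' ∧ e ≠ 1 ∧ e ≠ z := by
    by_contra! hall
    have hle : Nat.card (P.E ⊓ Subgroup.centralizer ({z'} : Set Q) : Subgroup Q) ≤ 2 := by
      rw [← SetLike.coe_sort_coe, Nat.card_coe_set_eq]
      refine (Set.ncard_le_ncard (t := {1, z}) fun y hy => ?_).trans
        ((Set.ncard_insert_le _ _).trans (by rw [Set.ncard_singleton]))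
      by_cases hy1 : y = 1
      · exact Or.inl hy1
      · exact Or.inr (hall y hy.1 (mem_centralizer_singleton_iff.1 hy.2) hy1)
    nlinarith
  set w := g * e * g⁻¹ with hw
  have hwC : w ∈ Subgroup.centralizer ({z} : Set Q) := by
    refine mem_centralizer_singleton_iff.2 ((commute_conj_fix hgz').1 ?_).eq
    rw [hw, show g⁻¹ * (g * e * g⁻¹) * g = e by group]
    exact hez'
  have hwconj : IsConj z w := (P.conjE he he1).trans (isConj_iff.2 ⟨g, rfl⟩)
  have hw1 : w ≠ 1 := fun h => he1 (conj_eq_one_iff.1 h)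
  have hw2 : w * w = 1 := by
    rw [hw, show g * e * g⁻¹ * (g * e * g⁻¹) = g * (e * e) * g⁻¹ by group, P.sqE he]; group
  by_cases hwD : w ∈ D
  · refine hno (P.normalizer_of_meet (P.mem_E_of_conj (P.two_mem_sup hwD (n := 1) (by rw [pow_one, sq, hw2])) hwconj) hw1 ?_)
    rw [hw, show g⁻¹ * (g * e * g⁻¹) * g = e by group]
    exact he
  · have hze : z * e ∈ P.E := mul_mem P.zE he
    have hze1 : z * e ≠ 1 := fun h => hez (by
      rw [eq_inv_of_mul_eq_one_right h, inv_eq_of_mul_eq_one_right P.zz])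
    have hvw : v * w = g * (z * e) * g⁻¹ := by rw [← hg, hw]; group
    have hvwD := P.mul_mem_D hv hwC hvD hwD
    have hvw2 : (v * w) ^ 2 ^ 1 = 1 := by
      rw [pow_one, sq, hvw, show g * (z * e) * g⁻¹ * (g * (z * e) * g⁻¹) = g * ((z * e) * (z * e)) * g⁻¹ by group,
        P.sqE hze]
      group
    refine hno (P.normalizer_of_meet (P.mem_E_of_conj (P.two_mem_sup hvwD hvw2)
      ((P.conjE hze hze1).trans (isConj_iff.2 ⟨g, hvw.symm⟩))) ?_ ?_)
    · rw [hvw]; exact fun h => hze1 (conj_eq_one_iff.1 h)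
    · rw [hvw, show g⁻¹ * (g * (z * e) * g⁻¹) * g = z * e by group]
      exact hze

/-- All conjugates of `z` lie in `E`. -/
theorem conj_mem_E {a : Q} (ha : IsConj z a) : a ∈ P.E := by
  obtain ⟨g, hg⟩ := isConj_iff.1 ha
  have ha2 : orderOf a = 2 := by
    rw [← P.hz, ← hg]; exact MulEquiv.orderOf_eq (MulAut.conj g) z
  rcases FTCons.AbelianFactor.isConj_or_exists_commute ha2 P.ht with h | ⟨i, hi, hia, hit⟩
  · exact absurd (ha.trans h) P.nconj
  have hiC : i ∈ Subgroup.centralizer ({z} : Set Q) :=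
    P.D_le (P.Ct_le (mem_centralizer_singleton_iff.2 hit.eq))
  rcases P.invol i hi with hzi | hti
  · have hiE := P.conj_in_cent hiC hzi
    obtain ⟨h, hh⟩ := isConj_iff.1 hzi
    have hi1 : i ≠ 1 := fun e => by rw [e, orderOf_one] at hi; norm_num at hi
    have hN := P.mem_normalizer_E hiE hi1 hh
    have h1 : Commute (h⁻¹ * a * h) z := (commute_conj_fix hh).2 hia.symm
    have h2 := P.conj_in_cent (mem_centralizer_singleton_iff.2 h1.eq)
      (ha.trans (isConj_iff.2 ⟨h⁻¹, by group⟩))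
    exact (Subgroup.mem_normalizer_iff''.1 hN a).2 h2
  · obtain ⟨k, hk⟩ := isConj_iff.1 hti
    have hle := (P.cent_le_of_conj_t hk).1
    have key : ∀ b, IsConj z b → Commute b i → k⁻¹ * b * k ∈ P.E := fun b hb hbi => by
      refine P.conj_in_cent (mem_centralizer_singleton_iff.2 ((commute_conj_fix (g := k) (a := z) rfl).2
        (mem_centralizer_singleton_iff.1 (hle (mem_centralizer_singleton_iff.2 hbi.eq)))).eq) ?_
      exact hb.trans (isConj_iff.2 ⟨k⁻¹, by group⟩)
    have hN := P.normalizer_of_meet P.zE P.z_ne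
      (key z (IsConj.refl z) (mem_centralizer_singleton_iff.1 hiC).symm)
    exact (Subgroup.mem_normalizer_iff''.1 hN a).2 (key a ha hia.symm)

theorem normal_E : P.E.Normal :=
  ⟨fun e he g => by
    by_cases he1 : e = 1
    · rw [he1, mul_one, mul_inv_cancel]; exact one_mem _
    · exact P.conj_mem_E ((P.conjE he he1).trans (isConj_iff.2 ⟨g, rfl⟩))⟩

theorem card_group : Nat.card Q = 1344 := by
  have h := card_eq_orbit_mul (⊤ : Subgroup Q) (O := (P.E : Set Q) \ {1})
    (show z ∈ (P.E : Set Q) \ {1} from ⟨P.zE, P.z_ne⟩)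
    (fun k _ => ⟨P.normal_E.conj_mem z P.zE k, fun h => P.z_ne (conj_eq_one_iff.1 h)⟩) (fun b hb => by
      obtain ⟨k, hk⟩ := isConj_iff.1 (P.conjE hb.1 hb.2)
      exact ⟨k, Subgroup.mem_top k, hk⟩)
  rw [Subgroup.card_top, top_inf_eq, P.card_C, Set.ncard_sdiff_singleton_of_mem (Subgroup.one_mem _),
    ← Nat.card_coe_set_eq, show Nat.card ↥(P.E : Set Q) = 8 from P.card_E] at h
  exact h

end FivePair

end CfsgLib.J4Type
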