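import Cfsg.Agent.Lib.Schur.GolaySearch
import Cfsg.Agent.Lib.Golay.Orbits

/-!
# An element of order five of `M24`: its centraliser, by a complete search

The stages and results of the search are checked by the kernel.
-/

set_option autoImplicit false
set_option maxRecDepth 20000

namespace CfsgLib.J4Type.FiveData

open Cfsg CfsgLib.Golay CfsgLib.Schur.GolaySearch

/-- An element of order five. -/
def fiveL : List ℕ := [0,7,10,20,2,5,11,22,9,15,6,4,13,8,21,12,16,3,19,17,18,1,14,23]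

/-- Its fixed positions. -/
def fiveFix : List ℕ := [0,5,16,23]

/-- The stages of the search. -/
def stages : List Stage :=
  [([1,7,22,14,21], [], List.range 24),
   ([2,10,6,11,4], [], List.range 24),
   ([3,20,18,19,17], [6832158,5652556,3294342,919694], List.range 24),
   ([8,9,15,12,13], [7221256,2019456,7622914,3322370], List.range 24),
   ([0], [5902343], fiveFix),
   ([5], [3719203], fiveFix),
   ([16], [4845570], fiveFix),
   ([23], [13062145], fiveFix)]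

/-- The centraliser. -/
def found : List (List ℕ) :=
  [ [0,1,2,3,4,5,6,7,8,9,10,11,12,13,14,15,16,17,18,19,20,21,22,23],
    [0,1,15,11,9,23,13,7,3,20,12,8,19,17,14,18,5,6,2,10,4,21,22,16],
    [0,1,18,8,20,16,17,7,11,4,19,3,10,6,14,2,23,13,15,12,9,21,22,5],
    [16,2,9,17,8,0,12,10,7,22,15,13,21,1,11,14,5,19,20,18,3,4,6,23],
    [16,2,14,13,22,23,1,10,17,3,21,7,18,19,11,20,0,12,9,15,8,4,6,5],
    [16,2,20,7,3,5,19,10,13,8,18,17,15,12,11,9,23,1,14,21,22,4,6,0],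
    [23,3,6,15,10,0,4,20,21,1,11,2,22,14,19,7,16,9,13,8,12,17,18,5],
    [23,3,7,2,1,5,14,20,15,12,22,21,8,9,19,13,0,4,6,11,10,17,18,16],
    [23,3,13,21,12,16,9,20,2,10,8,15,11,4,19,6,5,14,7,22,1,17,18,0],
    [16,4,3,1,17,5,18,2,12,13,20,19,9,15,6,8,23,21,22,14,7,11,10,0],
    [16,4,8,19,13,0,15,2,1,7,9,12,14,21,6,22,5,18,3,20,17,11,10,23],
    [16,4,22,12,7,23,21,2,19,17,14,1,20,18,6,3,0,15,8,9,13,11,10,5],
    [16,6,1,9,21,23,22,11,20,18,7,14,17,3,2,19,0,8,12,13,15,10,4,5],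
    [16,6,12,20,15,0,8,11,14,21,13,9,7,22,2,1,5,3,19,17,18,10,4,23],
    [16,6,19,14,18,5,3,11,9,15,17,20,13,8,2,12,23,22,1,7,21,10,4,0],
    [0,7,10,20,2,5,11,22,9,15,6,4,13,8,21,12,16,3,19,17,18,1,14,23],
    [0,7,12,4,15,23,8,22,20,18,13,9,17,3,21,19,5,11,10,6,2,1,14,16],
    [0,7,19,9,18,16,3,22,4,2,17,20,6,11,21,10,23,8,12,13,15,1,14,5],
    [5,8,6,21,10,23,4,9,18,19,11,2,3,20,12,17,16,14,7,22,1,13,15,0],
    [5,8,7,18,1,16,14,9,2,10,22,21,11,4,12,6,0,20,17,3,19,13,15,23],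
    [5,8,17,2,19,0,20,9,21,1,3,18,22,14,12,7,23,4,6,11,10,13,15,16],
    [5,9,3,10,17,0,18,15,1,7,20,19,14,21,13,22,23,2,11,4,6,8,12,16],
    [5,9,11,1,6,23,2,15,19,17,4,10,20,18,13,3,16,21,22,14,7,8,12,0],
    [5,9,22,19,7,16,21,15,10,6,14,1,4,2,13,11,0,18,3,20,17,8,12,23],
    [16,10,15,3,9,0,13,6,22,14,12,8,1,7,4,21,5,17,18,19,20,2,11,23],
    [16,10,18,22,20,5,17,6,8,9,19,3,12,13,4,15,23,7,21,1,14,2,11,0],
    [16,10,21,8,14,23,7,6,3,20,1,22,19,17,4,18,0,13,15,12,9,2,11,5],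
    [16,11,7,15,1,23,14,4,18,19,22,21,3,20,10,17,0,9,13,8,12,6,2,5],
    [16,11,13,18,12,0,9,4,21,1,8,15,22,14,10,7,5,20,17,3,19,6,2,23],
    [16,11,17,21,19,5,20,4,15,12,3,18,8,9,10,13,23,14,7,22,1,6,2,0],
    [5,12,2,22,4,23,6,13,3,20,10,11,19,17,9,18,16,7,21,1,14,15,8,0],
    [5,12,18,11,20,0,17,13,22,14,19,3,1,7,9,21,23,6,2,10,4,15,8,16],
    [5,12,21,3,14,16,7,13,11,4,1,22,10,6,9,2,0,17,18,19,20,15,8,23],
    [5,13,1,20,21,16,22,8,4,2,7,14,6,11,15,10,0,3,19,17,18,12,9,23],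
    [5,13,10,14,2,23,11,8,20,18,6,4,17,3,15,19,16,22,1,7,21,12,9,0],
    [5,13,19,4,18,0,3,8,14,21,17,20,7,22,15,1,23,11,10,6,2,12,9,16],
    [0,14,3,12,17,16,18,21,10,6,20,19,4,2,7,11,23,15,8,9,13,22,1,5],
    [0,14,8,10,13,23,15,21,19,17,9,12,20,18,7,3,5,2,11,4,6,22,1,16],
    [0,14,11,19,6,5,2,21,12,13,4,10,9,15,7,8,16,18,3,20,17,22,1,23],
    [5,15,4,7,11,23,10,12,17,3,2,6,18,19,8,20,16,1,14,21,22,9,13,0],
    [5,15,14,17,22,16,1,12,6,11,21,7,2,10,8,4,0,19,20,18,3,9,13,23],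
    [5,15,20,6,3,0,19,12,7,22,18,17,21,1,8,14,23,10,4,2,11,9,13,16],
    [23,17,1,4,21,5,22,3,9,15,7,14,13,8,18,12,0,11,10,6,2,19,20,16],
    [23,17,10,9,2,0,11,3,14,21,6,4,7,22,18,1,16,8,12,13,15,19,20,5],
    [23,17,12,14,15,16,8,3,4,2,13,9,6,11,18,10,5,22,1,7,21,19,20,0],
    [23,18,4,13,11,0,10,19,7,22,2,6,21,1,3,14,16,12,9,15,8,20,17,5],
    [23,18,9,7,8,16,12,19,6,11,15,13,2,10,3,4,5,1,14,21,22,20,17,0],
    [23,18,14,6,22,5,1,19,13,8,21,7,15,12,3,9,0,10,4,2,11,20,17,16],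
    [23,19,2,8,4,0,6,17,22,14,10,11,1,7,20,21,16,13,15,12,9,18,3,5],
    [23,19,15,22,9,16,13,17,11,4,12,8,10,6,20,2,5,7,21,1,14,18,3,0],
    [23,19,21,11,14,5,7,17,8,9,1,22,12,13,20,15,0,6,2,10,4,18,3,16],
    [23,20,8,1,13,16,15,18,10,6,9,12,4,2,17,11,5,21,22,14,7,3,19,0],
    [23,20,11,12,6,0,2,18,1,7,4,10,14,21,17,22,16,15,8,9,13,3,19,5],
    [23,20,22,10,7,5,21,18,12,13,14,1,9,15,17,8,0,2,11,4,6,3,19,16],
    [0,21,4,17,11,5,10,1,13,8,2,6,15,12,22,9,16,19,20,18,3,14,7,23],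
    [0,21,9,6,8,23,12,1,17,3,15,13,18,19,22,20,5,10,4,2,11,14,7,16],
    [0,21,20,13,3,16,19,1,6,11,18,17,2,10,22,4,23,12,9,15,8,14,7,5],
    [0,22,6,18,10,5,4,14,15,12,11,2,8,9,1,13,16,20,17,3,19,7,21,23],
    [0,22,13,2,12,23,9,14,18,19,8,15,3,20,1,17,5,4,6,11,10,7,21,16],
    [0,22,17,15,19,16,20,14,2,10,3,18,11,4,1,6,23,9,13,8,12,7,21,5]]

/-- An element of order four squaring the generator by conjugation. -/
def fourL : List ℕ := [0,1,4,15,6,23,11,22,18,17,10,2,19,3,7,20,16,8,9,12,13,14,21,5]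

/-- Whether a list permutes two positions. -/
def pairFix (j l : ℕ) (m : List ℕ) : Bool :=
  (Nat.beq (m.getD j 0) j && Nat.beq (m.getD l 0) l) || (Nat.beq (m.getD j 0) l && Nat.beq (m.getD l 0) j)

theorem search_eq : searchImg fiveL 0 stages (List.replicate 24 0) = found := by
  decide +kernel

theorem fiveL_facts : genOK fiveL = true ∧
    comp fiveL (comp fiveL (comp fiveL (comp fiveL fiveL))) = List.range 24 ∧
    fiveL ≠ List.range 24 ∧ stagesOK fiveL 0 stages = true := by decide +kernel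

theorem fiveFix_spec : ((List.range 24).all fun i =>
    Nat.beq (fiveL.getD i 0) i == fiveFix.contains i) = true := by decide +kernel

theorem fourL_facts : genOK fourL = true ∧
    comp fourL (comp fourL (comp fourL fourL)) = List.range 24 ∧
    comp fourL fiveL = comp (comp fiveL fiveL) fourL := by decide +kernel

theorem stages_heads : (stages.all fun s => s.2.2 == List.range 24 ||
    (s.2.2 == fiveFix && s.1.all fun i => fiveFix.contains i)) = true := by decide +kernel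

theorem found_valid : (found.all fun l => genOK l && comp l fiveL == comp fiveL l) = true := by
  decide +kernel

theorem found_counts : found.Nodup ∧ found.length = 60 := by decide +kernel

theorem found_no_central : (found.all fun i => i == List.range 24 || !(comp i i == List.range 24) ||
    found.any fun c => !(comp i c == comp c i)) = true := by decide +kernel

theorem found_pairs : (fiveFix.all fun j => fiveFix.all fun l => Nat.beq j l ||
    Nat.beq (found.filter (pairFix j l)).length 10) = true := by decide +kernel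

end CfsgLib.J4Type.FiveData
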