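import Cfsg.Agent.Lib.J4Type.FiveO

/-!
# The elementary subgroup of order eight and the class of the central involution
-/

set_option autoImplicit false
set_option linter.unusedSectionVars false

namespace CfsgLib.J4Type

open CfsgLib.ThreeTrans.Torsion
open Subgroup (mem_centralizer_singleton_iff)

variable {Q : Type*} [Group Q] [Finite Q] {z t : Q} {D F F' : Subgroup Q}

namespace FivePair

variable (P : FivePair z t D F F')
include P

/-- The products of commuting pairs. -/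
def ESet (F F' : Subgroup Q) (z : Q) : Set Q :=
  {o | ∃ f ∈ F, ∃ g ∈ F', f * g = o ∧ Commute f g ∧ ((f = 1 ∨ f = z) ↔ (g = 1 ∨ g = z))}

theorem eset_z {o : Q} (ho : o = 1 ∨ o = z) : o ∈ ESet F F' z := by
  refine ⟨o, ?_, 1, one_mem _, mul_one o, Commute.one_right o, iff_of_true ho (Or.inl rfl)⟩
  rcases ho with rfl | rfl
  exacts [one_mem _, P.zF]

theorem z_absorb {x : Q} : (z * x = 1 ∨ z * x = z) ↔ (x = 1 ∨ x = z) := by
  constructor
  · rintro (h | h)
    · right
      calc x = z * (z * x) := by rw [← mul_assoc, P.zz, one_mul]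
        _ = z := by rw [h, mul_one]
    · left
      simpa using h
  · rintro (rfl | rfl)
    · right; rw [mul_one]
    · left; exact P.zz

theorem eset_zmul {o : Q} (ho : o ∈ ESet F F' z) : z * o ∈ ESet F F' z := by
  obtain ⟨f, hf, g, hg, rfl, hfg, hiff⟩ := ho
  exact ⟨z * f, mul_mem P.zF hf, g, hg, mul_assoc z f g,
    (P.comm_z (P.F'_le hg)).symm.mul_left hfg, (P.z_absorb).trans hiff⟩

theorem eset_sq {o : Q} (ho : o ∈ ESet F F' z) : o * o = 1 := by
  obtain ⟨f, hf, g, hg, rfl, hfg, -⟩ := ho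
  rw [show f * g * (f * g) = f * (g * f) * g by group, ← hfg.eq,
    show f * (f * g) * g = (f * f) * (g * g) by group, P.sqF f hf, P.sqF' g hg, one_mul]

theorem eset_mul {a b : Q} (ha : a ∈ ESet F F' z) (hb : b ∈ ESet F F' z) : a * b ∈ ESet F F' z := by
  have ha0 := ha
  obtain ⟨f₁, hf₁, g₁, hg₁, rfl, hc₁, hi₁⟩ := ha
  obtain ⟨f₂, hf₂, g₂, hg₂, rfl, hc₂, hi₂⟩ := hb
  have hzc : ∀ x ∈ F ⊔ F', Commute x z := fun x hx => P.comm_z (P.sup_le_D hx)
  by_cases h1 : f₁ = 1 ∨ f₁ = z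
  · -- the first factor lies in the centre
    have hab : f₁ * g₁ = 1 ∨ f₁ * g₁ = z := by
      have hg' := hi₁.1 h1
      rcases h1 with e | e <;> rcases hg' with e' | e' <;> rw [e, e'] <;> simp [P.zz]
    rcases hab with e | e <;> rw [e]
    · rw [one_mul]; exact ⟨f₂, hf₂, g₂, hg₂, rfl, hc₂, hi₂⟩
    · exact P.eset_zmul ⟨f₂, hf₂, g₂, hg₂, rfl, hc₂, hi₂⟩
  by_cases h2 : f₂ = 1 ∨ f₂ = z
  · have hab : f₂ * g₂ = 1 ∨ f₂ * g₂ = z := by
      have hg' := hi₂.1 h2
      rcases h2 with e | e <;> rcases hg' with e' | e' <;> rw [e, e'] <;> simp [P.zz]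
    rcases hab with e | e <;> rw [e]
    · rw [mul_one]; exact ha0
    · rw [(hzc _ (mul_mem (Subgroup.mem_sup_left hf₁) (Subgroup.mem_sup_right hg₁))).eq]
      exact P.eset_zmul ha0
  have hn1 : g₁ ≠ 1 ∧ g₁ ≠ z := not_or.1 fun e => h1 (hi₁.2 e)
  have hn2 : g₂ ≠ 1 ∧ g₂ ≠ z := not_or.1 fun e => h2 (hi₂.2 e)
  have hcz : ∀ x ∈ F, Commute x z := fun x hx => P.comm_z (P.F_le hx)
  rcases P.twist hf₂ hg₁ with hga | hga
  · -- `g₁` is a partner of both
    have hp := P.partner_unique hf₂ (fun e => h2 (Or.inl e)) (fun e => h2 (Or.inr e)) hg₁ hg₂ hga.symm hc₂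
      hn1 hn2
    have hf12 : f₁ * f₂ = 1 ∨ f₁ * f₂ = z := by
      by_contra! hne
      have hall : ∀ f ∈ F, Commute f g₁ := by
        intro f hf
        have hle : ({1, z, f₁, f₂, f₁ * f₂} : Set Q) ⊆ (F ⊓ Subgroup.centralizer ({g₁} : Set Q) : Subgroup Q) := by
          have m1 : f₁ ∈ F ⊓ Subgroup.centralizer ({g₁} : Set Q) := ⟨hf₁, mem_centralizer_singleton_iff.2 hc₁.eq⟩
          have m2 : f₂ ∈ F ⊓ Subgroup.centralizer ({g₁} : Set Q) :=
            ⟨hf₂, mem_centralizer_singleton_iff.2 hga.symm⟩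
          rintro x (rfl | rfl | rfl | rfl | rfl)
          · exact one_mem _
          · exact ⟨P.zF, mem_centralizer_singleton_iff.2 (P.comm_z (P.F'_le hg₁)).symm.eq⟩
          · exact m1
          · exact m2
          · exact mul_mem m1 m2
        have h5 : ({1, z, f₁, f₂, f₁ * f₂} : Set Q).ncard = 5 := by
          have e12 : f₁ ≠ f₂ := fun e => hne.1 (by rw [e, P.sqF f₂ hf₂])
          have e13 : f₁ ≠ f₁ * f₂ := fun e => h2 (Or.inl (by simpa using e.symm))
          have e23 : f₂ ≠ f₁ * f₂ := fun e => h1 (Or.inl (by simpa using e.symm))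
          rw [Set.ncard_insert_of_notMem, Set.ncard_insert_of_notMem, Set.ncard_insert_of_notMem,
            Set.ncard_pair e23]
          · simp [e12, e13]
          · simp only [Set.mem_insert_iff, Set.mem_singleton_iff, not_or]
            exact ⟨fun e => h1 (Or.inr e.symm), fun e => h2 (Or.inr e.symm), hne.2.symm⟩
          · simp only [Set.mem_insert_iff, Set.mem_singleton_iff, not_or]
            exact ⟨P.z_ne.symm, fun e => h1 (Or.inl e.symm), fun e => h2 (Or.inl e.symm), hne.1.symm⟩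
        have h5' := Set.ncard_le_ncard hle
        rw [h5, ← Nat.card_coe_set_eq, SetLike.coe_sort_coe] at h5'
        have heq : F ⊓ Subgroup.centralizer ({g₁} : Set Q) = F := Subgroup.eq_of_le_of_card_ge inf_le_left (by
          have hdvd := Subgroup.card_dvd_of_le (inf_le_left : F ⊓ Subgroup.centralizer ({g₁} : Set Q) ≤ F)
          rw [P.card_F] at hdvd ⊢
          have hle8 := Nat.le_of_dvd (by norm_num) hdvd
          generalize Nat.card ↥(F ⊓ Subgroup.centralizer ({g₁} : Set Q)) = m at *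
          interval_cases m <;> omega)
        exact mem_centralizer_singleton_iff.1 (heq.symm ▸ hf : f ∈ F ⊓ Subgroup.centralizer ({g₁} : Set Q)).2
      rcases P.center_F' hg₁ hall with e | e
      exacts [hn1.1 e, hn1.2 e]
    have hab : f₁ * g₁ * (f₂ * g₂) = (f₁ * f₂) * (g₁ * g₂) := by
      rw [show f₁ * g₁ * (f₂ * g₂) = f₁ * (g₁ * f₂) * g₂ by group, hga]
      group
    rw [hab]
    apply P.eset_z
    rcases hf12 with e | e <;> rcases hp with e' | e' <;> rw [e, e'] <;> simp [P.zz]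
  · rcases P.twist hf₁ hg₂ with hgb | hgb
    · -- then `g₂` is a partner of `f₁`, so equal to `g₁` modulo the centre
      exfalso
      have hp := P.partner_unique hf₁ (fun e => h1 (Or.inl e)) (fun e => h1 (Or.inr e)) hg₁ hg₂ hc₁ hgb.symm
        hn1 hn2
      have hc : Commute f₂ g₁ := by
        have e : g₁ = (g₁ * g₂) * g₂ := by rw [mul_assoc, P.sqF' g₂ hg₂, mul_one]
        rw [e]
        refine Commute.mul_right ?_ hc₂
        rcases hp with e' | e' <;> rw [e']
        exacts [Commute.one_right _, hcz f₂ hf₂]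
      rw [← hc.eq] at hga
      exact P.z_ne (by simpa using hga.symm)
    have hnf : ¬ (f₁ * f₂ = 1 ∨ f₁ * f₂ = z) := by
      intro h
      have hc : Commute f₂ g₁ := by
        have e : f₂ = f₁ * (f₁ * f₂) := by rw [← mul_assoc, P.sqF f₁ hf₁, one_mul]
        rw [e]
        refine Commute.mul_left hc₁ ?_
        rcases h with e' | e' <;> rw [e']
        exacts [Commute.one_left _, (P.comm_z (P.F'_le hg₁)).symm]
      rw [← hc.eq] at hga
      exact P.z_ne (by simpa using hga.symm)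
    have hng : ¬ (g₁ * g₂ = 1 ∨ g₁ * g₂ = z) := by
      intro h
      have hc : Commute f₂ g₁ := by
        have e : g₁ = (g₁ * g₂) * g₂ := by rw [mul_assoc, P.sqF' g₂ hg₂, mul_one]
        rw [e]
        refine Commute.mul_right ?_ hc₂
        rcases h with e' | e' <;> rw [e']
        exacts [Commute.one_right _, hcz f₂ hf₂]
      rw [← hc.eq] at hga
      exact P.z_ne (by simpa using hga.symm)
    have hz1 : ∀ x ∈ F', z * x = x * z := fun x hx => (P.comm_z (P.F'_le hx)).symm.eq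
    refine ⟨z * (f₁ * f₂), mul_mem P.zF (mul_mem hf₁ hf₂), g₁ * g₂, mul_mem hg₁ hg₂, ?_, ?_,
      iff_of_false (fun e => hnf ((P.z_absorb).1 e)) hng⟩
    · rw [show f₁ * g₁ * (f₂ * g₂) = f₁ * (g₁ * f₂) * g₂ by group, hga,
        show f₁ * (z * (f₂ * g₁)) * g₂ = (f₁ * z) * (f₂ * g₁ * g₂) by group, (hcz f₁ hf₁).eq]
      group
    · refine Commute.mul_left ((P.comm_z (P.F'_le (mul_mem hg₁ hg₂))).symm) ?_
      -- both twisted commutators are central
      have e2 : g₁ * f₂ = z * (f₂ * g₁) := hga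
      have e1 : g₂ * f₁ = z * (f₁ * g₂) := hgb
      show f₁ * f₂ * (g₁ * g₂) = g₁ * g₂ * (f₁ * f₂)
      symm
      calc g₁ * g₂ * (f₁ * f₂) = g₁ * (g₂ * f₁) * f₂ := by group
        _ = g₁ * (z * (f₁ * g₂)) * f₂ := by rw [e1]
        _ = (g₁ * z) * f₁ * (g₂ * f₂) := by group
        _ = (z * g₁) * f₁ * (f₂ * g₂) := by rw [← hz1 g₁ hg₁, hc₂.eq]
        _ = z * (g₁ * f₁) * f₂ * g₂ := by group
        _ = z * (f₁ * g₁) * f₂ * g₂ := by rw [hc₁.eq]
        _ = (z * f₁) * (g₁ * f₂) * g₂ := by group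
        _ = (z * f₁) * (z * (f₂ * g₁)) * g₂ := by rw [e2]
        _ = z * (f₁ * z) * f₂ * (g₁ * g₂) := by group
        _ = z * (z * f₁) * f₂ * (g₁ * g₂) := by rw [(hcz f₁ hf₁).eq]
        _ = f₁ * f₂ * (g₁ * g₂) := by rw [← mul_assoc z z f₁, P.zz, one_mul]

/-- The elementary subgroup of order eight. -/
def E : Subgroup Q where
  carrier := ESet F F' z
  one_mem' := P.eset_z (Or.inl rfl)
  mul_mem' := P.eset_mul
  inv_mem' := fun {a} ha => by rwa [inv_eq_of_mul_eq_one_right (P.eset_sq ha)]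

theorem zE : z ∈ P.E := P.eset_z (Or.inr rfl)

theorem sqE {o : Q} (ho : o ∈ P.E) : o * o = 1 := P.eset_sq ho

theorem commE {a b : Q} (ha : a ∈ P.E) (hb : b ∈ P.E) : Commute a b :=
  comm_of_sq (P.sqE ha) (P.sqE hb) (P.sqE (mul_mem ha hb))

theorem E_le : P.E ≤ F ⊔ F' := by
  rintro _ ⟨f, hf, g, hg, rfl, -, -⟩
  exact mul_mem (Subgroup.mem_sup_left hf) (Subgroup.mem_sup_right hg)

theorem E_not_side {o : Q} (ho : o ∈ P.E) (hs : o ∈ F ∨ o ∈ F') : o = 1 ∨ o = z := by
  obtain ⟨f, hf, g, hg, rfl, -, hiff⟩ := ho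
  rcases hs with hs | hs
  · have hgF : g ∈ F := by simpa using mul_mem (inv_mem hf) hs
    have hg' := P.inter g hgF hg
    rcases hiff.2 hg' with e | e <;> rcases hg' with e' | e' <;> rw [e, e'] <;> simp [P.zz]
  · have hfF : f ∈ F' := by simpa using mul_mem hs (inv_mem hg)
    have hf' := P.inter f hf hfF
    rcases hiff.1 hf' with e | e <;> rcases hf' with e' | e' <;> rw [e, e'] <;> simp [P.zz]

/-- The involutions of `F F'`. -/
theorem invol_sup {o : Q} (ho : o ∈ F ⊔ F') (h : o * o = 1) : o ∈ F ∨ o ∈ F' ∨ o ∈ P.E := by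
  obtain ⟨f, hf, g, hg, rfl⟩ := P.mem_sup.1 ho
  by_cases h1 : f = 1 ∨ f = z
  · refine Or.inr (Or.inl (mul_mem ?_ hg))
    rcases h1 with rfl | rfl
    exacts [one_mem _, P.zF']
  by_cases h2 : g = 1 ∨ g = z
  · refine Or.inl (mul_mem hf ?_)
    rcases h2 with rfl | rfl
    exacts [one_mem _, P.zF]
  exact Or.inr (Or.inr ⟨f, hf, g, hg, rfl, comm_of_sq (P.sqF f hf) (P.sqF' g hg) h, iff_of_false h1 h2⟩)

theorem card_E : Nat.card P.E = 8 := by
  have hle := LocalEvenSix.card_mul_card_le F P.E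
  have hinf : Nat.card ↥(F ⊓ P.E) ≤ 2 := by
    rw [← SetLike.coe_sort_coe, Nat.card_coe_set_eq]
    refine (Set.ncard_le_ncard (t := {1, z}) fun x hx => ?_).trans
      ((Set.ncard_insert_le _ _).trans (by rw [Set.ncard_singleton]))
    exact P.E_not_side hx.2 (Or.inl hx.1)
  have hsup : Nat.card ↥(F ⊔ P.E) ≤ 32 := by
    rw [← P.card_sup]
    exact Nat.le_of_dvd Nat.card_pos (Subgroup.card_dvd_of_le (sup_le le_sup_left P.E_le))
  have hle8 : Nat.card P.E ≤ 8 := by
    have hF : Nat.card F = 8 := P.card_F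
    nlinarith [Nat.mul_le_mul hsup hinf]
  refine le_antisymm hle8 ?_
  -- `E` maps onto the quotient of `F F'` by `F`
  set O := F ⊔ F' with hO
  have hFO : (F.subgroupOf O).Normal := ⟨fun y hy k => Subgroup.mem_subgroupOf.2
    (P.normF k (P.sup_le_D k.2) y (Subgroup.mem_subgroupOf.1 hy))⟩
  let φ : P.E →* O ⧸ F.subgroupOf O := (QuotientGroup.mk' (F.subgroupOf O)).comp (Subgroup.inclusion P.E_le)
  have hsurj : Function.Surjective φ := by
    intro q
    obtain ⟨o, rfl⟩ := QuotientGroup.mk'_surjective _ q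
    obtain ⟨f, hf, g, hg, hfg⟩ := P.mem_sup.1 o.2
    obtain ⟨e, heE, he⟩ : ∃ e ∈ P.E, e⁻¹ * g ∈ F := by
      by_cases h1 : g = 1 ∨ g = z
      · exact ⟨g, P.eset_z h1, by simp⟩
      -- a partner of `g` in `F` comes by conjugation
      obtain ⟨u, huC, huD⟩ : ∃ u ∈ Subgroup.centralizer ({z} : Set Q), u ∉ D := by
        by_contra! h
        have := Subgroup.card_dvd_of_le (show Subgroup.centralizer {z} ≤ D from h)
        rw [P.card_C, P.card_D] at this
        norm_num at this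
      have huz : Commute u z := mem_centralizer_singleton_iff.1 huC
      obtain ⟨g', hg', hc, hn1, hnz⟩ := P.exists_partner ((P.swap u huC huD).2 g hg)
      have hui : u⁻¹ ∉ D := fun h => huD (by simpa using D.inv_mem h)
      have hf' : u⁻¹ * g' * u ∈ F := by simpa using (P.swap u⁻¹ (inv_mem huC) hui).2 g' hg'
      have hcg : Commute (u⁻¹ * g' * u) g := by
        have h := hc.symm.map (MulAut.conj u⁻¹).toMonoidHom
        simpa [mul_assoc] using h
      have hne : ¬ (u⁻¹ * g' * u = 1 ∨ u⁻¹ * g' * u = z) := by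
        have key : g' = u * (u⁻¹ * g' * u) * u⁻¹ := by group
        rintro (h | h)
        · exact hn1 (by rw [key, h]; group)
        · exact hnz (by rw [key, h, huz.eq, mul_inv_cancel_right])
      refine ⟨u⁻¹ * g' * u * g, ⟨_, hf', g, hg, rfl, hcg, iff_of_false hne h1⟩, ?_⟩
      rw [hcg.eq, mul_inv_rev, inv_mul_cancel_right]
      exact inv_mem hf'
    refine ⟨⟨e, heE⟩, QuotientGroup.eq.2 (Subgroup.mem_subgroupOf.2 ?_)⟩
    show e⁻¹ * (o : Q) ∈ F
    rw [← hfg, show e⁻¹ * (f * g) = (e⁻¹ * f * e) * (e⁻¹ * g) by group]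
    refine mul_mem ?_ he
    simpa using P.normF e⁻¹ (P.sup_le_D (inv_mem (P.E_le heE))) f hf
  have hq : Nat.card (O ⧸ F.subgroupOf O) = 4 := by
    have h := (F.subgroupOf O).card_eq_card_quotient_mul_card_subgroup
    have hO32 : Nat.card O = 32 := P.card_sup
    rw [Nat.card_congr (Subgroup.subgroupOfEquivOfLe (le_sup_left : F ≤ O)).toEquiv, P.card_F,
      hO32] at h
    omega
  have hcard := φ.ker.card_eq_card_quotient_mul_card_subgroup
  rw [Nat.card_congr (QuotientGroup.quotientKerEquivOfSurjective φ hsurj).toEquiv, hq] at hcard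
  have hk : 2 ≤ Nat.card φ.ker := by
    have hz : (⟨z, P.zE⟩ : P.E) ∈ φ.ker :=
      (QuotientGroup.eq_one_iff _).2 (Subgroup.mem_subgroupOf.2 P.zF)
    exact Finite.one_lt_card_iff_nontrivial.2 ⟨⟨1, ⟨_, hz⟩, fun e => P.z_ne (congrArg (fun x : φ.ker => ((x : P.E) : Q)) e).symm⟩⟩
  omega

end FivePair

end CfsgLib.J4Type
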