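import Cfsg.Agent.Lib.J4Type.Seven
import Cfsg.Agent.Lib.J4Type.FiveM24
import Cfsg.Agent.Lib.GolayIndex.Main

/-!
# An element of order five in the normaliser of `V`
-/

set_option autoImplicit false

namespace CfsgLib.J4Type

open Cfsg CfsgLib.ThreeTrans.Torsion
open Subgroup (mem_centralizer_singleton_iff)
open scoped Pointwise

universe u

variable {G : Type u} [Group G] [Finite G]

/-- With an element squaring a generator of order five, normalisers have index four over centralisers. -/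
theorem card_normalizer_five {x : G} (hx : orderOf x = 5) (K : Subgroup G) {g : G} (hgK : g ∈ K)
    (hg : g * x * g⁻¹ = x ^ 2) :
    Nat.card (K ⊓ Subgroup.normalizer (Subgroup.zpowers x : Set G) : Subgroup G) =
      4 * Nat.card (K ⊓ Subgroup.centralizer ({x} : Set G) : Subgroup G) := by
  classical
  have hX : Nat.card (Subgroup.zpowers x) = 5 := by rw [Nat.card_zpowers, hx]
  have hgN : g ∈ Subgroup.normalizer (Subgroup.zpowers x : Set G) := by
    rw [← map_conj_eq_iff, MonoidHom.map_zpowers]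
    refine Subgroup.eq_of_le_of_card_ge (Subgroup.zpowers_le.2 ⟨2, ?_⟩) ?_
    · show x ^ (2 : ℤ) = g * x * g⁻¹
      rw [hg]; norm_cast
    · rw [Nat.card_zpowers, Nat.card_zpowers, MulEquiv.coe_toMonoidHom, MulEquiv.orderOf_eq]
  have hsub : ∀ k ∈ K ⊓ Subgroup.normalizer (Subgroup.zpowers x : Set G),
      k * x * k⁻¹ ∈ (Subgroup.zpowers x : Set G) \ {1} := by
    rintro k ⟨-, hk⟩
    refine ⟨(Subgroup.mem_normalizer_iff.1 hk x).1 (Subgroup.mem_zpowers x), fun h => ?_⟩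
    rw [Set.mem_singleton_iff, conj_eq_one_iff] at h
    rw [h, orderOf_one] at hx
    norm_num at hx
  have hpow : ∀ i : ℕ, g ^ i * x * (g ^ i)⁻¹ = x ^ (2 ^ i) := by
    intro i
    induction i with
    | zero => simp
    | succ i ih =>
      rw [pow_succ', show g * g ^ i * x * (g * g ^ i)⁻¹ = g * (g ^ i * x * (g ^ i)⁻¹) * g⁻¹ by group,
        ih, ← conj_pow, hg, ← pow_mul, pow_succ']
  have h := card_eq_orbit_mul (K ⊓ Subgroup.normalizer (Subgroup.zpowers x : Set G))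
    (O := (Subgroup.zpowers x : Set G) \ {1}) (a := x)
    (by simpa using hsub 1 (one_mem _)) hsub (by
      rintro b ⟨hb, hb1⟩
      rw [SetLike.mem_coe, (isOfFinOrder_of_finite x).mem_zpowers_iff_mem_range_orderOf, hx,
        Finset.mem_image] at hb
      obtain ⟨j, hj, rfl⟩ := hb
      have hj5 := Finset.mem_range.1 hj
      obtain ⟨i, hi⟩ : ∃ i : ℕ, 2 ^ i % 5 = j % 5 := by
        interval_cases j
        · exact absurd (pow_zero x) hb1
        exacts [⟨0, rfl⟩, ⟨1, rfl⟩, ⟨3, rfl⟩, ⟨2, rfl⟩]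
      refine ⟨g ^ i, ⟨K.pow_mem hgK i, pow_mem hgN i⟩, ?_⟩
      rw [hpow, ← pow_mod_orderOf, hx, hi, ← hx, pow_mod_orderOf])
  have hinf : (K ⊓ Subgroup.normalizer (Subgroup.zpowers x : Set G)) ⊓ Subgroup.centralizer ({x} : Set G) =
      K ⊓ Subgroup.centralizer ({x} : Set G) := by
    have hCN : Subgroup.centralizer ({x} : Set G) ≤ Subgroup.normalizer (Subgroup.zpowers x : Set G) := by
      rw [← centralizer_zpowers]; exact Subgroup.centralizer_le_normalizer _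
    rw [inf_assoc, inf_eq_right.2 hCN]
  rwa [hinf, Set.ncard_sdiff_singleton_of_mem (Subgroup.one_mem _), ← Nat.card_coe_set_eq,
    SetLike.coe_sort_coe, hX] at h

/-- An element of order five of the complement, with an element of order four squaring it. -/
theorem five_in_complement {V K : Subgroup G}
    (hKN : K ≤ Subgroup.normalizer (V : Set G)) (π : Subgroup.normalizer (V : Set G) →* M24)
    (hπ : ∀ n, π n = 1 ↔ (n : G) ∈ V) (e : K ≃* M24) (he : ∀ k : K, π ⟨k, hKN k.2⟩ = e k) :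
    ∃ x : G, ∃ hxN : x ∈ Subgroup.normalizer (V : Set G), orderOf x = 5 ∧ FiveElt (π ⟨x, hxN⟩) ∧
      (∃ g ∈ Subgroup.normalizer (V : Set G), g ^ 4 = 1 ∧ g * x * g⁻¹ = x ^ 2) ∧
      (((Subgroup.normalizer (V : Set G) ⊓ Subgroup.centralizer {x}).subgroupOf
          (Subgroup.normalizer (V : Set G))).map π = Subgroup.centralizer {π ⟨x, hxN⟩}) ∧
      (∀ m, Commute m (π ⟨x, hxN⟩) → ∃ k, ∃ hkN : k ∈ Subgroup.normalizer (V : Set G),
        Commute k x ∧ π ⟨k, hkN⟩ = m) ∧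
      Nat.card (Subgroup.normalizer (V : Set G) ⊓ Subgroup.centralizer {x} : Subgroup G) =
        Nat.card (V ⊓ Subgroup.centralizer {x} : Subgroup G) * 60 := by
  obtain ⟨y, hy⟩ := exists_fiveElt
  obtain ⟨k0, rfl⟩ := e.surjective y
  have hπx : π ⟨k0, hKN k0.2⟩ = e k0 := he k0
  have hx : orderOf (k0 : G) = 5 := by rw [Subgroup.orderOf_coe, ← hy.order, MulEquiv.orderOf_eq]
  have hlift : ∀ m, Commute m (e k0) → ∃ k, ∃ hkN : k ∈ Subgroup.normalizer (V : Set G),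
      Commute k (k0 : G) ∧ π ⟨k, hkN⟩ = m := by
    intro m hm
    obtain ⟨k, rfl⟩ := e.surjective m
    exact ⟨k, hKN k.2, congrArg Subtype.val (e.injective (by rw [map_mul, map_mul]; exact hm.eq) :
      k * k0 = k0 * k), he k⟩
  have hC : ((Subgroup.normalizer (V : Set G) ⊓ Subgroup.centralizer {(k0 : G)}).subgroupOf
      (Subgroup.normalizer (V : Set G))).map π = Subgroup.centralizer {e k0} := by
    ext m
    simp only [Subgroup.mem_map, Subgroup.mem_subgroupOf, Subgroup.mem_inf,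
      mem_centralizer_singleton_iff]
    constructor
    · rintro ⟨n, ⟨-, hn⟩, rfl⟩
      rw [← hπx, ← map_mul, ← map_mul]
      exact congrArg π (Subtype.ext hn)
    · intro hm
      obtain ⟨k, hkN, hk, hkm⟩ := hlift m hm
      exact ⟨⟨k, hkN⟩, ⟨hkN, hk.eq⟩, hkm⟩
  obtain ⟨g, hg4, hgy⟩ := hy.four
  obtain ⟨w, rfl⟩ := e.surjective g
  have hw4 : w ^ 4 = 1 := e.injective (by rw [map_pow, hg4, map_one])
  have hwx : w * k0 * w⁻¹ = k0 ^ 2 := e.injective (by rw [map_mul, map_mul, map_inv, map_pow, hgy])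
  refine ⟨k0, hKN k0.2, hx, by rw [hπx]; exact hy,
    ⟨w, hKN w.2, by rw [← SubgroupClass.coe_pow, hw4, OneMemClass.coe_one],
      by simpa using congrArg Subtype.val hwx⟩, by rw [hC, hπx], by rw [hπx]; exact hlift, ?_⟩
  rw [card_eq_inf_mul_image π hπ inf_le_left, hC, hy.card_cent]
  congr 3
  rw [inf_comm _ V, ← inf_assoc, inf_eq_left.2 Subgroup.le_normalizer]

/-- The fixed points of the element of order five and the stabiliser of a fixed involution of the small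
orbit. -/
theorem five_fixed {V N : Subgroup G} (hVc : Nat.card V = 2 ^ 11) (hV : IsElementaryAbelian 2 V)
    (hVN : V ≤ N) (hconjV : ∀ n ∈ N, ∀ v ∈ V, n * v * n⁻¹ ∈ V)
    (π : N →* M24) (hπ : ∀ n, π n = 1 ↔ (n : G) ∈ V)
    (hN : Nat.card N = 2 ^ 11 * 244823040) {z' t0 : G} (hz'V : z' ∈ V) (htV : t0 ∈ V) (hz'1 : z' ≠ 1)
    (ht01 : t0 ≠ 1) (hne : ¬ IsConj z' t0)
    (h1771 : {v : G | ∃ n ∈ N, n * z' * n⁻¹ = v}.ncard = 1771)
    (h276 : {v : G | ∃ n ∈ N, n * t0 * n⁻¹ = v}.ncard = 276)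
    (hCt : Subgroup.centralizer ({t0} : Set G) ≤ N)
    {x g : G} (hxN : x ∈ N) (hx : orderOf x = 5) (hy : FiveElt (π ⟨x, hxN⟩))
    (hgN : g ∈ N) (hg : g * x * g⁻¹ = x ^ 2)
    (hlift : ∀ m, Commute m (π ⟨x, hxN⟩) → ∃ k, ∃ hkN : k ∈ N, Commute k x ∧ π ⟨k, hkN⟩ = m)
    (hmap : ((N ⊓ Subgroup.centralizer {x}).subgroupOf N).map π = Subgroup.centralizer {π ⟨x, hxN⟩})
    (hC : Nat.card (N ⊓ Subgroup.centralizer {x} : Subgroup G) =
      Nat.card (V ⊓ Subgroup.centralizer {x} : Subgroup G) * 60) :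
    ∃ z0 t : G, IsConj z' z0 ∧ IsConj t0 t ∧ z0 ∈ V ⊓ Subgroup.centralizer {x} ∧
      t ∈ V ⊓ Subgroup.centralizer {x} ∧ z0 ≠ 1 ∧ t ≠ 1 ∧
      Nat.card (V ⊓ Subgroup.centralizer {x} : Subgroup G) = 8 ∧
      Nat.card (N ⊓ Subgroup.centralizer {x} : Subgroup G) = 480 ∧
      N ⊓ Subgroup.centralizer {x} ≤ Subgroup.centralizer {z0} ∧ Commute g z0 ∧
      Subgroup.centralizer ({t} : Set G) ≤ N ∧
      Nat.card (Subgroup.centralizer {x} ⊓ Subgroup.centralizer {t} : Subgroup G) = 80 ∧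
      Nat.card (Subgroup.centralizer ({t} : Set G)) = 2 ^ 11 * 887040 ∧
      ∀ v ∈ V ⊓ Subgroup.centralizer {x}, v ≠ 1 → v ≠ z0 →
        ∃ k ∈ N ⊓ Subgroup.centralizer {x}, k * t * k⁻¹ = v := by
  classical
  have : Fact (Nat.Prime 5) := ⟨by norm_num⟩
  set F := V ⊓ Subgroup.centralizer ({x} : Set G) with hF
  set Cx := N ⊓ Subgroup.centralizer ({x} : Set G) with hCx
  set NX := N ⊓ Subgroup.normalizer (Subgroup.zpowers x : Set G) with hNX
  have hX : Nat.card (Subgroup.zpowers x) = 5 := by rw [Nat.card_zpowers, hx]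
  have hXN : Subgroup.zpowers x ≤ N := Subgroup.zpowers_le.2 hxN
  have hgX : g ∈ Subgroup.normalizer (Subgroup.zpowers x : Set G) := by
    rw [← map_conj_eq_iff, MonoidHom.map_zpowers]
    refine Subgroup.eq_of_le_of_card_ge (Subgroup.zpowers_le.2 ⟨2, ?_⟩) ?_
    · show x ^ (2 : ℤ) = g * x * g⁻¹
      rw [hg]; norm_cast
    · rw [Nat.card_zpowers, Nat.card_zpowers, MulEquiv.coe_toMonoidHom, MulEquiv.orderOf_eq]
  have hNXc : Nat.card NX = Nat.card F * 240 := by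
    rw [hNX, card_normalizer_five hx N hgN hg, hC]; ring
  set O1 := {v : G | ∃ n ∈ N, n * z' * n⁻¹ = v} with hO1
  set O2 := {v : G | ∃ n ∈ N, n * t0 * n⁻¹ = v} with hO2
  have hsub : ∀ a ∈ V, a ≠ 1 → {v : G | ∃ n ∈ N, n * a * n⁻¹ = v} ⊆ (V : Set G) \ {1} := by
    rintro a ha ha1 _ ⟨n, hn, rfl⟩
    exact ⟨hconjV n hn a ha, fun h => ha1 (conj_eq_one_iff.1 h)⟩
  have hdisj : Disjoint O1 O2 := by
    rw [Set.disjoint_left]
    rintro v ⟨n, -, rfl⟩ ⟨m, -, hm⟩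
    exact hne ((isConj_iff.2 ⟨n, rfl⟩).trans (isConj_iff.2 ⟨m, hm⟩).symm)
  have hunion : O1 ∪ O2 = (V : Set G) \ {1} := by
    refine Set.eq_of_subset_of_ncard_le (Set.union_subset (hsub _ hz'V hz'1) (hsub _ htV ht01)) ?_
    rw [Set.ncard_union_eq hdisj, h1771, h276, Set.ncard_sdiff_singleton_of_mem (Subgroup.one_mem V),
      ← Nat.card_coe_set_eq]
    exact le_of_eq (by rw [show Nat.card ↥(V : Set G) = 2 ^ 11 from hVc]; norm_num)
  have hxcomm : ∀ v, (∀ y ∈ Subgroup.zpowers x, Commute y v) ↔ v ∈ Subgroup.centralizer ({x} : Set G) := by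
    intro v
    rw [← centralizer_zpowers, Subgroup.mem_centralizer_iff]
    rfl
  have hOst : ∀ a : G, ∀ y ∈ Subgroup.zpowers x, ∀ v ∈ {v : G | ∃ n ∈ N, n * a * n⁻¹ = v},
      y * v * y⁻¹ ∈ {v : G | ∃ n ∈ N, n * a * n⁻¹ = v} := by
    rintro a y hy v ⟨n, hn, rfl⟩
    exact ⟨y * n, mul_mem (hXN hy) hn, by group⟩
  have hfixed : ∀ a ∈ V, a ≠ 1 → ∀ m, {v : G | ∃ n ∈ N, n * a * n⁻¹ = v}.ncard = m → ¬ 5 ∣ m →
      ∃ v ∈ F, v ≠ 1 ∧ v ∈ {v : G | ∃ n ∈ N, n * a * n⁻¹ = v} := by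
    intro a ha ha1 m hm h5
    have h := ncard_modEq hX (hOst a)
    rw [hm] at h
    obtain ⟨v, hv, hvx⟩ := Set.nonempty_of_ncard_ne_zero
      (fun e => h5 (Nat.modEq_zero_iff_dvd.1 (e ▸ h)))
    exact ⟨v, ⟨(hsub a ha ha1 hv).1, (hxcomm v).1 hvx⟩, (hsub a ha ha1 hv).2, hv⟩
  obtain ⟨z0, hz0F, hz01, hz0O⟩ := hfixed z' hz'V hz'1 _ h1771 (by norm_num)
  obtain ⟨t, htF, ht1, htO⟩ := hfixed t0 htV ht01 _ h276 (by norm_num)
  obtain ⟨n0, hn0, hn0t⟩ := htO
  have hWN : Subgroup.centralizer ({t} : Set G) ≤ N := by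
    intro k hk
    have h : n0⁻¹ * k * n0 ∈ N := hCt (mem_centralizer_singleton_iff.2
      ((commute_conj_fix hn0t).2 (mem_centralizer_singleton_iff.1 hk)).eq)
    simpa [mul_assoc] using N.mul_mem (N.mul_mem hn0 h) (N.inv_mem hn0)
  set W := Subgroup.centralizer ({t} : Set G) with hW
  have hVW : V ≤ W := fun a ha =>
    mem_centralizer_singleton_iff.2 (congrArg Subtype.val (hV.1.is_comm.comm ⟨a, ha⟩ ⟨t, htF.1⟩))
  have hstab : ∀ a : G, ∀ v, (∃ n ∈ N, n * a * n⁻¹ = v) → Nat.card N =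
      {v : G | ∃ n ∈ N, n * a * n⁻¹ = v}.ncard *
        Nat.card (N ⊓ Subgroup.centralizer ({v} : Set G) : Subgroup G) := by
    rintro a _ ⟨m, hm, rfl⟩
    refine card_eq_orbit_mul N ⟨m, hm, rfl⟩ (fun k hk => ⟨k * m, mul_mem hk hm, by group⟩) ?_
    rintro b ⟨n, hn, rfl⟩
    exact ⟨n * m⁻¹, mul_mem hn (inv_mem hm), by group⟩
  have hWcard : Nat.card W = 2 ^ 11 * 887040 := by
    have h1 := hstab t0 t ⟨n0, hn0, hn0t⟩
    rw [h276, inf_eq_right.2 hWN, hN] at h1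
    omega
  have hWc : Nat.card ((W.subgroupOf N).map π) = 887040 := by
    have h1 := card_eq_inf_mul_image π hπ hWN
    rw [inf_eq_right.2 hVW, hVc, hWcard] at h1
    omega
  obtain ⟨s, hs, hHs⟩ := CfsgLib.GolayIndex.index276 _ hWc
  obtain ⟨p, q, hpq, rfl⟩ := Finset.card_eq_two.mp hs
  have hxW : π ⟨x, hxN⟩ ∈ (W.subgroupOf N).map π :=
    ⟨⟨x, hxN⟩, mem_centralizer_singleton_iff.2 (mem_centralizer_singleton_iff.1 htF.2).symm, rfl⟩
  obtain ⟨hxp, hxq⟩ := fix_of_odd (g := π ⟨x, hxN⟩) (by rw [hHs] at hxW; exact hxW) (by rw [hy.order]; norm_num)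
  have h10 := hy.card_pair p q hpq hxp hxq
  -- the stabiliser of `t` in the centraliser
  have himg : ((Cx ⊓ W).subgroupOf N).map π =
      Subgroup.centralizer {π ⟨x, hxN⟩} ⊓ (W.subgroupOf N).map π := by
    apply le_antisymm
    · refine le_inf ?_ (Subgroup.map_mono fun n hn => hn.2)
      rw [← hmap]
      exact Subgroup.map_mono fun n hn => hn.1
    · rintro m ⟨hm1, ⟨w, hw, hwm⟩⟩
      obtain ⟨k, hkN, hk, hkm⟩ := hlift m (mem_centralizer_singleton_iff.1 hm1)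
      refine ⟨⟨k, hkN⟩, ⟨⟨hkN, mem_centralizer_singleton_iff.2 hk.eq⟩, ?_⟩, hkm⟩
      have hd : (w : G)⁻¹ * k ∈ V := (hπ (w⁻¹ * ⟨k, hkN⟩)).1 (by rw [map_mul, map_inv, hwm, hkm, inv_mul_cancel])
      have hVd : (w : G)⁻¹ * k ∈ W := hVW hd
      have hwW : (w : G) ∈ W := hw
      simpa using mul_mem hwW hVd
  have hCW : Nat.card (Cx ⊓ W : Subgroup G) = Nat.card F * 10 := by
    rw [card_eq_inf_mul_image π hπ (inf_le_left.trans inf_le_left : Cx ⊓ W ≤ N), himg, hHs, h10]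
    congr 3
    ext a
    simp only [hF, hCx, Subgroup.mem_inf]
    exact ⟨fun h => ⟨h.2, h.1.1.2⟩, fun h => ⟨⟨⟨hVN h.1, h.2⟩, hVW h.1⟩, h.1⟩⟩
  -- orbits
  have hNXF : ∀ k ∈ NX, ∀ a ∈ F, k * a * k⁻¹ ∈ F := by
    rintro k ⟨hk, hkX⟩ a ⟨haV, hax⟩
    refine ⟨hconjV k hk a haV, (hxcomm _).1 fun y hy => ?_⟩
    exact (commute_conj_fix rfl).1 ((hxcomm a).2 hax _ ((Subgroup.mem_normalizer_iff''.1 hkX y).1 hy))
  have hCxle : Cx ≤ NX := le_inf inf_le_left (inf_le_right.trans (by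
    rw [← centralizer_zpowers]; exact Subgroup.centralizer_le_normalizer _))
  set S6 := {v : G | ∃ k ∈ Cx, k * t * k⁻¹ = v} with hS6
  have horb6 : Nat.card Cx = S6.ncard * Nat.card (Cx ⊓ W : Subgroup G) :=
    card_eq_orbit_mul Cx ⟨1, one_mem _, by group⟩ (fun k hk => ⟨k, hk, rfl⟩) fun b hb => hb
  have hsix : S6.ncard = 6 := by
    rw [hC, hCW] at horb6
    have hpos : 0 < Nat.card F := Nat.card_pos
    nlinarith
  have hS6sub : S6 ⊆ (F : Set G) ∩ O2 := by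
    rintro _ ⟨k, hk, rfl⟩
    exact ⟨hNXF k (hCxle hk) t htF, k * n0, mul_mem hk.1 hn0, by rw [← hn0t]; group⟩
  -- the fixed points in each orbit form an orbit of the normaliser
  have hdvd : ∀ a ∈ V, a ≠ 1 → ¬ 5 ^ 2 ∣ 2 ^ 11 * 244823040 / {v : G | ∃ n ∈ N, n * a * n⁻¹ = v}.ncard →
      ∀ v ∈ F, v ∈ {v : G | ∃ n ∈ N, n * a * n⁻¹ = v} →
      ((F : Set G) ∩ {v : G | ∃ n ∈ N, n * a * n⁻¹ = v}).ncard *
        Nat.card (NX ⊓ Subgroup.centralizer ({v} : Set G) : Subgroup G) = Nat.card F * 240 := by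
    intro a ha ha1 h25 v hv hvO
    rw [← hNXc]
    refine (card_eq_orbit_mul NX (O := (F : Set G) ∩ {v : G | ∃ n ∈ N, n * a * n⁻¹ = v}) ⟨hv, hvO⟩
      (fun k hk => ⟨hNXF k hk v hv, ?_⟩) ?_).symm
    · obtain ⟨n, hn, rfl⟩ := hvO
      exact ⟨k * n, mul_mem hk.1 hn, by group⟩
    · rintro w ⟨hwF, hwO⟩
      obtain ⟨n1, hn1, hn1v⟩ := hvO
      obtain ⟨n2, hn2, hn2w⟩ := hwO
      have h25' : ¬ 5 ^ 2 ∣ Nat.card (N ⊓ Subgroup.centralizer ({w} : Set G) : Subgroup G) := by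
        intro h
        apply h25
        have h1 := hstab a w ⟨n2, hn2, hn2w⟩
        rw [hN] at h1
        rw [h1, Nat.mul_div_cancel_left _ (by
          rcases Nat.eq_zero_or_pos {v : G | ∃ n ∈ N, n * a * n⁻¹ = v}.ncard with h0 | h0
          · rw [h0, zero_mul] at h1; norm_num at h1
          · exact h0)]
        exact h
      obtain ⟨n, hn, hnX, hnv⟩ := exists_normalizer (a := v) (b := w) (g := n2 * n1⁻¹) hXN
        (fun Y Y' hY hY' hYw hY'w hcY hcY' => by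
          have hle : ∀ Z : Subgroup G, Z ≤ N → (∀ z ∈ Z, Commute z w) →
              Z ≤ N ⊓ Subgroup.centralizer ({w} : Set G) := fun Z hZ hZw z hz =>
            ⟨hZ hz, mem_centralizer_singleton_iff.2 (hZw z hz).eq⟩
          obtain ⟨r, hr, hrY⟩ := conj_of_card (N ⊓ Subgroup.centralizer ({w} : Set G)) h25'
            (hle Y hY hYw) (hle Y' hY' hY'w) (hcY.trans hX) (hcY'.trans hX)
          exact ⟨r, hr.1, mem_centralizer_singleton_iff.1 hr.2, hrY⟩)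
        ((hxcomm v).2 hv.2) ((hxcomm w).2 hwF.2) (mul_mem hn2 (inv_mem hn1))
        (by rw [← hn1v, ← hn2w]; group)
      exact ⟨n, ⟨hn, hnX⟩, hnv⟩
  have hb := hdvd t0 htV ht01 (by rw [h276]; norm_num) t htF ⟨n0, hn0, hn0t⟩
  have ha := hdvd z' hz'V hz'1 (by rw [h1771]; norm_num) z0 hz0F hz0O
  have hbW : Nat.card F * 10 ≤ Nat.card (NX ⊓ W : Subgroup G) := by
    rw [← hCW]; exact Nat.le_of_dvd Nat.card_pos (Subgroup.card_dvd_of_le (inf_le_inf_right _ hCxle))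
  have hbW' : Nat.card F * 10 ∣ Nat.card (NX ⊓ W : Subgroup G) := by
    rw [← hCW]; exact Subgroup.card_dvd_of_le (inf_le_inf_right _ hCxle)
  have hsum : ((F : Set G) ∩ O1).ncard + ((F : Set G) ∩ O2).ncard = Nat.card F - 1 := by
    rw [← Set.ncard_union_eq (hdisj.mono Set.inter_subset_right Set.inter_subset_right),
      ← Set.inter_union_distrib_left, hunion,
      show (F : Set G) ∩ ((V : Set G) \ {1}) = (F : Set G) \ {1} from Set.ext fun a =>
        ⟨fun h => ⟨h.1, h.2.2⟩, fun h => ⟨h.1, h.1.1, h.2⟩⟩,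
      Set.ncard_sdiff_singleton_of_mem (Subgroup.one_mem F), ← Nat.card_coe_set_eq]
    rfl
  have hmod : 2 ^ 11 ≡ Nat.card F [MOD 5] := by
    have h := ncard_modEq hX (O := (V : Set G)) fun y hy v hv => hconjV y (hXN hy) v hv
    rw [← Nat.card_coe_set_eq, show Nat.card ↥(V : Set G) = 2 ^ 11 from hVc] at h
    rwa [show {a ∈ (V : Set G) | ∀ y ∈ Subgroup.zpowers x, Commute y a} = (F : Set G) from
      Set.ext fun v => and_congr Iff.rfl (hxcomm v), ← Nat.card_coe_set_eq] at h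
  obtain ⟨c, hc, hFc⟩ := (Nat.dvd_prime_pow Nat.prime_two).1 (hVc ▸ Subgroup.card_dvd_of_le (inf_le_left : F ≤ V))
  have h6b : 6 ≤ ((F : Set G) ∩ O2).ncard := hsix ▸ Set.ncard_le_ncard hS6sub
  have ha1 : 1 ≤ ((F : Set G) ∩ O1).ncard :=
    (Set.ncard_pos).2 ⟨z0, hz0F, hz0O⟩
  obtain ⟨hF8, hb6, ha1'⟩ : Nat.card F = 8 ∧ ((F : Set G) ∩ O2).ncard = 6 ∧ ((F : Set G) ∩ O1).ncard = 1 := by
    obtain ⟨m, hm⟩ := hbW'
    rw [hm] at hb
    have hb24 : ((F : Set G) ∩ O2).ncard * m = 24 := by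
      have hpos : 0 < Nat.card F := Nat.card_pos
      refine Nat.eq_of_mul_eq_mul_left (Nat.mul_pos hpos (by norm_num : 0 < 10)) ?_
      calc Nat.card F * 10 * (((F : Set G) ∩ O2).ncard * m)
          = ((F : Set G) ∩ O2).ncard * (Nat.card F * 10 * m) := by ring
        _ = Nat.card F * 240 := hb
        _ = Nat.card F * 10 * 24 := by ring
    have hb24' : ((F : Set G) ∩ O2).ncard ∣ 24 := Dvd.intro m hb24
    have hadvd : ((F : Set G) ∩ O1).ncard ∣ Nat.card F * 240 := Dvd.intro _ ha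
    have hble := Nat.le_of_dvd (by norm_num) hb24'
    rw [hFc] at hmod hsum hadvd ⊢
    unfold Nat.ModEq at hmod
    generalize ((F : Set G) ∩ O1).ncard = a at *
    generalize ((F : Set G) ∩ O2).ncard = b at *
    interval_cases b <;> (try (norm_num at hb24'; done)) <;>
      interval_cases c <;> (try (norm_num at hmod; done)) <;>
      (have hA : a = _ := Nat.eq_sub_of_add_eq hsum
       subst hA
       first
        | exact ⟨rfl, rfl, rfl⟩
        | (norm_num at ha1; done)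
        | (norm_num at hadvd))
  have hO1one : ∀ w ∈ F, w ∈ O1 → w = z0 := fun w hw hwO =>
    (Set.ncard_le_one (Set.toFinite _)).1 ha1'.le w ⟨hw, hwO⟩ z0 ⟨hz0F, hz0O⟩
  have hz0fix : ∀ k ∈ NX, Commute k z0 := fun k hk => by
    have h := hO1one _ (hNXF k hk z0 hz0F) (by
      obtain ⟨n, hn, hnz⟩ := hz0O
      exact ⟨k * n, mul_mem hk.1 hn, by rw [← hnz]; group⟩)
    exact mul_inv_eq_iff_eq_mul.1 h
  have hS6eq : S6 = (F : Set G) ∩ O2 := Set.eq_of_subset_of_ncard_le hS6sub (by rw [hsix, hb6])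
  refine ⟨z0, t, ?_, isConj_iff.2 ⟨n0, hn0t⟩, hz0F, htF, hz01, ht1, hF8, by rw [hC, hF8],
    fun k hk => mem_centralizer_singleton_iff.2 (hz0fix k (hCxle hk)).eq, hz0fix g ⟨hgN, hgX⟩, hWN, ?_,
    hWcard, ?_⟩
  · obtain ⟨n, -, hn⟩ := hz0O
    exact isConj_iff.2 ⟨n, hn⟩
  · have : Subgroup.centralizer ({x} : Set G) ⊓ W = Cx ⊓ W := by
      rw [hCx, inf_comm _ W, inf_comm _ W, ← inf_assoc, inf_eq_left.2 hWN]
    rw [this, hCW, hF8]
  · intro v hv hv1 hvz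
    have hvV : v ∈ (V : Set G) \ {1} := ⟨hv.1, hv1⟩
    rw [← hunion] at hvV
    rcases hvV with h | h
    · exact absurd (hO1one v hv h) hvz
    · exact (hS6eq ▸ ⟨hv, h⟩ : v ∈ S6)

end CfsgLib.J4Type
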