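import Cfsg.Agent.Lib.J4Type.FiveQuot
import Cfsg.Agent.Lib.J4Type.SevenGroup
import Cfsg.Agent.Lib.J4Type.FiveNormal
import Cfsg.Prelude.Def_TwoFusion

/-!
# The five-local structure at one element of order five
-/

set_option autoImplicit false

namespace CfsgLib.J4Type

open Cfsg CfsgLib.ThreeTrans.Torsion
open Subgroup (mem_centralizer_singleton_iff)

universe u v

variable {G : Type u} [Group G] [Finite G]

/-- A nonsplit extension of an elementary group of order eight by `SL(3, 2)`. -/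
def NonsplitEight (J : Type v) [Group J] : Prop :=
  ∃ (E : Subgroup J) (_ : E.Normal), Cfsg.IsElementaryAbelian 2 E ∧ Nat.card E = 8 ∧
    Nonempty (J ⧸ E ≃* Matrix.SpecialLinearGroup (Fin 3) (ZMod 2)) ∧ ∀ K : Subgroup J, ¬ E.IsComplement' K

theorem NonsplitEight.of_equiv {J : Type v} [Group J] {J' : Type u} [Group J'] (e : J ≃* J')
    (h : NonsplitEight J) : NonsplitEight J' := by
  obtain ⟨E, hn, hel, h8, ⟨iso⟩, hno⟩ := h
  refine ⟨E.map e.toMonoidHom, hn.map _ e.surjective, ⟨⟨⟨?_⟩⟩, ?_⟩, ?_, ?_, ?_⟩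
  · rintro ⟨_, a, ha, rfl⟩ ⟨_, b, hb, rfl⟩
    refine Subtype.ext ?_
    show e a * e b = e b * e a
    rw [← map_mul, ← map_mul]
    exact congrArg e (congrArg Subtype.val (hel.1.is_comm.comm ⟨a, ha⟩ ⟨b, hb⟩))
  · rintro _ ⟨a, ha, rfl⟩
    rw [← map_pow, hel.2 a ha, map_one]
  · rw [← Nat.card_congr (Subgroup.equivMapOfInjective E e.toMonoidHom e.injective).toEquiv, h8]
  · have := hn.map e.toMonoidHom e.surjective
    exact ⟨(QuotientGroup.congr E (E.map e.toMonoidHom) e rfl).symm.trans iso⟩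
  · intro K hK
    refine hno (K.comap e.toMonoidHom) ?_
    refine ⟨fun p q hpq => ?_, fun x => ?_⟩
    · have h := @hK.1 (⟨e p.1, p.1, p.1.2, rfl⟩, ⟨e p.2, p.2.2⟩) (⟨e q.1, q.1, q.1.2, rfl⟩, ⟨e q.2, q.2.2⟩) (by
        show e p.1 * e p.2 = e q.1 * e q.2
        rw [← map_mul, ← map_mul]
        exact congrArg e hpq)
      rw [Prod.ext_iff] at h
      exact Prod.ext (Subtype.ext (e.injective (congrArg Subtype.val h.1 :)))
        (Subtype.ext (e.injective (congrArg Subtype.val h.2 :)))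
    · obtain ⟨⟨⟨_, a, ha, rfl⟩, ⟨b, hb⟩⟩, hab⟩ := hK.2 (e x)
      refine ⟨(⟨a, ha⟩, ⟨e.symm b, ?_⟩), e.injective ?_⟩
      · show e (e.symm b) ∈ K
        rw [e.apply_symm_apply]; exact hb
      · show e (a * e.symm b) = e x
        rw [map_mul, e.apply_symm_apply]
        exact hab

/-- A conjugate of `s` commuting with `x` is conjugate to it under the centraliser of `x`. -/
theorem conj_in_centralizer {s x a g : G} (hx : orderOf x = 5)
    (h25 : ¬ 25 ∣ Nat.card (Subgroup.centralizer ({s} : Set G))) (hsx : Commute s x)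
    (hgs : Commute g s) (hg : g * x * g⁻¹ = x ^ 2) (hax : Commute a x) (hconj : IsConj s a) :
    ∃ h, Commute h x ∧ h * s * h⁻¹ = a := by
  classical
  have : Fact (Nat.Prime 5) := ⟨by norm_num⟩
  obtain ⟨k, hk⟩ := isConj_iff.1 hconj
  have hX : Nat.card (Subgroup.zpowers x) = 5 := by rw [Nat.card_zpowers, hx]
  have hxk : k⁻¹ * x * k ∈ Subgroup.centralizer ({s} : Set G) :=
    mem_centralizer_singleton_iff.2 ((commute_conj_fix hk).2 hax.symm).eq
  obtain ⟨r, hr, hrX⟩ := conj_of_card (p := 5) (Subgroup.centralizer ({s} : Set G)) (by norm_num; exact h25)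
    (X := Subgroup.zpowers x) (Y := (Subgroup.zpowers x).map (MulAut.conj k⁻¹).toMonoidHom)
    (Subgroup.zpowers_le.2 (mem_centralizer_singleton_iff.2 hsx.eq.symm))
    (by rw [MonoidHom.map_zpowers, Subgroup.zpowers_le]; simpa using hxk) hX (by rw [card_map_conj, hX])
  set n := k * r with hn
  have hns : n * s * n⁻¹ = a := by
    rw [hn, show k * r * s * (k * r)⁻¹ = k * (r * s * r⁻¹) * k⁻¹ by group,
      mul_inv_eq_iff_eq_mul.2 (mem_centralizer_singleton_iff.1 hr), hk]
  have hnX : n * x * n⁻¹ ∈ Subgroup.zpowers x := by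
    have hm : r * x * r⁻¹ ∈ (Subgroup.zpowers x).map (MulAut.conj k⁻¹).toMonoidHom :=
      hrX ▸ ⟨x, Subgroup.mem_zpowers x, rfl⟩
    rw [mem_map_conj] at hm
    simpa [hn, mul_assoc] using hm
  rw [(isOfFinOrder_of_finite x).mem_zpowers_iff_mem_range_orderOf, hx, Finset.mem_image] at hnX
  obtain ⟨j, hj, hjx⟩ := hnX
  have hj5 := Finset.mem_range.1 hj
  have hpow : ∀ i : ℕ, g ^ i * x * (g ^ i)⁻¹ = x ^ (2 ^ i) := by
    intro i
    induction i with
    | zero => simp
    | succ i ih =>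
      rw [pow_succ', show g * g ^ i * x * (g * g ^ i)⁻¹ = g * (g ^ i * x * (g ^ i)⁻¹) * g⁻¹ by group,
        ih, ← conj_pow, hg, ← pow_mul, pow_succ']
  obtain ⟨i, hi⟩ : ∃ i : ℕ, 2 ^ i % 5 = j % 5 := by
    interval_cases j
    · exfalso
      rw [pow_zero, eq_comm, conj_eq_one_iff] at hjx
      rw [hjx, orderOf_one] at hx
      norm_num at hx
    exacts [⟨0, rfl⟩, ⟨1, rfl⟩, ⟨3, rfl⟩, ⟨2, rfl⟩]
  have hmx : g ^ i * x * (g ^ i)⁻¹ = n * x * n⁻¹ := by
    rw [hpow, ← hjx, ← pow_mod_orderOf, hx, hi, ← hx, pow_mod_orderOf]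
  set m := n * (g ^ i)⁻¹ with hm
  refine ⟨m, ?_, ?_⟩
  · -- both have the same effect on `x`
    have h : (g ^ i)⁻¹ * n * x * ((g ^ i)⁻¹ * n)⁻¹ = x := by
      rw [show (g ^ i)⁻¹ * n * x * ((g ^ i)⁻¹ * n)⁻¹ = (g ^ i)⁻¹ * (n * x * n⁻¹) * g ^ i by group, ← hmx]
      group
    have h2 : n * (g ^ i)⁻¹ * (g ^ i * x * (g ^ i)⁻¹) * (n * (g ^ i)⁻¹)⁻¹ = n * x * n⁻¹ := by group
    rw [← hm, hmx] at h2
    -- so `m` fixes a generator of the subgroup
    have hc : Commute m (n * x * n⁻¹) := mul_inv_eq_iff_eq_mul.1 h2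
    rw [← hjx] at hc
    obtain ⟨l, hl⟩ := exists_pow_eq_self_of_coprime (x := x) (n := j) (by
      rw [hx]; interval_cases j
      · exfalso
        rw [pow_zero, eq_comm, conj_eq_one_iff] at hjx
        rw [hjx, orderOf_one] at hx
        norm_num at hx
      all_goals norm_num)
    exact hl ▸ hc.pow_right l
  · have hgi : (g ^ i)⁻¹ * s * g ^ i = s := by
      rw [mul_assoc, ← (hgs.pow_left i).eq, inv_mul_cancel_left]
    rw [hm, show n * (g ^ i)⁻¹ * s * (n * (g ^ i)⁻¹)⁻¹ = n * ((g ^ i)⁻¹ * s * g ^ i) * n⁻¹ by group, hgi, hns]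

/-- The Frobenius group of order twenty. -/
theorem card_normalizer_of_sup {x g : G} (hx : orderOf x = 5) (hg : g * x * g⁻¹ = x ^ 2) (hg4 : g ^ 4 = 1) :
    Nat.card ↥(Subgroup.zpowers x ⊔ Subgroup.zpowers g) = 20 ∧
      (Subgroup.zpowers x ⊔ Subgroup.zpowers g) ⊓ Subgroup.centralizer ({x} : Set G) = Subgroup.zpowers x := by
  set X := Subgroup.zpowers x with hX
  set R := X ⊔ Subgroup.zpowers g with hR
  have hgN : g ∈ Subgroup.normalizer (X : Set G) := by
    rw [← map_conj_eq_iff, hX, MonoidHom.map_zpowers]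
    refine Subgroup.eq_of_le_of_card_ge (Subgroup.zpowers_le.2 ⟨2, ?_⟩) ?_
    · show x ^ (2 : ℤ) = g * x * g⁻¹
      rw [hg]; norm_cast
    · rw [Nat.card_zpowers, Nat.card_zpowers, MulEquiv.coe_toMonoidHom, MulEquiv.orderOf_eq]
  have hcomm : ∀ y ∈ X, Commute y x := fun y hy => by
    obtain ⟨j, rfl⟩ := Subgroup.mem_zpowers_iff.1 hy
    exact (Commute.refl x).zpow_left j
  have hinf : R ⊓ Subgroup.centralizer ({x} : Set G) = X := by
    refine le_antisymm ?_ (le_inf le_sup_left fun y hy => mem_centralizer_singleton_iff.2 (hcomm y hy).eq)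
    rintro r ⟨hr, hrx⟩
    have hr' : r ∈ ((Subgroup.zpowers g ⊔ X : Subgroup G) : Set G) := by rw [sup_comm]; exact hr
    rw [Subgroup.coe_mul_of_left_le_normalizer_right _ _ (Subgroup.zpowers_le.2 hgN)] at hr'
    obtain ⟨a, ha, b, hb, rfl⟩ := hr'
    classical
    have hax : Commute a x := by
      have h := Commute.mul_left (mem_centralizer_singleton_iff.1 hrx : Commute (a * b) x) (hcomm b hb).inv_left
      rwa [mul_inv_cancel_right] at h
    rw [SetLike.mem_coe, (isOfFinOrder_of_finite g).mem_zpowers_iff_mem_range_orderOf, Finset.mem_image] at ha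
    obtain ⟨i, hi, rfl⟩ := ha
    have hi4 : i < 4 := (Finset.mem_range.1 hi).trans_le (Nat.le_of_dvd (by norm_num) (orderOf_dvd_of_pow_eq_one hg4))
    have hpow : ∀ j : ℕ, g ^ j * x * (g ^ j)⁻¹ = x ^ (2 ^ j) := by
      intro j
      induction j with
      | zero => simp
      | succ j ih =>
        rw [pow_succ', show g * g ^ j * x * (g * g ^ j)⁻¹ = g * (g ^ j * x * (g ^ j)⁻¹) * g⁻¹ by group,
          ih, ← conj_pow, hg, ← pow_mul, pow_succ']
    have h := hpow i
    rw [hax.eq, mul_inv_cancel_right] at h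
    have hmod : x ^ 1 = x ^ (2 ^ i) := by rw [pow_one]; exact h
    rw [pow_eq_pow_iff_modEq, hx] at hmod
    interval_cases i
    · show g ^ 0 * b ∈ X
      rw [pow_zero, one_mul]; exact hb
    all_goals (exfalso; revert hmod; decide)
  refine ⟨?_, hinf⟩
  have h := card_normalizer_five hx R (Subgroup.mem_sup_right (Subgroup.mem_zpowers g)) hg
  rw [inf_eq_left.2 (sup_le Subgroup.le_normalizer (Subgroup.zpowers_le.2 hgN)), hinf, hX, Nat.card_zpowers, hx] at h
  exact h

/-- The five-local structure at one element of order five. -/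
theorem five_at {x z t g g' : G} {D F : Subgroup G} (hx : orderOf x = 5) (hg4 : g ^ 4 = 1)
    (hg : g * x * g⁻¹ = x ^ 2) (hg' : g' * x * g'⁻¹ = x ^ 2) (hgz : Commute g z) (hgt : Commute g' t)
    (hz : orderOf z = 2) (ht : orderOf t = 2) (hne : ¬ IsConj z t)
    (htwo : ∀ i : G, orderOf i = 2 → IsConj z i ∨ IsConj t i)
    (h25z : ¬ 25 ∣ Nat.card (Subgroup.centralizer ({z} : Set G)))
    (h25t : ¬ 25 ∣ Nat.card (Subgroup.centralizer ({t} : Set G)))
    (hD : Nat.card D = 480) (hDle : D ≤ Subgroup.centralizer {x} ⊓ Subgroup.centralizer {z})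
    (hxD : x ∈ D) (h960 : Nat.card (Subgroup.centralizer {x} ⊓ Subgroup.centralizer {z} : Subgroup G) = 960)
    (h80 : Nat.card (Subgroup.centralizer {x} ⊓ Subgroup.centralizer {t} : Subgroup G) = 80)
    (htD : Subgroup.centralizer {x} ⊓ Subgroup.centralizer {t} ≤ D)
    (hF : Nat.card F = 8) (hFel : Cfsg.IsElementaryAbelian 2 F) (hzF : z ∈ F) (htF : t ∈ F) (hFD : F ≤ D)
    (hnF : ∀ d ∈ D, ∀ f ∈ F, d * f * d⁻¹ ∈ F)
    (horb : ∀ f ∈ F, f ≠ 1 → f ≠ z → ∃ d ∈ D, d * t * d⁻¹ = f) :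
    ¬ 25 ∣ Nat.card G ∧
    (∃ J : Subgroup G, IsInternalDirectProduct (Subgroup.zpowers x) J
      (Subgroup.centralizer (Subgroup.zpowers x : Set G)) ∧ NonsplitEight J) ∧
    (∃ R : Subgroup G, Subgroup.zpowers x ≤ R ∧ R ≤ Subgroup.normalizer (Subgroup.zpowers x : Set G) ∧
      Nat.card R = 20 ∧ R ⊓ Subgroup.centralizer (Subgroup.zpowers x : Set G) = Subgroup.zpowers x) ∧
    Nat.card (Subgroup.normalizer (Subgroup.zpowers x : Set G)) = 26880 := by
  classical
  have : Fact (Nat.Prime 5) := ⟨by norm_num⟩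
  set C := Subgroup.centralizer ({x} : Set G) with hC
  set X := Subgroup.zpowers x with hXdef
  have hX : Nat.card X = 5 := by rw [hXdef, Nat.card_zpowers, hx]
  have hmemC : ∀ {a : G}, Commute a x → a ∈ C := fun h => mem_centralizer_singleton_iff.2 h.eq
  have hcommX : ∀ a ∈ C, ∀ y ∈ X, Commute a y := fun a ha y hy => by
    obtain ⟨j, rfl⟩ := Subgroup.mem_zpowers_iff.1 hy
    exact (show Commute a x from mem_centralizer_singleton_iff.1 ha).zpow_right j
  have hXC : X ≤ C := Subgroup.zpowers_le.2 (hmemC (Commute.refl x))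
  have hXD : X ≤ D := Subgroup.zpowers_le.2 hxD
  set X' := X.subgroupOf C with hX'
  have : X'.Normal := ⟨fun y hy k => by
    rw [hX', Subgroup.mem_subgroupOf] at hy ⊢
    rw [Subgroup.coe_mul, Subgroup.coe_mul, InvMemClass.coe_inv, (hcommX k k.2 y hy).eq,
      mul_inv_cancel_right]
    exact hy⟩
  have hX'c : Nat.card X' = 5 := by
    rw [hX', Nat.card_congr (Subgroup.subgroupOfEquivOfLe hXC).toEquiv, hX]
  set mk := QuotientGroup.mk' X' with hmk
  have hker : ∀ a : C, mk a = 1 ↔ (a : G) ∈ X := fun a =>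
    (QuotientGroup.eq_one_iff a).trans Subgroup.mem_subgroupOf
  have hordX : ∀ y ∈ X, ∀ n : ℕ, Nat.Coprime n 5 → y ^ n = 1 → y = 1 := by
    intro y hy n hn h
    have h5 : orderOf y ∣ 5 := hX ▸ Subgroup.orderOf_dvd_natCard X hy
    exact orderOf_eq_one_iff.1 (Nat.dvd_one.1 (hn ▸ Nat.dvd_gcd (orderOf_dvd_of_pow_eq_one h) h5))
  have hlift : ∀ a b : C, a * a = 1 → b * b = 1 → mk a = mk b → a = b := by
    intro a b ha hb hab
    have hy : ((a⁻¹ * b : C) : G) ∈ X :=
      (hker _).1 (by rw [map_mul, map_inv, hab, inv_mul_cancel])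
    have hcomm : Commute a (a⁻¹ * b) := Subtype.ext (hcommX a a.2 _ hy).eq
    have h1 : (a⁻¹ * b) ^ 2 = 1 := by
      have h := hcomm.mul_pow 2
      rw [mul_inv_cancel_left, sq, sq, hb, ha, one_mul] at h
      exact h.symm
    exact inv_mul_eq_one.1 (Subtype.ext (hordX _ hy 2 (by norm_num) (by
      rw [← SubgroupClass.coe_pow, h1, OneMemClass.coe_one])))
  -- images of subgroups of `C`
  let im : Subgroup G → Subgroup (C ⧸ X') := fun S => (S.subgroupOf C).map mk
  have himX : ∀ S, S ≤ C → X ≤ S → 5 * Nat.card (im S) = Nat.card S := by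
    intro S hS hXS
    have h := card_eq_inf_ker_mul_map mk (S.subgroupOf C)
    have hk : S.subgroupOf C ⊓ mk.ker = X' := by
      rw [hmk, QuotientGroup.ker_mk', inf_eq_right]
      exact fun y hy => hXS (Subgroup.mem_subgroupOf.1 hy)
    rw [hk, hX'c, Nat.card_congr (Subgroup.subgroupOfEquivOfLe hS).toEquiv] at h
    exact h.symm
  have hDC : D ≤ C := hDle.trans inf_le_left
  have hzC : z ∈ C := hDC (hFD hzF)
  have htC : t ∈ C := hDC (hFD htF)
  set zC : C := ⟨z, hzC⟩
  set tC : C := ⟨t, htC⟩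
  have hz2 : zC * zC = 1 := Subtype.ext (show z * z = 1 by rw [← sq, ← hz, pow_orderOf_eq_one])
  have ht2 : tC * tC = 1 := Subtype.ext (show t * t = 1 by rw [← sq, ← ht, pow_orderOf_eq_one])
  have hcent : ∀ a : C, a * a = 1 → Subgroup.centralizer ({mk a} : Set (C ⧸ X')) =
      im (C ⊓ Subgroup.centralizer ({(a : G)} : Set G)) := by
    intro a ha
    ext q
    constructor
    · intro hq
      obtain ⟨k, rfl⟩ := QuotientGroup.mk'_surjective X' q
      refine ⟨k, ⟨k.2, mem_centralizer_singleton_iff.2 ?_⟩, rfl⟩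
      have h : k * a * k⁻¹ = a := hlift _ _
        (by rw [show k * a * k⁻¹ * (k * a * k⁻¹) = k * (a * a) * k⁻¹ by group, ha]; group) ha
        (by rw [map_mul, map_mul, map_inv, mem_centralizer_singleton_iff.1 hq, mul_inv_cancel_right])
      exact congrArg Subtype.val (mul_inv_eq_iff_eq_mul.1 h)
    · rintro ⟨k, ⟨-, hk⟩, rfl⟩
      rw [mem_centralizer_singleton_iff, ← map_mul, ← map_mul]
      exact congrArg mk (Subtype.ext (mem_centralizer_singleton_iff.1 hk))
  have hXcent : ∀ a : C, X ≤ C ⊓ Subgroup.centralizer ({(a : G)} : Set G) := fun a y hy =>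
    ⟨hXC hy, mem_centralizer_singleton_iff.2 (hcommX a a.2 y hy).eq.symm⟩
  have hS : FiveQ (mk zC) (mk tC) (im D) (im F) := by
    have hinj : ∀ f₁ ∈ F, ∀ f₂ ∈ F, ∀ (h₁ : f₁ ∈ C) (h₂ : f₂ ∈ C), mk ⟨f₁, h₁⟩ = mk ⟨f₂, h₂⟩ → f₁ = f₂ := by
      intro f₁ hf₁ f₂ hf₂ h₁ h₂ h
      exact congrArg Subtype.val (hlift ⟨f₁, h₁⟩ ⟨f₂, h₂⟩
        (Subtype.ext (show f₁ * f₁ = 1 by rw [← sq]; exact hFel.2 f₁ hf₁))
        (Subtype.ext (show f₂ * f₂ = 1 by rw [← sq]; exact hFel.2 f₂ hf₂)) h)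
    have hcard : Nat.card (im F) = 8 := by
      have h := card_eq_inf_ker_mul_map mk (F.subgroupOf C)
      have hk : F.subgroupOf C ⊓ mk.ker = ⊥ := (Subgroup.eq_bot_iff_forall _).2 fun a ha =>
        Subtype.ext (hinj a ha.1 1 (one_mem F) a.2 (one_mem C) ((MonoidHom.mem_ker.1 ha.2).trans (map_one mk).symm))
      rw [hk, Subgroup.card_bot, one_mul,
        Nat.card_congr (Subgroup.subgroupOfEquivOfLe (hFD.trans hDC)).toEquiv, hF] at h
      exact h.symm
    have hord : ∀ a : C, a * a = 1 → (a : G) ≠ 1 → orderOf (mk a) = 2 := fun a ha ha1 =>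
      orderOf_eq_prime (by rw [sq, ← map_mul, ha, map_one]) fun h =>
        ha1 (congrArg Subtype.val (hlift a 1 ha (one_mul 1) (h.trans (map_one mk).symm)))
    have hz1 : z ≠ 1 := fun h => by rw [h, orderOf_one] at hz; norm_num at hz
    have ht1 : t ≠ 1 := fun h => by rw [h, orderOf_one] at ht; norm_num at ht
    refine
      { hz := hord zC hz2 hz1
        ht := hord tC ht2 ht1
        zF := ⟨zC, hzF, rfl⟩
        tF := ⟨tC, htF, rfl⟩
        card_F := hcard
        elemF := ⟨⟨⟨?_⟩⟩, ?_⟩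
        F_le := Subgroup.map_mono fun a ha => hFD ha
        normF := ?_
        D_le := ?_
        card_D := ?_
        card_C := ?_
        card_Ct := ?_
        Ct_le := ?_
        orbit := ?_
        nconj := ?_
        invol := ?_ }
    · rintro ⟨_, a, ha, rfl⟩ ⟨_, b, hb, rfl⟩
      refine Subtype.ext ?_
      show mk a * mk b = mk b * mk a
      rw [← map_mul, ← map_mul]
      exact congrArg mk (Subtype.ext (congrArg Subtype.val (hFel.1.is_comm.comm ⟨(a : G), ha⟩ ⟨(b : G), hb⟩) :))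
    · rintro _ ⟨a, ha, rfl⟩
      rw [← map_pow, show a ^ 2 = 1 from Subtype.ext (by rw [SubgroupClass.coe_pow]; exact hFel.2 a ha), map_one]
    · rintro _ ⟨d, hd, rfl⟩ _ ⟨f, hf, rfl⟩
      exact ⟨d * f * d⁻¹, hnF d hd f hf, by rw [map_mul, map_mul, map_inv]⟩
    · rintro _ ⟨d, hd, rfl⟩
      rw [mem_centralizer_singleton_iff, ← map_mul, ← map_mul]
      exact congrArg mk (Subtype.ext (mem_centralizer_singleton_iff.1 (hDle hd).2))
    · have := himX D hDC hXD; omega
    · have h := himX (C ⊓ Subgroup.centralizer {z}) inf_le_left (hXcent zC)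
      rw [← hcent zC hz2, h960] at h
      omega
    · have h := himX (C ⊓ Subgroup.centralizer {t}) inf_le_left (hXcent tC)
      rw [← hcent tC ht2, h80] at h
      omega
    · rw [hcent tC ht2]
      exact Subgroup.map_mono fun a ha => htD ha
    · rintro _ ⟨f, hf, rfl⟩ h1 h2
      obtain ⟨d, hd, hdf⟩ := horb f hf
        (fun h => h1 (by rw [show f = 1 from Subtype.ext h, map_one]))
        (fun h => h2 (by rw [show f = zC from Subtype.ext h]))
      exact ⟨mk ⟨d, hDC hd⟩, ⟨⟨d, hDC hd⟩, hd, rfl⟩, by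
        rw [← map_inv, ← map_mul, ← map_mul]; exact congrArg mk (Subtype.ext hdf)⟩
    · intro h
      obtain ⟨q, hq⟩ := isConj_iff.1 h
      obtain ⟨k, rfl⟩ := QuotientGroup.mk'_surjective X' q
      rw [← map_inv, ← map_mul, ← map_mul] at hq
      exact hne (isConj_iff.2 ⟨k, congrArg Subtype.val (hlift _ _
        (by rw [show k * zC * k⁻¹ * (k * zC * k⁻¹) = k * (zC * zC) * k⁻¹ by group, hz2]; group) ht2 hq)⟩)
    · intro i hi
      obtain ⟨k, rfl⟩ := QuotientGroup.mk'_surjective X' i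
      have hk2 : ((k * k : C) : G) ∈ X := (hker _).1 (by rw [map_mul, ← sq, ← hi, pow_orderOf_eq_one])
      set a : C := k ^ 5 with ha
      have ha2 : a * a = 1 := Subtype.ext (by
        have h5 : ((k * k : C) : G) ^ 5 = 1 := by
          rw [← orderOf_dvd_iff_pow_eq_one]; exact hX ▸ Subgroup.orderOf_dvd_natCard X hk2
        rw [← SubgroupClass.coe_pow] at h5
        rw [ha, ← ((Commute.refl k).mul_pow 5), h5]
        rfl)
      have hak : mk a = mk k := by
        have h2 : mk k ^ 2 = 1 := by rw [← hi, pow_orderOf_eq_one]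
        rw [ha, map_pow, show (5 : ℕ) = 2 * 2 + 1 from rfl, pow_succ, pow_mul, h2, one_pow, one_mul]
      have ha1 : (a : G) ≠ 1 := fun h => by
        have : mk k = 1 := by rw [← hak, show a = 1 from Subtype.ext h, map_one]
        rw [this, orderOf_one] at hi
        norm_num at hi
      have hao : orderOf (a : G) = 2 := orderOf_eq_prime (by rw [sq]; exact congrArg Subtype.val ha2) ha1
      have hax : Commute (a : G) x := mem_centralizer_singleton_iff.1 a.2
      rcases htwo a hao with h | h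
      · obtain ⟨n, hnx, hna⟩ := conj_in_centralizer hx h25z (mem_centralizer_singleton_iff.1 hzC) hgz hg hax h
        left
        rw [← hak]
        exact isConj_iff.2 ⟨mk ⟨n, hmemC hnx⟩, by
          rw [← map_inv, ← map_mul, ← map_mul]; exact congrArg mk (Subtype.ext hna)⟩
      · obtain ⟨n, hnx, hna⟩ := conj_in_centralizer hx h25t (mem_centralizer_singleton_iff.1 htC) hgt hg' hax h
        right
        rw [← hak]
        exact isConj_iff.2 ⟨mk ⟨n, hmemC hnx⟩, by
          rw [← map_inv, ← map_mul, ← map_mul]; exact congrArg mk (Subtype.ext hna)⟩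
  obtain ⟨F', P⟩ := hS.exists_pair
  obtain ⟨hn, hiso, hno⟩ := P.nonsplit_quotient
  have hQ : Nat.card (C ⧸ X') = 1344 := P.card_group
  have hCc : Nat.card C = 6720 := by
    rw [Subgroup.card_eq_card_quotient_mul_card_subgroup X', hQ, hX'c]
  have h25 : ¬ 25 ∣ Nat.card G := by
    intro h
    obtain ⟨S, hS, hXS⟩ := Sylow.exists_subgroup_card_pow_prime_le 5 (n := 1) (m := 2)
      (by norm_num; exact h) X (by rw [hX, pow_one]) (by norm_num)
    have hSC : S ≤ C := fun y hy => hmemC (congrArg Subtype.val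
      ((IsPGroup.isMulCommutative_of_card_eq_prime_sq (p := 5) hS).is_comm.comm ⟨y, hy⟩
        ⟨x, hXS (Subgroup.mem_zpowers x)⟩))
    have := Subgroup.card_dvd_of_le hSC
    rw [hS, hCc] at this
    norm_num at this
  have hgN : g ∈ Subgroup.normalizer (X : Set G) := by
    rw [← map_conj_eq_iff, hXdef, MonoidHom.map_zpowers]
    refine Subgroup.eq_of_le_of_card_ge (Subgroup.zpowers_le.2 ⟨2, ?_⟩) ?_
    · show x ^ (2 : ℤ) = g * x * g⁻¹
      rw [hg]; norm_cast
    · rw [Nat.card_zpowers, Nat.card_zpowers, MulEquiv.coe_toMonoidHom, MulEquiv.orderOf_eq]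
  obtain ⟨I', hI⟩ := Subgroup.exists_right_complement'_of_coprime (N := X') (by
    rw [hX'c, show X'.index = 1344 from hQ]; norm_num)
  refine ⟨h25, ⟨I'.map C.subtype, ?_, ?_⟩, ⟨X ⊔ Subgroup.zpowers g, le_sup_left,
    sup_le Subgroup.le_normalizer (Subgroup.zpowers_le.2 hgN), ?_, ?_⟩, ?_⟩
  · rw [centralizer_zpowers, ← hC]
    refine ⟨hXC, Subgroup.map_subtype_le I', ?_, ?_, ?_⟩
    · intro a ha b hb
      exact (hcommX b (Subgroup.map_subtype_le I' hb) a ha).symm.eq
    · rw [Subgroup.eq_bot_iff_forall]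
      rintro a ⟨ha, k, hk, rfl⟩
      have hd := Subgroup.disjoint_def.1 hI.disjoint (show k ∈ X' from ha) hk
      rw [hd]; rfl
    · have hX'm : X'.map C.subtype = X := by
        rw [hX', Subgroup.map_subgroupOf_eq_of_le hXC]
      rw [← hX'm, ← Subgroup.map_sup, hI.sup_eq_top, ← MonoidHom.range_eq_map, Subgroup.range_subtype]
  · refine NonsplitEight.of_equiv
      ((hI.symm.QuotientMulEquiv).trans (Subgroup.equivMapOfInjective I' C.subtype C.subtype_injective))
      ⟨P.E, hn, ⟨⟨⟨fun a b => Subtype.ext (P.commE a.2 b.2).eq⟩⟩, fun a ha => by rw [sq]; exact P.sqE ha⟩,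
        P.card_E, hiso, hno⟩
  · -- the Frobenius group
    set R := X ⊔ Subgroup.zpowers g with hR
    have h := card_normalizer_of_sup hx hg hg4
    exact h.1
  · rw [centralizer_zpowers]
    exact (card_normalizer_of_sup hx hg hg4).2
  · have h := card_normalizer_five hx ⊤ (Subgroup.mem_top g) hg
    rw [top_inf_eq, top_inf_eq, ← hC, hCc] at h
    exact h

end CfsgLib.J4Type
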