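import Cfsg.Agent.Lib.J4Type.FiveLocal
import Cfsg.Agent.Lib.J4Type.FiveCentre
import Cfsg.Prelude.Def_JankoFourType

/-!
# The five-local structure in Janko-four type from the maximal two-local
-/

set_option autoImplicit false

namespace CfsgLib.J4Type

open Cfsg CfsgLib.ThreeTrans.Torsion
open Subgroup (mem_centralizer_singleton_iff)

universe u

variable {G : Type u} [Group G]

theorem map_conj_centralizer (g u : G) :
    (Subgroup.centralizer ({u} : Set G)).map (MulAut.conj g).toMonoidHom =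
      Subgroup.centralizer {g * u * g⁻¹} := by
  ext y
  rw [mem_map_conj, mem_centralizer_singleton_iff, mem_centralizer_singleton_iff]
  exact commute_conj_fix rfl

variable [Finite G]

/-- Two elementary subgroups of order `2 ^ 11` are conjugate when a Sylow subgroup has only one. -/
theorem exists_conj_of_unique
    (huniq : ∀ T : Sylow 2 G, ∃! V : Subgroup G, V ≤ (T : Subgroup G) ∧ IsElementaryAbelian 2 V ∧
      Nat.card V = 2 ^ 11)
    {V V' : Subgroup G} (hV : IsElementaryAbelian 2 V) (hVc : Nat.card V = 2 ^ 11)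
    (hV' : IsElementaryAbelian 2 V') (hVc' : Nat.card V' = 2 ^ 11) :
    ∃ g : G, V.map (MulAut.conj g).toMonoidHom = V' := by
  have : Fact (Nat.Prime 2) := ⟨Nat.prime_two⟩
  obtain ⟨T, hT⟩ := (IsPGroup.of_card hVc).exists_le_sylow
  obtain ⟨T', hT'⟩ := (IsPGroup.of_card hVc').exists_le_sylow
  obtain ⟨g, hg⟩ := MulAction.exists_smul_eq G T T'
  have hgT : (T : Subgroup G).map (MulAut.conj g).toMonoidHom = T' :=
    congrArg (fun S : Sylow 2 G => (S : Subgroup G)) hg
  refine ⟨g, (huniq T').unique ⟨hgT ▸ Subgroup.map_mono hT, ⟨⟨⟨?_⟩⟩, ?_⟩, by rw [card_map_conj, hVc]⟩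
    ⟨hT', hV', hVc'⟩⟩
  · rintro ⟨_, a, ha, rfl⟩ ⟨_, b, hb, rfl⟩
    refine Subtype.ext ?_
    show MulAut.conj g a * MulAut.conj g b = MulAut.conj g b * MulAut.conj g a
    rw [← map_mul, ← map_mul]
    exact congrArg (MulAut.conj g) (congrArg Subtype.val (hV.1.is_comm.comm ⟨a, ha⟩ ⟨b, hb⟩))
  · rintro _ ⟨a, ha, rfl⟩
    rw [← map_pow, hV.2 a ha, map_one]

omit [Finite G] in
/-- Transport of the five-local structure along conjugation. -/
theorem five_transport {X S : Subgroup G} {g : G} (hS : X.map (MulAut.conj g).toMonoidHom = S)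
    (hJ : ∃ J : Subgroup G, IsInternalDirectProduct X J (Subgroup.centralizer (X : Set G)) ∧ NonsplitEight J)
    (hR : ∃ R : Subgroup G, X ≤ R ∧ R ≤ Subgroup.normalizer (X : Set G) ∧ Nat.card R = 20 ∧
      R ⊓ Subgroup.centralizer (X : Set G) = X) :
    (∃ J : Subgroup G, IsInternalDirectProduct S J (Subgroup.centralizer (S : Set G)) ∧ NonsplitEight J) ∧
    (∃ R : Subgroup G, S ≤ R ∧ R ≤ Subgroup.normalizer (S : Set G) ∧ Nat.card R = 20 ∧
      R ⊓ Subgroup.centralizer (S : Set G) = S) ∧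
    Nat.card (Subgroup.normalizer (S : Set G)) = Nat.card (Subgroup.normalizer (X : Set G)) := by
  set φ := (MulAut.conj g).toMonoidHom with hφ
  have hinj : Function.Injective φ := (MulAut.conj g).injective
  have hC : (Subgroup.centralizer (X : Set G)).map φ = Subgroup.centralizer (S : Set G) := by
    ext y
    rw [hφ, mem_map_conj, Subgroup.mem_centralizer_iff, Subgroup.mem_centralizer_iff]
    constructor
    · intro hy a ha
      rw [← hS, SetLike.mem_coe, mem_map_conj] at ha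
      exact ((commute_conj_fix (g := g) (a := g⁻¹ * a * g) (b := a) (by group) (x := y)).1
        (show Commute (g⁻¹ * y * g) (g⁻¹ * a * g) from (hy _ ha).symm)).eq.symm
    · intro hy a ha
      exact ((commute_conj_fix (g := g) (a := a) rfl (x := y)).2
        (show Commute y (g * a * g⁻¹) from (hy _ (by rw [← hS]; exact ⟨a, ha, rfl⟩)).symm)).eq.symm
  have hN : (Subgroup.normalizer (X : Set G)).map φ = Subgroup.normalizer (S : Set G) := by
    rw [← hS]
    exact Subgroup.map_equiv_normalizer_eq X (MulAut.conj g)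
  refine ⟨?_, ?_, by rw [← hN, card_map_conj]⟩
  · obtain ⟨J, ⟨h1, h2, h3, h4, h5⟩, hJ⟩ := hJ
    refine ⟨J.map φ, ⟨?_, ?_, ?_, ?_, ?_⟩, hJ.of_equiv (Subgroup.equivMapOfInjective J φ hinj)⟩
    · rw [← hC, ← hS]; exact Subgroup.map_mono h1
    · rw [← hC]; exact Subgroup.map_mono h2
    · rw [← hS]
      rintro _ ⟨a, ha, rfl⟩ _ ⟨b, hb, rfl⟩
      rw [← map_mul, h3 a ha b hb, map_mul]
    · rw [← hS, ← Subgroup.map_inf _ _ _ hinj, h4, Subgroup.map_bot]
    · rw [← hC, ← hS, ← Subgroup.map_sup, h5]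
  · obtain ⟨R, h1, h2, h3, h4⟩ := hR
    refine ⟨R.map φ, ?_, ?_, by rw [hφ, card_map_conj, h3], ?_⟩
    · rw [← hS]; exact Subgroup.map_mono h1
    · rw [← hN]; exact Subgroup.map_mono h2
    · rw [← hC, ← hS, ← Subgroup.map_inf _ _ _ hinj, h4]

/-- The five-local structure in Janko-four type from the existence and uniqueness of the elementary
subgroups of order `2 ^ 11`, their normalisers and orbits, and the centralisers of the involutions not
conjugate to `z`. -/
theorem five_of_locals {z : G} (hJ : Cfsg.IsOfJankoFourTypeAt z)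
    (huniq : ∀ T : Sylow 2 G, ∃! V : Subgroup G, V ≤ (T : Subgroup G) ∧ IsElementaryAbelian 2 V ∧
      Nat.card V = 2 ^ 11)
    (hsplit : ∀ V : Subgroup G, IsElementaryAbelian 2 V → Nat.card V = 2 ^ 11 →
      Subgroup.centralizer (V : Set G) ≤ V ∧ ∃ K : Subgroup G, K ≤ Subgroup.normalizer (V : Set G) ∧
        K ⊓ V = ⊥ ∧ K ⊔ V = Subgroup.normalizer (V : Set G) ∧ Cfsg.Spor.IsoM24 K)
    (horbits : ∀ V : Subgroup G, IsElementaryAbelian 2 V → Nat.card V = 2 ^ 11 →
      ∃ z' t : G, z' ∈ V ∧ t ∈ V ∧ t ≠ 1 ∧ IsConj z z' ∧ ¬ IsConj z t ∧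
        {v : G | ∃ n ∈ Subgroup.normalizer (V : Set G), n * z' * n⁻¹ = v}.ncard = 1771 ∧
        {v : G | ∃ n ∈ Subgroup.normalizer (V : Set G), n * t * n⁻¹ = v}.ncard = 276 ∧
        Subgroup.centralizer ({t} : Set G) ≤ Subgroup.normalizer (V : Set G))
    (hother : ∀ i : G, orderOf i = 2 → ¬ IsConj z i → ∃ V : Subgroup G,
      V ≤ Subgroup.centralizer ({i} : Set G) ∧ IsElementaryAbelian 2 V ∧ Nat.card V = 2 ^ 11)
    {S : Subgroup G} (hS : Nat.card S = 5) :
    ¬ (25 ∣ Nat.card G) ∧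
    (∃ J : Subgroup G, IsInternalDirectProduct S J (Subgroup.centralizer (S : Set G)) ∧ NonsplitEight J) ∧
    (∃ R : Subgroup G, S ≤ R ∧ R ≤ Subgroup.normalizer (S : Set G) ∧ Nat.card R = 20 ∧
      R ⊓ Subgroup.centralizer (S : Set G) = S) ∧
    Nat.card (Subgroup.normalizer (S : Set G)) = 2 ^ 8 * 3 * 5 * 7 := by
  classical
  obtain ⟨P, hP⟩ := hJ
  have hz : orderOf z = 2 := hP.1
  have : Fact (Nat.Prime 2) := ⟨Nat.prime_two⟩
  obtain ⟨T⟩ := (inferInstance : Nonempty (Sylow 2 G))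
  obtain ⟨V, ⟨-, hV, hVc⟩, -⟩ := huniq T
  obtain ⟨-, K, hKN, hKV, hKs, ⟨e⟩⟩ := hsplit V hV hVc
  obtain ⟨π, hπ, he⟩ := exists_proj hKN hKV hKs e
  obtain ⟨z', t0, hz'V, ht0V, ht01, hzz, hzt, h1771, h276, hCt⟩ := horbits V hV hVc
  have hne : ¬ IsConj z' t0 := fun h => hzt (hzz.trans h)
  have hN : Nat.card (Subgroup.normalizer (V : Set G)) = 2 ^ 11 * 244823040 := by
    have hsurj : Function.Surjective π := fun m => by
      obtain ⟨k, rfl⟩ := e.surjective m
      exact ⟨_, he k⟩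
    rw [card_eq_inf_mul_image π hπ le_rfl, inf_eq_right.2 Subgroup.le_normalizer, hVc,
      Subgroup.subgroupOf_self, Subgroup.map_top_of_surjective π hsurj, Subgroup.card_top,
      Golay.natCard_M24]
  have hz'1 : z' ≠ 1 := by
    intro h
    obtain ⟨a, ha⟩ := isConj_iff.1 hzz
    rw [h, conj_eq_one_iff] at ha
    rw [ha, orderOf_one] at hz
    norm_num at hz
  have hconjV : ∀ n ∈ Subgroup.normalizer (V : Set G), ∀ v ∈ V, n * v * n⁻¹ ∈ V := fun n hn v hv =>
    (Subgroup.mem_normalizer_iff.1 hn v).1 hv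
  -- two classes of involutions
  have htwo0 : ∀ i : G, orderOf i = 2 → IsConj z i ∨ IsConj t0 i := by
    intro i hi
    by_cases hzi : IsConj z i
    · exact Or.inl hzi
    right
    obtain ⟨V', hV'i, hV', hVc'⟩ := hother i hi hzi
    obtain ⟨g, hg⟩ := exists_conj_of_unique huniq hV hVc hV' hVc'
    have hiV' : i ∈ V' := (hsplit V' hV' hVc').1 (Subgroup.mem_centralizer_iff.2 fun a ha =>
      mem_centralizer_singleton_iff.1 (hV'i ha))
    rw [← hg, mem_map_conj] at hiV'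
    set j := g⁻¹ * i * g with hj
    have hij : IsConj j i := isConj_iff.2 ⟨g, by rw [hj]; group⟩
    have hj1 : j ≠ 1 := fun h => by
      have h' : i = 1 := by
        calc i = g * j * g⁻¹ := by rw [hj]; group
          _ = 1 := by rw [h]; group
      rw [h', orderOf_one] at hi
      norm_num at hi
    have hsub : ∀ a ∈ V, a ≠ 1 → {v : G | ∃ n ∈ Subgroup.normalizer (V : Set G), n * a * n⁻¹ = v} ⊆
        (V : Set G) \ {1} := by
      rintro a ha ha1 _ ⟨n, hn, rfl⟩
      exact ⟨hconjV n hn a ha, fun h => ha1 (conj_eq_one_iff.1 h)⟩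
    have hdisj : Disjoint {v : G | ∃ n ∈ Subgroup.normalizer (V : Set G), n * z' * n⁻¹ = v}
        {v : G | ∃ n ∈ Subgroup.normalizer (V : Set G), n * t0 * n⁻¹ = v} := by
      rw [Set.disjoint_left]
      rintro v ⟨n, -, rfl⟩ ⟨m, -, hm⟩
      exact hne ((isConj_iff.2 ⟨n, rfl⟩).trans (isConj_iff.2 ⟨m, hm⟩).symm)
    have hunion : {v : G | ∃ n ∈ Subgroup.normalizer (V : Set G), n * z' * n⁻¹ = v} ∪
        {v : G | ∃ n ∈ Subgroup.normalizer (V : Set G), n * t0 * n⁻¹ = v} = (V : Set G) \ {1} := by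
      refine Set.eq_of_subset_of_ncard_le (Set.union_subset (hsub _ hz'V hz'1) (hsub _ ht0V ht01)) ?_
      rw [Set.ncard_union_eq hdisj, h1771, h276, Set.ncard_sdiff_singleton_of_mem (Subgroup.one_mem V),
        ← Nat.card_coe_set_eq]
      exact le_of_eq (by rw [show Nat.card ↥(V : Set G) = 2 ^ 11 from hVc]; norm_num)
    have hjV : j ∈ (V : Set G) \ {1} := ⟨hiV', hj1⟩
    rw [← hunion] at hjV
    rcases hjV with ⟨n, -, hn⟩ | ⟨n, -, hn⟩
    · exact absurd (hzz.trans ((isConj_iff.2 ⟨n, hn⟩).trans hij)) hzi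
    · exact (isConj_iff.2 ⟨n, hn⟩).trans hij
  obtain ⟨x, hxN, hx, hy, ⟨g, hgN, hg4, hg⟩, hmap, hlift, hC⟩ := five_in_complement hKN π hπ e he
  obtain ⟨z0, t, hzz0, htt, hz0F, htF, hz01, ht1, hF8, h480, hDz, hgz0, hWN, h80, hWc, horb⟩ :=
    five_fixed hVc hV Subgroup.le_normalizer hconjV π hπ hN hz'V ht0V hz'1 ht01 hne h1771 h276 hCt hxN hx hy
      hgN hg hlift hmap hC
  set N := Subgroup.normalizer (V : Set G) with hNdef
  set F := V ⊓ Subgroup.centralizer ({x} : Set G) with hF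
  set D := N ⊓ Subgroup.centralizer ({x} : Set G) with hD
  have hzc : IsConj z z0 := hzz.trans hzz0
  have hne0 : ¬ IsConj z0 t := fun h => hzt ((hzc.trans h).trans htt.symm)
  have hz0o : orderOf z0 = 2 := orderOf_eq_prime (hV.2 z0 hz0F.1) hz01
  have hto : orderOf t = 2 := orderOf_eq_prime (hV.2 t htF.1) ht1
  have hnF : ∀ d ∈ D, ∀ f ∈ F, d * f * d⁻¹ ∈ F := by
    rintro d ⟨hdN, hdx⟩ f ⟨hfV, hfx⟩
    exact ⟨hconjV d hdN f hfV,
      (Subgroup.centralizer ({x} : Set G)).mul_mem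
        ((Subgroup.centralizer ({x} : Set G)).mul_mem hdx hfx)
        ((Subgroup.centralizer ({x} : Set G)).inv_mem hdx)⟩
  obtain ⟨a, ha⟩ := isConj_iff.1 hzc
  -- the centraliser of `z0` through that of `z`
  set x1 := a⁻¹ * x * a with hx1
  set t1 := a⁻¹ * t * a with ht1'
  have hax : a * x1 * a⁻¹ = x := by rw [hx1]; group
  have hat : a * t1 * a⁻¹ = t := by rw [ht1']; group
  have hxz0 : Commute x z0 := (mem_centralizer_singleton_iff.1 hz0F.2 : Commute z0 x).symm
  have htx : Commute t x := mem_centralizer_singleton_iff.1 htF.2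
  have htz0 : Commute t z0 := congrArg Subtype.val (hV.1.is_comm.comm ⟨t, htF.1⟩ ⟨z0, hz0F.1⟩)
  have hmapC : ∀ v w v' w' : G, a * v * a⁻¹ = v' → a * w * a⁻¹ = w' →
      Nat.card (Subgroup.centralizer {v} ⊓ Subgroup.centralizer {w} : Subgroup G) =
        Nat.card (Subgroup.centralizer {v'} ⊓ Subgroup.centralizer {w'} : Subgroup G) := by
    intro v w v' w' hv hw
    rw [← hv, ← hw, ← map_conj_centralizer, ← map_conj_centralizer,
      ← Subgroup.map_inf _ _ _ (MulAut.conj a).injective, card_map_conj]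
  obtain ⟨h960', hCzc⟩ := card_cent_five hP (x := x1) (t := t1)
    (by rw [← hx, ← hax]; exact (MulEquiv.orderOf_eq (MulAut.conj a) x1).symm)
    ((commute_conj_fix ha).2 hxz0)
    (by rw [ht1', show a⁻¹ * t * a * (a⁻¹ * t * a) = a⁻¹ * (t * t) * a by group,
          show t * t = 1 by rw [← sq]; exact hV.2 t htF.1]; group)
    (fun h => ht1 (by rw [← hat, h]; group))
    (by
      have h := htx.map (MulAut.conj a⁻¹).toMonoidHom
      simpa [hx1, ht1', mul_assoc] using h)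
    ((commute_conj_fix ha).2 htz0)
    (by rw [hmapC x1 t1 x t hax hat, h80])
    (by
      rw [hmapC x1 z x z0 hax ha, ← h480]
      exact Subgroup.card_dvd_of_le (le_inf inf_le_right hDz))
  have h960 : Nat.card (Subgroup.centralizer {x} ⊓ Subgroup.centralizer {z0} : Subgroup G) = 960 := by
    rw [← hmapC x1 z x z0 hax ha, h960']
  have h25z : ¬ 25 ∣ Nat.card (Subgroup.centralizer ({z0} : Set G)) := by
    rw [← ha, ← map_conj_centralizer, card_map_conj, hCzc]
    norm_num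
  have h25t : ¬ 25 ∣ Nat.card (Subgroup.centralizer ({t} : Set G)) := by rw [hWc]; norm_num
  -- correct the element squaring `x` at `t`
  have hgtF : g * t * g⁻¹ ∈ F := ⟨hconjV g hgN t htF.1, mem_centralizer_singleton_iff.2 (by
    have h : Commute (g * t * g⁻¹) (x ^ 2) := by
      rw [← hg]; simpa using htx.map (MulAut.conj g).toMonoidHom
    obtain ⟨m, hm⟩ := exists_pow_eq_self_of_coprime (x := x) (n := 2) (by rw [hx]; norm_num)
    exact (hm ▸ h.pow_right m).eq)⟩
  obtain ⟨k, hk, hkt⟩ := horb _ hgtF (fun h => ht1 (conj_eq_one_iff.1 h))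
    (fun h => hne0 (isConj_iff.2 ⟨g, h⟩).symm)
  have hkx : Commute k x := mem_centralizer_singleton_iff.1 hk.2
  have hg'x : k⁻¹ * g * x * (k⁻¹ * g)⁻¹ = x ^ 2 := by
    rw [show k⁻¹ * g * x * (k⁻¹ * g)⁻¹ = k⁻¹ * (g * x * g⁻¹) * k by group, hg, mul_assoc,
      ← (hkx.pow_right 2).eq, inv_mul_cancel_left]
  have hg't : Commute (k⁻¹ * g) t := mul_inv_eq_iff_eq_mul.1 (show k⁻¹ * g * t * (k⁻¹ * g)⁻¹ = t by
    rw [show k⁻¹ * g * t * (k⁻¹ * g)⁻¹ = k⁻¹ * (g * t * g⁻¹) * k by group, ← hkt]; group)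
  obtain ⟨h25, hJ', hR', hNc⟩ := five_at (D := D) (F := F) hx hg4 hg hg'x hgz0 hg't hz0o hto hne0
    (fun i hi => (htwo0 i hi).imp (fun h => hzc.symm.trans h) (fun h => htt.symm.trans h))
    h25z h25t h480 (le_inf inf_le_right hDz) ⟨hxN, mem_centralizer_singleton_iff.2 rfl⟩ h960 h80
    (fun b hb => ⟨hWN hb.2, hb.1⟩) hF8
    ⟨⟨⟨fun b c => Subtype.ext (congrArg Subtype.val (hV.1.is_comm.comm ⟨b, b.2.1⟩ ⟨c, c.2.1⟩) :)⟩⟩,
      fun b hb => hV.2 b hb.1⟩
    hz0F htF (fun b hb => ⟨Subgroup.le_normalizer hb.1, hb.2⟩) hnF horb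
  have : Fact (Nat.Prime 5) := ⟨by norm_num⟩
  obtain ⟨r, -, hr⟩ := conj_of_card (p := 5) (⊤ : Subgroup G) (X := Subgroup.zpowers x) (Y := S)
    (by rw [Subgroup.card_top]; norm_num; exact h25) le_top le_top (by rw [Nat.card_zpowers, hx]) hS
  obtain ⟨hJ'', hR'', hN''⟩ := five_transport hr hJ' hR'
  exact ⟨h25, hJ'', hR'', by rw [hN'', hNc]; norm_num⟩

end CfsgLib.J4Type
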