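import Cfsg.Prelude.Def_Transfer
import Cfsg.Agent.Lib.ThreeTrans.Torsion.Basic
import Cfsg.Agent.Lib.LocalEvenSix.Lattice

/-!
# The centraliser of the involution in a group with two classes of involutions with centralisers of
orders 192 and 16: the extraspecial subgroup of order 32 and its elementary subgroup of order eight
-/

set_option autoImplicit false
set_option linter.unusedSectionVars false

namespace CfsgLib.J4Type

open CfsgLib.ThreeTrans.Torsion
open Subgroup (mem_centralizer_singleton_iff)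

variable {Q : Type*} [Group Q]

/-- The hypotheses on the centraliser of an element of order five modulo that element. -/
structure FiveQ (z t : Q) (D F : Subgroup Q) : Prop where
  hz : orderOf z = 2
  ht : orderOf t = 2
  zF : z ∈ F
  tF : t ∈ F
  card_F : Nat.card F = 8
  elemF : Cfsg.IsElementaryAbelian 2 F
  F_le : F ≤ D
  normF : ∀ d ∈ D, ∀ f ∈ F, d * f * d⁻¹ ∈ F
  D_le : D ≤ Subgroup.centralizer {z}
  card_D : Nat.card D = 96
  card_C : Nat.card (Subgroup.centralizer ({z} : Set Q)) = 192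
  card_Ct : Nat.card (Subgroup.centralizer ({t} : Set Q)) = 16
  Ct_le : Subgroup.centralizer ({t} : Set Q) ≤ D
  orbit : ∀ f ∈ F, f ≠ 1 → f ≠ z → ∃ d ∈ D, d * t * d⁻¹ = f
  nconj : ¬ IsConj z t
  invol : ∀ i : Q, orderOf i = 2 → IsConj z i ∨ IsConj t i

/-- The configuration together with the second four-group modulo `z`. -/
structure FivePair (z t : Q) (D F F' : Subgroup Q) : Prop extends FiveQ z t D F where
  F'_le : F' ≤ D
  zF' : z ∈ F'
  sqF' : ∀ g ∈ F', g * g = 1
  card_F' : Nat.card F' = 8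
  normF' : ∀ d ∈ D, ∀ g ∈ F', d * g * d⁻¹ ∈ F'
  inter : ∀ x ∈ F, x ∈ F' → x = 1 ∨ x = z
  normD : ∀ v ∈ Subgroup.centralizer ({z} : Set Q), ∀ d ∈ D, v * d * v⁻¹ ∈ D
  swap : ∀ v ∈ Subgroup.centralizer ({z} : Set Q), v ∉ D →
    (∀ f ∈ F, v * f * v⁻¹ ∈ F') ∧ (∀ g ∈ F', v * g * v⁻¹ ∈ F)

theorem comm_of_sq {a b : Q} (ha : a * a = 1) (hb : b * b = 1) (hab : a * b * (a * b) = 1) :
    Commute a b := by
  show a * b = b * a
  rw [eq_inv_of_mul_eq_one_left hab, mul_inv_rev, inv_eq_of_mul_eq_one_right ha,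
    inv_eq_of_mul_eq_one_right hb]

variable [Finite Q] {z t : Q} {D F : Subgroup Q}

theorem FiveQ.exists_pair (S : FiveQ z t D F) : ∃ F' : Subgroup Q, FivePair z t D F F' := by
  classical
  set C := Subgroup.centralizer ({z} : Set Q) with hC
  have hsq : ∀ f ∈ F, f * f = 1 := fun f hf => by rw [← sq]; exact S.elemF.2 f hf
  have hidx : (D.subgroupOf C).index = 2 := by
    have h := (D.subgroupOf C).card_mul_index
    rw [Nat.card_congr (Subgroup.subgroupOfEquivOfLe S.D_le).toEquiv, S.card_D, S.card_C] at h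
    omega
  have hnormal : (D.subgroupOf C).Normal := Subgroup.normal_of_index_eq_two hidx
  have hnD : ∀ v ∈ C, ∀ d ∈ D, v * d * v⁻¹ ∈ D := fun v hv d hd =>
    Subgroup.mem_subgroupOf.1 (hnormal.conj_mem ⟨d, S.D_le hd⟩ (Subgroup.mem_subgroupOf.2 hd) ⟨v, hv⟩)
  have hmul : ∀ a ∈ C, ∀ b ∈ C, a ∉ D → b ∉ D → a * b ∈ D := fun a ha b hb hna hnb => by
    have h := Subgroup.mul_mem_iff_of_index_two hidx (a := ⟨a, ha⟩) (b := ⟨b, hb⟩)
    simp only [Subgroup.mem_subgroupOf, hna, hnb, iff_self, Subgroup.coe_mul] at h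
    exact h.2 trivial
  obtain ⟨u, huC, huD⟩ : ∃ u ∈ C, u ∉ D := by
    by_contra! h
    have := Subgroup.card_dvd_of_le (show C ≤ D from h)
    rw [S.card_C, S.card_D] at this
    norm_num at this
  set F' := F.map (MulAut.conj u).toMonoidHom with hF'
  have hzu : u * z * u⁻¹ = z := mul_inv_eq_iff_eq_mul.2 (mem_centralizer_singleton_iff.1 huC)
  have hnF' : ∀ d ∈ D, ∀ g ∈ F', d * g * d⁻¹ ∈ F' := by
    intro d hd g hg
    rw [hF', mem_map_conj] at hg ⊢
    have h := S.normF (u⁻¹ * d * u) (by simpa using hnD u⁻¹ (inv_mem huC) d hd) _ hg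
    simpa [mul_assoc] using h
  have hswapF : ∀ v ∈ C, v ∉ D → ∀ f ∈ F, v * f * v⁻¹ ∈ F' := by
    intro v hv hvD f hf
    have hd : u⁻¹ * v ∈ D := hmul _ (inv_mem huC) _ hv (fun h => huD (by simpa using D.inv_mem h)) hvD
    rw [hF', mem_map_conj]
    have h := S.normF _ hd f hf
    simpa [mul_assoc] using h
  have hswapF' : ∀ v ∈ C, v ∉ D → ∀ g ∈ F', v * g * v⁻¹ ∈ F := by
    intro v hv hvD g hg
    rw [hF', mem_map_conj] at hg
    have h := S.normF _ (hmul v hv u huC hvD huD) _ hg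
    simpa [mul_assoc] using h
  refine ⟨F', S, ?_, ?_, ?_, ?_, hnF', ?_, hnD, fun v hv hvD => ⟨hswapF v hv hvD, hswapF' v hv hvD⟩⟩
  · rw [hF']
    rintro _ ⟨f, hf, rfl⟩
    exact hnD u huC f (S.F_le hf)
  · rw [hF', mem_map_conj, mul_assoc, ← mem_centralizer_singleton_iff.1 huC, inv_mul_cancel_left]
    exact S.zF
  · rintro _ ⟨f, hf, rfl⟩
    rw [← map_mul, hsq f hf, map_one]
  · rw [hF', card_map_conj, S.card_F]
  · intro x hx hx'
    by_contra! hne
    obtain ⟨d, hd, rfl⟩ := S.orbit x hx hne.1 hne.2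
    -- the whole subgroup would be invariant under the centraliser
    have htF' : t ∈ F' := by
      have h := hnF' d⁻¹ (inv_mem hd) _ hx'
      simpa [mul_assoc] using h
    have hsub : F ≤ F' := fun f hf => by
      by_cases h1 : f = 1
      · rw [h1]; exact one_mem _
      by_cases h2 : f = z
      · rw [h2, hF', mem_map_conj, mul_assoc, ← mem_centralizer_singleton_iff.1 huC, inv_mul_cancel_left]
        exact S.zF
      obtain ⟨e, he, rfl⟩ := S.orbit f hf h1 h2
      exact hnF' e he t htF'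
    have heq : F' = F := (Subgroup.eq_of_le_of_card_ge hsub (by rw [hF', card_map_conj])).symm
    have hinv : ∀ v ∈ C, v * t * v⁻¹ ∈ (F : Set Q) \ {1, z} := fun v hv => by
      refine ⟨?_, ?_⟩
      · by_cases hvD : v ∈ D
        · exact S.normF v hvD t S.tF
        · exact heq ▸ hswapF v hv hvD t S.tF
      · rintro (h | h)
        · rw [conj_eq_one_iff] at h
          exact absurd S.ht (by rw [h, orderOf_one]; norm_num)
        · exact S.nconj (isConj_iff.2 ⟨v⁻¹, by rw [← h]; group⟩)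
    have hO := card_eq_orbit_mul C (O := (F : Set Q) \ {1, z})
      (show t ∈ (F : Set Q) \ {1, z} by simpa using hinv 1 (one_mem _)) hinv (fun b hb => by
        obtain ⟨e, he, rfl⟩ := S.orbit b hb.1 (fun h => hb.2 (Or.inl h)) (fun h => hb.2 (Or.inr h))
        exact ⟨e, S.D_le he, rfl⟩)
    have hsix : ((F : Set Q) \ {1, z}).ncard = 6 := by
      rw [Set.ncard_sdiff (by rintro a (rfl | rfl); exacts [one_mem _, S.zF]), Set.ncard_pair,
        ← Nat.card_coe_set_eq, show Nat.card ↥(F : Set Q) = 8 from S.card_F]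
      intro h
      have := S.hz
      rw [← h, orderOf_one] at this
      norm_num at this
    rw [S.card_C, hsix] at hO
    have := Subgroup.card_dvd_of_le (inf_le_right : C ⊓ Subgroup.centralizer {t} ≤ _)
    rw [S.card_Ct] at this
    have := Nat.le_of_dvd (by norm_num) this
    omega

namespace FivePair

variable {F' : Subgroup Q} (P : FivePair z t D F F')
include P

theorem z_ne : z ≠ 1 := fun h => by
  have := P.hz
  rw [h, orderOf_one] at this
  norm_num at this

theorem zz : z * z = 1 := by rw [← sq, ← P.hz]; exact pow_orderOf_eq_one z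

theorem sqF : ∀ f ∈ F, f * f = 1 := fun f hf => by rw [← sq]; exact P.elemF.2 f hf

theorem commF {a b : Q} (ha : a ∈ F) (hb : b ∈ F) : Commute a b :=
  comm_of_sq (P.sqF a ha) (P.sqF b hb) (P.sqF _ (mul_mem ha hb))

theorem commF' {a b : Q} (ha : a ∈ F') (hb : b ∈ F') : Commute a b :=
  comm_of_sq (P.sqF' a ha) (P.sqF' b hb) (P.sqF' _ (mul_mem ha hb))

theorem comm_z {x : Q} (hx : x ∈ D) : Commute x z := mem_centralizer_singleton_iff.1 (P.D_le hx)

theorem twist {f g : Q} (hf : f ∈ F) (hg : g ∈ F') : g * f = f * g ∨ g * f = z * (f * g) := by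
  have hfi : f⁻¹ = f := inv_eq_of_mul_eq_one_right (P.sqF f hf)
  have hgi : g⁻¹ = g := inv_eq_of_mul_eq_one_right (P.sqF' g hg)
  have h1 : g * f * g * f ∈ F := by
    have h := P.normF g (P.F'_le hg) f hf
    rw [hgi] at h
    exact mul_mem h hf
  have h2 : g * f * g * f ∈ F' := by
    have h := P.normF' f (P.F_le hf) g hg
    rw [hfi] at h
    have h' := mul_mem hg h
    simpa [mul_assoc] using h'
  have key : g * f = (g * f * g * f) * (f * g) := by
    rw [show g * f * g * f * (f * g) = g * f * g * (f * f) * g by group, P.sqF f hf, mul_one,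
      mul_assoc (g * f) g g, P.sqF' g hg, mul_one]
  rcases P.inter _ h1 h2 with h | h <;> rw [h] at key
  · exact Or.inl (by rw [key, one_mul])
  · exact Or.inr key

theorem F_le_normalizer : F ≤ Subgroup.normalizer (F' : Set Q) := fun f hf =>
  Subgroup.mem_normalizer_fintype fun g hg => P.normF' f (P.F_le hf) g hg

theorem mem_sup {o : Q} : o ∈ F ⊔ F' ↔ ∃ f ∈ F, ∃ g ∈ F', f * g = o := by
  rw [← SetLike.mem_coe, Subgroup.coe_mul_of_left_le_normalizer_right F F' P.F_le_normalizer]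
  exact Set.mem_mul

theorem sq_sup {o : Q} (ho : o ∈ F ⊔ F') : o * o = 1 ∨ o * o = z := by
  obtain ⟨f, hf, g, hg, rfl⟩ := P.mem_sup.1 ho
  rcases P.twist hf hg with h | h <;>
    rw [show f * g * (f * g) = f * (g * f) * g by group, h]
  · left
    rw [show f * (f * g) * g = (f * f) * (g * g) by group, P.sqF f hf, P.sqF' g hg, one_mul]
  · right
    rw [show f * (z * (f * g)) * g = (f * z) * f * (g * g) by group, (P.comm_z (P.F_le hf)).eq,
      P.sqF' g hg, mul_one, mul_assoc, P.sqF f hf, mul_one]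

theorem card_sup : Nat.card ↥(F ⊔ F') = 32 := by
  have hp : IsPGroup 2 ↥(F ⊔ F') := fun o => ⟨2, Subtype.ext (by
    rw [SubgroupClass.coe_pow, show (o : Q) ^ 2 ^ 2 = (o * o) * (o * o) by simp [pow_succ, mul_assoc],
      OneMemClass.coe_one]
    rcases P.sq_sup o.2 with h | h <;> rw [h]
    · rw [one_mul]
    · exact P.zz)⟩
  obtain ⟨n, hn⟩ := IsPGroup.iff_card.mp hp
  have hdvd := Subgroup.card_dvd_of_le (sup_le P.F_le P.F'_le)
  rw [P.card_D, hn] at hdvd
  have hle := LocalEvenSix.card_mul_card_le F F'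
  have hinf : Nat.card ↥(F ⊓ F') ≤ 2 := by
    rw [← SetLike.coe_sort_coe, Nat.card_coe_set_eq]
    refine (Set.ncard_le_ncard (t := {1, z}) fun x hx => ?_).trans
      ((Set.ncard_insert_le _ _).trans (by rw [Set.ncard_singleton]))
    exact P.inter x hx.1 hx.2
  rw [P.card_F, P.card_F', hn] at hle
  have hn5 : n ≤ 6 := by
    by_contra h
    have := Nat.le_of_dvd (by norm_num) hdvd
    have h7 : 2 ^ 7 ≤ 2 ^ n := Nat.pow_le_pow_right (by norm_num) (by omega)
    omega
  have h32 : 32 ≤ 2 ^ n := by nlinarith [Nat.mul_le_mul_left (2 ^ n) hinf]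
  rw [hn]
  interval_cases n <;> omega

theorem sup_le_D : F ⊔ F' ≤ D := sup_le P.F_le P.F'_le

theorem sup_le_C : F ⊔ F' ≤ Subgroup.centralizer {z} := P.sup_le_D.trans P.D_le

theorem conj_sup {v : Q} (hv : v ∈ Subgroup.centralizer ({z} : Set Q)) {o : Q} (ho : o ∈ F ⊔ F') :
    v * o * v⁻¹ ∈ F ⊔ F' := by
  obtain ⟨f, hf, g, hg, rfl⟩ := P.mem_sup.1 ho
  rw [show v * (f * g) * v⁻¹ = (v * f * v⁻¹) * (v * g * v⁻¹) by group]
  by_cases hvD : v ∈ D
  · exact mul_mem (Subgroup.mem_sup_left (P.normF v hvD f hf)) (Subgroup.mem_sup_right (P.normF' v hvD g hg))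
  · exact mul_mem (Subgroup.mem_sup_right ((P.swap v hv hvD).1 f hf))
      (Subgroup.mem_sup_left ((P.swap v hv hvD).2 g hg))

theorem exists_conj_t {x : Q} (hx : x ∈ F ∨ x ∈ F') (h1 : x ≠ 1) (h2 : x ≠ z) :
    ∃ k ∈ Subgroup.centralizer ({z} : Set Q), k * t * k⁻¹ = x := by
  rcases hx with hx | hx
  · obtain ⟨d, hd, h⟩ := P.orbit x hx h1 h2
    exact ⟨d, P.D_le hd, h⟩
  · obtain ⟨u, huC, huD⟩ : ∃ u ∈ Subgroup.centralizer ({z} : Set Q), u ∉ D := by
      by_contra! h
      have := Subgroup.card_dvd_of_le (show Subgroup.centralizer {z} ≤ D from h)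
      rw [P.card_C, P.card_D] at this
      norm_num at this
    have huz : Commute u z := mem_centralizer_singleton_iff.1 huC
    obtain ⟨d, hd, h⟩ := P.orbit (u * x * u⁻¹) ((P.swap u huC huD).2 x hx)
      (fun h => h1 (conj_eq_one_iff.1 h)) (fun h => h2 (by
        calc x = u⁻¹ * (u * x * u⁻¹) * u := by group
          _ = u⁻¹ * z * u := by rw [h]
          _ = z := by rw [mul_assoc, ← huz.eq, inv_mul_cancel_left]))
    refine ⟨u⁻¹ * d, mul_mem (inv_mem huC) (P.D_le hd), ?_⟩
    rw [show u⁻¹ * d * t * (u⁻¹ * d)⁻¹ = u⁻¹ * (d * t * d⁻¹) * u by group, h]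
    group

theorem cent_conj_t {k x : Q} (hk : k ∈ Subgroup.centralizer ({z} : Set Q)) (hkx : k * t * k⁻¹ = x) :
    Nat.card (Subgroup.centralizer ({x} : Set Q)) = 16 ∧ Subgroup.centralizer ({x} : Set Q) ≤ D := by
  have hmap : (Subgroup.centralizer ({t} : Set Q)).map (MulAut.conj k).toMonoidHom =
      Subgroup.centralizer {x} := by
    ext y
    rw [mem_map_conj, mem_centralizer_singleton_iff, mem_centralizer_singleton_iff]
    exact commute_conj_fix hkx
  refine ⟨by rw [← hmap, card_map_conj, P.card_Ct], ?_⟩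
  rw [← hmap]
  rintro _ ⟨y, hy, rfl⟩
  exact P.normD k hk y (P.Ct_le hy)

/-- The centraliser of an element of `F` or `F'` outside the centre lies in `F F'`. -/
theorem cent_le_sup {x : Q} (hx : x ∈ F ∨ x ∈ F') (h1 : x ≠ 1) (h2 : x ≠ z) :
    Subgroup.centralizer ({x} : Set Q) ≤ F ⊔ F' ∧ Subgroup.centralizer ({x} : Set Q) ≤ D ∧
      Nat.card (Subgroup.centralizer ({x} : Set Q)) = 16 := by
  obtain ⟨k, hk, hkx⟩ := P.exists_conj_t hx h1 h2
  obtain ⟨h16, hD⟩ := P.cent_conj_t hk hkx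
  refine ⟨?_, hD, h16⟩
  set O := F ⊔ F' with hO
  have hxO : x ∈ O := hx.elim (fun h => Subgroup.mem_sup_left h) (fun h => Subgroup.mem_sup_right h)
  set S := {b : Q | ∃ o ∈ O, o * x * o⁻¹ = b} with hS
  have horb : Nat.card O = S.ncard * Nat.card (O ⊓ Subgroup.centralizer ({x} : Set Q) : Subgroup Q) :=
    card_eq_orbit_mul O ⟨1, one_mem _, by group⟩ (fun o ho => ⟨o, ho, rfl⟩) fun b hb => hb
  have hsub : S ⊆ {x, z * x} := by
    rintro _ ⟨o, ho, rfl⟩
    obtain ⟨f, hf, g, hg, rfl⟩ := P.mem_sup.1 ho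
    have hzc : f * z = z * f := (P.comm_z (P.F_le hf)).eq
    rcases hx with hx | hx
    · have hc : f * x * f⁻¹ = x := by rw [(P.commF hf hx).eq, mul_inv_cancel_right]
      rw [show f * g * x * (f * g)⁻¹ = f * (g * x * g⁻¹) * f⁻¹ by group]
      rcases P.twist hx hg with h | h
      · left
        rw [h, mul_inv_cancel_right, hc]
      · right
        rw [show g * x * g⁻¹ = z * x by rw [h]; group,
          show f * (z * x) * f⁻¹ = (f * z) * x * f⁻¹ by group, hzc, mul_assoc z f x, mul_assoc z,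
          hc]
        rfl
    · have hc : g * x * g⁻¹ = x := by rw [(P.commF' hg hx).eq, mul_inv_cancel_right]
      rw [show f * g * x * (f * g)⁻¹ = f * (g * x * g⁻¹) * f⁻¹ by group, hc]
      rcases P.twist hf hx with h | h
      · left
        rw [← h, mul_inv_cancel_right]
      · right
        show f * x * f⁻¹ = z * x
        have h' : f * x = z * (x * f) := by rw [h, ← mul_assoc, P.zz, one_mul]
        rw [h']
        group
  have hle2 : S.ncard ≤ 2 :=
    (Set.ncard_le_ncard hsub).trans ((Set.ncard_insert_le _ _).trans (by rw [Set.ncard_singleton]))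
  rw [P.card_sup] at horb
  have heq : O ⊓ Subgroup.centralizer ({x} : Set Q) = Subgroup.centralizer {x} :=
    Subgroup.eq_of_le_of_card_ge inf_le_right (by
      rw [h16]
      nlinarith)
  exact inf_eq_right.1 heq

/-- Nothing outside the centre commutes with both four-groups. -/
theorem not_commute_both {x : Q} (hx : x ∈ F ∨ x ∈ F') (h1 : x ≠ 1) (h2 : x ≠ z)
    (hF : ∀ f ∈ F, Commute f x) (hF' : ∀ g ∈ F', Commute g x) : False := by
  have hle : F ⊔ F' ≤ Subgroup.centralizer ({x} : Set Q) :=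
    sup_le (fun f hf => mem_centralizer_singleton_iff.2 (hF f hf).eq)
      (fun g hg => mem_centralizer_singleton_iff.2 (hF' g hg).eq)
  have := Subgroup.card_dvd_of_le hle
  rw [P.card_sup, (P.cent_le_sup hx h1 h2).2.2] at this
  norm_num at this

theorem center_F {f : Q} (hf : f ∈ F) (h : ∀ g ∈ F', Commute g f) : f = 1 ∨ f = z := by
  by_contra! hne
  exact P.not_commute_both (Or.inl hf) hne.1 hne.2 (fun a ha => P.commF ha hf) h

theorem center_F' {g : Q} (hg : g ∈ F') (h : ∀ f ∈ F, Commute f g) : g = 1 ∨ g = z := by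
  by_contra! hne
  exact P.not_commute_both (Or.inr hg) hne.1 hne.2 h (fun a ha => P.commF' ha hg)

/-- Every element of `F` outside the centre has a partner in `F'`. -/
theorem exists_partner {f : Q} (hf : f ∈ F) :
    ∃ g ∈ F', Commute f g ∧ g ≠ 1 ∧ g ≠ z := by
  set K := F' ⊓ Subgroup.centralizer ({f} : Set Q) with hK
  set S := {b : Q | ∃ o ∈ F', o * f * o⁻¹ = b} with hS
  have horb : Nat.card F' = S.ncard * Nat.card K :=
    card_eq_orbit_mul F' ⟨1, one_mem _, by group⟩ (fun o ho => ⟨o, ho, rfl⟩) fun b hb => hb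
  have hsub : S ⊆ {f, z * f} := by
    rintro _ ⟨g, hg, rfl⟩
    rcases P.twist hf hg with h | h <;> rw [h]
    · left; rw [mul_inv_cancel_right]
    · right; show z * (f * g) * g⁻¹ = z * f; group
  have hle2 : S.ncard ≤ 2 :=
    (Set.ncard_le_ncard hsub).trans ((Set.ncard_insert_le _ _).trans (by rw [Set.ncard_singleton]))
  rw [P.card_F'] at horb
  by_contra! h
  have hK2 : Nat.card K ≤ 2 := by
    rw [← SetLike.coe_sort_coe, Nat.card_coe_set_eq]
    refine (Set.ncard_le_ncard (t := {1, z}) fun g hg => ?_).trans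
      ((Set.ncard_insert_le _ _).trans (by rw [Set.ncard_singleton]))
    by_cases hg1 : g = 1
    · exact Or.inl hg1
    · exact Or.inr (h g hg.1 (mem_centralizer_singleton_iff.1 hg.2).symm hg1)
  nlinarith

/-- Partners are unique up to the centre. -/
theorem partner_unique {f g₁ g₂ : Q} (hf : f ∈ F) (hf1 : f ≠ 1) (hfz : f ≠ z) (hg₁ : g₁ ∈ F') (hg₂ : g₂ ∈ F')
    (h₁ : Commute f g₁) (h₂ : Commute f g₂) (n₁ : g₁ ≠ 1 ∧ g₁ ≠ z) (n₂ : g₂ ≠ 1 ∧ g₂ ≠ z) :
    g₁ * g₂ = 1 ∨ g₁ * g₂ = z := by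
  classical
  by_contra! hne
  set K := F' ⊓ Subgroup.centralizer ({f} : Set Q) with hK
  have hsub : ({1, z, g₁, g₂, g₁ * g₂} : Set Q) ⊆ K := by
    have m1 : g₁ ∈ K := ⟨hg₁, mem_centralizer_singleton_iff.2 h₁.eq.symm⟩
    have m2 : g₂ ∈ K := ⟨hg₂, mem_centralizer_singleton_iff.2 h₂.eq.symm⟩
    rintro x (rfl | rfl | rfl | rfl | rfl)
    · exact one_mem _
    · exact ⟨P.zF', mem_centralizer_singleton_iff.2 (P.comm_z (P.F_le hf)).eq.symm⟩
    · exact m1
    · exact m2
    · exact mul_mem m1 m2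
  have h5 : ({1, z, g₁, g₂, g₁ * g₂} : Set Q).ncard = 5 := by
    have e12 : g₁ ≠ g₂ := fun e => hne.1 (by rw [e, P.sqF' g₂ hg₂])
    have e13 : g₁ ≠ g₁ * g₂ := fun e => n₂.1 (by simpa using e.symm)
    have e23 : g₂ ≠ g₁ * g₂ := fun e => n₁.1 (by simpa using e.symm)
    rw [Set.ncard_insert_of_notMem, Set.ncard_insert_of_notMem, Set.ncard_insert_of_notMem,
      Set.ncard_pair e23]
    · simp [e12, e13]
    · simp [n₁.2.symm, n₂.2.symm, hne.2.symm]
    · simp [P.z_ne.symm, n₁.1.symm, n₂.1.symm, hne.1.symm]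
  have hle := Set.ncard_le_ncard hsub
  rw [h5, ← Nat.card_coe_set_eq, SetLike.coe_sort_coe] at hle
  have hdvd := Subgroup.card_dvd_of_le (inf_le_left : K ≤ F')
  rw [P.card_F'] at hdvd
  have hK8 : K = F' := Subgroup.eq_of_le_of_card_ge inf_le_left (by
    rw [P.card_F']
    have hle8 := Nat.le_of_dvd (by norm_num) hdvd
    generalize Nat.card K = m at *
    interval_cases m <;> omega)
  rcases P.center_F hf (fun g hg => mem_centralizer_singleton_iff.1 (hK8 ▸ hg : g ∈ K).2) with h | h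
  · exact hf1 h
  · exact hfz h

end FivePair

end CfsgLib.J4Type
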