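import Cfsg.Agent.Lib.J4Type.FiveClass
import Cfsg.Agent.Lib.FischerTwoFour.PlaneQuot

/-!
# The group of order 1344: a nonsplit extension of eight by `SL(3, 2)`
-/

set_option autoImplicit false
set_option linter.unusedSectionVars false

namespace CfsgLib.J4Type

open CfsgLib.ThreeTrans.Torsion
open Subgroup (mem_centralizer_singleton_iff)

variable {Q : Type*} [Group Q] [Finite Q] {z t : Q} {D F F' : Subgroup Q}

/-- A simple group of order 168 has no proper subgroup of index at most six. -/
theorem index_eq_one {L : Type*} [Group L] [Finite L] [IsSimpleGroup L] (hL : Nat.card L = 168)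
    (H : Subgroup L) (h : H.index ≤ 6) : H.index = 1 := by
  classical
  rcases (inferInstance : H.normalCore.Normal).eq_bot_or_eq_top with hb | ht
  · exfalso
    have hinj : Function.Injective (MulAction.toPermHom L (L ⧸ H)) := by
      rw [← MonoidHom.ker_eq_bot_iff, ← Subgroup.normalCore_eq_ker, hb]
    have hdvd := Subgroup.card_dvd_of_injective _ hinj
    rw [hL, Nat.card_perm] at hdvd
    change 168 ∣ Nat.factorial H.index at hdvd
    generalize H.index = m at h hdvd
    interval_cases m <;> norm_num [Nat.factorial] at hdvd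
  · rw [Subgroup.index_eq_one]
    exact top_le_iff.1 (ht ▸ H.normalCore_le)

namespace FivePair

variable (P : FivePair z t D F F')
include P

theorem centralizer_E_le : (F ⊔ F') ⊓ Subgroup.centralizer (P.E : Set Q) ≤ P.E := by
  set B := (F ⊔ F') ⊓ Subgroup.centralizer (P.E : Set Q) with hB
  have hEB : P.E ≤ B := fun e he =>
    ⟨P.E_le he, Subgroup.mem_centralizer_iff.2 fun a ha => (P.commE ha he).eq⟩
  have h := LocalEvenSix.card_mul_card_le F B
  have hsup : Nat.card ↥(F ⊔ B) ≤ 32 := by
    rw [← P.card_sup]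
    exact Nat.le_of_dvd Nat.card_pos (Subgroup.card_dvd_of_le (sup_le le_sup_left inf_le_left))
  have hinf : Nat.card ↥(F ⊓ B) ≤ 2 := by
    rw [← SetLike.coe_sort_coe, Nat.card_coe_set_eq]
    refine (Set.ncard_le_ncard (t := {1, z}) fun y hy => ?_).trans
      ((Set.ncard_insert_le _ _).trans (by rw [Set.ncard_singleton]))
    by_contra hne
    rw [Set.mem_insert_iff, Set.mem_singleton_iff, not_or] at hne
    exact P.not_comm_E (Or.inl hy.1) hne.1 hne.2 fun e he => Subgroup.mem_centralizer_iff.1 hy.2.2 e he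
  rw [P.card_F] at h
  exact (Subgroup.eq_of_le_of_card_ge hEB (by
    rw [P.card_E]; nlinarith [Nat.mul_le_mul hsup hinf])).ge

theorem nonsplit_quotient : ∃ _ : P.E.Normal,
    Nonempty (Q ⧸ P.E ≃* Matrix.SpecialLinearGroup (Fin 3) (ZMod 2)) ∧
      ∀ K : Subgroup Q, ¬ P.E.IsComplement' K := by
  classical
  have hn := P.normal_E
  refine ⟨hn, ?_⟩
  set K0 := Subgroup.centralizer (P.E : Set Q) with hK0
  obtain ⟨M, hM⟩ := FischerTwoFour.exists_matrix_hom (V := P.E)
    ⟨⟨⟨fun a b => Subtype.ext (P.commE a.2 b.2).eq⟩⟩, fun a ha => by rw [sq]; exact P.sqE ha⟩ P.card_E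
  have htop : Subgroup.normalizer (P.E : Set Q) = ⊤ := Subgroup.normalizer_eq_top_iff.2 hn
  let ψ : Q →* Matrix.SpecialLinearGroup (Fin 3) (ZMod 2) :=
    M.comp (MonoidHom.codRestrict (MonoidHom.id Q) _ fun q => by rw [htop]; exact Subgroup.mem_top q)
  have hker : ψ.ker = K0 := Subgroup.ext fun q => hM _
  have hEK : P.E ≤ K0 := fun e he => Subgroup.mem_centralizer_iff.2 fun a ha => (P.commE ha he).eq
  have hKC : K0 ≤ Subgroup.centralizer ({z} : Set Q) := fun q hq =>
    mem_centralizer_singleton_iff.2 (Subgroup.mem_centralizer_iff.1 hq z P.zE).symm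
  have hKle : Nat.card K0 ≤ 48 := by
    have h := LocalEvenSix.card_mul_card_le K0 (F ⊔ F')
    have hsup : Nat.card ↥(K0 ⊔ (F ⊔ F')) ≤ 192 := by
      rw [← P.card_C]
      exact Nat.le_of_dvd Nat.card_pos (Subgroup.card_dvd_of_le (sup_le hKC P.sup_le_C))
    have hinf : Nat.card ↥(K0 ⊓ (F ⊔ F')) ≤ 8 := by
      rw [← P.card_E, inf_comm]
      exact Nat.le_of_dvd Nat.card_pos (Subgroup.card_dvd_of_le P.centralizer_E_le)
    rw [P.card_sup] at h
    nlinarith [Nat.mul_le_mul hsup hinf]
  have hmul : 1344 = Nat.card K0 * Nat.card ψ.range := by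
    rw [← P.card_group, ← hker, Subgroup.card_eq_card_quotient_mul_card_subgroup ψ.ker,
      Nat.card_congr (QuotientGroup.quotientKerEquivRange ψ).toEquiv, mul_comm]
  have := FischerTwoFour.sl32_simple
  have h168 : Nat.card (Matrix.SpecialLinearGroup (Fin 3) (ZMod 2)) = 168 := DimThreeMax.card_sl32
  have hidx : ψ.range.index = 1 := by
    refine index_eq_one h168 _ ?_
    have h := ψ.range.card_mul_index
    rw [h168] at h
    have hpos : 0 < Nat.card ψ.range := Nat.card_pos
    by_contra hlt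
    push Not at hlt
    nlinarith [Nat.mul_le_mul_left (Nat.card ψ.range) hlt, Nat.mul_le_mul_right (Nat.card ψ.range) hKle]
  have hsurj : Function.Surjective ψ := MonoidHom.range_eq_top.1 (Subgroup.index_eq_one.1 hidx)
  have hKE : K0 = P.E := by
    have hr : Nat.card ψ.range = 168 := by
      rw [Subgroup.index_eq_one.1 hidx, Subgroup.card_top, h168]
    rw [hr] at hmul
    exact (Subgroup.eq_of_le_of_card_ge hEK (by rw [P.card_E]; omega)).symm
  have iso : Q ⧸ P.E ≃* Matrix.SpecialLinearGroup (Fin 3) (ZMod 2) :=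
    (QuotientGroup.quotientMulEquivOfEq (hKE ▸ hker : ψ.ker = P.E).symm).trans
      (QuotientGroup.quotientKerEquivOfSurjective ψ hsurj)
  refine ⟨⟨iso⟩, fun K hK => ?_⟩
  -- a complement would contain an involution with too large a centraliser
  have hKc : Nat.card K = 168 := by
    have h := hK.card_mul_card
    rw [P.card_E, P.card_group] at h
    omega
  have : Fact (Nat.Prime 2) := ⟨Nat.prime_two⟩
  obtain ⟨S, hS, -⟩ := Sylow.exists_subgroup_card_pow_prime_le 2 (n := 0) (m := 3)
    (show 2 ^ 3 ∣ Nat.card K by rw [hKc]; norm_num) ⊥ (by simp) (by norm_num)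
  have hSp : IsPGroup 2 S := IsPGroup.of_card hS
  have : Nontrivial S := Finite.one_lt_card_iff_nontrivial.1 (by rw [hS]; norm_num)
  obtain ⟨m, hm⟩ := (hSp.to_subgroup (Subgroup.center S)).exists_card_eq
  have hm0 : m ≠ 0 := by
    intro h
    have := hSp.center_nontrivial
    have h1 := Finite.one_lt_card_iff_nontrivial.2 this
    rw [hm, h] at h1
    norm_num at h1
  obtain ⟨c, hc⟩ := exists_prime_orderOf_dvd_card' (G := Subgroup.center S) 2 (by
    rw [hm]; exact dvd_pow_self 2 hm0)
  set v : Q := ((((c : Subgroup.center S) : S) : K) : Q) with hv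
  have hvo : orderOf v = 2 := by
    rw [hv, Subgroup.orderOf_coe, Subgroup.orderOf_coe, Subgroup.orderOf_coe, hc]
  have hvE : v ∉ P.E := fun h => by
    have h1 : v ∈ P.E ⊓ K := ⟨h, ((((c : Subgroup.center S) : S) : K)).2⟩
    rw [disjoint_iff.1 hK.disjoint, Subgroup.mem_bot] at h1
    rw [h1, orderOf_one] at hvo
    norm_num at hvo
  have hvt : IsConj t v := (P.invol v hvo).resolve_left fun h => hvE (P.conj_mem_E h)
  obtain ⟨k, hk⟩ := isConj_iff.1 hvt
  have h16 := (P.cent_le_of_conj_t hk).2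
  set SQ := S.map K.subtype with hSQ
  have hSQc : Nat.card SQ = 8 := by
    rw [hSQ, ← Nat.card_congr (Subgroup.equivMapOfInjective S K.subtype K.subtype_injective).toEquiv, hS]; norm_num
  have hSv : SQ ≤ Subgroup.centralizer ({v} : Set Q) := by
    rintro _ ⟨s, hs, rfl⟩
    refine mem_centralizer_singleton_iff.2 ?_
    exact congrArg (fun y : S => ((y : K) : Q)) (Subgroup.mem_center_iff.1 c.2 ⟨s, hs⟩)
  have hv2 : v * v = 1 := by rw [← sq, ← hvo, pow_orderOf_eq_one]
  have hfix := sq_card_fixed_le (A := P.E) (fun a ha => P.sqE ha) hv2 (fun a ha => hn.conj_mem a ha v)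
  rw [P.card_E] at hfix
  have h := LocalEvenSix.card_mul_card_le (P.E ⊓ Subgroup.centralizer ({v} : Set Q)) SQ
  have hsup : Nat.card ↥((P.E ⊓ Subgroup.centralizer ({v} : Set Q)) ⊔ SQ) ≤ 16 := by
    rw [← h16]
    exact Nat.le_of_dvd Nat.card_pos (Subgroup.card_dvd_of_le (sup_le inf_le_right hSv))
  have hinf : (P.E ⊓ Subgroup.centralizer ({v} : Set Q)) ⊓ SQ = ⊥ := by
    refine le_bot_iff.1 ?_
    rw [← disjoint_iff.1 hK.disjoint]
    exact inf_le_inf inf_le_left (Subgroup.map_subtype_le S)
  rw [hinf, Subgroup.card_bot, hSQc] at h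
  nlinarith

end FivePair

end CfsgLib.J4Type
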