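import Cfsg.Agent.Lib.J4Type.Local
import Cfsg.Agent.Lib.FischerTwoFour.Cocode.Fusion

/-!
The frames at the conjugates of `z` make the normaliser of a subgroup of order `2^11` act through
Mathieu's group on the elements outside the class of `z`: the normaliser modulo the subgroup is `M24`.
-/

set_option autoImplicit false
set_option linter.unusedSectionVars false
set_option linter.style.haveILetI false

namespace CfsgLib.J4Type

open scoped Pointwise
open CfsgLib.FischerTwoFour.Cocode (cs cd cd_lt cs_zero shift MathieuLocal card_orbit_mul perm_eq_of_pairs isConj_conj_iff)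

universe u

variable {G : Type u} [Group G] [Finite G] {z : G} {A : Subgroup G}

/-- The elements of `A` outside the class of `z`, in `G`. -/
def ncG (z : G) (A : Subgroup G) : Set G := {x | x ∈ A ∧ x ≠ 1 ∧ ¬ IsConj z x}

theorem norm_conj_mem {m : G} (hm : m ∈ Subgroup.normalizer (A : Set G)) {x : G} (hx : x ∈ A) :
    m * x * m⁻¹ ∈ A := (Subgroup.mem_normalizer_iff.1 hm x).1 hx

theorem norm_ncG {m : G} (hm : m ∈ Subgroup.normalizer (A : Set G)) {x : G} :
    m * x * m⁻¹ ∈ ncG z A ↔ x ∈ ncG z A := by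
  refine and_congr ((Subgroup.mem_normalizer_iff.1 hm x).symm) (and_congr (not_congr ?_) (not_congr ?_))
  · exact conj_eq_one_iff
  · exact isConj_conj_iff m x

namespace VFrame

theorem eq_or_conj {x : G} (hx : x ∈ A) (hx1 : x ≠ 1) : x ∈ ncG z A ∨ IsConj z x := by
  by_cases h : IsConj z x
  · exact Or.inr h
  · exact Or.inl ⟨hx, hx1, h⟩

/-- The labelling of `Nc` by pairs, with the triangle identity. -/
theorem exists_labelling_add {B : Type*} [AddCommGroup B] [Fintype B] [DecidableEq B]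
    (S : FischerTwoFour.Cocode.Sys B) : ∃ p : Cfsg.GolayPt → Cfsg.GolayPt → B,
    (∀ i, p i i = 0) ∧ (∀ i j, p i j = p j i) ∧ (∀ i j, i ≠ j → p i j ∈ S.Nc) ∧
    (∀ u ∈ S.Nc, ∃ i j, i ≠ j ∧ p i j = u) ∧
    (∀ i j k l, i ≠ j → k ≠ l → p i j = p k l → (k = i ∧ l = j) ∨ (k = j ∧ l = i)) ∧
    (∀ g : B ≃+ B, (∀ u, g u ∈ S.Nc ↔ u ∈ S.Nc) →
      ∃ σ ∈ Cfsg.M24, ∀ i j, g (p i j) = p (σ i) (σ j)) ∧
    (∀ i j k, p i j + p i k = p j k) ∧
    ∀ i j k l, i ≠ j → k ≠ l → k ≠ i → k ≠ j → l ≠ i → l ≠ j → p i j + p k l ∉ S.Nc := by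
  classical
  obtain ⟨e, he⟩ := CfsgLib.Steiner.Witt.iso_octads S.card_Pt S.steiner
  refine ⟨fun i j => S.meet (e.symm i) (e.symm j), fun i => S.meet_self _, fun i j => S.meet_comm _ _,
    fun i j h => S.meet_Nc fun h' => h (e.symm.injective h'), ?_, ?_, ?_, fun i j k => S.meet_add _ _ _,
    fun i j k l h h' h1 h2 h3 h4 => S.meet_meet_not_mem (e.symm.injective.ne h) (e.symm.injective.ne h')
      (e.symm.injective.ne h1) (e.symm.injective.ne h2) (e.symm.injective.ne h3) (e.symm.injective.ne h4)⟩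
  · intro u hu
    obtain ⟨K, L, h, rfl⟩ := S.exists_pair hu
    exact ⟨e K, e L, fun h' => h (e.injective h'), by simp⟩
  · intro i j k l h h' hp
    exact (S.pair_unique (fun x => h (e.symm.injective x)) (fun x => h' (e.symm.injective x)) hp).imp
      (fun x => ⟨e.symm.injective x.1, e.symm.injective x.2⟩)
      (fun x => ⟨e.symm.injective x.1, e.symm.injective x.2⟩)
  intro g hg
  set π := S.permPt g hg with hπ
  refine ⟨e.symm.trans (π.trans e), ?_, fun i j => ?_⟩
  · rw [CfsgLib.Golay.M24_eq_setSystemAut_octads]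
    refine (MulAction.mem_stabilizer_set' CfsgLib.Golay.octads_finite).2 fun o ho => ?_
    rw [← he] at ho ⊢
    obtain ⟨y, ⟨hy8, hyq⟩, rfl⟩ := ho
    refine ⟨y.image π, ⟨by rw [Finset.card_image_of_injective _ π.injective, hy8], ?_⟩, ?_⟩
    · rw [S.qsum_perm g hg (by rw [hy8]; exact ⟨4, rfl⟩), hyq, map_zero]
    · rw [Finset.smul_finset_def]
      simp only [Finset.image_image]
      refine Finset.image_congr fun x _ => ?_
      simp [Equiv.Perm.smul_def]
  · simp only [Equiv.trans_apply, Equiv.symm_apply_apply]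
    exact (S.meet_perm g hg _ _).symm

variable (h : VFrame z A)

include h

/-- The labelling of the elements outside the class of `z` by pairs of points. -/
theorem exists_pairs : ∃ p : Cfsg.GolayPt → Cfsg.GolayPt → G,
    (∀ i, p i i = 1) ∧ (∀ i j, p i j = p j i) ∧ (∀ i j, i ≠ j → p i j ∈ ncG z A) ∧
    (∀ u ∈ ncG z A, ∃ i j, i ≠ j ∧ p i j = u) ∧
    (∀ i j k l, i ≠ j → k ≠ l → p i j = p k l → (k = i ∧ l = j) ∨ (k = j ∧ l = i)) ∧
    (∀ m ∈ Subgroup.normalizer (A : Set G), ∃ σ ∈ Cfsg.M24, ∀ i j, m * p i j * m⁻¹ = p (σ i) (σ j)) ∧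
    (∀ m ∈ Subgroup.normalizer (A : Set G), (∀ u ∈ ncG z A, m * u * m⁻¹ = u) → m ∈ A) ∧
    (ncG z A).ncard = 276 ∧
    (∀ u ∈ ncG z A, ∃ z' ∈ A, IsConj z z' ∧ z' * u ∈ ncG z A) ∧
    (∀ i j k, p i j * p i k = p j k) ∧
    ∀ i j k l, i ≠ j → k ≠ l → k ≠ i → k ≠ j → l ≠ i → l ≠ j → p i j * p k l ∉ ncG z A := by
  classical
  haveI := Fintype.ofFinite G
  letI : CommGroup A :=
    { (inferInstance : Group A) with mul_comm := fun a c => Subtype.ext (h.comm _ a.2 _ c.2) }
  let inc : Additive A → G := fun a => ((Additive.toMul a : A) : G)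
  have inc_add : ∀ a c, inc (a + c) = inc a * inc c := fun a c => rfl
  have inc_inj : Function.Injective inc := fun a c e => Additive.toMul.injective (Subtype.ext e)
  have inc_one : ∀ a, inc a = 1 ↔ a = 0 := fun a =>
    ⟨fun e => inc_inj (e.trans rfl), fun e => by rw [e]; rfl⟩
  let mk : ∀ x, x ∈ A → Additive A := fun x hx => Additive.ofMul ⟨x, hx⟩
  have hmem : ∀ a, a ∈ ncSet z A ↔ inc a ∈ ncG z A := fun a =>
    ⟨fun ha => ⟨(Additive.toMul a).2, fun e => ha.1 (Subtype.ext e), ha.2⟩,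
      fun ha => ⟨fun e => ha.2.1 (congrArg Subtype.val e), ha.2.2⟩⟩
  have hgm : ∀ m, m ∈ Subgroup.normalizer (A : Set G) → ∃ g : Additive A ≃+ Additive A,
      ∀ a, inc (g a) = m * inc a * m⁻¹ := by
    intro m hm
    refine ⟨
      { toFun := fun a => mk _ (norm_conj_mem hm (Additive.toMul a).2)
        invFun := fun a => mk _ (norm_conj_mem (inv_mem hm) (Additive.toMul a).2)
        left_inv := fun a => inc_inj (by show m⁻¹ * (m * inc a * m⁻¹) * m⁻¹⁻¹ = inc a; group)
        right_inv := fun a => inc_inj (by show m * (m⁻¹ * inc a * m⁻¹⁻¹) * m⁻¹ = inc a; group)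
        map_add' := fun a c => inc_inj (by
          show m * (inc a * inc c) * m⁻¹ = m * inc a * m⁻¹ * (m * inc c * m⁻¹); group) }, fun a => rfl⟩
  obtain ⟨φ₀, W₀, hxor, hinj, h64, hW0, hsep, hnc⟩ := h.frame
  let F₀ : FischerTwoFour.Cocode.Frame (ncSet z A) (mk z h.mem) :=
    { φ := φ₀
      φ_xor := hxor
      φ_inj := hinj
      φ_z := inc_inj h64
      W := W₀
      W_zero := hW0
      W_sep := hsep
      nc_iff := hnc }
  have hfr : ∀ m, m ∈ Subgroup.normalizer (A : Set G) → ∀ z' : Additive A, m * z * m⁻¹ = inc z' →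
      Nonempty (FischerTwoFour.Cocode.Frame (ncSet z A) z') := by
    intro m hm z' hz'
    obtain ⟨g, hg⟩ := hgm m hm
    have hgnc : ∀ a, g a ∈ ncSet z A ↔ a ∈ ncSet z A := fun a => by
      rw [hmem, hmem, hg]; exact norm_ncG hm
    exact ⟨
      { φ := fun c => g (F₀.φ c)
        φ_xor := fun a c ha hc => by rw [F₀.φ_xor a c ha hc, map_add]
        φ_inj := fun a c ha hc e => F₀.φ_inj a c ha hc (g.injective e)
        φ_z := inc_inj (by rw [hg, F₀.φ_z]; exact hz')
        W := fun k => g (F₀.W k)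
        W_zero := by rw [F₀.W_zero, map_zero]
        W_sep := fun k l a hk hl ha e => F₀.W_sep k l a hk hl ha (g.injective (by rw [map_add]; exact e))
        nc_iff := fun x => by
          obtain ⟨y, rfl⟩ := g.surjective x
          rw [hgnc, F₀.nc_iff]
          refine exists_congr fun n => and_congr_right fun _ => ?_
          rw [← map_add]
          exact g.injective.eq_iff.symm }⟩
  let zA : Additive A := mk z h.mem
  have hzNc : zA ∉ ncSet z A := fun e => e.2 (IsConj.refl z)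
  let S : FischerTwoFour.Cocode.Sys (Additive A) :=
    { Nc := ncSet z A
      two := fun a => inc_inj (by rw [inc_add]; exact h.sq _ (Additive.toMul a).2)
      card := (Nat.card_congr Additive.toMul).trans h.card
      nonempty := ⟨zA, fun e => h.ne_one ((inc_one zA).2 e), hzNc⟩
      frame := fun a ha ha' => by
        have h1 : inc a ≠ 1 := fun e => ha ((inc_one a).1 e)
        obtain ⟨m, hm, hmz⟩ := h.conj_z _ (Additive.toMul a).2
          ((eq_or_conj (Additive.toMul a).2 h1).resolve_left fun e => ha' ((hmem a).2 e))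
        exact hfr m hm a hmz }
  obtain ⟨p, hdiag, hsym, hNc, hsurj, huniq, hequiv, hadd, hdisj⟩ := exists_labelling_add S
  refine ⟨fun i j => inc (p i j), fun i => (inc_one _).2 (hdiag i), fun i j => congrArg inc (hsym i j),
    fun i j e => (hmem _).1 (hNc i j e), fun u hu => ?_,
    fun i j k l h₁ h₂ e => huniq i j k l h₁ h₂ (inc_inj e), fun m hm => ?_, fun m hm e => ?_, ?_,
    fun u hu => ?_, fun i j k => (inc_add _ _).symm.trans (congrArg inc (hadd i j k)),
    fun i j k l h₁ h₂ h₃ h₄ h₅ h₆ e => hdisj i j k l h₁ h₂ h₃ h₄ h₅ h₆ ((hmem _).2 (by rwa [inc_add]))⟩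
  · obtain ⟨i, j, hij, e⟩ := hsurj (mk u hu.1) ((hmem _).2 hu)
    exact ⟨i, j, hij, congrArg inc e⟩
  · obtain ⟨g, hg⟩ := hgm m hm
    obtain ⟨σ, hσ, hσp⟩ := hequiv g fun u => by
      show g u ∈ ncSet z A ↔ u ∈ ncSet z A
      rw [hmem, hmem, hg]; exact norm_ncG hm
    exact ⟨σ, hσ, fun i j => by rw [← hg, hσp]⟩
  · refine h.self_cent (Subgroup.mem_centralizer_iff.2 fun a ha => ?_)
    obtain ⟨g, hg⟩ := hgm m hm
    have eg : g.toAddMonoidHom = AddMonoidHom.id _ := S.hom_ext fun u hu => inc_inj (by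
      show inc (g u) = inc u
      rw [hg]; exact e _ ((hmem u).1 hu))
    refine (mul_inv_eq_iff_eq_mul.1 ?_).symm
    exact ((hg (mk a ha)).symm.trans (congrArg inc (DFunLike.congr_fun eg (mk a ha))))
  · have hbij : Set.BijOn inc (ncSet z A) (ncG z A) :=
      ⟨fun a ha => (hmem a).1 ha, inc_inj.injOn,
        fun u hu => ⟨mk u hu.1, (hmem _).2 hu, rfl⟩⟩
    rw [← hbij.image_eq, Set.ncard_image_of_injective _ inc_inj]
    exact S.ncard_Nc
  · obtain ⟨a, F, n, hn, e⟩ := S.exists_tet_frame (u := mk u hu.1) ((hmem _).2 hu)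
    have ha0 : a ≠ 0 := fun h0 => by
      have h' := F.φ_inj 64 0 (by norm_num) (by norm_num) (by rw [F.φ_z, F.φ_zero S.two, h0])
      omega
    obtain ⟨k, hk, hke, -⟩ := F.tet_shift S.two hn
    have hzu : a + F.val n ∈ ncSet z A := hke ▸ F.val_mem (by omega)
    have haN : a ∉ ncSet z A := fun haN => by
      obtain ⟨l, hl, hle⟩ := F.exists_label haN
      have h' : F.W (cs l) + F.φ (cd l) = F.W 0 + F.φ 64 := by
        rw [F.W_zero, zero_add, F.φ_z]; exact hle
      obtain ⟨h1, h2⟩ := F.sep_iff S.two (cd_lt hl).2.1 (by norm_num) (cd_lt hl).1 (by norm_num) h'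
      have h36 := cs_zero.1 h1
      have hs := List.all_eq_true.1 shift.1 l (List.mem_range.2 h36)
      rw [h2, Nat.beq_refl, Bool.not_true, Bool.and_false] at hs
      exact Bool.noConfusion hs
    refine ⟨inc a, (Additive.toMul a).2,
      (eq_or_conj (Additive.toMul a).2 fun e' => ha0 ((inc_one a).1 e')).resolve_left
        fun e' => haN ((hmem a).2 e'), ?_⟩
    rw [e] at hzu
    exact (hmem _).1 hzu

/-- `276` elements of `A` lie outside the class of `z`. -/
theorem ncard_ncG : (ncG z A).ncard = 276 := by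
  obtain ⟨p, -, -, -, -, -, -, -, h276, -⟩ := h.exists_pairs
  exact h276

/-- The conjugates of `z` in `A` are `1771` in number and form one orbit. -/
theorem ncard_orbit_z :
    {y : G | ∃ m ∈ Subgroup.normalizer (A : Set G), m * z * m⁻¹ = y}.ncard = 1771 := by
  classical
  haveI := Fintype.ofFinite G
  have e : {y : G | ∃ m ∈ Subgroup.normalizer (A : Set G), m * z * m⁻¹ = y} =
      {a | a ∈ A ∧ a ≠ 1} \ ncG z A := by
    ext y
    constructor
    · rintro ⟨m, hm, rfl⟩
      exact ⟨⟨norm_conj_mem hm h.mem, fun e => h.ne_one (conj_eq_one_iff.1 e)⟩,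
        fun hn => hn.2.2 (isConj_iff.2 ⟨m, rfl⟩)⟩
    · rintro ⟨⟨hy, hy1⟩, hyn⟩
      exact h.conj_z y hy ((eq_or_conj hy hy1).resolve_left hyn)
  have h1 : {a : G | a ∈ A ∧ a ≠ 1} = (A : Set G) \ {1} := by ext a; simp
  rw [e, Set.ncard_sdiff (show ncG z A ⊆ {a | a ∈ A ∧ a ≠ 1} from fun a ha => ⟨ha.1, ha.2.1⟩)
    (Set.toFinite _), h.ncard_ncG, h1,
    Set.ncard_sdiff_singleton_of_mem (one_mem A), ← Nat.card_coe_set_eq]
  show Nat.card A - 1 - 276 = 1771
  rw [h.card]

theorem card_normalizer :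
    Nat.card ↥(Subgroup.normalizer (A : Set G)) = 2048 * 244823040 := by
  have h1 := card_orbit_mul (Subgroup.normalizer (A : Set G)) z
  rw [h.ncard_orbit_z] at h1
  have h2 : Nat.card ↥(Subgroup.normalizer (A : Set G) ⊓ Subgroup.centralizer ({z} : Set G)) =
      2048 * 138240 := h.card_stab
  rw [h2] at h1
  rw [← h1]

/-- The elements outside the class of `z` form one orbit. -/
theorem trans_ncG {u v : G} (hu : u ∈ ncG z A) (hv : v ∈ ncG z A) :
    ∃ m ∈ Subgroup.normalizer (A : Set G), m * u * m⁻¹ = v := by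
  obtain ⟨p, -, -, -, -, -, -, -, -, htet, -⟩ := h.exists_pairs
  have back : ∀ u ∈ ncG z A, ∃ m ∈ Subgroup.normalizer (A : Set G),
      ∃ w, w ∈ ncG z A ∧ z * w ∈ ncG z A ∧ m * w * m⁻¹ = u := by
    intro u hu
    obtain ⟨z', hz'A, hz'c, hz'u⟩ := htet u hu
    obtain ⟨m, hm, rfl⟩ := h.conj_z z' hz'A hz'c
    refine ⟨m, hm, m⁻¹ * u * m, ?_, ?_, by group⟩
    · rw [← norm_ncG hm, show m * (m⁻¹ * u * m) * m⁻¹ = u by group]; exact hu
    · rw [← norm_ncG hm, show m * (z * (m⁻¹ * u * m)) * m⁻¹ = m * z * m⁻¹ * u by group]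
      exact hz'u
  obtain ⟨m, hm, w, hw, hwz, rfl⟩ := back u hu
  obtain ⟨m', hm', w', hw', hwz', rfl⟩ := back v hv
  obtain ⟨k, hk, rfl⟩ := h.trans36 w hw.1 w' hw'.1 hw.2.1 hw'.2.1 hw.2.2 hw'.2.2 hwz.2.2 hwz'.2.2
  exact ⟨m' * k * m⁻¹, mul_mem (mul_mem hm' hk.1) (inv_mem hm), by group⟩

theorem mathieuLocal : MathieuLocal z A := by
  classical
  haveI := Fintype.ofFinite G
  obtain ⟨p, hdiag, hsym, hNc, hsurj, huniq, hequiv, hker, h276, -⟩ := h.exists_pairs
  set N := Subgroup.normalizer (A : Set G) with hN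
  have heq : ∀ {σ τ : Equiv.Perm Cfsg.GolayPt}, (∀ i j, p (σ i) (σ j) = p (τ i) (τ j)) → τ = σ :=
    fun {σ τ} e => perm_eq_of_pairs fun i j hij =>
      huniq _ _ _ _ (fun e' => hij (σ.injective e')) (fun e' => hij (τ.injective e')) (e i j)
  choose σ hσM hσ using fun m : N => hequiv m m.2
  let φ : N →* Cfsg.M24 := MonoidHom.mk' (fun m => ⟨σ m, hσM m⟩) fun a b => Subtype.ext (by
    refine heq fun i j => ?_
    show p (σ a (σ b i)) (σ a (σ b j)) = p (σ (a * b) i) (σ (a * b) j)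
    rw [← hσ a, ← hσ b, ← hσ (a * b), Subgroup.coe_mul]; group)
  have hAN : A ≤ N := Subgroup.le_normalizer
  have hfix : ∀ m : N, φ m = 1 ↔ (m : G) ∈ A := by
    intro m
    constructor
    · intro e
      have e' : σ m = 1 := congrArg Subtype.val e
      refine hker m m.2 fun u hu => ?_
      obtain ⟨i, j, -, rfl⟩ := hsurj u hu
      rw [hσ m, e']; rfl
    · intro e
      refine Subtype.ext (heq (σ := 1) fun i j => ?_)
      show p i j = p (σ m i) (σ m j)
      rw [← hσ m]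
      by_cases hij : i = j
      · subst hij
        rw [hdiag i, mul_one, mul_inv_cancel]
      · rw [h.comm _ e _ (hNc i j hij).1, mul_inv_cancel_right]
  have hkerA : φ.ker = A.subgroupOf N := by
    ext m
    rw [MonoidHom.mem_ker, hfix, Subgroup.mem_subgroupOf]
  have hcardN : Nat.card N = 2048 * Nat.card φ.range := by
    rw [Subgroup.card_eq_card_quotient_mul_card_subgroup φ.ker,
      Nat.card_congr (QuotientGroup.quotientKerEquivRange φ).toEquiv, hkerA,
      Nat.card_congr (Subgroup.subgroupOfEquivOfLe hAN).toEquiv, h.card, mul_comm]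
  have hrange : φ.range = ⊤ := by
    refine Subgroup.eq_top_of_card_eq _ ?_
    rw [h.card_normalizer] at hcardN
    rw [CfsgLib.Golay.natCard_M24]
    omega
  obtain ⟨u₀, hu₀⟩ : (ncG z A).Nonempty :=
    Set.nonempty_of_ncard_ne_zero (by rw [h276]; norm_num)
  refine ⟨h.comm, h.sq, h.card, ⟨z, h.mem, h.ne_one, IsConj.refl z⟩,
    ⟨u₀, hu₀.1, hu₀.2.1, hu₀.2.2⟩, fun a ha b hb ha1 hb1 hab => ?_,
    φ, MonoidHom.range_eq_top.1 hrange, hkerA, fun t ht ht1 htc => ?_⟩
  · by_cases hc : IsConj z a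
    · obtain ⟨m, hm, rfl⟩ := h.conj_z a ha hc
      obtain ⟨m', hm', rfl⟩ := h.conj_z b hb (hab.1 hc)
      exact ⟨m' * m⁻¹, mul_mem hm' (inv_mem hm), by group⟩
    · exact h.trans_ncG ⟨ha, ha1, hc⟩ ⟨hb, hb1, fun e => hc (hab.2 e)⟩
  · obtain ⟨i, j, hij, rfl⟩ := hsurj t ⟨ht, ht1, htc⟩
    refine ⟨i, j, hij, fun x => ?_⟩
    rw [hσ x]
    show _ ↔ (σ x i = i ∧ σ x j = j) ∨ (σ x i = j ∧ σ x j = i)
    constructor
    · intro e
      exact huniq i j _ _ hij (fun e' => hij ((σ x).injective e')) e.symm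
    · rintro (⟨h1, h2⟩ | ⟨h1, h2⟩) <;> rw [h1, h2]
      exact hsym j i

end VFrame

end CfsgLib.J4Type
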