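import Cfsg.Agent.Lib.J4Type.StabWords
import Mathlib.GroupTheory.Index
import Mathlib.Data.Set.Card

/-!
The stabiliser of `W` in the model for Janko-four type: the pointwise stabiliser is the subgroup of order
`16`, the setwise stabiliser has order `34560` and index `77`, every singular vector is conjugate
into `W`, and the commutator maps of the involutions fixing `W`.
-/

set_option autoImplicit false
set_option linter.unusedSectionVars false

namespace CfsgLib.J4Type

open CfsgLib.FischerTwoFour (QRep)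

variable {H V : Type*} [Group H] [AddCommGroup V] {R : QRep H V} (M : Model R)

/-- The generators, numbered `a, c, g, u, r₀, …, r₃`. -/
def Model.gen : ℕ → H
  | 0 => M.gens.a
  | 1 => M.gens.c
  | 2 => M.gens.g
  | 3 => M.gens.u
  | j + 4 => M.gens.r ⟨j % 4, Nat.mod_lt _ (by norm_num)⟩

/-- The value of a word. -/
def Model.val (w : List ℕ) : H := (w.map M.gen).prod

/-- The subgroup generated by `a, c, u` and the four commuting generators. -/
def Model.stabGen : Subgroup H :=
  Subgroup.closure ({M.gens.a, M.gens.c, M.gens.u} ∪ Set.range M.gens.r)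

theorem Model.code_gen (j : ℕ) (v : V) : M.code (R.ρ (M.gen j) v) = app (genCols j) (M.code v) :=
  match j with
  | 0 => M.act_a v
  | 1 => M.act_c v
  | 2 => M.act_g v
  | 3 => M.act_u v
  | j + 4 => M.act_r ⟨j % 4, Nat.mod_lt _ (by norm_num)⟩ v

theorem Model.val_nil : M.val [] = 1 := rfl

theorem Model.val_cons (j : ℕ) (w : List ℕ) : M.val (j :: w) = M.gen j * M.val w := by
  simp [Model.val]

theorem Model.val_append (w w' : List ℕ) : M.val (w ++ w') = M.val w * M.val w' := by
  simp [Model.val]

theorem Model.code_val (w : List ℕ) (v : V) : M.code (R.ρ (M.val w) v) = appW w (M.code v) := by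
  induction w with
  | nil => rw [M.val_nil, R.one_apply]; rfl
  | cons j w ih => rw [M.val_cons, R.mul_apply, M.code_gen, ih]; rfl

theorem Model.code_zero : M.code 0 = 0 := by
  have h : M.code ((0 : V) + 0) = Nat.xor (M.code 0) (M.code 0) := M.code_add 0 0
  rw [add_zero] at h
  exact h.trans (Nat.xor_self _)

theorem Model.eq_of_code {h h' : H} (he : ∀ v, M.code (R.ρ h v) = M.code (R.ρ h' v)) : h = h' := by
  have h1 : h'⁻¹ * h = 1 := R.faithful _ fun v => by
    rw [R.mul_apply, M.code_inj _ _ (he v), R.inv_apply]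
  exact (inv_mul_eq_one.1 h1).symm

theorem Model.val_eq {w w' : List ℕ}
    (h : ∀ k, k < 12 → appW w (2 ^ k) = appW w' (2 ^ k)) : M.val w = M.val w' := by
  refine M.eq_of_code fun v => ?_
  rw [M.code_val, M.code_val]
  exact appW_eq_of_basis h _ (by simpa using M.code_lt v)

include M in
theorem Model.finite : Finite H :=
  Nat.finite_of_card_ne_zero (by rw [M.gens.card]; norm_num)

/-! ### The subgroup of order sixteen -/

theorem Model.rWord_val_mul {m n : ℕ} (hm : m < 16) (hn : n < 16) :
    M.val (rWord m) * M.val (rWord n) = M.val (rWord (Nat.xor m n)) := by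
  rw [← M.val_append]
  exact M.val_eq (rWord_mul m hm n hn)

theorem Model.val_rWord_zero : M.val (rWord 0) = 1 := by
  rw [show rWord 0 = [] from by decide, M.val_nil]

theorem Model.mem_rSub {h : H} : h ∈ M.rSub ↔ ∃ m, m < 16 ∧ M.val (rWord m) = h := by
  constructor
  · intro hh
    induction hh using Subgroup.closure_induction with
    | mem x hx =>
      obtain ⟨i, rfl⟩ := hx
      refine ⟨2 ^ i.val, ?_, ?_⟩
      · exact Nat.pow_lt_pow_right (by norm_num) i.isLt
      · have hw : ∀ i : Fin 4, rWord (2 ^ i.val) = [i.val + 4] := by decide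
        rw [hw, M.val_cons, M.val_nil, mul_one]
        exact congrArg M.gens.r (Fin.ext (Nat.mod_eq_of_lt i.isLt))
    | one => exact ⟨0, by norm_num, M.val_rWord_zero⟩
    | mul x y _ _ hx hy =>
      obtain ⟨m, hm, rfl⟩ := hx
      obtain ⟨n, hn, rfl⟩ := hy
      exact ⟨Nat.xor m n, Nat.xor_lt_two_pow (n := 4) hm hn, (M.rWord_val_mul hm hn).symm⟩
    | inv x _ hx =>
      obtain ⟨m, hm, rfl⟩ := hx
      refine ⟨m, hm, eq_inv_of_mul_eq_one_left ?_⟩
      rw [M.rWord_val_mul hm hm, show Nat.xor m m = 0 from Nat.xor_self m, M.val_rWord_zero]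
  · rintro ⟨m, -, rfl⟩
    refine Subgroup.list_prod_mem _ fun x hx => ?_
    obtain ⟨j, hj, rfl⟩ := List.mem_map.1 hx
    obtain ⟨i, -, rfl⟩ := List.mem_map.1 hj
    exact Subgroup.subset_closure ⟨_, rfl⟩

theorem Model.val_rWord_eq_one {m : ℕ} (hm : m < 16) (h : M.val (rWord m) = 1) : m = 0 := by
  by_contra hm0
  obtain ⟨k, hk, hne⟩ := rWord_ne m hm hm0
  obtain ⟨v, hv⟩ := M.code_surj (2 ^ k) (by
    calc 2 ^ k ≤ 2 ^ 11 := Nat.pow_le_pow_right (by norm_num) (by omega)
      _ < 4096 := by norm_num)
  have := M.code_val (rWord m) v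
  rw [h, R.one_apply, hv] at this
  exact hne this.symm

theorem Model.card_rSub : Nat.card M.rSub = 16 := by
  have hmem : ∀ m : Fin 16, M.val (rWord m.val) ∈ M.rSub := fun m => M.mem_rSub.2 ⟨m, m.isLt, rfl⟩
  have hb : Function.Bijective (fun m : Fin 16 => (⟨_, hmem m⟩ : M.rSub)) := by
    refine ⟨fun m n h => ?_, fun x => ?_⟩
    · have h' : M.val (rWord m.val) = M.val (rWord n.val) := congrArg Subtype.val h
      have h1 := M.rWord_val_mul n.isLt n.isLt
      rw [show Nat.xor n.val n.val = 0 from Nat.xor_self _, M.val_rWord_zero] at h1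
      have h2 := M.rWord_val_mul m.isLt n.isLt
      rw [h', h1] at h2
      have h3 := M.val_rWord_eq_one (Nat.xor_lt_two_pow (n := 4) m.isLt n.isLt) h2.symm
      exact Fin.ext (Nat.xor_eq_zero_iff.1 h3)
    · obtain ⟨m, hm, h⟩ := M.mem_rSub.1 x.2
      exact ⟨⟨m, hm⟩, Subtype.ext h⟩
  rw [← Nat.card_eq_of_bijective _ hb, Nat.card_fin]

theorem Model.fix_rSub (v : V) : (∀ h ∈ M.rSub, R.ρ h v = v) ↔ M.code v < 64 := by
  constructor
  · intro h
    have h1 : ∀ i : Fin 4, app (genCols (i.val + 4)) (M.code v) = M.code v := fun i => by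
      rw [← M.code_gen, show M.gen (i.val + 4) = M.gens.r i from
        congrArg M.gens.r (Fin.ext (Nat.mod_eq_of_lt i.isLt)), h _ (Subgroup.subset_closure ⟨i, rfl⟩)]
    exact fix_only_W _ (M.code_lt v) ⟨h1 0, h1 1, h1 2, h1 3⟩
  · intro hv h hh
    induction hh using Subgroup.closure_induction with
    | mem x hx =>
      obtain ⟨i, rfl⟩ := hx
      apply M.code_inj
      rw [M.act_r]
      have := appW_eq_of_basis (w := [i.val + 4]) (w' := []) (fun k hk => fixW_gens i.val i.isLt k hk)
        (M.code v) (show M.code v < 2 ^ 6 by simpa using hv)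
      simp only [appW, genCols, Nat.mod_eq_of_lt i.isLt] at this
      exact this
    | one => exact R.one_apply v
    | mul x y _ _ hx hy => rw [R.mul_apply, hy, hx]
    | inv x _ hx => exact R.inj x (by rw [← R.mul_apply, mul_inv_cancel, R.one_apply, hx])

theorem Model.fixesW_of_mem {h : H} (hh : h ∈ M.rSub) : M.FixesW h :=
  fun v hv => (M.fix_rSub v).2 hv h hh

/-! ### The setwise stabiliser -/

/-- The elements mapping `W` into itself. -/
def Model.stabW : Subgroup H where
  carrier := {h | ∀ v, M.code v < 64 → M.code (R.ρ h v) < 64}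
  one_mem' := fun v hv => by rwa [R.one_apply]
  mul_mem' := fun {x y} hx hy v hv => by rw [R.mul_apply]; exact hx _ (hy v hv)
  inv_mem' := fun {x} hx => by
    have := M.finite
    obtain ⟨n, hn⟩ : x⁻¹ ∈ Submonoid.powers x :=
      mem_powers_iff_mem_zpowers.2 (Subgroup.inv_mem _ (Subgroup.mem_zpowers x))
    have hp : ∀ k v, M.code v < 64 → M.code (R.ρ (x ^ k) v) < 64 := by
      intro k
      induction k with
      | zero => intro v hv; rwa [pow_zero, R.one_apply]
      | succ k ih => intro v hv; rw [pow_succ, R.mul_apply]; exact ih _ (hx v hv)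
    intro v hv
    have := hp n v hv
    rwa [show x ^ n = x⁻¹ from hn] at this

theorem Model.mem_stabW {h : H} : h ∈ M.stabW ↔ M.PresW h := by
  refine ⟨fun hh v => ⟨hh v, fun hv => ?_⟩, fun hh v => (hh v).1⟩
  have := M.stabW.inv_mem hh _ hv
  rwa [R.inv_apply] at this

theorem Model.orbBits_eq {w w' : List ℕ} {s s' : H} (hs : s ∈ M.stabW) (hs' : s' ∈ M.stabW)
    (h : M.val w * s = M.val w' * s') : orbBits w = orbBits w' := by
  suffices key : ∀ {w w' : List ℕ} {s s' : H}, s ∈ M.stabW → s' ∈ M.stabW →
      M.val w * s = M.val w' * s' → ∀ n, (orbBits w).testBit n = true → (orbBits w').testBit n = true from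
    Nat.eq_of_testBit_eq fun n => Bool.eq_iff_iff.2 ⟨key hs hs' h n, key hs' hs h.symm n⟩
  intro w w' s s' hs hs' h n hn
  obtain ⟨m, hm, hmn⟩ := (testBit_orbBits w n).1 hn
  obtain ⟨v, hv⟩ := M.code_surj m (by omega)
  refine (testBit_orbBits w' n).2 ⟨M.code (R.ρ s' (R.ρ s⁻¹ v)),
    hs' _ (M.stabW.inv_mem hs _ (by omega)), ?_⟩
  rw [← M.code_val, ← R.mul_apply, ← h, ← R.mul_apply, mul_assoc, mul_inv_cancel, mul_one, M.code_val,
    hv, hmn]

theorem Model.card_stabW_le : 77 * Nat.card M.stabW ≤ 2661120 := by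
  have := M.finite
  let f : Fin 77 × M.stabW → H := fun p => M.val (orbWords.getD p.1.val []) * p.2
  have hf : Function.Injective f := by
    rintro ⟨i, s⟩ ⟨j, t⟩ h
    have h' : M.val (orbWords.getD i.val []) * s = M.val (orbWords.getD j.val []) * t := h
    have hb := M.orbBits_eq s.2 t.2 h'
    have hl : ∀ k : Fin 77, k.val < orbWords.length := fun k => by rw [orb_length]; exact k.isLt
    rw [List.getD_eq_getElem _ _ (hl i), List.getD_eq_getElem _ _ (hl j)] at hb
    have hij : i.val = j.val :=
      (orb_bits_nodup.getElem_inj_iff (hi := by rw [List.length_map]; exact hl i)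
        (hj := by rw [List.length_map]; exact hl j)).1
        (by rw [List.getElem_map, List.getElem_map]; exact hb)
    obtain rfl : i = j := Fin.ext hij
    simpa using mul_left_cancel h'
  have := Nat.card_le_card_of_injective f hf
  rwa [Nat.card_prod, Nat.card_fin, M.gens.card] at this

theorem Model.gen_mem_stabW {j : ℕ} (hj : j ∈ [0, 1, 3, 4, 5, 6, 7]) : M.gen j ∈ M.stabW := by
  intro v hv
  rw [M.code_gen]
  have := appW_lt_of_basis (w := [j]) (fun k hk => presW_gens j hj k hk) (M.code v)
    (show M.code v < 2 ^ 6 by simpa using hv)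
  simpa [appW] using this

theorem Model.stabGen_le : M.stabGen ≤ M.stabW := by
  rw [Model.stabGen, Subgroup.closure_le]
  rintro x ((rfl | rfl | rfl) | ⟨i, rfl⟩)
  · exact M.gen_mem_stabW (j := 0) (by simp)
  · exact M.gen_mem_stabW (j := 1) (by simp)
  · exact M.gen_mem_stabW (j := 3) (by simp)
  · have h := M.gen_mem_stabW (j := i.val + 4) (by fin_cases i <;> simp)
    rwa [show M.gen (i.val + 4) = M.gens.r i from
      congrArg M.gens.r (Fin.ext (Nat.mod_eq_of_lt i.isLt))] at h

theorem Model.rSub_le_stabGen : M.rSub ≤ M.stabGen :=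
  Subgroup.closure_mono Set.subset_union_right

theorem Model.val_mem_stabGen {w : List ℕ} (hw : ∀ j ∈ w, j = 0 ∨ j = 1 ∨ j = 3) :
    M.val w ∈ M.stabGen := by
  refine Subgroup.list_prod_mem _ fun x hx => ?_
  obtain ⟨j, hj, rfl⟩ := List.mem_map.1 hx
  rcases hw j hj with rfl | rfl | rfl <;>
    exact Subgroup.subset_closure (Or.inl (by simp [Model.gen]))

/-- The permutation action on `W`. -/
def Model.permW : M.stabGen →* Equiv.Perm {v : V // M.code v < 64} where
  toFun h :=
    { toFun := fun v => ⟨R.ρ h.1 v.1, M.stabGen_le h.2 v.1 v.2⟩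
      invFun := fun v => ⟨R.ρ h.1⁻¹ v.1, M.stabGen_le (M.stabGen.inv_mem h.2) v.1 v.2⟩
      left_inv := fun v => Subtype.ext (R.inv_apply _ _)
      right_inv := fun v => Subtype.ext (by
        show R.ρ h.1 (R.ρ h.1⁻¹ v.1) = v.1
        rw [← R.mul_apply, mul_inv_cancel, R.one_apply]) }
  map_one' := Equiv.ext fun v => Subtype.ext (R.one_apply _)
  map_mul' x y := Equiv.ext fun v => Subtype.ext (R.mul_apply _ _ _)

theorem Model.permW_apply (h : M.stabGen) (v : {v : V // M.code v < 64}) :
    (M.permW h v).1 = R.ρ h.1 v.1 := rfl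

theorem Model.card_range_ge : 2160 ≤ Nat.card M.permW.range := by
  have : Finite V := Nat.finite_of_card_ne_zero (by rw [R.card_V]; norm_num)
  obtain ⟨hl1, hl2, hn1, hfix, hn2, hgen⟩ := mov_fix
  have hm : ∀ i : Fin 45, i.val < movWords.length := fun i => by rw [hl1]; exact i.isLt
  have hf : ∀ i : Fin 48, i.val < fixWords.length := fun i => by rw [hl2]; exact i.isLt
  let um : Fin 45 → M.stabGen := fun i => ⟨M.val (movWords[i.val]'(hm i)),
    M.val_mem_stabGen (hgen _ (List.mem_append_left _ (List.getElem_mem _)))⟩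
  let sf : Fin 48 → M.stabGen := fun i => ⟨M.val (fixWords[i.val]'(hf i)),
    M.val_mem_stabGen (hgen _ (List.mem_append_right _ (List.getElem_mem _)))⟩
  let f : Fin 45 × Fin 48 → M.permW.range := fun p => ⟨M.permW (um p.1 * sf p.2), _, rfl⟩
  have hinj : Function.Injective f := by
    rintro ⟨i, j⟩ ⟨i', j'⟩ h
    have hp : M.permW (um i * sf j) = M.permW (um i' * sf j') := congrArg Subtype.val h
    obtain ⟨v1, hv1⟩ := M.code_surj 1 (by norm_num)
    have hc : ∀ (i : Fin 45) (j : Fin 48) (v : {v : V // M.code v < 64}),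
        M.code (M.permW (um i * sf j) v).1 =
          appW (movWords[i.val]'(hm i)) (appW (fixWords[j.val]'(hf j)) (M.code v.1)) := fun i j v => by
      rw [M.permW_apply, Subgroup.coe_mul, R.mul_apply, M.code_val, M.code_val]
    have e1 := hc i j ⟨v1, by omega⟩
    rw [hp, hc i' j', hv1, hfix _ (List.getElem_mem _), hfix _ (List.getElem_mem _)] at e1
    have hi : i.val = i'.val :=
      (hn1.getElem_inj_iff (hi := by rw [List.length_map]; exact hm i)
        (hj := by rw [List.length_map]; exact hm i')).1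
        (by rw [List.getElem_map, List.getElem_map]; exact e1.symm)
    obtain rfl : i = i' := Fin.ext hi
    rw [map_mul, map_mul] at hp
    have hq := mul_left_cancel hp
    have hj : j.val = j'.val :=
      (hn2.getElem_inj_iff (hi := by rw [List.length_map]; exact hf j)
        (hj := by rw [List.length_map]; exact hf j')).1 (by
        rw [List.getElem_map, List.getElem_map]
        refine List.map_congr_left fun k hk => ?_
        rw [List.mem_range] at hk
        have hk' : 2 ^ k < 64 := by
          calc 2 ^ k ≤ 2 ^ 5 := Nat.pow_le_pow_right (by norm_num) (by omega)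
            _ < 64 := by norm_num
        obtain ⟨v, hv⟩ := M.code_surj (2 ^ k) (by omega)
        have e := congrArg (fun π => M.code (π ⟨v, by omega⟩ : {v : V // M.code v < 64}).1) hq
        simp only [M.permW_apply] at e
        rwa [M.code_val, M.code_val, hv] at e)
    obtain rfl : j = j' := Fin.ext hj
    rfl
  have := Nat.card_le_card_of_injective f hinj
  rwa [Nat.card_prod, Nat.card_fin, Nat.card_fin] at this

theorem Model.rSub_le_ker : M.rSub.subgroupOf M.stabGen ≤ M.permW.ker := fun _ hh =>
  MonoidHom.mem_ker.2 (Equiv.ext fun v => Subtype.ext (M.fixesW_of_mem hh v.1 v.2))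

theorem Model.stab_cards :
    Nat.card M.stabGen = 34560 ∧ M.stabGen = M.stabW ∧ M.permW.ker = M.rSub.subgroupOf M.stabGen ∧
      Nat.card M.permW.range = 2160 := by
  have := M.finite
  have hr := M.card_range_ge
  have hR : Nat.card (M.rSub.subgroupOf M.stabGen) = 16 := by
    rw [Nat.card_congr (Subgroup.subgroupOfEquivOfLe M.rSub_le_stabGen).toEquiv, M.card_rSub]
  have hk := Subgroup.card_le_of_le M.rSub_le_ker
  rw [hR] at hk
  have heq : Nat.card M.permW.ker * Nat.card M.permW.range = Nat.card M.stabGen := by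
    rw [← Subgroup.index_ker, Subgroup.card_mul_index]
  have hle := Subgroup.card_le_of_le M.stabGen_le
  have hS := M.card_stabW_le
  have hK : Nat.card M.stabGen = 34560 := by
    have := Nat.mul_le_mul hk hr
    omega
  have hker : Nat.card M.permW.ker = 16 := by
    by_contra hne
    have := Nat.mul_le_mul (show 17 ≤ Nat.card M.permW.ker by omega) hr
    omega
  refine ⟨hK, Subgroup.eq_of_le_of_card_ge M.stabGen_le (by omega), ?_, ?_⟩
  · exact (Subgroup.eq_of_le_of_card_ge M.rSub_le_ker (by omega)).symm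
  · rw [hker, hK] at heq; omega

theorem Model.presW_iff {h : H} : M.PresW h ↔
    h ∈ Subgroup.closure ({M.gens.a, M.gens.c, M.gens.u} ∪ Set.range M.gens.r) := by
  rw [← M.mem_stabW, ← M.stab_cards.2.1]; rfl

theorem Model.card_presW :
    Nat.card (Subgroup.closure ({M.gens.a, M.gens.c, M.gens.u} ∪ Set.range M.gens.r)) = 34560 :=
  M.stab_cards.1

theorem Model.index_presW :
    (Subgroup.closure ({M.gens.a, M.gens.c, M.gens.u} ∪ Set.range M.gens.r)).index = 77 := by
  have h := Subgroup.card_mul_index
    (Subgroup.closure ({M.gens.a, M.gens.c, M.gens.u} ∪ Set.range M.gens.r))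
  rw [M.card_presW, M.gens.card] at h
  omega

theorem Model.fixesW_iff {h : H} : M.FixesW h ↔ h ∈ M.rSub := by
  refine ⟨fun hh => ?_, M.fixesW_of_mem⟩
  have hK : h ∈ M.stabGen := by
    rw [M.stab_cards.2.1]
    intro v hv
    rwa [hh v hv]
  have : (⟨h, hK⟩ : M.stabGen) ∈ M.permW.ker :=
    MonoidHom.mem_ker.2 (Equiv.ext fun v => Subtype.ext (hh v.1 v.2))
  rw [M.stab_cards.2.2.1] at this
  exact this

/-! ### Singular vectors -/

theorem Model.conj_into_W {v : V} (hq : R.q v = 0) : ∃ h, M.code (R.ρ h v) < 64 := by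
  have hn := M.code_q v
  rw [hq] at hn
  have hf : qn (M.code v) = false := by
    cases hc : qn (M.code v)
    · rfl
    · rw [hc] at hn; simp at hn
  have hbit : (orbUnion orbWords ||| bitsOf ((List.range 4096).filter qn)).testBit (M.code v) = true := by
    rw [orb_cover, Nat.testBit_two_pow_sub_one, decide_eq_true_eq]
    exact M.code_lt v
  rw [Nat.testBit_lor, Bool.or_eq_true] at hbit
  rcases hbit with h | h
  · obtain ⟨w, -, m, hm, hmv⟩ := testBit_orbUnion _ _ h
    obtain ⟨v', hv'⟩ := M.code_surj m (by omega)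
    refine ⟨(M.val w)⁻¹, ?_⟩
    have : R.ρ (M.val w) v' = v := M.code_inj _ _ (by rw [M.code_val, hv', hmv])
    rw [← this, R.inv_apply, hv']
    exact hm
  · rw [testBit_bitsOf, List.mem_filter, hf] at h
    simp at h

/-! ### The commutator maps -/

/-- The commutator map of `h`. -/
def commHom (R : QRep H V) (h : H) : V →+ V where
  toFun v := R.ρ h v + v
  map_zero' := by simp
  map_add' u v := by rw [map_add]; abel

theorem Model.rSub_elem {r : H} (hr : r ∈ M.rSub) (hr1 : r ≠ 1) :
    (fixSet R r).ncard = 256 ∧ (commSet R r).ncard = 16 ∧ ∀ v, M.code (R.ρ r v + v) < 64 := by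
  have : Finite V := Nat.finite_of_card_ne_zero (by rw [R.card_V]; norm_num)
  obtain ⟨m, hm, rfl⟩ := M.mem_rSub.1 hr
  have hm0 : m ≠ 0 := by rintro rfl; exact hr1 M.val_rWord_zero
  obtain ⟨hnd, hlen, -, hlt, hwit, -, -⟩ := commVals_check m hm hm0
  set h := M.val (rWord m) with hdef
  have hcode : ∀ v, M.code (R.ρ h v + v) = delW (rWord m) (M.code v) := fun v => by
    rw [M.code_add, hdef, M.code_val]; rfl
  have himg : M.code '' commSet R h = ((commVals m).toFinset : Set ℕ) := by
    ext x
    simp only [Set.mem_image, commSet, Set.mem_range, List.coe_toFinset, Set.mem_ofPred_eq]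
    constructor
    · rintro ⟨y, ⟨v, rfl⟩, rfl⟩
      rw [hcode]
      exact delW_mem hm hm0 _ (M.code_lt v)
    · intro hx
      obtain ⟨y, hy, rfl⟩ := List.mem_map.1 hx
      obtain ⟨v, hv⟩ := M.code_surj y (hwit y hy)
      exact ⟨_, ⟨v, rfl⟩, by rw [hcode, hv]⟩
  have hcomm : (commSet R h).ncard = 16 := by
    rw [← Set.ncard_image_of_injective _ (fun a b e => M.code_inj a b e), himg, Set.ncard_coe_finset,
      List.toFinset_card_of_nodup hnd, hlen]
  refine ⟨?_, hcomm, fun v => ?_⟩
  · have hfix : fixSet R h = ((commHom R h).ker : Set V) := by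
      ext v
      show R.ρ h v = v ↔ R.ρ h v + v = 0
      rw [add_eq_zero_iff_eq_neg, neg_eq_of_add_eq_zero_right (R.two v)]
    have hrange : Nat.card (commHom R h).range = 16 := by
      rw [← hcomm, ← Nat.card_coe_set_eq]
      exact Nat.card_congr (Equiv.setCongr (by ext x; simp [commSet, commHom]))
    have hmul : Nat.card (commHom R h).ker * Nat.card (commHom R h).range = Nat.card V := by
      rw [← AddSubgroup.index_ker, AddSubgroup.card_mul_index]
    rw [hfix, ← Nat.card_coe_set_eq]
    show Nat.card (commHom R h).ker = 256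
    rw [hrange, R.card_V] at hmul
    omega
  · rw [hcode]
    exact hlt _ (delW_mem hm hm0 _ (M.code_lt v))

end CfsgLib.J4Type
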