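import Cfsg.Agent.Lib.J4Type.Coords

/-!
The conjugations by elements of `O_2(C(z))` on the codes.
-/

set_option autoImplicit false
set_option linter.unusedSectionVars false
set_option maxRecDepth 20000

namespace CfsgLib.J4Type

open scoped commutatorElement

universe u

variable {G : Type u} [Group G] [Finite G] {z : G} {P : Subgroup G}

theorem zmod2_self (a : ZMod 2) : a + a = 0 := by revert a; decide

namespace Ctx

variable (X : Ctx z P)

theorem of_bit {k : QQ z} (hk : k ∈ Subgroup.center (QQ z)) {b : Bool} (h : bit k = if b then 1 else 0) :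
    k = if b then X.zQ else 1 := by
  rcases X.center_eq hk with rfl | rfl
  · cases b
    · rfl
    · rw [bit, if_pos rfl, if_pos rfl] at h; exact absurd h.symm one_ne_zero
  · cases b
    · rw [bit, if_neg fun e => Ctx.zc_ne X (congrArg Subtype.val e), if_neg Bool.false_ne_true] at h
      exact absurd h one_ne_zero
    · rfl

/-- `(r i) v + v`. -/
noncomputable def wv (i : Fin 4) (x : VQ (QQ z)) : VQ (QQ z) :=
  (ext13_of X.hyp).rep.ρ (X.model.gens.r i) x + x

/-- The invariant form with the polar form of the translation signs. -/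
noncomputable def beta (i : Fin 4) (x : VQ (QQ z)) : ZMod 2 :=
  (ext13_of X.hyp).rep.b x ((ext13_of X.hyp).rep.ρ X.model.gens.t (X.wv i x))

theorem t_three (x : VQ (QQ z)) : (ext13_of X.hyp).rep.ρ X.model.gens.t
    ((ext13_of X.hyp).rep.ρ X.model.gens.t ((ext13_of X.hyp).rep.ρ X.model.gens.t x)) = x := by
  rw [← (ext13_of X.hyp).rep.mul_apply, ← (ext13_of X.hyp).rep.mul_apply,
    show X.model.gens.t * X.model.gens.t * X.model.gens.t = X.model.gens.t ^ 3 by rw [pow_three, mul_assoc], X.model.gens.t_cube,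
    (ext13_of X.hyp).rep.one_apply]

theorem t_sq (x : VQ (QQ z)) : (ext13_of X.hyp).rep.ρ X.model.gens.t ((ext13_of X.hyp).rep.ρ X.model.gens.t x) =
    (ext13_of X.hyp).rep.ρ X.model.gens.t x + x :=
  X.model.code_inj _ _ (by rw [X.model.act_t, X.model.code_add, X.model.act_t, colsT_sq (X.model.code_lt x)])

theorem wv_t (i : Fin 4) (x : VQ (QQ z)) : X.wv i ((ext13_of X.hyp).rep.ρ X.model.gens.t x) =
    (ext13_of X.hyp).rep.ρ X.model.gens.t (X.wv i x) := by
  rw [wv, wv, map_add, ← (ext13_of X.hyp).rep.mul_apply, X.model.gens.t_r i, (ext13_of X.hyp).rep.mul_apply]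

theorem wv_add (i : Fin 4) (x y : VQ (QQ z)) : X.wv i (x + y) = X.wv i x + X.wv i y := by
  rw [wv, wv, wv, map_add]; abel

theorem b_wv (i : Fin 4) (x y : VQ (QQ z)) :
    (ext13_of X.hyp).rep.b x (X.wv i y) = (ext13_of X.hyp).rep.b (X.wv i x) y := by
  set R := (ext13_of X.hyp).rep
  have h : R.b x (R.ρ (X.model.gens.r i) y) = R.b (R.ρ (X.model.gens.r i) x) y := by
    conv_lhs => rw [← R.b_inv (X.model.gens.r i), ← R.mul_apply, X.model.gens.r_sq, R.one_apply]
  rw [wv, wv, R.b_add_right, R.b_add, h]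

theorem beta_add (i : Fin 4) (x y : VQ (QQ z)) :
    X.beta i (x + y) = X.beta i x + X.beta i y + (ext13_of X.hyp).rep.b x (X.wv i y) := by
  set R := (ext13_of X.hyp).rep with hR
  have key : R.b y (R.ρ X.model.gens.t (X.wv i x)) =
      R.b x (R.ρ X.model.gens.t (R.ρ X.model.gens.t (X.wv i y))) := by
    rw [← R.b_inv X.model.gens.t y, ← R.b_inv X.model.gens.t (R.ρ _ y), X.t_three, X.b_wv,
      X.wv_t, X.wv_t, R.b_comm]
  rw [beta, beta, beta, X.wv_add, map_add, R.b_add, R.b_add_right, R.b_add_right, key, X.t_sq, R.b_add_right]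
  linear_combination zmod2_self (R.b x (R.ρ X.model.gens.t (X.wv i y)))

theorem beta_t (i : Fin 4) (x : VQ (QQ z)) :
    X.beta i ((ext13_of X.hyp).rep.ρ X.model.gens.t x) = X.beta i x := by
  rw [beta, X.wv_t, (ext13_of X.hyp).rep.b_inv]; rfl

end Ctx

namespace Lifts

variable {X : Ctx z P} (L : Lifts X)

/-- The displacement of the lift `i`. -/
noncomputable def disp (i : Fin 4) (y : QQ z) : QQ z := cjQ (L.ρ i) y * y⁻¹

/-- The code of the displacement. -/
noncomputable def wc (i : Fin 4) (y : QQ z) : ℕ := X.model.code (pr (L.disp i y))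

/-- The defect of the displacement against the section. -/
noncomputable def dd (i : Fin 4) (y : QQ z) : ZMod 2 :=
  bit ((L.sec (L.wc i y))⁻¹ * L.disp i y) + X.beta i (pr y)

include L

theorem pr_disp (i : Fin 4) (y : QQ z) : pr (L.disp i y) = X.wv i (pr y) := by
  rw [disp, pr_mul, L.pr_inv, ← (ext13_of X.hyp).rep_apply, L.ρ_mk]; rfl

theorem wc_eq (i : Fin 4) (y : QQ z) :
    L.wc i y = Nat.xor (app (colsR.getD i.val []) (X.model.code (pr y))) (X.model.code (pr y)) := by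
  rw [wc, L.pr_disp, Ctx.wv, X.model.code_add, X.model.act_r]

theorem wc_lt (i : Fin 4) (y : QQ z) : L.wc i y < 64 := by
  rw [L.wc_eq]
  set v := X.model.code (pr y) with hv
  have key : ∀ j, j < 12 → Nat.xor (app (colsR.getD i.val []) (2 ^ j)) (2 ^ j) < 64 := fun j hj => by
    have := List.all_eq_true.1 (List.all_eq_true.1 VCode.colsR_facts.1 i.val (List.mem_range.2 i.isLt)) j
      (List.mem_range.2 hj)
    rw [Bool.and_eq_true, Nat.ble_eq] at this
    omega
  let cols := (List.range 12).map fun j => Nat.xor (app (colsR.getD i.val []) (2 ^ j)) (2 ^ j)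
  have e : Nat.xor (app (colsR.getD i.val []) v) v = app cols v := by
    refine app_eq_of_units (k := 12) (fun v => Nat.xor (app (colsR.getD i.val []) v) v) (app cols) (fun a b => ?_)
      (app_xor _) (fun j hj => ?_) (X.model.code_lt _)
    · show Nat.xor (app _ (Nat.xor a b)) (Nat.xor a b) = _
      rw [app_xor]
      show (_ ^^^ _) ^^^ (a ^^^ b) = (_ ^^^ a) ^^^ (_ ^^^ b)
      ac_rfl
    · rw [app_two_pow cols, List.getD_eq_getElem _ _ (show j < cols.length by simp [cols, hj]),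
        List.getElem_map, List.getElem_range]
  rw [e]
  exact app_lt (k := 6) _ _ fun c hc => by
    obtain ⟨j, hj, rfl⟩ := List.mem_map.1 hc
    exact key j (List.mem_range.1 hj)

theorem dd_central (i : Fin 4) (y : QQ z) :
    (L.sec (L.wc i y))⁻¹ * L.disp i y ∈ Subgroup.center (QQ z) :=
  (ext13_of X.hyp).pr_eq_iff.1 (X.model.code_inj _ _ (L.code_sec (L.wc_lt i y)))

theorem dd_mul (i : Fin 4) (a b : QQ z) : L.dd i (a * b) = L.dd i a + L.dd i b := by
  have hS := ext13_of X.hyp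
  have hw : L.wc i (a * b) = Nat.xor (L.wc i a) (L.wc i b) := by
    rw [wc, wc, wc, L.pr_disp, L.pr_disp, L.pr_disp, pr_mul, X.wv_add, X.model.code_add]
  have hca := L.dd_central i a
  have hcb := L.dd_central i b
  set ka := (L.sec (L.wc i a))⁻¹ * L.disp i a with hka
  set kb := (L.sec (L.wc i b))⁻¹ * L.disp i b with hkb
  have hcc : ⁅a, L.disp i b⁆ ∈ Subgroup.center (QQ z) := hS.comm_mem _ _
  have e : (L.sec (L.wc i (a * b)))⁻¹ * L.disp i (a * b) = ka * ⁅a, L.disp i b⁆ * kb := by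
    have hd : L.disp i (a * b) = L.disp i a * ⁅a, L.disp i b⁆ * L.disp i b := by
      rw [disp, disp, disp, map_mul, commutatorElement_def]; group
    rw [hw, L.sec_xor (L.wc_lt i a) (L.wc_lt i b), hd, show L.disp i a = L.sec (L.wc i a) * ka by rw [hka]; group,
      show L.disp i b = L.sec (L.wc i b) * kb by rw [hkb]; group]
    rw [show L.disp i b = L.sec (L.wc i b) * kb by rw [hkb]; group] at hcc
    have h1 := Subgroup.mem_center_iff.1 (mul_mem hca hcc) (L.sec (L.wc i b))⁻¹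
    calc (L.sec (L.wc i a) * L.sec (L.wc i b))⁻¹ *
          (L.sec (L.wc i a) * ka * ⁅a, L.sec (L.wc i b) * kb⁆ * (L.sec (L.wc i b) * kb))
        = ((L.sec (L.wc i b))⁻¹ * (ka * ⁅a, L.sec (L.wc i b) * kb⁆)) * L.sec (L.wc i b) * kb := by group
      _ = _ := by rw [h1, inv_mul_cancel_right]
  rw [dd, dd, dd, e, hS.bit_mul (mul_mem hca hcc) hcb, hS.bit_mul hca hcc, ← hS.bf_pr, L.pr_disp, pr_mul,
    X.beta_add, ← hka, ← hkb]
  show bit ka + (ext13_of X.hyp).rep.b (pr a) (X.wv i (pr b)) + bit kb +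
    (X.beta i (pr a) + X.beta i (pr b) + (ext13_of X.hyp).rep.b (pr a) (X.wv i (pr b))) = _
  linear_combination zmod2_self ((ext13_of X.hyp).rep.b (pr a) (X.wv i (pr b)))

theorem dd_p (i : Fin 4) (y : QQ z) : L.dd i (cjQ L.p y) = L.dd i y := by
  have hd : L.disp i (cjQ L.p y) = cjQ L.p (L.disp i y) := by
    rw [disp, disp, map_mul, map_inv]
    refine congrArg (· * (cjQ L.p y)⁻¹) (Subtype.ext ?_)
    rw [cjQ_val, cjQ_val, cjQ_val, cjQ_val]
    calc L.ρ i * (L.p * (y : CC z) * L.p⁻¹) * (L.ρ i)⁻¹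
        = (L.ρ i * L.p) * (y : CC z) * (L.ρ i * L.p)⁻¹ := by group
      _ = (L.p * L.ρ i) * (y : CC z) * (L.p * L.ρ i)⁻¹ := by rw [L.ρ_p]
      _ = _ := by group
  have hw : L.wc i (cjQ L.p y) = app colsT (L.wc i y) := by
    rw [wc, hd, L.code_rho L.p L.p_mk, X.model.act_t]; rfl
  have hs : L.sec (app colsT (L.wc i y)) = cjQ L.p (L.sec (L.wc i y)) := Subtype.ext (by
    rw [cjQ_val]
    exact (L.sec_conj rfl colsT _ L.p_mk X.model.act_t (fun _ => colsT_low) (L.wc_lt i y)).symm)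
  rw [dd, dd, hw, hd, hs, ← map_inv, ← map_mul, (ext13_of X.hyp).cjQ_center L.p (L.dd_central i y),
    ← (ext13_of X.hyp).rep_apply, L.p_mk, X.beta_t]

theorem dd_zero (i : Fin 4) (y : QQ z) : L.dd i y = 0 := by
  have hS := ext13_of X.hyp
  have hk0 : ∀ k ∈ Subgroup.center (QQ z), L.dd i k = 0 := fun k hk => by
    have hd : L.disp i k = 1 := by rw [disp, hS.cjQ_center _ hk, mul_inv_cancel]
    rw [dd, wc, hd, pr_one, X.code_zero, L.sec_zero, inv_one, mul_one, bit, if_pos rfl, hS.pr_eq_zero.2 hk, Ctx.beta,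
      hS.rep.b_zero_left, add_zero]
  obtain ⟨y', hy'⟩ := pr_surj (hS.rep.ρ X.model.gens.t (pr y))
  have e : pr (cjQ L.p y' * y') = pr y := by
    rw [pr_mul, ← hS.rep_apply, L.p_mk, hy', X.t_sq, add_right_comm, hS.rep.two, zero_add]
  have hk : (cjQ L.p y' * y')⁻¹ * y ∈ Subgroup.center (QQ z) := hS.pr_eq_iff.1 e
  rw [show y = cjQ L.p y' * y' * ((cjQ L.p y' * y')⁻¹ * y) by group, L.dd_mul, L.dd_mul, L.dd_p, hk0 _ hk, add_zero,
    zmod2_self]

theorem qCols_getD (v : ℕ) :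
    (∀ i, i < 6 → (VCode.qCols v).getD i 0 = Nat.xor (2 ^ i) (if VCode.bn v (2 ^ i) then 64 else 0)) ∧
    (VCode.qCols v).getD 6 0 = 64 ∧
    ∀ i, i < 4 → (VCode.qCols v).getD (7 + i) 0 =
      Nat.xor (128 * 2 ^ i) (Nat.xor (Nat.xor (app (colsR.getD i []) v) v)
        (if VCode.bn v (app colsT (Nat.xor (app (colsR.getD i []) v) v)) then 64 else 0)) := by
  refine ⟨fun i hi => ?_, ?_, fun i hi => ?_⟩
  · rw [VCode.qCols, List.getD_append _ _ _ _ (by simp; omega), List.getD_append _ _ _ _ (by simp; omega),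
      List.getD_eq_getElem _ _ (by simp; omega), List.getElem_map, List.getElem_range]
  · rw [VCode.qCols, List.getD_append _ _ _ _ (by simp), List.getD_append_right _ _ _ _ (by simp)]
    simp
  · rw [VCode.qCols, List.getD_append_right _ _ _ _ (by simp),
      List.getD_eq_getElem _ _ (by simp; omega), List.getElem_map, List.getElem_range]
    simp only [List.length_append, List.length_map, List.length_range, List.length_cons, List.length_nil]
    rw [show 7 + i - (6 + (0 + 1)) = i by omega]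

/-- Conjugation by an element of `O_2(C(z))`. -/
theorem conj_trans (hsq : ∀ a ∈ X.VV, a * a = 1) (y : QQ z) {n : ℕ} (hn : n < 2048) :
    (y : CC z) * L.enc n * (y : CC z)⁻¹ = L.enc (app (VCode.qCols (X.model.code (pr y))) n) := by
  have hS := ext13_of X.hyp
  refine L.conj_app hsq (y : CC z) _ (fun i hi => ?_) hn
  obtain ⟨g1, g2, g3⟩ := L.qCols_getD (X.model.code (pr y))
  have hbit : ∀ b : Bool, L.enc (if b then 64 else 0) = ((if b then X.zQ else 1 : QQ z) : CC z) := fun b => by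
    cases b
    · exact L.enc_zero
    · exact L.enc_z
  rcases Nat.lt_trichotomy i 6 with h | h | h
  · have h64 : 2 ^ i < 64 := L.two_pow_lt (k := 6) h
    have hc : bit ⁅y, L.sec (2 ^ i)⁆ = if VCode.bn (X.model.code (pr y)) (2 ^ i) then 1 else 0 := by
      rw [← hS.bf_pr]
      show hS.rep.b _ _ = _
      rw [X.bf_code, L.code_sec h64]
    have he := X.of_bit (hS.comm_mem _ _) hc
    rw [g1 i h, L.enc_xor hsq, L.enc_sec hsq h64, L.gg_sec h, hbit, ← he]
    have hcen := Subgroup.mem_center_iff.1 (hS.comm_mem y (L.sec (2 ^ i))) (L.sec (2 ^ i))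
    show _ = ((L.sec (2 ^ i) * ⁅y, L.sec (2 ^ i)⁆ : QQ z) : CC z)
    rw [hcen, commutatorElement_def]
    show _ = ((y * L.sec (2 ^ i) * y⁻¹ * (L.sec (2 ^ i))⁻¹ * L.sec (2 ^ i) : QQ z) : CC z)
    rw [inv_mul_cancel_right]; rfl
  · subst h
    rw [g2, gg, if_neg (by omega), if_pos rfl, ← Ctx.zc_central, mul_inv_cancel_right, L.enc_z]
  · obtain ⟨j, rfl⟩ : ∃ j, i = 7 + j := ⟨i - 7, by omega⟩
    have hj : j < 4 := by omega
    have hz := L.dd_zero ⟨j, hj⟩ y
    rw [dd] at hz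
    have hk : bit ((L.sec (L.wc ⟨j, hj⟩ y))⁻¹ * L.disp ⟨j, hj⟩ y) = X.beta ⟨j, hj⟩ (pr y) := by
      linear_combination hz - zmod2_self (X.beta ⟨j, hj⟩ (pr y))
    rw [Ctx.beta, X.bf_code, X.model.act_t] at hk
    have hw : X.model.code (X.wv ⟨j, hj⟩ (pr y)) = L.wc ⟨j, hj⟩ y := by rw [wc, L.pr_disp]
    rw [hw] at hk
    have hkz := X.of_bit (L.dd_central ⟨j, hj⟩ y) hk
    rw [g3 j hj, ← L.wc_eq ⟨j, hj⟩ y, L.enc_xor hsq, L.enc_xor hsq, L.enc_sec hsq (L.wc_lt _ y), hbit, ← hkz,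
      show L.gg (7 + j) = L.ρ ⟨j, hj⟩ from L.gg_rho ⟨j, hj⟩,
      show L.enc (128 * 2 ^ j) = L.ρ ⟨j, hj⟩ from L.enc_rho ⟨j, hj⟩]
    have hρ := hsq _ (L.rho_mem_VV ⟨j, hj⟩)
    show _ = L.ρ ⟨j, hj⟩ *
      ((L.sec (L.wc ⟨j, hj⟩ y) * ((L.sec (L.wc ⟨j, hj⟩ y))⁻¹ * L.disp ⟨j, hj⟩ y) : QQ z) : CC z)
    rw [mul_inv_cancel_left, disp]
    show (y : CC z) * L.ρ ⟨j, hj⟩ * (y : CC z)⁻¹ =
      L.ρ ⟨j, hj⟩ * (L.ρ ⟨j, hj⟩ * (y : CC z) * (L.ρ ⟨j, hj⟩)⁻¹ * (y : CC z)⁻¹)
    rw [← mul_assoc, ← mul_assoc, ← mul_assoc, hρ, one_mul, inv_eq_of_mul_eq_one_right hρ]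

end Lifts

end CfsgLib.J4Type
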