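import Cfsg.Agent.Lib.J4Type.Elementary
import Cfsg.Agent.Lib.J4Type.Stab
import Cfsg.Agent.Lib.J4Type.Coords
import Cfsg.Agent.Lib.J4Type.Translate

/-!
Involutions `y` of `C(z)` outside `O_2(C(z))`: the elementary subgroup over the singular commutator
vectors of `y`, and the cases in which every element over a fixed vector commutes with `y`.
-/

set_option autoImplicit false
set_option linter.unusedSectionVars false

namespace CfsgLib.J4Type

universe u

variable {G : Type u} [Group G] [Finite G] {z : G} {P : Subgroup G}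

namespace Ctx

variable (X : Ctx z P)

/-- The representation on `O_2(C(z)) / ⟨z⟩`. -/
noncomputable abbrev RR : CfsgLib.FischerTwoFour.QRep (CC z ⧸ QQ z) (VQ (QQ z)) := (ext13_of X.hyp).rep

include X

theorem finite_VQ : Finite (VQ (QQ z)) := Elem.finite_V (R := X.RR)

theorem pr_inv' (a : QQ z) : pr a⁻¹ = pr a :=
  (ext13_of X.hyp).pr_eq_iff.2 (by rw [inv_inv]; exact (ext13_of X.hyp).sq_mem a)

theorem zQ_sq : X.zQ * X.zQ = 1 := Subtype.ext (Ctx.zc_sq X)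

theorem zQ_ne : X.zQ ≠ 1 := fun e => Ctx.zc_ne X (congrArg Subtype.val e)

theorem zQ_comm (a : QQ z) : X.zQ * a = a * X.zQ := Subtype.ext (Ctx.zc_central _)

theorem zQ_mem_center : X.zQ ∈ Subgroup.center (QQ z) :=
  Subgroup.mem_center_iff.2 fun a => (X.zQ_comm a).symm

theorem pr_cases {a b : QQ z} (h : pr a = pr b) : b = a ∨ b = a * X.zQ := by
  rcases X.center_eq ((ext13_of X.hyp).pr_eq_iff.1 h) with h' | h'
  · exact Or.inl (inv_mul_eq_one.1 h').symm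
  · exact Or.inr (inv_mul_eq_iff_eq_mul.1 h')

theorem b_pr_eq_zero {a b : QQ z} : X.RR.b (pr a) (pr b) = 0 ↔ a * b = b * a := by
  show bf (pr a) (pr b) = 0 ↔ _
  rw [(ext13_of X.hyp).bf_pr, bit, ← commutatorElement_eq_one_iff_mul_comm]
  split_ifs with h
  · simp [h]
  · simp [h]

theorem q_pr_eq_zero {a : QQ z} : X.RR.q (pr a) = 0 ↔ a * a = 1 := by
  show qf (pr a) = 0 ↔ _
  rw [(ext13_of X.hyp).qf_pr, bit]
  split_ifs with h
  · simp [h]
  · simp [h]

theorem rho_pr' (c : CC z) (a : QQ z) :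
    X.RR.ρ (QuotientGroup.mk c) (pr a) = pr (cjQ c a) := (ext13_of X.hyp).rep_apply c a

theorem cjQ_zQ (c : CC z) : cjQ c X.zQ = X.zQ := (ext13_of X.hyp).cjQ_center c X.zQ_mem_center

theorem cjQ_cjQ (c d : CC z) (a : QQ z) : cjQ c (cjQ d a) = cjQ (c * d) a := by
  refine Subtype.ext ?_
  simp only [cjQ_val]; group

theorem cjQ_one (a : QQ z) : cjQ (1 : CC z) a = a := Subtype.ext (by simp [cjQ_val])

/-- The commutator of `y` with `f`. -/
def cmQ (_X : Ctx z P) (y : CC z) (f : QQ z) : QQ z := cjQ y f * f⁻¹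

theorem pr_cmQ (y : CC z) (f : QQ z) :
    pr (X.cmQ y f) = X.RR.ρ (QuotientGroup.mk y) (pr f) + pr f := by
  rw [cmQ, pr_mul, X.pr_inv', X.rho_pr']

theorem conj_eq_mul_cmQ {y : CC z} (hy : y * y = 1) (f : QQ z) :
    (f : CC z) * y * (f : CC z)⁻¹ = y * (X.cmQ y f : CC z) := by
  have hi : y⁻¹ = y := inv_eq_of_mul_eq_one_right hy
  simp only [cmQ, Subgroup.coe_mul, Subgroup.coe_inv, cjQ_val]
  calc (f : CC z) * y * (f : CC z)⁻¹ = (y * y) * (f : CC z) * y⁻¹ * (f : CC z)⁻¹ := by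
        rw [hy, one_mul, hi]
    _ = y * (y * (f : CC z) * y⁻¹ * (f : CC z)⁻¹) := by group

theorem cjQ_cmQ {y : CC z} (hy : y * y = 1) (f : QQ z) :
    cjQ y (X.cmQ y f) = (X.cmQ y f)⁻¹ := by
  have h : cjQ y (cjQ y f) = f := by rw [X.cjQ_cjQ, hy, X.cjQ_one]
  rw [cmQ, map_mul, map_inv, h, mul_inv_rev, inv_inv]

/-- Every element over a vector fixed by `y` commutes with `y`. -/
def Bad (y : CC z) : Prop :=
  ∀ e : QQ z, X.RR.ρ (QuotientGroup.mk y) (pr e) = pr e → cjQ y e = e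

theorem bad_of_not_z {y : CC z} (h : ∀ f : QQ z, cjQ y f ≠ f * X.zQ) : X.Bad y := fun e he => by
  rw [X.rho_pr'] at he
  exact (X.pr_cases he.symm).resolve_right (h e)

theorem bad_conj {y : CC z} (hy : X.Bad y) (c : CC z) : X.Bad (c * y * c⁻¹) := fun e he => by
  have h1 : X.RR.ρ (QuotientGroup.mk y) (pr (cjQ c⁻¹ e)) = pr (cjQ c⁻¹ e) := by
    rw [← X.rho_pr' c⁻¹ e]
    conv_rhs => rw [← he]
    rw [← X.RR.mul_apply, ← X.RR.mul_apply]
    congr 2
    simp [← mul_assoc]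
  have h2 := hy _ h1
  calc cjQ (c * y * c⁻¹) e = cjQ c (cjQ y (cjQ c⁻¹ e)) := by rw [X.cjQ_cjQ, X.cjQ_cjQ]
    _ = e := by rw [h2, X.cjQ_cjQ, mul_inv_cancel, X.cjQ_one]

theorem b_comm_zero {h : CC z ⧸ QQ z} (hh : h * h = 1) (u w : VQ (QQ z)) :
    X.RR.b (X.RR.ρ h u + u) (X.RR.ρ h w + w) = 0 := by
  have e : X.RR.b u (X.RR.ρ h w) = X.RR.b (X.RR.ρ h u) w := by
    conv_lhs => rw [← X.RR.b_inv h, ← X.RR.mul_apply, hh, X.RR.one_apply]
  rw [X.RR.b_add, X.RR.b_add_right, X.RR.b_add_right, X.RR.b_inv, e]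
  have : ∀ a b : ZMod 2, a + b + (b + a) = 0 := by decide
  exact this _ _

theorem commSet_add {h : CC z ⧸ QQ z} {u v : VQ (QQ z)} (hu : u ∈ commSet X.RR h)
    (hv : v ∈ commSet X.RR h) : u + v ∈ commSet X.RR h := by
  obtain ⟨a, rfl⟩ := hu
  obtain ⟨b, rfl⟩ := hv
  refine ⟨a + b, ?_⟩
  simp only [map_add]
  abel

/-- The elementary subgroup over the singular commutator vectors of `y`. -/
def KK (y : CC z) (hy : y * y = 1) : Subgroup (QQ z) where
  carrier := {k | pr k ∈ commSet X.RR (QuotientGroup.mk y) ∧ k * k = 1}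
  one_mem' := ⟨⟨0, by simp [pr_one]⟩, one_mul 1⟩
  mul_mem' := fun {a b} ha hb => by
    refine ⟨by rw [pr_mul]; exact X.commSet_add ha.1 hb.1, ?_⟩
    have hc : a * b = b * a := X.b_pr_eq_zero.1 (by
      obtain ⟨u, hu⟩ := ha.1
      obtain ⟨w, hw⟩ := hb.1
      rw [← hu, ← hw]
      exact X.b_comm_zero (by rw [← QuotientGroup.mk_mul, hy]; rfl) u w)
    calc a * b * (a * b) = a * (b * a) * b := by group
      _ = a * (a * b) * b := by rw [hc]
      _ = (a * a) * (b * b) := by group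
      _ = 1 := by rw [ha.2, hb.2, one_mul]
  inv_mem' := fun {a} ha => by rw [inv_eq_of_mul_eq_one_right ha.2]; exact ha

theorem exists_cm {y : CC z} {hy : y * y = 1} {k : QQ z} (hk : k ∈ X.KK y hy) :
    ∃ f : QQ z, X.cmQ y f = k ∨ X.cmQ y f = k * X.zQ := by
  obtain ⟨u, hu⟩ := hk.1
  obtain ⟨f, rfl⟩ := pr_surj u
  exact ⟨f, X.pr_cases (a := k) (b := X.cmQ y f) (by rw [X.pr_cmQ]; exact hu.symm)⟩

theorem KK_comm {y : CC z} {hy : y * y = 1} {k : QQ z} (hk : k ∈ X.KK y hy) :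
    y * (k : CC z) = (k : CC z) * y := by
  have hki : k⁻¹ = k := inv_eq_of_mul_eq_one_right hk.2
  have h : cjQ y k = k := by
    obtain ⟨f, hf | hf⟩ := X.exists_cm hk
    · rw [← hf, X.cjQ_cmQ hy, hf, hki]
    · have e : k = X.cmQ y f * X.zQ := by rw [hf, mul_assoc, X.zQ_sq, mul_one]
      have hz : X.zQ⁻¹ = X.zQ := inv_eq_of_mul_eq_one_right X.zQ_sq
      conv_lhs => rw [e]
      rw [map_mul, X.cjQ_cmQ hy, X.cjQ_zQ, hf, mul_inv_rev, hki, hz, X.zQ_comm k, mul_assoc,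
        X.zQ_sq, mul_one]
  have e := congrArg Subtype.val h
  rw [cjQ_val] at e
  exact mul_inv_eq_iff_eq_mul.1 e

theorem KK_conj {y c : CC z} {hy : y * y = 1} (hc : c * y = y * c) {k : QQ z} (hk : k ∈ X.KK y hy) :
    cjQ c k ∈ X.KK y hy := by
  refine ⟨?_, by rw [← map_mul, hk.2, map_one]⟩
  obtain ⟨u, hu⟩ := hk.1
  refine ⟨X.RR.ρ (QuotientGroup.mk c) u, ?_⟩
  rw [← X.rho_pr' c k, ← hu]
  simp only [map_add]
  rw [← X.RR.mul_apply, ← X.RR.mul_apply, ← QuotientGroup.mk_mul, ← QuotientGroup.mk_mul, hc]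

theorem card_KK_ge (y : CC z) (hy : y * y = 1) :
    2 * {v | v ∈ commSet X.RR (QuotientGroup.mk y) ∧ X.RR.q v = 0}.ncard ≤ Nat.card (X.KK y hy) := by
  classical
  have := X.finite_VQ
  set T : Set (VQ (QQ z)) := {v | v ∈ commSet X.RR (QuotientGroup.mk y) ∧ X.RR.q v = 0}
  have hlift : ∀ p : T × Bool, ((pr_surj p.1.1).choose * (if p.2 then X.zQ else 1)) ∈ X.KK y hy := by
    rintro ⟨⟨v, hv, hq⟩, b⟩
    have he : pr ((pr_surj v).choose * (if b then X.zQ else 1)) = v := by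
      rw [pr_mul, (pr_surj v).choose_spec]
      cases b
      · simp [pr_one]
      · simp [X.pr_zQ]
    exact ⟨by rw [he]; exact hv, X.q_pr_eq_zero.1 (by rw [he]; exact hq)⟩
  have hinj : Function.Injective (fun p : T × Bool => (⟨_, hlift p⟩ : X.KK y hy)) := by
    rintro ⟨⟨v, hv⟩, b⟩ ⟨⟨v', hv'⟩, b'⟩ h
    have h' := congrArg Subtype.val h
    simp only at h'
    have hp := congrArg pr h'
    rw [pr_mul, pr_mul, (pr_surj v).choose_spec, (pr_surj v').choose_spec] at hp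
    have hz : ∀ c : Bool, pr (if c then X.zQ else (1 : QQ z)) = 0 := fun c => by
      cases c <;> simp [pr_one, X.pr_zQ]
    rw [hz, hz, add_zero, add_zero] at hp
    subst hp
    have hb := mul_left_cancel h'
    cases b <;> cases b'
    · rfl
    · exact absurd (by simpa using hb.symm) X.zQ_ne
    · exact absurd (by simpa using hb) X.zQ_ne
    · rfl
  have := Nat.card_le_card_of_injective _ hinj
  rw [Nat.card_prod, Nat.card_coe_set_eq, Nat.card_eq_fintype_card (α := Bool), Fintype.card_bool] at this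
  omega

theorem inner_facts {h : CC z ⧸ QQ z} (hh : h ≠ 1) (hin : X.model.IsInner h) :
    (fixSet X.RR h).ncard = 256 ∧ (commSet X.RR h).ncard = 16 ∧
      ∀ v ∈ commSet X.RR h, X.RR.q v = 0 := by
  obtain ⟨k, hk⟩ := hin
  obtain ⟨h1, h2, h3⟩ := X.model.rSub_elem hk (fun e => hh (conj_eq_one_iff.1 e))
  rw [Elem.fixSet_conj, Set.ncard_image_of_injective _ (fun _ _ => X.RR.inj k)] at h1
  rw [Elem.commSet_conj, Set.ncard_image_of_injective _ (fun _ _ => X.RR.inj k)] at h2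
  refine ⟨h1, h2, fun v hv => ?_⟩
  have hv' : X.RR.ρ k v ∈ commSet X.RR (k * h * k⁻¹) := by
    rw [Elem.commSet_conj]; exact Set.mem_image_of_mem _ hv
  obtain ⟨u, hu⟩ := hv'
  have hlt := h3 u
  rw [show X.RR.ρ (k * h * k⁻¹) u + u = X.RR.ρ k v from hu] at hlt
  have hq := X.model.singfix_rSub.sing _ hlt
  rwa [X.RR.q_inv] at hq

theorem mk_invol {y : CC z} (hy : y * y = 1) (hQ : y ∉ QQ z) :
    (QuotientGroup.mk y : CC z ⧸ QQ z) * QuotientGroup.mk y = 1 ∧ (QuotientGroup.mk y : CC z ⧸ QQ z) ≠ 1 :=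
  ⟨by rw [← QuotientGroup.mk_mul, hy]; rfl, fun e => hQ ((QuotientGroup.eq_one_iff y).1 e)⟩

theorem card_KK_32 {y : CC z} (hy : y * y = 1) (hQ : y ∉ QQ z) : 32 ≤ Nat.card (X.KK y hy) := by
  classical
  have := X.finite_VQ
  obtain ⟨h2, h1⟩ := X.mk_invol hy hQ
  refine le_trans ?_ (X.card_KK_ge y hy)
  set h : CC z ⧸ QQ z := QuotientGroup.mk y
  rcases X.model.invol_cases h2 h1 with hin | hB | hC
  · obtain ⟨-, hc, hs⟩ := X.inner_facts h1 hin
    rw [show {v | v ∈ commSet X.RR h ∧ X.RR.q v = 0} = commSet X.RR h from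
      Set.ext fun v => ⟨And.left, fun hv => ⟨hv, hs v hv⟩⟩, hc]
  · rw [show {v | v ∈ commSet X.RR h ∧ X.RR.q v = 0} = commSet X.RR h from
      Set.ext fun v => ⟨And.left, fun hv => ⟨hv, hB.sing v (hB.comm_eq ▸ hv)⟩⟩, hB.comm_eq, hB.card_fix]
    norm_num
  · obtain ⟨v₀, hv₀, hq₀⟩ := hC.nonsing
    rw [← hC.comm_eq] at hv₀
    set T : Set (VQ (QQ z)) := {v | v ∈ commSet X.RR h ∧ X.RR.q v = 0}
    have hsub : (commSet X.RR h) ⊆ T ∪ (fun v => v + v₀) '' T := by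
      intro v hv
      by_cases hq : X.RR.q v = 0
      · exact Or.inl ⟨hv, hq⟩
      · refine Or.inr ⟨v + v₀, ⟨X.commSet_add hv hv₀, ?_⟩, by simp only [add_assoc, X.RR.two, add_zero]⟩
        have hv1 : X.RR.q v = 1 := ((by decide : ∀ a : ZMod 2, a = 0 ∨ a = 1) _).resolve_left hq
        obtain ⟨u, hu⟩ := hv
        obtain ⟨w, hw⟩ := hv₀
        rw [X.RR.q_add, hv1, hq₀, ← hu, ← hw, X.b_comm_zero h2]
        rfl
    have := (Set.ncard_le_ncard hsub (Set.toFinite _)).trans (Set.ncard_union_le _ _)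
    have := this.trans (Nat.add_le_add_left (Set.ncard_image_le (Set.toFinite _)) _)
    rw [hC.comm_eq, hC.card_fix] at this
    omega

theorem card_fix_64 {y : CC z} (hy : y * y = 1) (hQ : y ∉ QQ z) :
    64 ≤ (fixSet X.RR (QuotientGroup.mk y : CC z ⧸ QQ z)).ncard := by
  obtain ⟨h2, h1⟩ := X.mk_invol hy hQ
  rcases X.model.invol_cases h2 h1 with hin | hB | hC
  · rw [(X.inner_facts h1 hin).1]; norm_num
  · rw [hB.card_fix]
  · rw [hC.card_fix]

/-- The vectors over elements commuting with `y`. -/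
def goodVec (_X : Ctx z P) (y : CC z) : Set (VQ (QQ z)) := {v | ∃ e : QQ z, pr e = v ∧ cjQ y e = e}

theorem goodVec_32 {y : CC z} (hy : y * y = 1) (hQ : y ∉ QQ z) : 32 ≤ (X.goodVec y).ncard := by
  classical
  have := X.finite_VQ
  have hcard := X.card_fix_64 hy hQ
  set h : CC z ⧸ QQ z := QuotientGroup.mk y with hh
  by_cases hall : fixSet X.RR h ⊆ X.goodVec y
  · have := Set.ncard_le_ncard hall (Set.toFinite _)
    omega
  obtain ⟨v₀, hv₀, hv₀'⟩ := Set.not_subset.1 hall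
  obtain ⟨e₀, rfl⟩ := pr_surj v₀
  have hmove : ∀ {e : QQ z}, pr e ∈ fixSet X.RR h → pr e ∉ X.goodVec y → cjQ y e = e * X.zQ := fun {e} he hg => by
    have he' : pr e = pr (cjQ y e) := by rw [← X.rho_pr']; exact he.symm
    exact (X.pr_cases he').resolve_left fun hh => hg ⟨e, rfl, hh⟩
  have hsub : fixSet X.RR h ⊆ X.goodVec y ∪ (fun v => v + pr e₀) '' X.goodVec y := by
    intro v hv
    by_cases hg : v ∈ X.goodVec y
    · exact Or.inl hg
    · obtain ⟨e, rfl⟩ := pr_surj v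
      refine Or.inr ⟨pr (e * e₀), ⟨e * e₀, rfl, ?_⟩, by
        simp only [pr_mul, add_assoc, X.RR.two, add_zero]⟩
      rw [map_mul, hmove hv hg, hmove hv₀ hv₀', mul_assoc, ← mul_assoc X.zQ, X.zQ_comm, mul_assoc e₀,
        X.zQ_sq, mul_one]
  have h1 := (Set.ncard_le_ncard hsub (Set.toFinite _)).trans (Set.ncard_union_le _ _)
  have h2 := h1.trans (Nat.add_le_add_left (Set.ncard_image_le (Set.toFinite _)) _)
  omega

theorem exists_mem_VV_of_sq {e : QQ z} (he : e * e = 1) :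
    ∃ c : CC z, c * (e : CC z) * c⁻¹ ∈ X.VV := by
  obtain ⟨h, hh⟩ := X.model.conj_into_W (X.q_pr_eq_zero.2 he)
  obtain ⟨c, rfl⟩ := QuotientGroup.mk_surjective h
  rw [X.rho_pr'] at hh
  refine ⟨c, ?_⟩
  rw [← cjQ_val]
  exact Lifts.Wc_le_VV (X.mem_Wc.2 hh)

theorem bad_inner {y : CC z} (hbad : X.Bad y) (hr : (QuotientGroup.mk y : CC z ⧸ QQ z) ∈ X.model.rSub) :
    y ∈ X.VV := by
  obtain ⟨L⟩ := exists_lifts X
  set S : Subgroup (CC z) := X.VV ⊓ Subgroup.centralizer ({L.p} : Set (CC z))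
  have hle : X.model.rSub ≤ S.map (QuotientGroup.mk' (QQ z)) := (Subgroup.closure_le _).2 (by
    rintro _ ⟨i, rfl⟩
    exact ⟨L.ρ i, Subgroup.mem_inf.2 ⟨L.rho_mem_VV i, Subgroup.mem_centralizer_singleton_iff.2 (L.ρ_p i)⟩,
      L.ρ_mk i⟩)
  obtain ⟨v, hv, hvy⟩ := Subgroup.mem_map.1 (hle hr)
  obtain ⟨hvV, hvp⟩ := Subgroup.mem_inf.1 hv
  rw [Subgroup.mem_centralizer_singleton_iff] at hvp
  have hvy' : (QuotientGroup.mk v : CC z ⧸ QQ z) = QuotientGroup.mk y := hvy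
  -- `v` centralises the preimage of its fixed vectors
  have hfix : ∀ e : QQ z, X.RR.ρ (QuotientGroup.mk v) (pr e) = pr e → cjQ v e = e := by
    intro e he
    have he' : pr e = pr (cjQ v e) := by rw [← X.rho_pr']; exact he.symm
    refine (X.pr_cases he').resolve_right fun hz => ?_
    have hp : ∀ f : QQ z, cjQ v f = f * X.zQ → cjQ v (cjQ L.p f) = cjQ L.p f * X.zQ := fun f hf => by
      rw [X.cjQ_cjQ, hvp, ← X.cjQ_cjQ, hf, map_mul, X.cjQ_zQ]
    have h1 := hp e hz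
    have h2 := hp _ h1
    set w := e * cjQ L.p e * cjQ L.p (cjQ L.p e) with hw
    have hw0 : pr w = 0 := by
      have e1 : pr (cjQ L.p e) = X.RR.ρ X.model.gens.t (pr e) := by rw [← L.p_mk, X.rho_pr']
      have e2 : pr (cjQ L.p (cjQ L.p e)) = X.RR.ρ X.model.gens.t (X.RR.ρ X.model.gens.t (pr e)) := by
        rw [← e1, ← L.p_mk, X.rho_pr']
      rw [hw, pr_mul, pr_mul, e1, e2]
      show pr e + (ext13_of X.hyp).rep.ρ _ (pr e) + (ext13_of X.hyp).rep.ρ _ ((ext13_of X.hyp).rep.ρ _ (pr e)) = 0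
      rw [X.t_sq, add_comm (pr e)]
      exact X.RR.two _
    have hwc := (ext13_of X.hyp).cjQ_center v ((ext13_of X.hyp).pr_eq_zero.1 hw0)
    have hwz : cjQ v w = w * X.zQ := by
      rw [hw, map_mul, map_mul, hz, h1, h2]
      have hc := X.zQ_comm (cjQ L.p e)
      calc e * X.zQ * (cjQ L.p e * X.zQ) * (cjQ L.p (cjQ L.p e) * X.zQ)
          = e * (X.zQ * cjQ L.p e) * X.zQ * cjQ L.p (cjQ L.p e) * X.zQ := by group
        _ = e * cjQ L.p e * (X.zQ * X.zQ) * cjQ L.p (cjQ L.p e) * X.zQ := by rw [hc]; group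
        _ = _ := by rw [X.zQ_sq, mul_one]
    rw [hwc] at hwz
    exact X.zQ_ne (left_eq_mul.1 hwz)
  have hmem : v⁻¹ * y ∈ QQ z := QuotientGroup.eq.1 hvy'
  set e₀ : QQ z := ⟨v⁻¹ * y, hmem⟩
  have hye : y = v * (e₀ : CC z) := (mul_inv_cancel_left v y).symm
  have hlowv : ∀ {w : QQ z}, X.model.code (pr w) < 64 → e₀ * w = w * e₀ := fun {w} hw => by
    have hfr : X.RR.ρ (QuotientGroup.mk y) (pr w) = pr w := (X.model.fix_rSub (pr w)).2 hw _ hr
    have h1 := hbad w hfr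
    have h2 := hfix w (by rw [hvy']; exact hfr)
    have e' := congrArg Subtype.val h1
    rw [cjQ_val, hye] at e'
    have e2 := congrArg Subtype.val h2
    rw [cjQ_val] at e2
    refine Subtype.ext ?_
    have e3 : v * ((e₀ : CC z) * w * (e₀ : CC z)⁻¹) * v⁻¹ = v * (w : CC z) * v⁻¹ := by
      rw [e2]; calc _ = v * (e₀ : CC z) * w * (v * (e₀ : CC z))⁻¹ := by group
        _ = _ := e'
    exact mul_inv_eq_iff_eq_mul.1 (mul_left_cancel (mul_right_cancel e3))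
  have hcode : X.model.code (pr e₀) < 64 := by
    have hp := List.all_eq_true.1 VCode.low_perp _ (List.mem_range.2 (X.model.code_lt (pr e₀)))
    rw [beq_iff_eq] at hp
    have hall : (List.range 6).all (fun j => !VCode.bn (X.model.code (pr e₀)) (2 ^ j)) = true := by
      refine List.all_eq_true.2 fun j hj => ?_
      have hj6 : 2 ^ j < 64 := Nat.pow_lt_pow_right (n := 6) (by norm_num) (List.mem_range.1 hj)
      have hb : X.RR.b (pr e₀) (pr (pr_surj (X.dec (2 ^ j))).choose) = 0 :=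
        X.b_pr_eq_zero.2 (hlowv (by rw [(pr_surj _).choose_spec, X.code_dec (by omega)]; exact hj6))
      rw [(pr_surj _).choose_spec, X.bf_code, X.code_dec (by omega)] at hb
      cases h : VCode.bn (X.model.code (pr e₀)) (2 ^ j)
      · rfl
      · rw [h, if_pos rfl] at hb; exact absurd hb one_ne_zero
    rw [hall, Nat.ble_eq] at hp
    omega
  rw [hye]
  exact mul_mem hvV (Lifts.Wc_le_VV (X.mem_Wc.2 hcode))

theorem bad_cases {y : CC z} (hy : y * y = 1) (hQ : y ∉ QQ z) (hbad : X.Bad y) :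
    IsTypeB X.RR (QuotientGroup.mk y : CC z ⧸ QQ z) ∨ ∃ c : CC z, c * y * c⁻¹ ∈ X.VV := by
  obtain ⟨h2, h1⟩ := X.mk_invol hy hQ
  rcases X.model.invol_cases h2 h1 with hin | hB | hC
  · obtain ⟨k, hk⟩ := hin
    obtain ⟨c, rfl⟩ := QuotientGroup.mk_surjective k
    refine Or.inr ⟨c, X.bad_inner (X.bad_conj hbad c) ?_⟩
    simpa using hk
  · exact Or.inl hB
  · exfalso
    obtain ⟨v, hv, hq⟩ := hC.nonsing
    have hv' : v ∈ commSet X.RR (QuotientGroup.mk y : CC z ⧸ QQ z) := by rw [hC.comm_eq]; exact hv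
    obtain ⟨u, hu⟩ := hv'
    obtain ⟨f, rfl⟩ := pr_surj u
    have hk : pr (X.cmQ y f) = v := by rw [X.pr_cmQ]; exact hu
    have h3 := hbad (X.cmQ y f) (by rw [hk]; exact hv)
    rw [X.cjQ_cmQ hy] at h3
    have h4 : X.RR.q (pr (X.cmQ y f)) = 0 := X.q_pr_eq_zero.2 (by
      nth_rewrite 1 [← h3]
      rw [inv_mul_cancel])
    rw [hk, hq] at h4
    exact one_ne_zero h4

end Ctx

end CfsgLib.J4Type
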