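import Cfsg.Agent.Lib.J4Type.Setting
import Cfsg.Agent.Lib.J4Type86.Involution
import Cfsg.Agent.Lib.MathieuAut22.Main

/-!
`C(z) / O_2(C(z))` maps onto the stabiliser of the two points in `M24` with kernel of order 3, central
exactly over `M22`; the commutator of lifts of a Sylow 3-frame of `M22` is non-trivial.
-/

set_option autoImplicit false

namespace CfsgLib.J4Type

open CfsgLib.MathieuAut22 CfsgLib.Steiner.Witt
open scoped commutatorElement

/-- A group of shape `3.(M22.2)` over the stabiliser of the two points. -/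
structure ThreeExt (H : Type*) [Group H] where
  ψ : H →* ↥(setStab twoPts)
  t : H
  surj : Function.Surjective ψ
  ker : ∀ h, ψ h = 1 ↔ h ∈ Subgroup.zpowers t
  t_cube : t ^ 3 = 1
  t_ne : t ≠ 1
  t_comm : ∀ h, (ψ h : Equiv.Perm Cfsg.GolayPt) ∈ Cfsg.Spor.M22 → h * t = t * h
  t_inv : ∀ h, (ψ h : Equiv.Perm Cfsg.GolayPt) ∉ Cfsg.Spor.M22 → h * t * h⁻¹ = t⁻¹
  nonsplit : ∀ (x y : ↥Cfsg.Spor.M22) (X Y : H),
    Nat.card (Subgroup.closure ({x, y} : Set ↥Cfsg.Spor.M22)) = 9 →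
    (ψ X : Equiv.Perm Cfsg.GolayPt) = x → (ψ Y : Equiv.Perm Cfsg.GolayPt) = y → X * Y ≠ Y * X

namespace ThreeExt

variable {H : Type*} [Group H] (D : ThreeExt H)

theorem psi_t : D.ψ D.t = 1 := (D.ker _).mpr (Subgroup.mem_zpowers _)

theorem eq_mul_zpow {x y : H} (h : D.ψ x = D.ψ y) : ∃ k : ℤ, x = y * D.t ^ k := by
  have hk : y⁻¹ * x ∈ Subgroup.zpowers D.t := by
    rw [← D.ker, map_mul, map_inv, h, inv_mul_cancel]
  obtain ⟨k, hk⟩ := Subgroup.mem_zpowers_iff.mp hk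
  exact ⟨k, by rw [hk, mul_inv_cancel_left]⟩

theorem eq_pow_mul {x y : H} (h : D.ψ x = D.ψ y) : ∃ k : ℕ, x = D.t ^ k * y := by
  have hk : x * y⁻¹ ∈ Subgroup.zpowers D.t := by
    rw [← D.ker, map_mul, map_inv, h, mul_inv_cancel]
  have hfin : IsOfFinOrder D.t := isOfFinOrder_iff_pow_eq_one.mpr ⟨3, by norm_num, D.t_cube⟩
  rw [← hfin.mem_powers_iff_mem_zpowers, Submonoid.mem_powers_iff] at hk
  obtain ⟨k, hk⟩ := hk
  exact ⟨k, by rw [hk, inv_mul_cancel_right]⟩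

/-- Lifts with `x ^ 4 = 1` are unique over `M22`. -/
theorem eq_of_four {x y : H} (hm : (D.ψ y : Equiv.Perm Cfsg.GolayPt) ∈ Cfsg.Spor.M22)
    (h : D.ψ x = D.ψ y) (hx : x ^ 4 = 1) (hy : y ^ 4 = 1) : x = y := by
  obtain ⟨k, hk⟩ := D.eq_mul_zpow h
  have hc : Commute y (D.t ^ k) := (show Commute y D.t from D.t_comm y hm).zpow_right k
  have h4 : (D.t ^ k) ^ 4 = 1 := by
    rw [hk, hc.mul_pow, hy, one_mul] at hx
    exact hx
  have h3 : (D.t ^ k) ^ 3 = 1 := by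
    rw [← zpow_natCast (D.t ^ k) 3, ← zpow_mul, mul_comm, zpow_mul, zpow_natCast, D.t_cube, one_zpow]
  rw [pow_succ (D.t ^ k) 3, h3, one_mul] at h4
  rw [hk, h4, mul_one]

end ThreeExt

variable {G : Type*} [Group G] [Finite G] {z : G} {P : Subgroup G}

theorem mem_QQ_iff {x : ↥(CC z)} : x ∈ QQ z ↔ (x : G) ∈ Cfsg.twoCoreOfCentralizer z :=
  (Subgroup.mem_map_iff_mem (CC z).subtype_injective).symm

/-- The generator of the image of `P`. -/
theorem exists_threeExt (hJ : Cfsg.IsOfJankoFourTypeWith z P) :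
    ∃ (D : ThreeExt (CC z ⧸ QQ z)) (q : G) (hq : q ∈ P), q ≠ 1 ∧
      D.t = QuotientGroup.mk (⟨q, J4Type86.P_le_cH hJ hq⟩ : ↥(CC z)) := by
  classical
  obtain ⟨F⟩ := J4Type86.exists_frame' hJ
  obtain ⟨π, hπs, hπ⟩ := J4Type86.exists_proj hJ
  have hQker : QQ z ≤ (autM22Equiv.symm.toMonoidHom.comp π).ker := by
    intro x hx
    rw [MonoidHom.mem_ker, MonoidHom.comp_apply, MulEquiv.coe_toMonoidHom, MulEquiv.map_eq_one_iff, hπ]
    exact ⟨1, one_mem _, (x : G), mem_QQ_iff.mp hx, (one_mul _).symm⟩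
  set ψ := QuotientGroup.lift (QQ z) (autM22Equiv.symm.toMonoidHom.comp π) hQker with hψ
  have hψmk : ∀ x : ↥(CC z), ψ (QuotientGroup.mk x) = autM22Equiv.symm (π x) := fun x => rfl
  have hψs : Function.Surjective ψ := by
    intro a
    obtain ⟨x, hx⟩ := hπs (autM22Equiv a)
    exact ⟨QuotientGroup.mk x, by rw [hψmk, hx, MulEquiv.symm_apply_apply]⟩
  set q : G := F.q
  have hq := F.q_mem
  set qc : ↥(CC z) := ⟨q, J4Type86.P_le_cH hJ hq⟩ with hqc
  set t : ↥(CC z) ⧸ QQ z := QuotientGroup.mk qc with ht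
  have hPq : P = Subgroup.zpowers q :=
    (Subgroup.eq_of_le_of_card_ge (Subgroup.zpowers_le.mpr hq) (by
      rw [J4Type86.card_P hJ, Nat.card_zpowers,
        orderOf_eq_prime (J4Type86.pow_three_P hJ hq) F.q_ne])).symm
  have hPmk : ∀ (p : G) (hp : p ∈ P),
      (QuotientGroup.mk (⟨p, J4Type86.P_le_cH hJ hp⟩ : ↥(CC z)) : ↥(CC z) ⧸ QQ z) ∈ Subgroup.zpowers t := by
    intro p hp
    have hp' : p ∈ Subgroup.zpowers q := hPq ▸ hp
    obtain ⟨n, hn⟩ := Subgroup.mem_zpowers_iff.mp hp'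
    refine ⟨n, ?_⟩
    show t ^ n = _
    rw [ht, ← QuotientGroup.mk_zpow]
    exact congrArg _ (Subtype.ext hn)
  have hker : ∀ h, ψ h = 1 ↔ h ∈ Subgroup.zpowers t := by
    intro h
    constructor
    · intro hh
      obtain ⟨x, rfl⟩ := QuotientGroup.mk_surjective h
      rw [hψmk, MulEquiv.map_eq_one_iff, hπ] at hh
      obtain ⟨p, hp, e, he, hxe⟩ := hh
      have he' : e ∈ CC z := J4Type86.core_le_cH he
      have : x = ⟨p, J4Type86.P_le_cH hJ hp⟩ * ⟨e, he'⟩ := Subtype.ext hxe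
      rw [this, QuotientGroup.mk_mul,
        (QuotientGroup.eq_one_iff (⟨e, he'⟩ : ↥(CC z))).mpr (mem_QQ_iff.mpr he), mul_one]
      exact hPmk p hp
    · rintro ⟨n, rfl⟩
      show ψ (t ^ n) = 1
      rw [map_zpow, ht, hψmk, (hπ qc).mpr ⟨q, hq, 1, one_mem _, (mul_one q).symm⟩, map_one,
        one_zpow]
  have hcube : t ^ 3 = 1 := by
    rw [ht, ← QuotientGroup.mk_pow]
    exact (congrArg _ (Subtype.ext (J4Type86.pow_three_P hJ hq))).trans (QuotientGroup.mk_one _)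
  have hne : t ≠ 1 := by
    intro e
    have h2 : q ∈ P ⊓ Cfsg.twoCoreOfCentralizer z :=
      ⟨hq, mem_QQ_iff.mp ((QuotientGroup.eq_one_iff qc).mp e)⟩
    rw [J4Type86.P_inf_core hJ, Subgroup.mem_bot] at h2
    exact F.q_ne h2
  have htT : ∀ s ∈ Subgroup.zpowers t, s = 1 ∨ s = t ∨ s = t⁻¹ := by
    rintro s ⟨n, rfl⟩
    show t ^ n = 1 ∨ t ^ n = t ∨ t ^ n = t⁻¹
    have hord : orderOf t = 3 := orderOf_eq_prime hcube hne
    have h2 : t⁻¹ = t ^ (2 : ℤ) := by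
      refine inv_eq_of_mul_eq_one_right ?_
      rw [zpow_two, ← pow_three, hcube]
    rw [← zpow_mod_orderOf, hord, h2]
    have h0 := Int.emod_nonneg n (b := (3 : ℤ)) (by norm_num)
    have h1 := Int.emod_lt_of_pos n (b := (3 : ℤ)) (by norm_num)
    rcases (by omega : n % (3 : ℤ) = 0 ∨ n % (3 : ℤ) = 1 ∨ n % (3 : ℤ) = 2) with e | e | e <;>
      push_cast <;> rw [e] <;> simp
  have hnorm : ∀ h, h * t * h⁻¹ = t ∨ h * t * h⁻¹ = t⁻¹ := by
    intro h
    have hm : h * t * h⁻¹ ∈ Subgroup.zpowers t := by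
      rw [← hker, map_mul, map_mul, map_inv, (hker t).mpr (Subgroup.mem_zpowers _), mul_one,
        mul_inv_cancel]
    rcases htT _ hm with e | e | e
    · exact absurd (conj_eq_one_iff.mp e) hne
    · exact Or.inl e
    · exact Or.inr e
  -- the centraliser of `t` is the preimage of `M22`
  set K : Subgroup (↥(CC z) ⧸ QQ z) := Subgroup.centralizer {t} with hK
  have hmemK : ∀ h, h ∈ K ↔ h * t * h⁻¹ = t := fun h => by
    rw [hK, Subgroup.mem_centralizer_singleton_iff, mul_inv_eq_iff_eq_mul]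
  obtain ⟨m0, hm0⟩ : ∃ h, h ∉ K := by
    by_contra hall
    push Not at hall
    refine hJ.2.2.2.2.2.2.2.1 (le_antisymm ?_
      (inf_le_inf_left _ (Subgroup.centralizer_le_normalizer ((P : Subgroup G) : Set G))))
    intro m hm
    have hmq : m * q * m⁻¹ * q⁻¹ ∈ P :=
      mul_mem ((Subgroup.mem_normalizer_iff.mp hm.2 q).mp hq) (inv_mem hq)
    have hmq2 : m * q * m⁻¹ * q⁻¹ ∈ Cfsg.twoCoreOfCentralizer z := by
      set mc : ↥(CC z) := ⟨m, hm.1⟩
      have h := (hmemK (QuotientGroup.mk mc)).mp (hall _)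
      rw [← mul_inv_eq_one, ht, ← QuotientGroup.mk_inv, ← QuotientGroup.mk_mul,
        ← QuotientGroup.mk_mul, ← QuotientGroup.mk_inv, ← QuotientGroup.mk_mul,
        QuotientGroup.eq_one_iff, mem_QQ_iff] at h
      exact h
    have h : m * q * m⁻¹ * q⁻¹ ∈ P ⊓ Cfsg.twoCoreOfCentralizer z := ⟨hmq, hmq2⟩
    rw [J4Type86.P_inf_core hJ, Subgroup.mem_bot, mul_inv_eq_one, mul_inv_eq_iff_eq_mul] at h
    refine ⟨hm.1, Subgroup.mem_centralizer_iff.mpr fun p hp => ?_⟩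
    rw [SetLike.mem_coe, hPq, Subgroup.mem_zpowers_iff] at hp
    obtain ⟨n, rfl⟩ := hp
    exact ((show Commute q m from h.symm).zpow_left n).eq
  have hKidx : K.index = 2 := by
    rw [Subgroup.index_eq_two_iff]
    refine ⟨m0, fun b => ?_⟩
    have h1 : m0 * t * m0⁻¹ = t⁻¹ := (hnorm m0).resolve_left fun e => hm0 ((hmemK m0).mpr e)
    have h2 : b * m0 * t * (b * m0)⁻¹ = (b * t * b⁻¹)⁻¹ := by
      rw [show b * m0 * t * (b * m0)⁻¹ = b * (m0 * t * m0⁻¹) * b⁻¹ by group, h1]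
      group
    rcases hnorm b with e | e
    · refine Or.inr ⟨(hmemK b).mpr e, fun hb => ?_⟩
      have := (hmemK _).mp hb
      rw [h2, e] at this
      have hsq : t * t = 1 := by nth_rw 1 [← this]; exact inv_mul_cancel t
      rw [pow_three, hsq, mul_one] at hcube
      exact hne hcube
    · refine Or.inl ⟨(hmemK _).mpr (by rw [h2, e, inv_inv]), fun hb => ?_⟩
      have := (hmemK b).mp hb
      rw [e] at this
      have hsq : t * t = 1 := by nth_rw 1 [← this]; exact inv_mul_cancel t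
      rw [pow_three, hsq, mul_one] at hcube
      exact hne hcube
  set M := Cfsg.Spor.M22.subgroupOf (setStab twoPts) with hM
  have hKM : K = M.comap ψ := by
    have hkerK : ψ.ker ≤ K := by
      intro h hh
      obtain ⟨n, rfl⟩ := (hker h).mp hh
      rw [hmemK]
      show t ^ n * t * (t ^ n)⁻¹ = t
      group
    have h1 : (K.map ψ).index = 2 := by
      rw [Subgroup.index_map, sup_eq_left.mpr hkerK, hKidx, MonoidHom.range_eq_top.mpr hψs,
        Subgroup.index_top, mul_one]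
    have h2 : ∀ J : Subgroup ↥(setStab twoPts), J.index = 2 →
        J.map autM22Equiv.toMonoidHom = (MulAut.conj : ↥Cfsg.Spor.M22 →* MulAut ↥Cfsg.Spor.M22).range :=
      fun J hJ2 => eq_inn_of_index_two (by rw [Subgroup.index_map_of_bijective (f := autM22Equiv.toMonoidHom) autM22Equiv.bijective, hJ2])
    have h3 : K.map ψ = M :=
      Subgroup.map_injective (f := autM22Equiv.toMonoidHom) autM22Equiv.injective
        ((h2 _ h1).trans (h2 M index_sporM22).symm)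
    rw [← h3, Subgroup.comap_map_eq, sup_eq_left.mpr hkerK]
  have hcomm : ∀ h, (ψ h : Equiv.Perm Cfsg.GolayPt) ∈ Cfsg.Spor.M22 → h * t = t * h := fun h hh => by
    have : h ∈ K := by rw [hKM]; exact hh
    exact mul_inv_eq_iff_eq_mul.mp ((hmemK h).mp this)
  refine ⟨⟨ψ, t, hψs, hker, hcube, hne, hcomm, fun h hh => ?_, ?_⟩, q, hq, F.q_ne, rfl⟩
  · refine (hnorm h).resolve_left fun e => hh ?_
    have : h ∈ K := (hmemK h).mpr e
    rw [hKM] at this
    exact this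
  intro x y X Y h9 hX hY hXY
  -- the frame would have commuting lifts
  have hFXY : (QuotientGroup.mk (⟨F.X, F.X_mem.1⟩ : ↥(CC z)) : ↥(CC z) ⧸ QQ z) *
      QuotientGroup.mk (⟨F.Y, (F.Y_mem hJ).1⟩ : ↥(CC z)) ≠
      QuotientGroup.mk (⟨F.Y, (F.Y_mem hJ).1⟩ : ↥(CC z)) *
      QuotientGroup.mk (⟨F.X, F.X_mem.1⟩ : ↥(CC z)) := by
    intro e
    refine hne ?_
    rw [← QuotientGroup.mk_mul, ← QuotientGroup.mk_mul,
      show (⟨F.X, F.X_mem.1⟩ : ↥(CC z)) * ⟨F.Y, (F.Y_mem hJ).1⟩ =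
        qc * (⟨F.Y, (F.Y_mem hJ).1⟩ * ⟨F.X, F.X_mem.1⟩) from Subtype.ext F.comm,
      QuotientGroup.mk_mul _ qc] at e
    exact mul_eq_right.mp e
  set X' : ↥(CC z) ⧸ QQ z := QuotientGroup.mk (⟨F.X, F.X_mem.1⟩ : ↥(CC z))
  set Y' : ↥(CC z) ⧸ QQ z := QuotientGroup.mk (⟨F.Y, (F.Y_mem hJ).1⟩ : ↥(CC z))
  have hFmem : ∀ w : G, ∀ hw : w ∈ J4Type86.cC z P,
      (ψ (QuotientGroup.mk (⟨w, hw.1⟩ : ↥(CC z))) : Equiv.Perm Cfsg.GolayPt) ∈ Cfsg.Spor.M22 := by
    intro w hw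
    have : (QuotientGroup.mk (⟨w, hw.1⟩ : ↥(CC z)) : ↥(CC z) ⧸ QQ z) ∈ K := by
      rw [hmemK, mul_inv_eq_iff_eq_mul, ht, ← QuotientGroup.mk_mul, ← QuotientGroup.mk_mul]
      exact congrArg _ (Subtype.ext (J4Type86.commute_ker hJ ⟨q, hq, Or.inl rfl⟩ hw).eq.symm)
    rw [hKM] at this
    exact this
  set x' : ↥Cfsg.Spor.M22 := ⟨_, hFmem F.X F.X_mem⟩ with hx'
  set y' : ↥Cfsg.Spor.M22 := ⟨_, hFmem F.Y (F.Y_mem hJ)⟩ with hy'
  set S9 := Subgroup.closure ({x, y} : Set ↥Cfsg.Spor.M22) with hS9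
  set S' := Subgroup.closure ({x', y'} : Set ↥Cfsg.Spor.M22) with hS'
  haveI : Fact (Nat.Prime 3) := ⟨Nat.prime_three⟩
  have hx3 : x' ^ 3 = 1 := Subtype.ext (by
    show ((ψ X' : ↥(setStab twoPts)) : Equiv.Perm Cfsg.GolayPt) ^ 3 = 1
    rw [← SubmonoidClass.coe_pow, ← map_pow]
    have : X' ^ 3 = 1 := by
      show (QuotientGroup.mk _ : ↥(CC z) ⧸ QQ z) ^ 3 = 1
      rw [← QuotientGroup.mk_pow, show (⟨F.X, F.X_mem.1⟩ : ↥(CC z)) ^ 3 = 1 from Subtype.ext F.X_cube,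
        QuotientGroup.mk_one]
    rw [this, map_one]; rfl)
  have hy3 : y' ^ 3 = 1 := Subtype.ext (by
    show ((ψ Y' : ↥(setStab twoPts)) : Equiv.Perm Cfsg.GolayPt) ^ 3 = 1
    rw [← SubmonoidClass.coe_pow, ← map_pow]
    have : Y' ^ 3 = 1 := by
      show (QuotientGroup.mk _ : ↥(CC z) ⧸ QQ z) ^ 3 = 1
      rw [← QuotientGroup.mk_pow, show (⟨F.Y, (F.Y_mem hJ).1⟩ : ↥(CC z)) ^ 3 = 1 from Subtype.ext (by
        show F.Y ^ 3 = 1
        rw [← F.Y_def, conj_pow, F.X_cube, mul_one, mul_inv_cancel]), QuotientGroup.mk_one]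
    rw [this, map_one]; rfl)
  have hxy' : x' * y' = y' * x' := Subtype.ext (by
    show ((ψ X' : ↥(setStab twoPts)) : Equiv.Perm Cfsg.GolayPt) * (ψ Y' : ↥(setStab twoPts)) =
      ((ψ Y' : ↥(setStab twoPts)) : Equiv.Perm Cfsg.GolayPt) * (ψ X' : ↥(setStab twoPts))
    rw [← Subgroup.coe_mul, ← Subgroup.coe_mul, ← map_mul, ← map_mul]
    have e : X' * Y' = t * (Y' * X') := by
      show (QuotientGroup.mk _ : ↥(CC z) ⧸ QQ z) * QuotientGroup.mk _ =
        QuotientGroup.mk qc * (QuotientGroup.mk _ * QuotientGroup.mk _)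
      rw [← QuotientGroup.mk_mul, ← QuotientGroup.mk_mul, ← QuotientGroup.mk_mul]
      exact congrArg _ (Subtype.ext F.comm)
    rw [e, map_mul, (hker t).mpr (Subgroup.mem_zpowers _), one_mul])
  have hS'comm : ∀ a ∈ ({x', y'} : Set ↥Cfsg.Spor.M22), ∀ b ∈ ({x', y'} : Set ↥Cfsg.Spor.M22),
      a * b = b * a := by
    rintro a (rfl | rfl) b (rfl | rfl)
    exacts [rfl, hxy', hxy'.symm, rfl]
  have hp' : IsPGroup 3 S' := fun g => ⟨1, Subtype.ext (by
    haveI := Subgroup.isMulCommutative_closure hS'comm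
    obtain ⟨g, hg⟩ := g
    show g ^ (3 ^ 1) = 1
    induction hg using Subgroup.closure_induction with
    | mem w hw => rcases hw with rfl | rfl <;> simpa
    | one => exact one_pow _
    | mul a b ha hb h1 h2 => rw [Commute.mul_pow (setLike_mul_comm ha hb), h1, h2, one_mul]
    | inv a _ h1 => rw [inv_pow, h1, inv_one])⟩
  have hfact : Nat.card S9 = 3 ^ (Nat.card ↥Cfsg.Spor.M22).factorization 3 := by
    rw [h9, CfsgLib.Golay.natCard_sporM22, show (443520 : ℕ) = 3 ^ 2 * 49280 by norm_num,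
      Nat.factorization_mul (by norm_num) (by norm_num), Finsupp.add_apply,
      Nat.Prime.factorization_pow Nat.prime_three, Finsupp.single_eq_same,
      Nat.factorization_eq_zero_of_not_dvd (by norm_num : ¬ 3 ∣ 49280)]
    norm_num
  obtain ⟨T, hT⟩ := hp'.exists_le_sylow
  obtain ⟨n, hn⟩ := MulAction.exists_smul_eq ↥Cfsg.Spor.M22 (Sylow.ofCard S9 hfact) T
  obtain ⟨N, hN⟩ := hψs (Subgroup.inclusion sporM22_le_setStab n)
  have hcl : ∀ a ∈ ({X, Y, t} : Set (↥(CC z) ⧸ QQ z)), ∀ b ∈ ({X, Y, t} : Set (↥(CC z) ⧸ QQ z)),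
      a * b = b * a := by
    have hXt : X * t = t * X := hcomm X (by rw [hX]; exact x.2)
    have hYt : Y * t = t * Y := hcomm Y (by rw [hY]; exact y.2)
    rintro a (rfl | rfl | rfl) b (rfl | rfl | rfl)
    exacts [rfl, hXY, hXt, hXY.symm, rfl, hYt, hXt.symm, hYt.symm, rfl]
  set A := Subgroup.closure ({X, Y, t} : Set (↥(CC z) ⧸ QQ z)) with hA
  haveI : IsMulCommutative A := Subgroup.isMulCommutative_closure hcl
  -- the preimage of `n S9 n⁻¹` is abelian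
  have hpre : ∀ w ∈ S', ∀ W, (ψ W : Equiv.Perm Cfsg.GolayPt) = w → N⁻¹ * W * N ∈ A := by
    intro w hw W hW
    have hwT : w ∈ (T : Subgroup ↥Cfsg.Spor.M22) := hT hw
    rw [← hn, Sylow.coe_subgroup_smul, Subgroup.mem_pointwise_smul_iff_inv_smul_mem] at hwT
    have hwS : n⁻¹ * w * n ∈ S9 := by simpa using hwT
    have hsur : ∀ s ∈ S9, ∃ a ∈ A, (ψ a : Equiv.Perm Cfsg.GolayPt) = s := by
      intro s hs
      induction hs using Subgroup.closure_induction with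
      | mem s hs =>
        rcases hs with rfl | rfl
        · exact ⟨X, Subgroup.subset_closure (Or.inl rfl), hX⟩
        · exact ⟨Y, Subgroup.subset_closure (Or.inr (Or.inl rfl)), hY⟩
      | one => exact ⟨1, one_mem _, by simp⟩
      | mul a b _ _ h1 h2 =>
        obtain ⟨a', ha', ea⟩ := h1
        obtain ⟨b', hb', eb⟩ := h2
        exact ⟨a' * b', mul_mem ha' hb', by simp [ea, eb]⟩
      | inv a _ h1 =>
        obtain ⟨a', ha', ea⟩ := h1
        exact ⟨a'⁻¹, inv_mem ha', by simp [ea]⟩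
    obtain ⟨a, ha, ea⟩ := hsur _ hwS
    have h1 : ψ (a⁻¹ * (N⁻¹ * W * N)) = 1 := by
      apply Subtype.ext
      simp only [map_mul, map_inv, Subgroup.coe_mul, InvMemClass.coe_inv, hN, hW, ea,
        Subgroup.coe_inclusion, Subgroup.coe_one]
      group
    have h2 : a⁻¹ * (N⁻¹ * W * N) ∈ A :=
      Subgroup.zpowers_le.mpr (show t ∈ A from Subgroup.subset_closure (Or.inr (Or.inr rfl))) ((hker _).mp h1)
    have := mul_mem ha h2
    rwa [mul_inv_cancel_left] at this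
  have hXA := hpre x' (Subgroup.subset_closure (Or.inl rfl)) X' rfl
  have hYA := hpre y' (Subgroup.subset_closure (Or.inr rfl)) Y' rfl
  refine hFXY ?_
  have h := setLike_mul_comm hXA hYA
  have h' := congrArg (fun w => N * w * N⁻¹) h
  calc X' * Y' = N * (N⁻¹ * X' * N * (N⁻¹ * Y' * N)) * N⁻¹ := by group
    _ = N * (N⁻¹ * Y' * N * (N⁻¹ * X' * N)) * N⁻¹ := h'
    _ = Y' * X' := by group

end CfsgLib.J4Type
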