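import Cfsg.Agent.Lib.J4Type.Data
import Cfsg.Agent.Lib.MathieuAut22.Local

/-!
The permutations of the generators: their relations, and generation of the automorphism group of `M22`.
-/

set_option autoImplicit false
set_option maxRecDepth 20000

namespace CfsgLib.J4Type.GensPerm

open Cfsg CfsgLib.Golay CfsgLib.MathieuAut22 CfsgLib.Steiner.Witt
open scoped commutatorElement

/-- The value of a word on image lists. -/
def evL (A C : List ℕ) : List Bool → List ℕ
  | [] => List.range 24
  | b :: w => comp (if b then C else A) (evL A C w)

/-- The value of a bit pattern on image lists. -/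
def evLR (n : ℕ) : List ℕ :=
  ((List.range 4).map fun i => if Nat.testBit n i then permR.getD i [] else List.range 24).foldr comp
    (List.range 24)

/-- `u` preserves the two points. -/
def ok22o (l : List ℕ) : Bool :=
  genOK l && Nat.beq (l.getD 23 0) 0 && Nat.beq (l.getD 0 0) 23

/-- Conjugator into the frame. -/
def conjM : List ℕ :=
  [0, 5, 2, 13, 21, 8, 3, 14, 12, 10, 4, 9, 7, 18, 19, 6, 15, 20, 22, 1, 11, 17, 16, 23]

theorem mem_check : (ok22 permA && ok22 permC && ok22 permG && ok22o permU &&
    ((List.range 4).all fun i => ok22 (permR.getD i [])) && ok22 conjM) = true := by decide +kernel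

theorem rel_a : (comp permA permA == List.range 24) = true := by decide +kernel
theorem rel_c : (comp (comp permC permC) (comp permC permC) == List.range 24) = true := by decide +kernel
theorem rel_u : (comp permU permU == List.range 24) = true := by decide +kernel

theorem rel_r : ((List.range 4).all fun i =>
    (comp (permR.getD i []) (permR.getD i []) == List.range 24) &&
    ((List.range 4).all fun j => comp (permR.getD i []) (permR.getD j []) ==
      comp (permR.getD j []) (permR.getD i [])) &&
    (comp permA (permR.getD i []) == comp (evLR (arPat.getD i 0)) permA) &&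
    (comp permC (permR.getD i []) == comp (evLR (crPat.getD i 0)) permC) &&
    (comp permU (permR.getD i []) == comp (evLR (urPat.getD i 0)) permU)) = true := by decide +kernel

theorem rel_ga : (comp permG permA == comp (evL permA permC wGA) permG) = true := by decide +kernel
theorem rel_gc : (comp permG permC == comp (evL permA permC wGC) permG) = true := by decide +kernel
theorem rel_gg : (comp permG permG == evL permA permC wGG) = true := by decide +kernel
theorem rel_ua : (comp permU permA == comp permA permU) = true := by decide +kernel
theorem rel_uc : (comp permU permC == comp (evL permA permC wUC) permU) = true := by decide +kernel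

/-- The fifth power. -/
def five (l : List ℕ) : List ℕ := comp l (comp l (comp l (comp l l)))

theorem rel_ac : (five (comp permA permC) == List.range 24) = true := by decide +kernel
theorem rel_ac2 : (five (comp permA (comp permC permC)) == List.range 24) = true := by decide +kernel

theorem rel_xy : (comp (evL permA permC wX) (evL permA permC wY) ==
      comp (evL permA permC wY) (evL permA permC wX)) &&
    (comp frameX conjM == comp conjM (evL permA permC wX)) &&
    (comp frameY conjM == comp conjM (comp (evL permA permC wX) (comp (evL permA permC wY) (evL permA permC wY)))) =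
      true := by decide +kernel

/-- An element of order 7. -/
def el7 : List ℕ := comp permG (permR.getD 0 [])

/-- An element of order 11. -/
def el11 : List ℕ := comp permA el7

/-- The powers. -/
def powL (l : List ℕ) : ℕ → List ℕ
  | 0 => List.range 24
  | n + 1 => comp l (powL l n)

theorem orders_check : ((powL el7 7 == List.range 24) && !(el7 == List.range 24) &&
    (powL el11 11 == List.range 24) && !(el11 == List.range 24) &&
    !(comp permA permC == List.range 24) &&
    ((List.range 16).all fun m => (List.range 16).all fun n => Nat.beq m n || !(evLR m == evLR n)) &&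
    ((List.range 9).all fun m => (List.range 9).all fun n => Nat.beq m n ||
      !(comp (powL (evL permA permC wX) (m % 3)) (powL (evL permA permC wY) (m / 3)) ==
        comp (powL (evL permA permC wX) (n % 3)) (powL (evL permA permC wY) (n / 3))))) = true := by
  decide +kernel

theorem exists_elt_outer {l : List ℕ} (h : ok22o l = true) :
    ∃ g : ↥(setStab twoPts), toList g = l ∧ (g : Equiv.Perm GolayPt) ∉ Spor.M22 := by
  simp only [ok22o, Bool.and_eq_true] at h
  obtain ⟨σ, hσ, rfl⟩ := exists_perm h.1.1
  have key : ∀ p q : GolayPt, (toList σ).getD (idx p).val 0 = (idx q).val → σ p = q := fun p q hp => by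
    rw [toList_getD] at hp
    exact idx_injective (Fin.ext hp)
  have h1 : σ none = some 0 := key _ _ (by
    rw [idx_none_some.1, idx_none_some.2]; exact Nat.eq_of_beq_eq_true h.1.2)
  have h2 : σ (some 0) = none := key _ _ (by
    rw [idx_none_some.1, idx_none_some.2]; exact Nat.eq_of_beq_eq_true h.2)
  refine ⟨⟨σ, mem_setStab.mpr ⟨hσ, ?_⟩⟩, rfl, fun hm => ?_⟩
  · simp [twoPts, Finset.map_insert, h1, h2, Finset.pair_comm]
  · have := (mem_sporM22.mp hm).2 none (by simp [twoPts])
    rw [h1] at this
    exact absurd this (by simp)

/-- The permutations as elements of the stabiliser of the two points. -/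
structure Perms where
  a : ↥Spor.M22
  c : ↥Spor.M22
  g : ↥Spor.M22
  r : Fin 4 → ↥Spor.M22
  m : ↥Spor.M22
  u : ↥(setStab twoPts)
  ha : toList a = permA
  hc : toList c = permC
  hg : toList g = permG
  hr : ∀ i, toList (r i) = permR.getD i.val []
  hm : toList m = conjM
  hu : toList u = permU
  hu_outer : (u : Equiv.Perm GolayPt) ∉ Spor.M22

theorem nonempty_perms : Nonempty Perms := by
  have h := mem_check
  simp only [Bool.and_eq_true, List.all_eq_true, List.mem_range] at h
  obtain ⟨⟨⟨⟨⟨hA, hC⟩, hG⟩, hU⟩, hR⟩, hM⟩ := h
  obtain ⟨a, ha⟩ := exists_elt hA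
  obtain ⟨c, hc⟩ := exists_elt hC
  obtain ⟨g, hg⟩ := exists_elt hG
  obtain ⟨m, hm⟩ := exists_elt hM
  obtain ⟨u, hu, hu'⟩ := exists_elt_outer hU
  choose r hr using fun i : Fin 4 => exists_elt (hR i.val i.isLt)
  exact ⟨⟨a, c, g, r, m, u, ha, hc, hg, hr, hm, hu, hu'⟩⟩

end CfsgLib.J4Type.GensPerm
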