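import Cfsg.Agent.Lib.J4Type.Interface
import Cfsg.Agent.Lib.J4Type.GensLift
import Cfsg.Agent.Lib.J4Type.GensPerm

/-!
The generators of `C(z) / O_2(C(z))` with their relations, lifted from the permutations.
-/

set_option autoImplicit false
set_option maxRecDepth 20000

namespace CfsgLib.J4Type

open CfsgLib.MathieuAut22 CfsgLib.Steiner.Witt GensPerm
open CfsgLib.Golay hiding gens
open scoped commutatorElement

theorem subgroup_M22_top {K : Subgroup ↥Cfsg.Spor.M22} (h : 55440 ∣ Nat.card K) : K = ⊤ := by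
  haveI := isSimpleGroup_sporM22
  rw [← Subgroup.index_eq_one]
  by_contra hne
  have hmul := Subgroup.card_mul_index K
  rw [natCard_sporM22] at hmul
  obtain ⟨j, hj⟩ := h
  have hle : K.index ≤ 8 := by
    rw [hj, mul_assoc, show (443520 : ℕ) = 55440 * 8 by norm_num] at hmul
    have h8 := Nat.eq_of_mul_eq_mul_left (by norm_num : 0 < 55440) hmul
    exact Nat.le_of_dvd (by norm_num) ⟨j, by rw [← h8, mul_comm]⟩
  have hinj : Function.Injective (MulAction.toPermHom ↥Cfsg.Spor.M22 (↥Cfsg.Spor.M22 ⧸ K)) := by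
    rw [← MonoidHom.ker_eq_bot_iff, ← Subgroup.normalCore_eq_ker]
    refine (Subgroup.normalCore_normal K).eq_bot_or_eq_top.resolve_right fun htop => hne ?_
    rw [Subgroup.index_eq_one]
    exact top_le_iff.mp (htop ▸ Subgroup.normalCore_le K)
  classical
  haveI := Fintype.ofFinite (↥Cfsg.Spor.M22 ⧸ K)
  have := Nat.card_le_card_of_injective _ hinj
  rw [natCard_sporM22, Nat.card_eq_fintype_card, Fintype.card_perm, ← Nat.card_eq_fintype_card] at this
  have h2 := this.trans (Nat.factorial_le (show Nat.card (↥Cfsg.Spor.M22 ⧸ K) ≤ 8 from hle))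
  norm_num [Nat.factorial] at h2

namespace ThreeExt

variable {H : Type*} [Group H] (D : ThreeExt H)

/-- The image list of `h`. -/
def L (h : H) : List ℕ := toList ((D.ψ h : ↥(setStab twoPts)) : Equiv.Perm Cfsg.GolayPt)

theorem L_mul (x y : H) : D.L (x * y) = comp (D.L x) (D.L y) := by
  show toList ((D.ψ (x * y) : ↥(setStab twoPts)) : Equiv.Perm Cfsg.GolayPt) = _
  rw [map_mul, Subgroup.coe_mul, toList_mul]
  rfl

theorem L_one : D.L 1 = List.range 24 := by
  show toList ((D.ψ 1 : ↥(setStab twoPts)) : Equiv.Perm Cfsg.GolayPt) = _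
  rw [map_one]
  exact toList_one

theorem psi_of_L {x y : H} (h : D.L x = D.L y) : D.ψ x = D.ψ y :=
  Subtype.ext (toList_injective h)

theorem L_prod : ∀ l : List H, D.L l.prod = (l.map D.L).foldr comp (List.range 24)
  | [] => D.L_one
  | x :: l => by rw [List.prod_cons, L_mul, L_prod l, List.map_cons, List.foldr_cons]

theorem L_evW {A C : List ℕ} {a c : H} (ha : D.L a = A) (hc : D.L c = C) :
    ∀ w, D.L (evW a c w) = evL A C w
  | [] => D.L_one
  | b :: w => by
    have e : evW a c (b :: w) = (if b then c else a) * evW a c w := by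
      rw [evW, List.map_cons, List.prod_cons]; rfl
    rw [e, L_mul, L_evW ha hc w]
    cases b <;> simp [evL, ha, hc]

theorem L_evR {r : Fin 4 → H} (hr : ∀ i, D.L (r i) = permR.getD i.val []) (n : ℕ) :
    D.L (evR r n) = evLR n := by
  rw [evR, L_prod, evLR]
  congr 1
  simp only [List.map_ofFn]
  rw [show (List.range 4) = [0, 1, 2, 3] from rfl]
  simp only [List.ofFn_succ, List.ofFn_zero, List.map_cons, List.map_nil, Function.comp_apply,
    List.cons.injEq, and_true]
  refine ⟨?_, ?_, ?_, ?_⟩ <;> split_ifs with h h' <;> simp_all [L_one]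

theorem mem_of_L {h : H} {m : ↥Cfsg.Spor.M22} (hm : D.L h = toList (m : Equiv.Perm Cfsg.GolayPt)) :
    (D.ψ h : Equiv.Perm Cfsg.GolayPt) ∈ Cfsg.Spor.M22 := by
  rw [toList_injective hm]
  exact m.2

theorem exists_lift_four {m : ↥Cfsg.Spor.M22} {l : List ℕ}
    (hm : toList (m : Equiv.Perm Cfsg.GolayPt) = l) (h4 : m ^ 4 = 1) :
    ∃ h : H, D.L h = l ∧ h ^ 4 = 1 ∧ (D.ψ h : Equiv.Perm Cfsg.GolayPt) = m := by
  obtain ⟨h, hh⟩ := D.surj (Subgroup.inclusion sporM22_le_setStab m)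
  have hh' : D.ψ (h ^ 9) = Subgroup.inclusion sporM22_le_setStab m := by
    rw [map_pow, hh, ← map_pow, show m ^ 9 = m by
      rw [pow_succ, pow_mul m 4 2, h4, one_pow, one_mul]]
  refine ⟨h ^ 9, ?_, ?_, ?_⟩
  · show toList ((D.ψ (h ^ 9) : ↥(setStab twoPts)) : Equiv.Perm Cfsg.GolayPt) = l
    rw [hh']; exact hm
  · have hk : D.ψ (h ^ 4) = 1 := by rw [map_pow, hh, ← map_pow, h4, map_one]
    obtain ⟨k, hk'⟩ := Subgroup.mem_zpowers_iff.mp ((D.ker _).mp hk)
    rw [← pow_mul, show 9 * 4 = 4 * (3 * 3) from rfl, pow_mul, ← hk', pow_mul (D.t ^ k) 3 3]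
    rw [show (D.t ^ k) ^ 3 = 1 by
      rw [← zpow_natCast (D.t ^ k) 3, ← zpow_mul, mul_comm, zpow_mul, zpow_natCast, D.t_cube,
        one_zpow], one_pow]
  · rw [hh']; rfl

end ThreeExt

theorem prod_mul_self {H : Type*} [Group H] : ∀ (l : List H), (∀ x ∈ l, ∀ y ∈ l, x * y = y * x) →
    (∀ x ∈ l, x * x = 1) → l.prod * l.prod = 1
  | [], _, _ => by simp
  | x :: l, hc, hs => by
    have hxl : Commute x l.prod := Commute.list_prod_right l x fun y hy =>
      hc x (List.mem_cons_self ..) y (List.mem_cons_of_mem _ hy)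
    rw [List.prod_cons, show x * l.prod * (x * l.prod) = (x * x) * (l.prod * l.prod) by
      rw [mul_assoc, mul_assoc, ← mul_assoc l.prod, ← hxl.eq, mul_assoc], hs x (List.mem_cons_self ..),
      prod_mul_self l (fun a ha b hb => hc a (List.mem_cons_of_mem _ ha) b (List.mem_cons_of_mem _ hb))
        (fun a ha => hs a (List.mem_cons_of_mem _ ha)), one_mul]

theorem evR_mul_self {H : Type*} [Group H] {r : Fin 4 → H} (hc : ∀ i j, r i * r j = r j * r i)
    (hs : ∀ i, r i * r i = 1) (n : ℕ) : evR r n * evR r n = 1 := by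
  refine prod_mul_self _ ?_ ?_
  · intro x hx y hy
    obtain ⟨i, rfl⟩ := List.mem_ofFn.mp hx
    obtain ⟨j, rfl⟩ := List.mem_ofFn.mp hy
    split_ifs <;> simp [hc i j]
  · intro x hx
    obtain ⟨i, rfl⟩ := List.mem_ofFn.mp hx
    split_ifs <;> simp [hs i]

set_option maxHeartbeats 1600000 in
/-- The generators from a group of shape `3.(M22.2)`. -/
theorem ThreeExt.exists_gens {H : Type*} [Group H] [Finite H] (D : ThreeExt H)
    (hcard : Nat.card H = 2661120) : ∃ E : Gens H, Subgroup.zpowers E.t = Subgroup.zpowers D.t := by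
  classical
  obtain ⟨Pm⟩ := nonempty_perms
  have inj22 : ∀ x y : ↥Cfsg.Spor.M22, toList (x : Equiv.Perm Cfsg.GolayPt) = toList (y : Equiv.Perm Cfsg.GolayPt) →
      x = y := fun x y h => Subtype.ext (toList_injective h)
  have hm22 : ∀ x y : ↥Cfsg.Spor.M22, toList ((x * y : ↥Cfsg.Spor.M22) : Equiv.Perm Cfsg.GolayPt) =
      comp (toList (x : Equiv.Perm Cfsg.GolayPt)) (toList (y : Equiv.Perm Cfsg.GolayPt)) :=
    fun x y => toList_mul _ _
  have h122 : toList ((1 : ↥Cfsg.Spor.M22) : Equiv.Perm Cfsg.GolayPt) = List.range 24 := toList_one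
  have two_four : ∀ {m : ↥Cfsg.Spor.M22}, m * m = 1 → m ^ 4 = 1 := fun {m} h => by
    rw [pow_succ, pow_succ, pow_succ, pow_one, h, one_mul, h]
  -- lifts
  have hA4 : Pm.a ^ 4 = 1 := two_four (inj22 _ _ (by rw [hm22, h122, Pm.ha]; exact beq_iff_eq.mp rel_a))
  have hC4 : Pm.c ^ 4 = 1 := inj22 _ _ (by
    rw [show Pm.c ^ 4 = Pm.c * Pm.c * (Pm.c * Pm.c) by
      simp [pow_succ, mul_assoc]]
    rw [hm22, hm22, h122, Pm.hc]; exact beq_iff_eq.mp rel_c)
  have hrel := List.all_eq_true.mp rel_r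
  simp only [List.mem_range, Bool.and_eq_true, beq_iff_eq, List.all_eq_true] at hrel
  have hR4 : ∀ i, Pm.r i ^ 4 = 1 := fun i =>
    two_four (inj22 _ _ (by rw [hm22, h122, Pm.hr]; exact (hrel i.val i.isLt).1.1.1.1))
  obtain ⟨a, ha, ha4, -⟩ := D.exists_lift_four Pm.ha hA4
  obtain ⟨c, hc, hc4, -⟩ := D.exists_lift_four Pm.hc hC4
  choose r hr hr4 hr' using fun i => D.exists_lift_four (Pm.hr i) (hR4 i)
  have hXs : D.L (evW a c wX) = evL permA permC wX := D.L_evW ha hc wX
  have ma := D.mem_of_L (m := Pm.a) (ha.trans Pm.ha.symm)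
  have mc := D.mem_of_L (m := Pm.c) (hc.trans Pm.hc.symm)
  have mr := fun i => D.mem_of_L (m := Pm.r i) ((hr i).trans (Pm.hr i).symm)
  have mW : ∀ w, (D.ψ (evW a c w) : Equiv.Perm Cfsg.GolayPt) ∈ Cfsg.Spor.M22 := fun w => by
    induction w with
    | nil => simp [evW]
    | cons b w ih =>
      rw [show evW a c (b :: w) = (if b then c else a) * evW a c w by
        rw [evW, List.map_cons, List.prod_cons]; rfl, map_mul, Subgroup.coe_mul]
      refine mul_mem ?_ ih
      cases b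
      · exact ma
      · exact mc
  have haa : a * a = 1 := by
    refine D.eq_of_four (by simp) (D.psi_of_L ?_) ?_ (one_pow 4)
    · rw [D.L_mul, ha, D.L_one]; exact beq_iff_eq.mp rel_a
    · rw [← sq, ← pow_mul, show 2 * 4 = 4 * 2 from rfl, pow_mul, ha4, one_pow]
  have hrr : ∀ i, r i * r i = 1 := fun i => by
    refine D.eq_of_four (by simp) (D.psi_of_L ?_) ?_ (one_pow 4)
    · rw [D.L_mul, hr, D.L_one]; exact (hrel i.val i.isLt).1.1.1.1
    · rw [← sq, ← pow_mul, show 2 * 4 = 4 * 2 from rfl, pow_mul, hr4, one_pow]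
  have four_of_two : ∀ {x : H}, x * x = 1 → x ^ 4 = 1 := fun {x} h => by
    rw [pow_mul x 2 2, sq x, h, one_pow]
  have conj_two : ∀ {x y : H}, y * y = 1 → (x * y * x⁻¹) * (x * y * x⁻¹) = 1 := fun {x y} h => by
    rw [show x * y * x⁻¹ * (x * y * x⁻¹) = x * (y * y) * x⁻¹ by group, h, mul_one, mul_inv_cancel]
  have hrc : ∀ i j, r i * r j = r j * r i := fun i j => by
    refine mul_inv_eq_iff_eq_mul.mp ?_
    refine D.eq_of_four (mr j) ?_ (four_of_two (conj_two (hrr j))) (hr4 j)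
    rw [map_mul, map_mul, map_inv, mul_inv_eq_iff_eq_mul, ← map_mul, ← map_mul]
    refine D.psi_of_L ?_
    rw [D.L_mul, D.L_mul, hr, hr]
    exact (hrel i.val i.isLt).1.1.1.2 j.val j.isLt
  have hevR : ∀ n, evR r n * evR r n = 1 := evR_mul_self hrc hrr
  have hevR' : ∀ n, D.L (evR r n) = evLR n := D.L_evR hr
  have mR : ∀ n, (D.ψ (evR r n) : Equiv.Perm Cfsg.GolayPt) ∈ Cfsg.Spor.M22 := fun n => by
    rw [evR, map_list_prod]
    rw [SubmonoidClass.coe_list_prod]
    refine list_prod_mem fun x hx => ?_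
    simp only [List.map_map, List.mem_map, List.mem_ofFn] at hx
    obtain ⟨y, ⟨i, rfl⟩, rfl⟩ := hx
    simp only [Function.comp_apply]
    split_ifs
    · exact mr i
    · simp
  -- `g`: its square is a product of involution type
  have hGGinv : evW a c wGG * evW a c wGG = 1 := by
    have h1 : c * c * (c * c) = 1 := by rw [← hc4]; simp [pow_succ, mul_assoc]
    have h3 : c⁻¹ = c * (c * c) := inv_eq_of_mul_eq_one_right (by rw [← mul_assoc]; exact h1)
    have e : evW a c wGG = (evW a c wGG)⁻¹ := by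
      simp only [evW, wGG, List.map_cons, List.map_nil, List.prod_cons, List.prod_nil,
        Bool.false_eq_true, if_false, if_true, mul_one]
      simp only [mul_inv_rev, inv_eq_of_mul_eq_one_right haa, h3, mul_assoc]
      simp only [show ∀ x, c * (c * (c * (c * x))) = x from fun x => by
        rw [← mul_assoc c c, ← mul_assoc c c x, ← mul_assoc (c * c) (c * c) x, h1, one_mul]]
    nth_rw 1 [e]
    exact inv_mul_cancel _
  set gg : ↥Cfsg.Spor.M22 := ⟨_, mW wGG⟩ with hgg
  have hG2 : Pm.g * Pm.g = gg := inj22 _ _ (by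
    rw [hm22, Pm.hg]
    exact (beq_iff_eq.mp rel_gg).trans (D.L_evW ha hc wGG).symm)
  have hG4 : Pm.g ^ 4 = 1 := by
    rw [pow_mul Pm.g 2 2, sq Pm.g, hG2, sq gg]
    refine Subtype.ext ?_
    show ((D.ψ (evW a c wGG) : ↥(setStab twoPts)) : Equiv.Perm Cfsg.GolayPt) * D.ψ (evW a c wGG) = _
    rw [← Subgroup.coe_mul, ← map_mul, hGGinv, map_one]
    rfl
  obtain ⟨g, hg, hg4, -⟩ := D.exists_lift_four Pm.hg hG4
  have mg := D.mem_of_L (m := Pm.g) (hg.trans Pm.hg.symm)
  obtain ⟨u, hu⟩ := D.surj Pm.u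
  have hu' : D.L u = permU := by
    show toList ((D.ψ u : ↥(setStab twoPts)) : Equiv.Perm Cfsg.GolayPt) = permU
    rw [hu]; exact Pm.hu
  have huout : (D.ψ u : Equiv.Perm Cfsg.GolayPt) ∉ Cfsg.Spor.M22 := by rw [hu]; exact Pm.hu_outer
  set X := evW a c wX
  set Y := evW a c wY
  set t := ⁅X, Y⁆ with ht
  have hxy := rel_xy
  simp only [Bool.and_eq_true, beq_iff_eq] at hxy
  have hψt : D.ψ t = 1 := by
    rw [ht, map_commutatorElement, commutatorElement_eq_one_iff_mul_comm, ← map_mul, ← map_mul]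
    refine D.psi_of_L ?_
    rw [D.L_mul, D.L_mul, D.L_evW ha hc, D.L_evW ha hc]
    exact hxy.1.1
  -- the nine products of the images of `X`, `Y`
  set x : ↥Cfsg.Spor.M22 := ⟨_, mW wX⟩ with hx
  set y : ↥Cfsg.Spor.M22 := ⟨_, mW wY⟩ with hy
  have hxl : toList (x : Equiv.Perm Cfsg.GolayPt) = evL permA permC wX := D.L_evW ha hc wX
  have hyl : toList (y : Equiv.Perm Cfsg.GolayPt) = evL permA permC wY := D.L_evW ha hc wY
  have hxyc : x * y = y * x := inj22 _ _ (by rw [hm22, hm22, hxl, hyl]; exact hxy.1.1)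
  have hord := orders_check
  simp only [Bool.and_eq_true, beq_iff_eq, Bool.not_eq_true', beq_eq_false_iff_ne, List.all_eq_true,
    List.mem_range, Bool.or_eq_true, Nat.beq_eq] at hord
  obtain ⟨⟨⟨⟨⟨⟨h7, h7'⟩, h11⟩, h11'⟩, h5'⟩, h16⟩, h9⟩ := hord
  have hpowL : ∀ (m : ↥Cfsg.Spor.M22) (n : ℕ),
      toList ((m ^ n : ↥Cfsg.Spor.M22) : Equiv.Perm Cfsg.GolayPt) = powL (toList (m : Equiv.Perm Cfsg.GolayPt)) n := by
    intro m n
    induction n with
    | zero => rw [pow_zero, h122]; rfl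
    | succ k ih => rw [pow_succ', hm22, ih]; rfl
  have hx3 : x ^ 3 = 1 := inj22 _ _ (by rw [hpowL, hxl, h122]; decide +kernel)
  have hy3 : y ^ 3 = 1 := inj22 _ _ (by rw [hpowL, hyl, h122]; decide +kernel)
  have hc9 : Nat.card (Subgroup.closure ({x, y} : Set ↥Cfsg.Spor.M22)) = 9 := by
    set S9 := Subgroup.closure ({x, y} : Set ↥Cfsg.Spor.M22)
    haveI : Fact (Nat.Prime 3) := ⟨Nat.prime_three⟩
    have hcm : ∀ a' ∈ ({x, y} : Set ↥Cfsg.Spor.M22), ∀ b' ∈ ({x, y} : Set ↥Cfsg.Spor.M22), a' * b' = b' * a' := by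
      rintro a' (rfl | rfl) b' (rfl | rfl)
      exacts [rfl, hxyc, hxyc.symm, rfl]
    have hp : IsPGroup 3 S9 := fun w => ⟨1, Subtype.ext (by
      haveI := Subgroup.isMulCommutative_closure hcm
      obtain ⟨w, hw⟩ := w
      show w ^ (3 ^ 1) = 1
      induction hw using Subgroup.closure_induction with
      | mem v hv => rcases hv with rfl | rfl <;> simpa
      | one => exact one_pow _
      | mul a' b' ha' hb' h1 h2 => rw [Commute.mul_pow (setLike_mul_comm ha' hb'), h1, h2, one_mul]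
      | inv a' _ h1 => rw [inv_pow, h1, inv_one])⟩
    obtain ⟨k, hk⟩ := IsPGroup.iff_card.mp hp
    have hge : 9 ≤ Nat.card S9 := by
      rw [← Nat.card_fin 9]
      refine Nat.card_le_card_of_injective
        (fun m : Fin 9 => (⟨x ^ (m.val % 3) * y ^ (m.val / 3), mul_mem
          (pow_mem (show x ∈ S9 from Subgroup.subset_closure (Or.inl rfl)) _)
          (pow_mem (show y ∈ S9 from Subgroup.subset_closure (Or.inr rfl)) _)⟩ : S9)) fun m n e => ?_
      have e' : x ^ (m.val % 3) * y ^ (m.val / 3) = x ^ (n.val % 3) * y ^ (n.val / 3) :=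
        congrArg Subtype.val e
      rcases h9 m.val m.isLt n.val n.isLt with h | h
      · exact Fin.ext h
      · refine absurd ?_ h
        rw [← hxl, ← hyl, ← hpowL, ← hpowL, ← hm22, ← hpowL, ← hpowL, ← hm22, e']
    have hd : 3 ^ k ∣ 443520 := by
      rw [← hk, ← natCard_sporM22]; exact Subgroup.card_subgroup_dvd_card S9
    have hk2 : k ≤ 2 := by
      by_contra h
      have h27 : (27 : ℕ) ∣ 443520 := (dvd_trans (by norm_num) (pow_dvd_pow 3 (not_le.mp h))).trans hd
      norm_num at h27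
    rw [hk] at hge ⊢
    interval_cases k <;> simp_all
  have htne : t ≠ 1 := fun e => D.nonsplit x y X Y hc9 rfl rfl
    (commutatorElement_eq_one_iff_mul_comm.mp e)
  have htT : t ∈ Subgroup.zpowers D.t := (D.ker _).mp hψt
  have hTt : Subgroup.zpowers t = Subgroup.zpowers D.t := by
    refine Subgroup.eq_of_le_of_card_ge (Subgroup.zpowers_le.mpr htT) ?_
    rw [Nat.card_zpowers, Nat.card_zpowers, orderOf_eq_prime D.t_cube D.t_ne]
    have h := Subgroup.orderOf_dvd_natCard _ htT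
    rw [Nat.card_zpowers, orderOf_eq_prime D.t_cube D.t_ne] at h
    have h1 : orderOf t ≠ 1 := fun h' => htne (orderOf_eq_one_iff.mp h')
    exact (Nat.le_of_eq ((Nat.prime_three.eq_one_or_self_of_dvd _ h).resolve_left h1).symm)
  have ht3 : t ^ 3 = 1 := by
    obtain ⟨k, hk⟩ := Subgroup.mem_zpowers_iff.mp htT
    rw [← hk, ← zpow_natCast (D.t ^ k) 3, ← zpow_mul, mul_comm, zpow_mul, zpow_natCast, D.t_cube, one_zpow]
  have hfin : IsOfFinOrder t := isOfFinOrder_iff_pow_eq_one.mpr ⟨3, by norm_num, ht3⟩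
  have hpow : ∀ {v w : H}, D.L v = D.L w → ∃ k : ℕ, v = t ^ k * w := by
    intro v w h
    obtain ⟨k, hk⟩ := D.eq_pow_mul (D.psi_of_L h)
    have : D.t ^ k ∈ Subgroup.zpowers t := hTt ▸ pow_mem (Subgroup.mem_zpowers _) k
    rw [← hfin.mem_powers_iff_mem_zpowers, Submonoid.mem_powers_iff] at this
    obtain ⟨j, hj⟩ := this
    exact ⟨j, by rw [hj, ← hk]⟩
  have conj_L : ∀ {v w s : H}, comp (D.L v) (D.L w) = comp (D.L s) (D.L v) →
      D.L (v * w * v⁻¹) = D.L s := by
    intro v w s h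
    have h' : D.ψ (v * w) = D.ψ (s * v) := D.psi_of_L (by rw [D.L_mul, D.L_mul]; exact h)
    show toList ((D.ψ (v * w * v⁻¹) : ↥(setStab twoPts)) : Equiv.Perm Cfsg.GolayPt) = D.L s
    rw [map_mul, map_inv, h', map_mul, mul_inv_cancel_right]
    rfl
  have comm_t : ∀ {h : H}, (D.ψ h : Equiv.Perm Cfsg.GolayPt) ∈ Cfsg.Spor.M22 → h * t = t * h := by
    intro h hh
    obtain ⟨k, hk⟩ := Subgroup.mem_zpowers_iff.mp htT
    rw [← hk]
    exact ((show Commute h D.t from D.t_comm h hh).zpow_right k).eq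
  have hut : u * t * u⁻¹ = t⁻¹ := by
    obtain ⟨k, hk⟩ := Subgroup.mem_zpowers_iff.mp htT
    rw [← hk, ← conj_zpow, D.t_inv u huout, inv_zpow]
  have huu : u * u = 1 := by
    obtain ⟨k, hk⟩ := hpow (v := u * u) (w := 1) (by
      rw [D.L_mul, hu', D.L_one]; exact beq_iff_eq.mp rel_u)
    rw [mul_one] at hk
    have h : u * t ^ k * u⁻¹ = t ^ k := by rw [← hk]; group
    rw [← conj_pow, hut, inv_pow, inv_eq_iff_mul_eq_one] at h
    have h3' : (t ^ k) ^ 3 = 1 := by rw [← pow_mul, mul_comm, pow_mul, ht3, one_pow]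
    rw [pow_three, h, mul_one] at h3'
    rw [hk, h3']
  have hgg2 : g * g = evW a c wGG := by
    refine D.eq_of_four (mW wGG) (D.psi_of_L ?_) ?_ (four_of_two hGGinv)
    · rw [D.L_mul, hg, D.L_evW ha hc]; exact beq_iff_eq.mp rel_gg
    · rw [← sq, ← pow_mul, show 2 * 4 = 4 * 2 from rfl, pow_mul, hg4, one_pow]
  have hac2 : (a * (c * c)) ^ 5 = 1 := by
    obtain ⟨k, hk⟩ := hpow (v := (a * (c * c)) ^ 5) (w := 1) (by
      simp only [pow_succ, pow_zero, one_mul, mul_assoc, D.L_mul, ha, hc, D.L_one]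
      decide +kernel)
    rw [mul_one] at hk
    have mcc : (D.ψ (c * c) : Equiv.Perm Cfsg.GolayPt) ∈ Cfsg.Spor.M22 := by
      rw [map_mul, Subgroup.coe_mul]; exact mul_mem mc mc
    have h1 : c * c * (c * c) = 1 := by rw [← hc4]; simp [pow_succ, mul_assoc]
    have hinv : (c * c) * (a * (c * c)) * (c * c)⁻¹ = (a * (c * c))⁻¹ := by
      rw [mul_inv_rev a (c * c), inv_eq_of_mul_eq_one_right haa, inv_eq_of_mul_eq_one_right h1,
        mul_assoc (c * c) (a * (c * c)), mul_assoc a, h1, mul_one]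
    have h2 : ((a * (c * c)) ^ 5)⁻¹ = (a * (c * c)) ^ 5 := by
      rw [← inv_pow, ← hinv, conj_pow, hk,
        ((show Commute (c * c) t from comm_t mcc).pow_right k).eq, mul_inv_cancel_right]
    rw [hk, inv_eq_iff_mul_eq_one] at h2
    have h3' : (t ^ k) ^ 3 = 1 := by rw [← pow_mul, mul_comm, pow_mul, ht3, one_pow]
    rw [pow_three, h2, mul_one] at h3'
    rw [hk, h3']
  have hconjR : ∀ {v : H} {i : Fin 4} {n : ℕ},
      comp (D.L v) (permR.getD i.val []) = comp (evLR n) (D.L v) → v * r i * v⁻¹ = evR r n := by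
    intro v i n h
    refine D.eq_of_four (mR n) (D.psi_of_L (conj_L ?_)) (four_of_two (conj_two (hrr i)))
      (four_of_two (hevR n))
    rw [hr, hevR']
    exact h
  set S : Set H := {a, c, g, u} ∪ Set.range r with hS
  set K := Subgroup.closure S with hK
  set K' : Subgroup ↥Cfsg.Spor.M22 := (K.map D.ψ).comap (Subgroup.inclusion sporM22_le_setStab) with hK'
  have haK : a ∈ K := Subgroup.subset_closure (Or.inl (Or.inl rfl))
  have hcK : c ∈ K := Subgroup.subset_closure (Or.inl (Or.inr (Or.inl rfl)))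
  have hgK : g ∈ K := Subgroup.subset_closure (Or.inl (Or.inr (Or.inr (Or.inl rfl))))
  have huK : u ∈ K := Subgroup.subset_closure (Or.inl (Or.inr (Or.inr (Or.inr rfl))))
  have hrK : ∀ i, r i ∈ K := fun i => Subgroup.subset_closure (Or.inr ⟨i, rfl⟩)
  have memK' : ∀ {m : ↥Cfsg.Spor.M22} {v : H}, v ∈ K →
      D.L v = toList (m : Equiv.Perm Cfsg.GolayPt) → m ∈ K' := fun {m v} hv h =>
    ⟨v, hv, Subtype.ext (toList_injective h)⟩
  have hwK : ∀ w, evW a c w ∈ K := fun w => by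
    refine list_prod_mem fun v hv => ?_
    obtain ⟨b, -, rfl⟩ := List.mem_map.mp hv
    cases b
    · exact haK
    · exact hcK
  have htK : t ∈ K := by
    rw [ht, commutatorElement_def]
    exact mul_mem (mul_mem (mul_mem (hwK _) (hwK _)) (inv_mem (hwK _))) (inv_mem (hwK _))
  have hdiv : 55440 ∣ Nat.card K' := by
    have prime_dvd : ∀ {p : ℕ}, p.Prime → ∀ {m : ↥Cfsg.Spor.M22} {v : H}, v ∈ K →
        D.L v = toList (m : Equiv.Perm Cfsg.GolayPt) →
        powL (toList (m : Equiv.Perm Cfsg.GolayPt)) p = List.range 24 →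
        toList (m : Equiv.Perm Cfsg.GolayPt) ≠ List.range 24 → p ∣ Nat.card K' := by
      intro p hp m v hv h hpw hne'
      haveI : Fact p.Prime := ⟨hp⟩
      have ho : orderOf m = p := orderOf_eq_prime (inj22 _ _ (by rw [hpowL, h122]; exact hpw))
        fun e => hne' (by rw [e, h122])
      rw [← ho]
      exact Subgroup.orderOf_dvd_natCard _ (memK' hv h)
    have h7d : 7 ∣ Nat.card K' := by
      refine prime_dvd (by norm_num) (m := Pm.g * Pm.r 0) (mul_mem hgK (hrK 0)) ?_ ?_ ?_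
      · rw [D.L_mul, hm22, hg, hr, Pm.hg, Pm.hr]
      · rw [hm22, Pm.hg, Pm.hr]; exact h7
      · rw [hm22, Pm.hg, Pm.hr]; exact h7'
    have h11d : 11 ∣ Nat.card K' := by
      refine prime_dvd (by norm_num) (m := Pm.a * (Pm.g * Pm.r 0)) (mul_mem haK (mul_mem hgK (hrK 0))) ?_ ?_ ?_
      · rw [D.L_mul, D.L_mul, hm22, hm22, ha, hg, hr, Pm.ha, Pm.hg, Pm.hr]
      · rw [hm22, hm22, Pm.ha, Pm.hg, Pm.hr]; exact h11
      · rw [hm22, hm22, Pm.ha, Pm.hg, Pm.hr]; exact h11'
    have h5d : 5 ∣ Nat.card K' := by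
      refine prime_dvd (by norm_num) (m := Pm.a * Pm.c) (mul_mem haK hcK) ?_ ?_ ?_
      · rw [D.L_mul, hm22, ha, hc, Pm.ha, Pm.hc]
      · rw [hm22, Pm.ha, Pm.hc]; decide +kernel
      · rw [hm22, Pm.ha, Pm.hc]; exact h5'
    have h9d : 9 ∣ Nat.card K' := by
      rw [← hc9]
      refine Subgroup.card_dvd_of_le ((Subgroup.closure_le _).mpr ?_)
      rintro v (rfl | rfl)
      · exact memK' (hwK wX) rfl
      · exact memK' (hwK wY) rfl
    have h16d : 16 ∣ Nat.card K' := by
      set R' : Subgroup ↥Cfsg.Spor.M22 := Subgroup.closure (Set.range Pm.r)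
      have hR'le : R' ≤ K' := (Subgroup.closure_le _).mpr (by
        rintro v ⟨i, rfl⟩; exact memK' (hrK i) ((hr i).trans (Pm.hr i).symm))
      refine dvd_trans ?_ (Subgroup.card_dvd_of_le hR'le)
      haveI : Fact (Nat.Prime 2) := ⟨Nat.prime_two⟩
      have hmemR : ∀ n, (⟨_, mR n⟩ : ↥Cfsg.Spor.M22) ∈ R' := by
        intro n
        have : ∀ l : List H, (∀ v ∈ l, (D.ψ v : Equiv.Perm Cfsg.GolayPt) ∈
            R'.map Cfsg.Spor.M22.subtype) →
            (D.ψ l.prod : Equiv.Perm Cfsg.GolayPt) ∈ R'.map Cfsg.Spor.M22.subtype := by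
          intro l hl
          induction l with
          | nil => simp
          | cons v l ih =>
            rw [List.prod_cons, map_mul, Subgroup.coe_mul]
            exact mul_mem (hl v (List.mem_cons_self ..)) (ih fun w hw => hl w (List.mem_cons_of_mem _ hw))
        obtain ⟨v, hv, he⟩ := Subgroup.mem_map.mp (this (List.ofFn fun i : Fin 4 =>
          if Nat.testBit n i.val then r i else 1) fun v hv => by
            obtain ⟨i, rfl⟩ := List.mem_ofFn.mp hv
            split_ifs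
            · exact ⟨Pm.r i, Subgroup.subset_closure ⟨i, rfl⟩, (hr' i).symm⟩
            · simp)
        rw [show (⟨_, mR n⟩ : ↥Cfsg.Spor.M22) = v from Subtype.ext he.symm]
        exact hv
      have hcr : ∀ v ∈ Set.range Pm.r, ∀ w ∈ Set.range Pm.r, v * w = w * v := by
        rintro _ ⟨i, rfl⟩ _ ⟨j, rfl⟩
        refine inj22 _ _ ?_
        rw [hm22, hm22, Pm.hr, Pm.hr]
        exact (hrel i.val i.isLt).1.1.1.2 j.val j.isLt
      have hp : IsPGroup 2 R' := fun w => ⟨1, Subtype.ext (by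
        haveI := Subgroup.isMulCommutative_closure hcr
        obtain ⟨w, hw⟩ := w
        show w ^ (2 ^ 1) = 1
        induction hw using Subgroup.closure_induction with
        | mem v hv =>
          obtain ⟨i, rfl⟩ := hv
          show Pm.r i ^ (2 : ℕ) = 1
          rw [sq]
          exact inj22 _ _ (by rw [hm22, h122, Pm.hr]; exact (hrel i.val i.isLt).1.1.1.1)
        | one => exact one_pow _
        | mul a' b' ha' hb' h1 h2 => rw [Commute.mul_pow (setLike_mul_comm ha' hb'), h1, h2, one_mul]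
        | inv a' _ h1 => rw [inv_pow, h1, inv_one])⟩
      obtain ⟨k, hk⟩ := IsPGroup.iff_card.mp hp
      have hge : 16 ≤ Nat.card R' := by
        rw [← Nat.card_fin 16]
        refine Nat.card_le_card_of_injective (fun n : Fin 16 => (⟨_, hmemR n.val⟩ : R')) fun m n e => ?_
        rcases h16 m.val m.isLt n.val n.isLt with h | h
        · exact Fin.ext h
        · refine absurd ?_ h
          rw [← hevR', ← hevR']
          exact congrArg (fun v : R' => toList (((v : ↥Cfsg.Spor.M22)) : Equiv.Perm Cfsg.GolayPt)) e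
      rw [hk] at hge ⊢
      rcases Nat.lt_or_ge k 4 with h | h
      · have := Nat.pow_le_pow_right (by norm_num : 2 > 0) (Nat.le_of_lt_succ h)
        omega
      · exact (show (16 : ℕ) = 2 ^ 4 from rfl) ▸ pow_dvd_pow 2 h
    have h35 : 35 ∣ Nat.card K' := (by norm_num : Nat.Coprime 5 7).mul_dvd_of_dvd_of_dvd h5d h7d
    have h385 : 385 ∣ Nat.card K' := (by norm_num : Nat.Coprime 35 11).mul_dvd_of_dvd_of_dvd h35 h11d
    have h3465 : 3465 ∣ Nat.card K' := (by norm_num : Nat.Coprime 385 9).mul_dvd_of_dvd_of_dvd h385 h9d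
    exact (by norm_num : Nat.Coprime 3465 16).mul_dvd_of_dvd_of_dvd h3465 h16d
  have hKtop : K = ⊤ := by
    have htop := subgroup_M22_top hdiv
    rw [eq_top_iff]
    intro v _
    have h2 : (Cfsg.Spor.M22.subgroupOf (setStab twoPts)).index = 2 := index_sporM22
    have key : ∀ w : H, (D.ψ w : Equiv.Perm Cfsg.GolayPt) ∈ Cfsg.Spor.M22 → w ∈ K := by
      intro w hw
      have hm' : (⟨_, hw⟩ : ↥Cfsg.Spor.M22) ∈ K' := htop ▸ Subgroup.mem_top _
      obtain ⟨k, hk, he⟩ := hm'
      have hk2 : k⁻¹ * w ∈ Subgroup.zpowers D.t := by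
        rw [← D.ker, map_mul, map_inv, inv_mul_eq_one]
        exact Subtype.ext (congrArg Subtype.val he)
      rw [← hTt] at hk2
      have := mul_mem hk (Subgroup.zpowers_le.mpr htK hk2)
      rwa [mul_inv_cancel_left] at this
    by_cases hv : (D.ψ v : Equiv.Perm Cfsg.GolayPt) ∈ Cfsg.Spor.M22
    · exact key v hv
    · have hvu : D.ψ v * D.ψ u ∈ Cfsg.Spor.M22.subgroupOf (setStab twoPts) :=
        (Subgroup.mul_mem_iff_of_index_two h2).mpr (iff_of_false hv huout)
      have := mul_mem (key (v * u) (by rw [map_mul]; exact hvu)) (inv_mem huK)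
      rwa [mul_inv_cancel_right] at this
  refine ⟨⟨a, c, g, u, r, t, rfl, hcard, hKtop, ht3, htne, comm_t ma, comm_t mc, comm_t mg,
    fun i => comm_t (mr i), hut, haa, hc4, ?_, hac2, hrr, hrc,
    fun i => hconjR (by rw [ha]; exact (hrel i.val i.isLt).1.1.2),
    fun i => hconjR (by rw [hc]; exact (hrel i.val i.isLt).1.2),
    ?_, ?_, hgg2, huu, ?_, ?_,
    fun i => hconjR (by rw [hu']; exact (hrel i.val i.isLt).2), ?_⟩, hTt⟩
  · obtain ⟨k, hk⟩ := hpow (v := (a * c) ^ 5) (w := 1) (by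
      simp only [pow_succ, pow_zero, one_mul, mul_assoc, D.L_mul, ha, hc, D.L_one]
      decide +kernel)
    exact ⟨k, by rw [hk, mul_one]⟩
  · exact hpow (conj_L (by rw [hg, ha, D.L_evW ha hc]; exact beq_iff_eq.mp rel_ga))
  · exact hpow (conj_L (by rw [hg, hc, D.L_evW ha hc]; exact beq_iff_eq.mp rel_gc))
  · exact hpow (conj_L (by rw [hu', ha]; exact beq_iff_eq.mp rel_ua))
  · exact hpow (conj_L (by rw [hu', hc, D.L_evW ha hc]; exact beq_iff_eq.mp rel_uc))
  intro N hN hr0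
  haveI := isSimpleGroup_sporM22
  haveI : (N.map D.ψ).Normal := hN.map _ D.surj
  have hn : ((N.map D.ψ).comap (Subgroup.inclusion sporM22_le_setStab)) = ⊤ := by
    refine (inferInstance : ((N.map D.ψ).comap (Subgroup.inclusion sporM22_le_setStab)).Normal).eq_bot_or_eq_top.resolve_left fun hb => ?_
    have h0 : Pm.r 0 ∈ (N.map D.ψ).comap (Subgroup.inclusion sporM22_le_setStab) :=
      ⟨r 0, hr0, Subtype.ext (hr' 0)⟩
    rw [hb, Subgroup.mem_bot] at h0
    have := h16 0 (by norm_num) 1 (by norm_num)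
    rcases this with h | h
    · omega
    · refine h ?_
      rw [← hevR' 0, ← hevR' 1]
      have e1 : evR r 1 = r 0 := by simp [evR, List.ofFn_succ, Nat.testBit, Nat.shiftRight_eq_div_pow]
      have e0 : evR r 0 = 1 := by simp [evR, List.ofFn_succ]
      rw [e0, e1, hr, ← Pm.hr, h0, h122, D.L_one]
  have lift : ∀ v : H, (D.ψ v : Equiv.Perm Cfsg.GolayPt) ∈ Cfsg.Spor.M22 →
      ∃ k : ℤ, v * D.t ^ k ∈ N := by
    intro v hv
    have hm' : (⟨_, hv⟩ : ↥Cfsg.Spor.M22) ∈ (N.map D.ψ).comap (Subgroup.inclusion sporM22_le_setStab) :=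
      hn ▸ Subgroup.mem_top _
    obtain ⟨n, hnN, he⟩ := hm'
    obtain ⟨k, hk⟩ := D.eq_mul_zpow (x := n) (y := v) (Subtype.ext (congrArg Subtype.val he))
    exact ⟨k, hk ▸ hnN⟩
  obtain ⟨i, hi⟩ := lift X (mW wX)
  obtain ⟨j, hj⟩ := lift Y (mW wY)
  have hXi : Commute X (D.t ^ i) := (show Commute X D.t from D.t_comm X (mW wX)).zpow_right i
  have hXj : Commute X (D.t ^ j) := (show Commute X D.t from D.t_comm X (mW wX)).zpow_right j
  have hYi : Commute Y (D.t ^ i) := (show Commute Y D.t from D.t_comm Y (mW wY)).zpow_right i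
  have hYj : Commute Y (D.t ^ j) := (show Commute Y D.t from D.t_comm Y (mW wY)).zpow_right j
  have e : t = ⁅X * D.t ^ i, Y * D.t ^ j⁆ := by
    rw [ht, commutatorElement_def, commutatorElement_def, mul_inv_rev, mul_inv_rev]
    set T1 := D.t ^ i
    set T2 := D.t ^ j
    have hTT : Commute T1 T2 := (Commute.refl D.t).zpow_zpow i j
    symm
    calc X * T1 * (Y * T2) * (T1⁻¹ * X⁻¹) * (T2⁻¹ * Y⁻¹)
        = X * (T1 * Y) * (T2 * T1⁻¹) * X⁻¹ * T2⁻¹ * Y⁻¹ := by group
      _ = X * (Y * T1) * (T1⁻¹ * T2) * X⁻¹ * T2⁻¹ * Y⁻¹ := by rw [hYi.symm.eq, hTT.symm.inv_right.eq]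
      _ = X * Y * (T2 * X⁻¹) * T2⁻¹ * Y⁻¹ := by group
      _ = X * Y * X⁻¹ * Y⁻¹ := by rw [hXj.inv_left.symm.eq]; group
  show t ∈ N
  rw [e, commutatorElement_def]
  exact mul_mem (mul_mem (mul_mem hi hj) (inv_mem hi)) (inv_mem hj)

/-- Janko-four type gives the generators. -/
theorem exists_gens {G : Type*} [Group G] [Finite G] {z : G} {P : Subgroup G}
    (h : Cfsg.IsOfJankoFourTypeWith z P) : ∃ D : Gens (↥(CC z) ⧸ QQ z),
      (∀ v, (ext13_of h).rep.ρ D.t v = v → v = 0) ∧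
      (P.subgroupOf (CC z)).map (QuotientGroup.mk' (QQ z)) = Subgroup.zpowers D.t := by
  obtain ⟨D, q, hq, hq1, hDt⟩ := exists_threeExt h
  have hcard : Nat.card (↥(CC z) ⧸ QQ z) = 2661120 := by
    have hc := Subgroup.card_eq_card_quotient_mul_card_subgroup (QQ z)
    rw [(ext13_of h).card_Q, J4Type86.card_cH h] at hc
    omega
  obtain ⟨E, hE⟩ := D.exists_gens hcard
  refine ⟨E, ?_, ?_⟩
  · intro v hv
    obtain ⟨a, rfl⟩ := pr_surj v
    have hfixD : (ext13_of h).rep.ρ D.t (pr a) = pr a := by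
      have hmem : D.t ∈ Subgroup.zpowers E.t := by rw [hE]; exact Subgroup.mem_zpowers _
      have hfin : IsOfFinOrder E.t := isOfFinOrder_iff_pow_eq_one.mpr ⟨3, by norm_num, E.t_cube⟩
      rw [← hfin.mem_powers_iff_mem_zpowers, Submonoid.mem_powers_iff] at hmem
      obtain ⟨n, hn⟩ := hmem
      rw [← hn]
      clear hn
      induction n with
      | zero => rw [pow_zero, map_one]; rfl
      | succ m ih =>
        rw [pow_succ, map_mul]
        show (ext13_of h).rep.ρ (E.t ^ m) ((ext13_of h).rep.ρ E.t (pr a)) = pr a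
        rw [hv, ih]
    rw [hDt, (ext13_of h).rep_apply, (ext13_of h).pr_eq_iff] at hfixD
    rw [(ext13_of h).pr_eq_zero]
    set qc : ↥(CC z) := ⟨q, J4Type86.P_le_cH h hq⟩
    have hcen : ∀ w : ↥(QQ z), w ∈ Subgroup.center ↥(QQ z) ↔ ((w : ↥(CC z)) : G) = 1 ∨ ((w : ↥(CC z)) : G) = z := by
      intro w
      have hw : ((w : ↥(CC z)) : G) ∈ Cfsg.twoCoreOfCentralizer z := mem_QQ_iff.mp w.2
      rw [Subgroup.mem_center_iff]
      constructor
      · intro hc
        refine (J4Type86.extraAt h).central_cases hw fun v hv => ?_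
        exact congrArg (fun b : ↥(QQ z) => ((b : ↥(CC z)) : G))
          (hc ⟨⟨v, J4Type86.core_le_cH hv⟩, mem_QQ_iff.mpr hv⟩)
      · intro hc v
        refine Subtype.ext (Subtype.ext ?_)
        show ((v : ↥(CC z)) : G) * ((w : ↥(CC z)) : G) = ((w : ↥(CC z)) : G) * ((v : ↥(CC z)) : G)
        rcases hc with e | e <;> rw [e]
        · simp
        · exact (J4Type86.extraAt h).comm_z (mem_QQ_iff.mp v.2)
    set e : J4Type86.CoreT z := ⟨((a : ↥(CC z)) : G), mem_QQ_iff.mp a.2⟩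
    have hfix : J4Type86.coreAct ⟨q, J4Type86.P_le_cH h hq⟩
        (Additive.ofMul (e : J4Type86.CoreT z ⧸ Subgroup.center (J4Type86.CoreT z))) =
        Additive.ofMul (e : J4Type86.CoreT z ⧸ Subgroup.center (J4Type86.CoreT z)) := by
      rw [J4Type86.coreAct_mk]
      congr 1
      rw [QuotientGroup.eq, J4Type86.mem_center_core_iff h]
      exact (hcen _).mp hfixD
    have h0 : (e : J4Type86.CoreT z ⧸ Subgroup.center (J4Type86.CoreT z)) = 1 :=
      congrArg Additive.toMul (J4Type86.coreAct_q_fix h hq hq1 hfix)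
    rw [QuotientGroup.eq_one_iff, J4Type86.mem_center_core_iff h] at h0
    exact (hcen a).mpr h0
  · rw [hE]
    refine le_antisymm ?_ (Subgroup.zpowers_le.mpr ?_)
    · rintro _ ⟨⟨p, hp'⟩, hp, rfl⟩
      have hPq : P = Subgroup.zpowers q :=
        (Subgroup.eq_of_le_of_card_ge (Subgroup.zpowers_le.mpr hq) (by
          rw [J4Type86.card_P h, Nat.card_zpowers,
            orderOf_eq_prime (J4Type86.pow_three_P h hq) hq1])).symm
      have : p ∈ Subgroup.zpowers q := hPq ▸ hp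
      obtain ⟨n, hn⟩ := Subgroup.mem_zpowers_iff.mp this
      refine ⟨n, ?_⟩
      show D.t ^ n = _
      rw [hDt, ← QuotientGroup.mk_zpow]
      exact congrArg _ (Subtype.ext hn)
    · rw [hDt]
      exact ⟨⟨q, J4Type86.P_le_cH h hq⟩, hq, rfl⟩

end CfsgLib.J4Type
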