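import Cfsg.Agent.Lib.J4Type.CentSplit
import Cfsg.Agent.Lib.J4Type.Assemble
import Cfsg.Agent.Lib.J4Type.Model.Ctx
import Cfsg.Agent.Lib.PCore.Basic

/-!
A subgroup containing the centraliser of `z` and the normaliser of the subgroup of order `2^11` is the
whole group.
-/

set_option autoImplicit false
set_option linter.unusedSectionVars false

universe u

namespace CfsgLib.J4Type

variable {G : Type u} [Group G] [Finite G] {z : G} {P : Subgroup G}

/-- Janko-four type is inherited by a subgroup containing the centraliser. -/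
theorem type_subgroupOf (h : Cfsg.IsOfJankoFourTypeWith z P) {H : Subgroup G} (hC : CC z ≤ H) :
    ∃ hz : z ∈ H, Cfsg.IsOfJankoFourTypeWith (⟨z, hz⟩ : ↥H) (P.subgroupOf H) := by
  obtain ⟨hord, hext, hcard, hself, ⟨N, hEN, hNC, hnorm, hNcard, ⟨hNn, ⟨e⟩⟩, hPN⟩, hP3, hEP, hne, hcomm⟩ := h
  have hzC : z ∈ CC z := Subgroup.mem_centralizer_singleton_iff.2 rfl
  refine ⟨hC hzC, ?_⟩
  set z' : ↥H := ⟨z, hC hzC⟩
  have hsub := H.subtype_injective
  have hcc : Subgroup.centralizer ({z'} : Set ↥H) = (CC z).subgroupOf H := by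
    ext x
    rw [Subgroup.mem_subgroupOf, Subgroup.mem_centralizer_singleton_iff,
      Subgroup.mem_centralizer_singleton_iff, Subtype.ext_iff]
    rfl
  have hCmap : (Subgroup.centralizer ({z'} : Set ↥H)).map H.subtype = CC z := by
    rw [hcc, Subgroup.map_subgroupOf_eq_of_le hC]
  let f : ↥(Subgroup.centralizer ({z'} : Set ↥H)) ≃* ↥(CC z) :=
    (MulEquiv.subgroupCongr hcc).trans (Subgroup.subgroupOfEquivOfLe hC)
  have hf : ∀ x, ((f x : ↥(CC z)) : G) = ((x : ↥H) : G) := fun x => rfl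
  have hE : (Cfsg.twoCoreOfCentralizer z').map H.subtype = Cfsg.twoCoreOfCentralizer z := by
    unfold Cfsg.twoCoreOfCentralizer
    rw [← CfsgLib.PCore.map_pCore_equiv f, Subgroup.map_map, Subgroup.map_map]
    rfl
  have hEle : Cfsg.twoCoreOfCentralizer z ≤ CC z := Subgroup.map_subtype_le _
  have hEs : Cfsg.twoCoreOfCentralizer z' = (Cfsg.twoCoreOfCentralizer z).subgroupOf H := by
    rw [← hE]
    exact (Subgroup.comap_map_eq_self_of_injective hsub _).symm
  have : Fact (Nat.Prime 2) := ⟨Nat.prime_two⟩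
  have hPC : P ≤ CC z := hPN.trans hNC
  have hPH : P ≤ H := hPC.trans hC
  have hPs : (P.subgroupOf H).map H.subtype = P := Subgroup.map_subgroupOf_eq_of_le hPH
  have hmem : ∀ {S : Subgroup G} {x : ↥H}, x ∈ Subgroup.centralizer ((S.subgroupOf H : Subgroup ↥H) : Set ↥H) →
      S ≤ H → (x : G) ∈ Subgroup.centralizer (S : Set G) := fun {S x} hx hS => by
    rw [Subgroup.mem_centralizer_iff] at hx ⊢
    exact fun y hy => congrArg Subtype.val (hx ⟨y, hS hy⟩ (Subgroup.mem_subgroupOf.2 hy))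
  have hmem' : ∀ {S : Subgroup G} {x : ↥H}, (x : G) ∈ Subgroup.centralizer (S : Set G) →
      x ∈ Subgroup.centralizer ((S.subgroupOf H : Subgroup ↥H) : Set ↥H) := fun {S x} hx => by
    rw [Subgroup.mem_centralizer_iff] at hx ⊢
    exact fun y hy => Subtype.ext (hx y (Subgroup.mem_subgroupOf.1 hy))
  have hCP : (Subgroup.centralizer ({z'} : Set ↥H) ⊓
      Subgroup.centralizer ((P.subgroupOf H : Subgroup ↥H) : Set ↥H)).map H.subtype =
      CC z ⊓ Subgroup.centralizer (P : Set G) := by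
    refine le_antisymm ?_ fun x hx => ?_
    · rintro _ ⟨x, hx, rfl⟩
      exact ⟨hCmap.le ⟨x, hx.1, rfl⟩, hmem hx.2 hPH⟩
    · exact ⟨⟨x, hC hx.1⟩, ⟨by rw [hcc]; exact hx.1, hmem' hx.2⟩, rfl⟩
  refine ⟨?_, ?_, ?_, ?_, ⟨N.subgroupOf H, ?_, ?_, ?_, ?_, ?_, ?_⟩, ?_, ?_, ?_, ?_⟩
  · rw [← hord]; exact (orderOf_injective H.subtype hsub z').symm
  · rw [hEs]
    exact CfsgLib.LargeExtra.isExtraspecial_of_equiv
      (Subgroup.subgroupOfEquivOfLe (hEle.trans hC)).symm hext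
  · rw [hEs, Nat.card_congr (Subgroup.subgroupOfEquivOfLe (hEle.trans hC)).toEquiv, hcard]
  · intro x hx
    rw [hEs, Subgroup.mem_subgroupOf]
    refine hself ⟨hCmap.le ⟨x, hx.1, rfl⟩, hmem ?_ (hEle.trans hC)⟩
    rw [← hEs]
    exact hx.2
  · rw [hEs]; exact fun x hx => hEN hx
  · rw [hcc]; exact fun x hx => hNC hx
  · rw [hcc]
    intro x hx
    rw [Subgroup.mem_normalizer_iff]
    intro y
    rw [Subgroup.mem_subgroupOf, Subgroup.mem_subgroupOf]
    exact Subgroup.mem_normalizer_iff.1 (hnorm hx) y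
  · rw [hEs, Nat.card_congr (Subgroup.subgroupOfEquivOfLe (hEle.trans hC)).toEquiv,
      Nat.card_congr (Subgroup.subgroupOfEquivOfLe (hNC.trans hC)).toEquiv, hNcard]
  · have := hNn
    have hmapN : ((N.subgroupOf H).subgroupOf (Subgroup.centralizer ({z'} : Set ↥H))).map f.toMonoidHom =
        N.subgroupOf (CC z) := by
      ext y
      rw [Subgroup.mem_map_equiv, Subgroup.mem_subgroupOf, Subgroup.mem_subgroupOf, Subgroup.mem_subgroupOf,
        ← hf (f.symm y), MulEquiv.apply_symm_apply]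
    have hn : ((N.subgroupOf H).subgroupOf (Subgroup.centralizer ({z'} : Set ↥H))).Normal := by
      rw [← Subgroup.comap_map_eq_self_of_injective (f := f.toMonoidHom) f.injective
        ((N.subgroupOf H).subgroupOf (Subgroup.centralizer ({z'} : Set ↥H))), show
        ((N.subgroupOf H).subgroupOf (Subgroup.centralizer ({z'} : Set ↥H))).map f.toMonoidHom =
          N.subgroupOf (CC z) from hmapN]
      exact hNn.comap _
    exact ⟨hn, ⟨(QuotientGroup.congr _ _ f hmapN).trans e⟩⟩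
  · exact fun x hx => hPN hx
  · rw [Nat.card_congr (Subgroup.subgroupOfEquivOfLe hPH).toEquiv, hP3]
  · refine le_antisymm (fun x hx => ?_) ?_
    · rw [hEs] at hx
      obtain ⟨k, hk⟩ := Subgroup.mem_zpowers_iff.1 (show (x : G) ∈ Subgroup.zpowers z from
        hEP ▸ ⟨hx.1, hmem hx.2 hPH⟩)
      exact Subgroup.mem_zpowers_iff.2 ⟨k, Subtype.ext (by rw [SubgroupClass.coe_zpow]; exact hk)⟩
    · rw [Subgroup.zpowers_le, hEs]
      have h := hEP.ge (Subgroup.mem_zpowers z)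
      exact ⟨h.1, hmem' h.2⟩
  · intro heq
    refine hne (le_antisymm (fun x hx => ?_) (inf_le_inf_left _ (Subgroup.centralizer_le_normalizer _)))
    have h1 : (⟨x, hC hx.1⟩ : ↥H) ∈ Subgroup.centralizer ({z'} : Set ↥H) ⊓
        Subgroup.normalizer ((P.subgroupOf H : Subgroup ↥H) : Set ↥H) := by
      refine Subgroup.mem_inf.2 ⟨by rw [hcc]; exact hx.1, Subgroup.mem_normalizer_iff.2 fun y => ?_⟩
      rw [Subgroup.mem_subgroupOf, Subgroup.mem_subgroupOf]
      exact Subgroup.mem_normalizer_iff.1 hx.2 y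
    exact ⟨hx.1, hmem (heq.le h1).2 hPH⟩
  · refine (Subgroup.map_le_map_iff_of_injective hsub).1 ?_
    rw [hPs, Subgroup.map_commutator, hCP]
    exact hcomm

namespace Ctx

variable (X : Ctx z P)

/-- An involution of such a subgroup is conjugate within it into `Vg`. -/
theorem exists_conj_Vg_within (hmoved : ∃ m ∈ Subgroup.normalizer (X.Vg : Set G), m * z * m⁻¹ ≠ z)
    {H : Subgroup G} (hC : CC z ≤ H) (hN : Subgroup.normalizer (X.Vg : Set G) ≤ H)
    {x : G} (hx : x ∈ H) (hx2 : x * x = 1) : ∃ h ∈ H, h * x * h⁻¹ ∈ X.Vg := by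
  classical
  obtain ⟨hzH, htype⟩ := type_subgroupOf X.hyp hC
  obtain ⟨Y⟩ := exists_ctx htype
  set z' : ↥H := ⟨z, hzH⟩
  have hS := X.model.stabFacts
  have hS' := Y.model.stabFacts
  have hsub := H.subtype_injective
  set W := Y.Vg.map H.subtype with hW
  have hWe : Cfsg.IsElementaryAbelian 2 W := elementary_map (Y.Vg_elementary hS') _
  have hWc : Nat.card W = 2 ^ 11 := by
    rw [hW, Subgroup.card_map_of_injective hsub, Y.card_Vg hS']; norm_num
  have hVc : Nat.card X.Vg = 2 ^ 11 := by rw [X.card_Vg hS]; norm_num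
  have hWz : W ≤ CC z := by
    rintro _ ⟨v, hv, rfl⟩
    have hvz : v ∈ CC z' := Subgroup.map_subtype_le _ hv
    rw [Subgroup.mem_centralizer_singleton_iff] at hvz ⊢
    exact congrArg Subtype.val hvz
  obtain ⟨S, -, hin⟩ := X.exists_sylow
  obtain ⟨c₁, hc₁, hle₁⟩ := hin W (IsPGroup.of_card (n := 11) hWc) hWz
  obtain ⟨c₀, hc₀, hle₀⟩ := hin X.Vg (IsPGroup.of_card (n := 11) hVc) (Subgroup.map_subtype_le _)
  have heq : W.map (MulAut.conj c₁).toMonoidHom = X.Vg.map (MulAut.conj c₀).toMonoidHom :=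
    (X.vg_unique' S).unique
      ⟨hle₁, elementary_map hWe _,
        by rw [Subgroup.card_map_of_injective (MulAut.conj c₁).injective, hWc]⟩
      ⟨hle₀, elementary_map (X.Vg_elementary hS) _,
        by rw [Subgroup.card_map_of_injective (MulAut.conj c₀).injective, hVc]⟩
  set c := c₀⁻¹ * c₁ with hc
  have hcz : c ∈ CC z := mul_mem (inv_mem hc₀) hc₁
  have hWV : ∀ a, a ∈ W ↔ c * a * c⁻¹ ∈ X.Vg := by
    intro a
    constructor
    · intro ha
      obtain ⟨v, hv, e⟩ := (heq ▸ ⟨a, ha, rfl⟩ : c₁ * a * c₁⁻¹ ∈ X.Vg.map (MulAut.conj c₀).toMonoidHom)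
      have e' : c₀ * v * c₀⁻¹ = c₁ * a * c₁⁻¹ := e
      rw [hc, show c₀⁻¹ * c₁ * a * (c₀⁻¹ * c₁)⁻¹ = c₀⁻¹ * (c₁ * a * c₁⁻¹) * c₀ by group, ← e',
        show c₀⁻¹ * (c₀ * v * c₀⁻¹) * c₀ = v by group]
      exact hv
    · intro ha
      obtain ⟨w, hw, e⟩ : c₀ * (c * a * c⁻¹) * c₀⁻¹ ∈ W.map (MulAut.conj c₁).toMonoidHom :=
        heq.symm ▸ ⟨_, ha, rfl⟩
      have e' : c₁ * w * c₁⁻¹ = c₁ * a * c₁⁻¹ := by
        refine e.trans ?_
        rw [hc]; group
      rwa [← mul_left_cancel (mul_right_cancel e')]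
  -- the normaliser of `Y.Vg` moves `z'`
  obtain ⟨m, hm, hmz⟩ := hmoved
  have hcH : c ∈ H := hC hcz
  have hm' : (⟨c⁻¹ * m * c, mul_mem (mul_mem (inv_mem hcH) (hN hm)) hcH⟩ : ↥H) ∈
      Subgroup.normalizer (Y.Vg : Set ↥H) := by
    rw [Subgroup.mem_normalizer_iff]
    intro v
    rw [← Subgroup.mem_map_iff_mem hsub, ← Subgroup.mem_map_iff_mem hsub (K := Y.Vg), ← hW, hWV, hWV]
    show c * (v : G) * c⁻¹ ∈ X.Vg ↔ c * (c⁻¹ * m * c * v * (c⁻¹ * m * c)⁻¹) * c⁻¹ ∈ X.Vg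
    rw [show c * (c⁻¹ * m * c * v * (c⁻¹ * m * c)⁻¹) * c⁻¹ = m * (c * v * c⁻¹) * m⁻¹ by group]
    exact Subgroup.mem_normalizer_iff.1 hm _
  have hmoved' : ∃ n ∈ Subgroup.normalizer (Y.Vg : Set ↥H), n * z' * n⁻¹ ≠ z' := by
    refine ⟨_, hm', fun e => hmz ?_⟩
    have e' : c⁻¹ * m * c * z * (c⁻¹ * m * c)⁻¹ = z := congrArg Subtype.val e
    have hz : c * z = z * c := Subgroup.mem_centralizer_singleton_iff.1 hcz
    have h1 : c * z * c⁻¹ = z := by rw [hz, mul_inv_cancel_right]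
    calc m * z * m⁻¹ = m * (c * z * c⁻¹) * m⁻¹ := by rw [h1]
      _ = c * (c⁻¹ * m * c * z * (c⁻¹ * m * c)⁻¹) * c⁻¹ := by group
      _ = z := by rw [e', h1]
  obtain ⟨g, hg⟩ := Y.exists_invol_conj_Vg hmoved' (t := ⟨x, hx⟩) (Subtype.ext hx2)
  refine ⟨c * g, mul_mem hcH g.2, ?_⟩
  have h := (hWV _).1 (⟨_, hg, rfl⟩ : ((g * ⟨x, hx⟩ * g⁻¹ : ↥H) : G) ∈ W)
  rwa [show c * (g : G) * x * (c * (g : G))⁻¹ = c * ((g : G) * x * (g : G)⁻¹) * c⁻¹ by group]

/-- **A subgroup containing `C(z)` and `N(Vg)` is the whole group.** -/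
theorem eq_top_of_le (hmoved : ∃ m ∈ Subgroup.normalizer (X.Vg : Set G), m * z * m⁻¹ ≠ z)
    (H : Subgroup G) (hC : CC z ≤ H) (hN : Subgroup.normalizer (X.Vg : Set G) ≤ H) : H = ⊤ := by
  classical
  have hS := X.model.stabFacts
  have hpack := X.vPackage hmoved
  have hz2 : z * z = 1 := by rw [← pow_two, ← X.orderOf_z]; exact pow_orderOf_eq_one z
  -- centralisers of the involutions of `H` lie in `H`
  have hcent : ∀ x ∈ H, x * x = 1 → x ≠ 1 → ∀ y : G, y * x = x * y → y ∈ H := by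
    intro x hx hx2 hx1 y hy
    obtain ⟨h, hh, ha⟩ := X.exists_conj_Vg_within hmoved hC hN hx hx2
    have hya : h * y * h⁻¹ * (h * x * h⁻¹) = h * x * h⁻¹ * (h * y * h⁻¹) := by
      rw [show h * y * h⁻¹ * (h * x * h⁻¹) = h * (y * x) * h⁻¹ by group, hy]; group
    suffices hyH : h * y * h⁻¹ ∈ H by
      have h' := mul_mem (mul_mem (inv_mem hh) hyH) hh
      rwa [show h⁻¹ * (h * y * h⁻¹) * h = y by group] at h'
    by_cases haz : IsConj z (h * x * h⁻¹)
    · obtain ⟨m, hm, e⟩ := X.exists_norm_conj_z _ ha haz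
      rw [← e] at hya
      have hyz : m⁻¹ * (h * y * h⁻¹) * m ∈ CC z := by
        rw [Subgroup.mem_centralizer_singleton_iff]
        calc m⁻¹ * (h * y * h⁻¹) * m * z = m⁻¹ * (h * y * h⁻¹ * (m * z * m⁻¹)) * m := by group
          _ = _ := by rw [hya]; group
      have h' := mul_mem (mul_mem (hN hm) (hC hyz)) (inv_mem (hN hm))
      rwa [show m * (m⁻¹ * (h * y * h⁻¹) * m) * m⁻¹ = h * y * h⁻¹ by group] at h'
    · exact hN (hpack.cent_other _ ⟨ha, fun e => hx1 (conj_eq_one_iff.1 e), haz⟩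
        (Subgroup.mem_centralizer_singleton_iff.2 hya))
  rw [eq_top_iff]
  rintro g -
  by_contra hg
  set v := g * z * g⁻¹ with hv
  have hv2 : v * v = 1 := by
    rw [hv, show g * z * g⁻¹ * (g * z * g⁻¹) = g * (z * z) * g⁻¹ by group, hz2, mul_one, mul_inv_cancel]
  have hz1 : z ≠ 1 := fun e => by have := X.orderOf_z; rw [e, orderOf_one] at this; omega
  have hv1 : v ≠ 1 := fun e => hz1 (conj_eq_one_iff.1 e)
  have hvH : v ∉ H := by
    intro hvH
    obtain ⟨h, hh, ha⟩ := X.exists_conj_Vg_within hmoved hC hN hvH hv2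
    obtain ⟨m, hm, e⟩ := X.exists_norm_conj_z _ ha
      ((isConj_iff.2 ⟨h * g, by rw [hv]; group⟩ : IsConj z (h * v * h⁻¹)))
    have hmem : m⁻¹ * (h * g) ∈ CC z := by
      rw [Subgroup.mem_centralizer_singleton_iff]
      have e' : m * z * m⁻¹ = h * g * z * (h * g)⁻¹ := by rw [e, hv]; group
      calc m⁻¹ * (h * g) * z = m⁻¹ * (h * g * z * (h * g)⁻¹) * (h * g) := by group
        _ = _ := by rw [← e']; group
    have h' := mul_mem (mul_mem (inv_mem hh) (hN hm)) (hC hmem)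
    rw [show h⁻¹ * m * (m⁻¹ * (h * g)) = g by group] at h'
    exact hg h'
  -- involutions of `H` are conjugate to `v`
  have hconj : ∀ u ∈ H, u * u = 1 → u ≠ 1 → IsConj u v := by
    intro u hu hu2 hu1
    have hui : u⁻¹ = u := inv_eq_of_mul_eq_one_right hu2
    have hvi : v⁻¹ = v := inv_eq_of_mul_eq_one_right hv2
    have hinv : (u * v)⁻¹ = v * u := by rw [mul_inv_rev, hui, hvi]
    rcases Nat.even_or_odd (orderOf (u * v)) with ⟨k, hk⟩ | ⟨k, hk⟩
    · exfalso
      have hpos := orderOf_pos (u * v)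
      set w := (u * v) ^ k with hw
      have hw2 : w * w = 1 := by rw [hw, ← pow_add, ← hk, pow_orderOf_eq_one]
      have hw1 : w ≠ 1 := pow_ne_one_of_lt_orderOf (by omega) (by omega)
      have hwinv : ((u * v) ^ k)⁻¹ = w := inv_eq_of_mul_eq_one_right hw2
      have huw : w * u = u * w := by
        have h1 : u * (u * v) ^ k * u⁻¹ = ((u * v)⁻¹) ^ k := by
          rw [← conj_pow, hinv, hui, ← mul_assoc u u v, hu2, one_mul]
        rw [inv_pow, hwinv] at h1
        exact (mul_inv_eq_iff_eq_mul.1 h1).symm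
      have hvw : v * w = w * v := by
        have h1 : v * (u * v) ^ k * v⁻¹ = ((u * v)⁻¹) ^ k := by
          rw [← conj_pow, hinv, hvi, mul_assoc v (u * v) v, mul_assoc u v v, hv2, mul_one]
        rw [inv_pow, hwinv] at h1
        exact mul_inv_eq_iff_eq_mul.1 h1
      exact hvH (hcent w (hcent u hu hu2 hu1 w huw) hw2 hw1 v hvw)
    · refine isConj_iff.2 ⟨((u * v) ^ (k + 1))⁻¹, ?_⟩
      have hodd : (u * v) ^ (k + 1) * (u * v) ^ (k + 1) = u * v := by
        rw [← pow_add, show k + 1 + (k + 1) = orderOf (u * v) + 1 by omega, pow_succ,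
          pow_orderOf_eq_one, one_mul]
      set s := (u * v) ^ (k + 1) with hs
      have h1 : u * s * u⁻¹ = s⁻¹ := by
        rw [hs, ← conj_pow, ← inv_pow, hinv, hui, ← mul_assoc u u v, hu2, one_mul]
      have h2 : u * s = s⁻¹ * u := mul_inv_eq_iff_eq_mul.1 h1
      calc s⁻¹ * u * s⁻¹⁻¹ = s⁻¹ * (u * s) := by rw [inv_inv, mul_assoc]
        _ = (s * s)⁻¹ * u := by rw [h2, mul_inv_rev, mul_assoc]
        _ = v := by rw [hodd, hinv, mul_assoc, hu2, mul_one]
  obtain ⟨t, ht⟩ : (ncG z X.Vg).Nonempty :=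
    Set.nonempty_of_ncard_ne_zero (by rw [hpack.vframe.ncard_ncG]; norm_num)
  have htN : t ∈ H := hN (Subgroup.le_normalizer ht.1)
  exact ht.2.2 ((hconj z (hC (Subgroup.mem_centralizer_singleton_iff.2 rfl)) hz2 hz1).trans
    (hconj t htN (hpack.vframe.sq t ht.1) ht.2.1).symm)

end Ctx

end CfsgLib.J4Type
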