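import Cfsg.Agent.Lib.Golay.OctadAffine
import Cfsg.Agent.Lib.Golay.Mathieu

/-!
# The hexad subgroup of the Mathieu group on 22 points

The pointwise stabiliser of the base octad is an elementary abelian subgroup of order 16 of `M22`, equal to its own
centralizer; its normalizer is transitive on its fifteen involutions and contains two commuting independent elements
of order 3.
-/

set_option autoImplicit false
set_option maxRecDepth 20000

namespace CfsgLib.J4Type

open Cfsg CfsgLib.Golay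
open scoped Pointwise

/-- Elements of the hexad stabiliser moving a fixed translation to each translation. -/
def hexLists : List (List ℕ) := [
  [0, 1, 2, 3, 4, 5, 6, 7, 8, 9, 10, 11, 12, 13, 14, 15, 16, 17, 18, 19, 20, 21, 22, 23],
  [0, 1, 2, 14, 4, 17, 7, 6, 12, 15, 20, 18, 8, 13, 3, 9, 16, 5, 11, 21, 10, 19, 22, 23],
  [0, 1, 3, 5, 4, 14, 22, 21, 18, 13, 6, 7, 16, 20, 17, 10, 11, 2, 9, 15, 8, 12, 19, 23],
  [0, 1, 2, 17, 4, 3, 8, 11, 20, 7, 21, 9, 15, 16, 14, 19, 22, 5, 10, 12, 6, 18, 13, 23],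
  [0, 1, 2, 5, 4, 17, 20, 9, 6, 11, 18, 7, 19, 22, 14, 12, 13, 3, 21, 15, 8, 10, 16, 23],
  [0, 1, 2, 3, 4, 14, 15, 10, 21, 8, 12, 19, 7, 22, 17, 18, 13, 5, 6, 20, 11, 9, 16, 23],
  [0, 1, 2, 3, 4, 17, 18, 12, 9, 21, 7, 20, 10, 16, 5, 6, 22, 14, 15, 11, 19, 8, 13, 23],
  [0, 1, 2, 14, 4, 3, 9, 20, 19, 12, 8, 21, 6, 22, 5, 11, 13, 17, 7, 10, 18, 15, 16, 23],
  [0, 1, 2, 5, 4, 14, 12, 18, 10, 6, 19, 15, 9, 16, 3, 21, 22, 17, 20, 8, 7, 11, 13, 23],
  [0, 1, 2, 14, 4, 5, 11, 8, 15, 19, 6, 10, 20, 16, 17, 7, 22, 3, 9, 18, 21, 12, 13, 23],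
  [0, 1, 2, 17, 4, 5, 10, 15, 7, 18, 11, 6, 21, 22, 3, 8, 13, 14, 19, 9, 12, 20, 16, 23],
  [0, 1, 2, 5, 4, 3, 21, 19, 11, 10, 9, 8, 18, 13, 17, 20, 16, 14, 12, 7, 15, 6, 22, 23],
  [0, 1, 3, 14, 4, 17, 16, 9, 6, 22, 15, 10, 13, 11, 5, 12, 19, 2, 8, 18, 21, 7, 20, 23],
  [0, 1, 3, 17, 4, 5, 13, 8, 15, 16, 18, 12, 22, 19, 14, 7, 20, 2, 21, 6, 9, 10, 11, 23],
  [0, 1, 2, 17, 4, 14, 19, 21, 18, 20, 15, 12, 11, 13, 5, 10, 16, 3, 8, 6, 9, 7, 22, 23]]

/-- Two commuting elements of order 3 of the hexad stabiliser. -/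
def hexA : List ℕ := [0, 1, 2, 3, 4, 14, 15, 10, 21, 8, 12, 19, 7, 22, 17, 18, 13, 5, 6, 20, 11, 9, 16, 23]

/-- The second element. -/
def hexB : List ℕ := [0, 2, 3, 1, 4, 5, 18, 10, 11, 20, 12, 13, 7, 8, 14, 6, 9, 17, 15, 22, 16, 19, 21, 23]

/-- The image list fixes the two points and the octad. -/
def hexOK (l : List ℕ) : Bool :=
  genOK l && Nat.beq (l.getD 23 0) 23 && Nat.beq (l.getD 0 0) 0 &&
    (List.range 24).all fun i => !(Nat.testBit 8536111 i) || Nat.testBit 8536111 (l.getD i 0)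

/-- The first basis translation. -/
def e₁ : V4 := ![1, 0, 0, 0]

theorem hex_facts : (hexLists.all fun l => hexOK l) = true ∧ (hexOK hexA && hexOK hexB) = true ∧
    (∀ v : V4, v ≠ 0 → ∃ l ∈ hexLists, ∀ w : V4,
      cIdx (l.getD (apt (w + e₁)) 0) = cIdx (l.getD (apt w) 0) + v) := by
  decide +kernel

theorem hex_three : comp hexA (comp hexA hexA) = List.range 24 ∧ comp hexB (comp hexB hexB) = List.range 24 ∧
    comp hexA hexB = comp hexB hexA ∧ hexA ≠ List.range 24 ∧ hexB ≠ List.range 24 ∧ hexB ≠ hexA ∧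
    hexB ≠ comp hexA hexA := by
  decide +kernel

theorem exists_hexElem {l : List ℕ} (hl : hexOK l = true) :
    ∃ g : ↥Spor.M22, toList (g : Equiv.Perm GolayPt) = l ∧
      (g : Equiv.Perm GolayPt) • baseOctad = baseOctad := by
  simp only [hexOK, Bool.and_eq_true, List.all_eq_true] at hl
  obtain ⟨⟨⟨h1, h23⟩, h0⟩, hm⟩ := hl
  obtain ⟨σ, hσ, rfl⟩ := exists_perm h1
  have hget : ∀ p : GolayPt, (idx (σ p)).val = (toList σ).getD (idx p).val 0 := fun p =>
    (toList_getD σ p).symm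
  have hfix : ∀ p : GolayPt, (toList σ).getD (idx p).val 0 = (idx p).val → σ p = p := fun p hp =>
    idx_injective (Fin.ext (by rw [hget, hp]))
  have hmem : σ ∈ Spor.M22 := by
    rw [CfsgLib.Golay.sporM22_eq_stdStab, stdStab, mem_fixPts]
    refine ⟨hσ, fun p hp => ?_⟩
    simp only [basePts, List.take, List.mem_cons, List.not_mem_nil, or_false] at hp
    rcases hp with rfl | rfl
    · exact hfix none (Nat.eq_of_beq_eq_true h23)
    · exact hfix (some 0) (Nat.eq_of_beq_eq_true h0)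
  refine ⟨⟨σ, hmem⟩, rfl, ?_⟩
  show σ • baseOctad = baseOctad
  refine Finset.eq_of_subset_of_card_le (fun p hp => ?_) (by rw [Finset.card_smul_finset])
  obtain ⟨q, hq, rfl⟩ := Finset.mem_smul_finset.mp hp
  rw [baseOctad, mem_decS] at hq ⊢
  have h := hm (idx q).val (List.mem_range.mpr (idx q).isLt)
  rw [hq, Bool.not_true, Bool.false_or] at h
  rw [Equiv.Perm.smul_def, hget]
  exact h

/-- The translations, inside `M22`. -/
def hexX : Subgroup ↥Spor.M22 := (stdStab 6).subgroupOf Spor.M22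

/-- The stabiliser of the base octad in `M22`. -/
def hexK : Subgroup ↥Spor.M22 :=
  (MulAction.stabilizer (Equiv.Perm GolayPt) baseOctad).subgroupOf Spor.M22

theorem mem_hexX {g : ↥Spor.M22} : g ∈ hexX ↔ (g : Equiv.Perm GolayPt) ∈ stdStab 6 := Iff.rfl

theorem mem_hexK {g : ↥Spor.M22} :
    g ∈ hexK ↔ (g : Equiv.Perm GolayPt) • baseOctad = baseOctad := Iff.rfl

theorem sporM22_le_M24 {σ : Equiv.Perm GolayPt} (h : σ ∈ Spor.M22) : σ ∈ M24 := by
  rw [CfsgLib.Golay.sporM22_eq_stdStab, stdStab, mem_fixPts] at h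
  exact h.1

theorem stdStab_six_le : stdStab 6 ≤ Spor.M22 := by
  rw [CfsgLib.Golay.sporM22_eq_stdStab]
  intro σ hσ
  rw [stdStab, mem_fixPts] at hσ ⊢
  exact ⟨hσ.1, fun p hp => hσ.2 p (List.take_subset_take_left _ (by norm_num) hp)⟩

/-- An element of the stabiliser, in the octad stabiliser of `M24`. -/
def toOctH (g : ↥Spor.M22) (hg : g ∈ hexK) : ↥octH :=
  ⟨⟨(g : Equiv.Perm GolayPt), sporM22_le_M24 g.2⟩, hg⟩

theorem hexX_le_hexK : hexX ≤ hexK := by
  intro g hg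
  rw [mem_hexX, ← fixingSubgroup_baseOctad, Subgroup.mem_inf, mem_fixingSubgroup_iff] at hg
  rw [mem_hexK]
  refine Finset.eq_of_subset_of_card_le (fun p hp => ?_) (by rw [Finset.card_smul_finset])
  obtain ⟨q, hq, rfl⟩ := Finset.mem_smul_finset.mp hp
  rw [hg.2 q (Finset.mem_coe.mpr hq)]
  exact hq

theorem card_hexX : Nat.card hexX = 16 := by
  show Nat.card ↥((stdStab 6).subgroupOf Spor.M22) = 16
  rw [Nat.card_congr (Subgroup.subgroupOfEquivOfLe stdStab_six_le).toEquiv, ← fixingSubgroup_baseOctad]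
  exact (octad_fixing baseOctad_mem).1

theorem sq_hexX : ∀ x ∈ hexX, x * x = 1 := by
  intro x hx
  have h := List.all_eq_true.mp stab6_facts _ (toList_mem_stab6 (mem_hexX.1 hx))
  rw [Bool.and_eq_true, beq_iff_eq] at h
  refine Subtype.ext (toList_injective ?_)
  rw [Subgroup.coe_mul, Subgroup.coe_one, toList_mul, toList_one]
  exact h.1

/-- Translations are determined by their vectors. -/
theorem eq_of_affMap {x y : ↥octH} (h : ∀ w, affMap x w = affMap y w) : x = y := by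
  have h1 : x⁻¹ * y = 1 := by
    refine eq_one_of_fix_outside _ fun p hp => ?_
    have hw : affMap (x⁻¹ * y) (cP p) = cP p := by
      rw [affMap_mul, ← h, ← affMap_mul, inv_mul_cancel, affMap_one]
    have e := affP_affMap (x⁻¹ * y) (cP p)
    rw [hw, affP_cP hp] at e
    exact e.symm
  exact inv_mul_eq_one.mp h1

/-- The translation group, inside `M22`. -/
theorem exists_hexX_vec {x : ↥Spor.M22} (hx : x ∈ hexX) :
    ∃ v : V4, (∀ w, affMap (toOctH x (hexX_le_hexK hx)) w = w + v) ∧ (x ≠ 1 → v ≠ 0) := by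
  obtain ⟨v, hv⟩ := exists_of_fixing (τ := toOctH x (hexX_le_hexK hx)) hx
  refine ⟨v, hv, ?_⟩
  rintro hx1 rfl
  refine hx1 (Subtype.ext ?_)
  have h := eq_of_affMap (x := toOctH x (hexX_le_hexK hx)) (y := 1) fun w => by
    rw [hv, affMap_one, add_zero]
  exact congrArg (fun t : ↥octH => ((t : M24) : Equiv.Perm GolayPt)) h

/-- The hexad stabiliser normalises the translations. -/
theorem conj_mem_hexX {g x : ↥Spor.M22} (hg : g ∈ hexK) (hx : x ∈ hexX) : g * x * g⁻¹ ∈ hexX := by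
  have h := conj_mem_fixing (toOctH g hg) (τ := toOctH x (hexX_le_hexK hx)) hx
  exact h

/-- The conjugation is transitive on the fifteen involutions. -/
theorem hexK_transitive : ∀ x ∈ hexX, x ≠ 1 → ∀ y ∈ hexX, y ≠ 1 → ∃ g ∈ hexK, g * x * g⁻¹ = y := by
  -- every involution is conjugate to the first basis translation
  obtain ⟨τ, hτ, hτe⟩ := exists_translation e₁
  have key : ∀ y ∈ hexX, y ≠ 1 → ∃ g ∈ hexK,
      g * (⟨_, stdStab_six_le hτ⟩ : ↥Spor.M22) * g⁻¹ = y := by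
    intro y hy hy1
    obtain ⟨v, hv, hv0⟩ := exists_hexX_vec hy
    obtain ⟨l, hl, hlv⟩ := hex_facts.2.2 v (hv0 hy1)
    obtain ⟨g, rfl, hg⟩ := exists_hexElem (List.all_eq_true.mp hex_facts.1 l hl)
    refine ⟨g, hg, Subtype.ext ?_⟩
    set γ := toOctH g hg with hγ
    have hmap : ∀ w, affMap γ (w + e₁) = affMap γ w + v := by
      intro w
      have h := hlv w
      rw [← idx_affP (w + e₁), ← idx_affP w, toList_getD, toList_getD] at h
      exact h
    have h : γ * τ * γ⁻¹ = toOctH y (hexX_le_hexK hy) := by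
      refine eq_of_affMap fun w => ?_
      rw [affMap_mul, affMap_mul, hτe, hmap, ← affMap_mul, mul_inv_cancel, affMap_one, hv]
    exact congrArg (fun t : ↥octH => ((t : M24) : Equiv.Perm GolayPt)) h
  intro x hx hx1 y hy hy1
  obtain ⟨g, hg, rfl⟩ := key x hx hx1
  obtain ⟨g', hg', rfl⟩ := key y hy hy1
  exact ⟨g' * g⁻¹, hexK.mul_mem hg' (hexK.inv_mem hg), by group⟩

/-- The translations are their own centralizer in `M22`. -/
theorem mem_hexX_of_comm {c : ↥Spor.M22} (hc : ∀ x ∈ hexX, c * x = x * c) : c ∈ hexX := by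
  obtain ⟨τ, hτ, hτe⟩ := exists_translation e₁
  let x₀ : ↥Spor.M22 := ⟨_, stdStab_six_le hτ⟩
  have hmove : ∀ p : GolayPt, p ∉ baseOctad → ((τ : M24) : Equiv.Perm GolayPt) p ≠ p := by
    intro p hp he
    have h1 : affMap τ (cP p) = cP p := by
      unfold affMap
      rw [affP_cP hp, he]
    rw [hτe] at h1
    exact absurd (congrFun (add_eq_left.mp h1) 0) (by decide)
  have hcK : c ∈ hexK := by
    rw [mem_hexK]
    refine Finset.eq_of_subset_of_card_le (fun p hp => ?_) (by rw [Finset.card_smul_finset])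
    obtain ⟨q, hq, rfl⟩ := Finset.mem_smul_finset.mp hp
    by_contra hnot
    refine hmove _ hnot ?_
    have hxq : ((τ : M24) : Equiv.Perm GolayPt) q = q := by
      have := hτ
      rw [← fixingSubgroup_baseOctad, Subgroup.mem_inf, mem_fixingSubgroup_iff] at this
      exact this.2 q (Finset.mem_coe.mpr hq)
    have e := congrArg (fun t : ↥Spor.M22 => (t : Equiv.Perm GolayPt) q) (hc x₀ hτ)
    simp only [Subgroup.coe_mul, Equiv.Perm.mul_apply, x₀, hxq] at e
    exact e.symm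
  set γ := toOctH c hcK with hγ
  have hshift : ∀ v, affMap γ v = affMap γ 0 + v := by
    intro v
    obtain ⟨σ, hσ, hσv⟩ := exists_translation v
    have h : γ * σ = σ * γ := by
      refine Subtype.ext (Subtype.ext ?_)
      have e := congrArg (fun t : ↥Spor.M22 => (t : Equiv.Perm GolayPt)) (hc ⟨_, stdStab_six_le hσ⟩ hσ)
      exact e
    have e := congrArg (fun t => affMap t 0) h
    simp only [affMap_mul, hσv, zero_add] at e
    exact e
  obtain ⟨σ, hσ, hσv⟩ := exists_translation (affMap γ 0)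
  have h : γ = σ := eq_of_affMap fun w => by rw [hσv, hshift, add_comm]
  rw [mem_hexX]
  have e : (c : Equiv.Perm GolayPt) = ((σ : M24) : Equiv.Perm GolayPt) :=
    congrArg (fun t : ↥octH => ((t : M24) : Equiv.Perm GolayPt)) h
  rw [e]
  exact hσ

/-- **The hexad subgroup.** -/
theorem exists_hexad : ∃ X K : Subgroup ↥Spor.M22, X ≤ K ∧ Nat.card X = 16 ∧ (∀ x ∈ X, x * x = 1) ∧
    (∀ g ∈ K, ∀ x ∈ X, g * x * g⁻¹ ∈ X) ∧
    (∀ x ∈ X, x ≠ 1 → ∀ y ∈ X, y ≠ 1 → ∃ g ∈ K, g * x * g⁻¹ = y) ∧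
    (∀ c, (∀ x ∈ X, c * x = x * c) → c ∈ X) ∧
    ∃ a b, a ∈ K ∧ b ∈ K ∧ orderOf a = 3 ∧ orderOf b = 3 ∧ a * b = b * a ∧ b ∉ Subgroup.zpowers a := by
  refine ⟨hexX, hexK, hexX_le_hexK, card_hexX, sq_hexX, fun g hg x hx => conj_mem_hexX hg hx,
    hexK_transitive, fun c hc => mem_hexX_of_comm hc, ?_⟩
  obtain ⟨hA, hB⟩ := Bool.and_eq_true_iff.mp hex_facts.2.1
  obtain ⟨a, hal, ha⟩ := exists_hexElem hA
  obtain ⟨b, hbl, hb⟩ := exists_hexElem hB
  obtain ⟨hA3, hB3, hAB, hA1, hB1, hBA, hBA2⟩ := hex_three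
  have hinj : ∀ x y : ↥Spor.M22, toList (x : Equiv.Perm GolayPt) = toList (y : Equiv.Perm GolayPt) → x = y :=
    fun x y h => Subtype.ext (toList_injective h)
  have h3 : ∀ x : ↥Spor.M22, comp (toList (x : Equiv.Perm GolayPt))
      (comp (toList (x : Equiv.Perm GolayPt)) (toList (x : Equiv.Perm GolayPt))) = List.range 24 →
      toList (x : Equiv.Perm GolayPt) ≠ List.range 24 → orderOf x = 3 := by
    intro x hx hx1
    refine orderOf_eq_prime (hinj _ _ ?_) fun h => hx1 ?_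
    · rw [pow_three, Subgroup.coe_mul, Subgroup.coe_mul, toList_mul, toList_mul, Subgroup.coe_one,
        toList_one, hx]
    · rw [h, Subgroup.coe_one, toList_one]
  have hao : orderOf a = 3 := h3 a (by rw [hal]; exact hA3) (by rw [hal]; exact hA1)
  refine ⟨a, b, ha, hb, hao, h3 b (by rw [hbl]; exact hB3) (by rw [hbl]; exact hB1), hinj _ _ ?_, ?_⟩
  · rw [Subgroup.coe_mul, Subgroup.coe_mul, toList_mul, toList_mul, hal, hbl]
    exact hAB
  · rintro ⟨n, hn⟩
    have hn' : a ^ (n % 3) = b := by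
      rw [← hn]
      have := zpow_mod_orderOf a n
      rwa [hao] at this
    have h0 : 0 ≤ n % 3 := Int.emod_nonneg n (by norm_num)
    have h3' : n % 3 < 3 := Int.emod_lt_of_pos n (by norm_num)
    have hb' : toList ((a ^ (n % 3) : ↥Spor.M22) : Equiv.Perm GolayPt) = hexB := by rw [hn', hbl]
    rcases (by omega : n % 3 = 0 ∨ n % 3 = 1 ∨ n % 3 = 2) with e | e | e <;> rw [e] at hb'
    · rw [zpow_zero, Subgroup.coe_one, toList_one] at hb'
      exact hB1 hb'.symm
    · rw [zpow_one, hal] at hb'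
      exact hBA hb'.symm
    · rw [zpow_two, Subgroup.coe_mul, toList_mul, hal] at hb'
      exact hBA2 hb'.symm

end CfsgLib.J4Type
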