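import Mathlib
import Cfsg.Prelude.Def_MonsterType
import Cfsg.Prelude.Def_JankoFourType
import Cfsg.Agent.Lib.PGroup.Extraspecial
import Cfsg.Agent.Lib.LargeExtra.Basic
import Cfsg.Agent.Lib.LargeExtra.Transport
import Cfsg.Agent.Lib.FischerTwoFour.Lines

/-!
An extraspecial group `Q` of order `2^13`, normal and self-centralising in a group `C`: the quadratic
space `Q / Z(Q)` with the faithful action of `C / Q`; specialisation to Janko-four type.
-/

set_option autoImplicit false
set_option linter.unusedSectionVars false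

universe u

namespace CfsgLib.J4Type

open scoped commutatorElement
open CfsgLib.FischerTwoFour (QRep)

variable {C : Type u} [Group C] [Finite C] {Q : Subgroup C}

/-- The hypotheses on a normal extraspecial subgroup of order `2^13`. -/
structure Ext13 (Q : Subgroup C) [Q.Normal] : Prop where
  extra : Cfsg.IsExtraspecial 2 Q
  card_Q : Nat.card Q = 2 ^ 13
  selfCent : Subgroup.centralizer (Q : Set C) ≤ Q

variable [Q.Normal] (S : Ext13 Q)

/-- `V = Q / Z(Q)`. -/
abbrev VQ (Q : Subgroup C) : Type u := Additive (Abelianization Q)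

/-- The projection to `V`. -/
def pr (a : Q) : VQ Q := Additive.ofMul (Abelianization.of a)

open scoped Classical in
/-- The bit of a central element. -/
noncomputable def bit (a : Q) : ZMod 2 := if a = 1 then 0 else 1

theorem pr_mul (a b : Q) : pr (a * b) = pr a + pr b := by
  rw [pr, map_mul, ofMul_mul]; rfl

theorem pr_one : pr (1 : Q) = 0 := by rw [pr, map_one, ofMul_one]

theorem pr_surj (v : VQ Q) : ∃ a : Q, pr a = v := by
  obtain ⟨a, ha⟩ := QuotientGroup.mk_surjective (Additive.toMul v)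
  exact ⟨a, congrArg Additive.ofMul ha⟩

/-- Conjugation as an endomorphism of `Q`. -/
def cjQ (c : C) : Q →* Q := (MulAut.conjNormal c).toMonoidHom

theorem cjQ_val (c : C) (a : Q) : ((cjQ c a : Q) : C) = c * a * c⁻¹ := rfl

/-- The action of `C` on `V`. -/
noncomputable def rho (Q : Subgroup C) [Q.Normal] : C →* AddMonoid.End (VQ Q) where
  toFun c := (Abelianization.map (cjQ c)).toAdditive
  map_one' := by
    refine AddMonoidHom.ext fun v => ?_
    obtain ⟨a, rfl⟩ := pr_surj v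
    show Additive.ofMul (Abelianization.map (cjQ 1) (Abelianization.of a)) = pr a
    rw [Abelianization.map_of]
    exact congrArg pr (Subtype.ext (by simp [cjQ_val]))
  map_mul' c d := by
    refine AddMonoidHom.ext fun v => ?_
    obtain ⟨a, rfl⟩ := pr_surj v
    show Additive.ofMul (Abelianization.map (cjQ (c * d)) (Abelianization.of a)) =
      Additive.ofMul (Abelianization.map (cjQ c) (Abelianization.map (cjQ d) (Abelianization.of a)))
    rw [Abelianization.map_of, Abelianization.map_of, Abelianization.map_of]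
    exact congrArg pr (Subtype.ext (by simp [cjQ_val, mul_assoc]))

/-- The bilinear form. -/
noncomputable def bf (u v : VQ Q) : ZMod 2 := bit ⁅(pr_surj u).choose, (pr_surj v).choose⁆

/-- The quadratic form. -/
noncomputable def qf (u : VQ Q) : ZMod 2 := bit ((pr_surj u).choose * (pr_surj u).choose)

/-- The image in `C / Q` of the centraliser of `s`. -/
def stabImage (s : Q) : Subgroup (C ⧸ Q) :=
  (Subgroup.centralizer ({(s : C)} : Set C)).map (QuotientGroup.mk' Q)

namespace Ext13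

include S

theorem comm_eq : commutator Q = Subgroup.center Q := S.extra.1.2.2

theorem pr_eq_iff {a b : Q} : pr a = pr b ↔ a⁻¹ * b ∈ Subgroup.center Q := by
  rw [← S.comm_eq]
  exact QuotientGroup.eq

theorem pr_eq_zero {a : Q} : pr a = 0 ↔ a ∈ Subgroup.center Q := by
  rw [← pr_one, S.pr_eq_iff, mul_one, inv_mem_iff]

theorem two_center {x y : Q} (hx : x ∈ Subgroup.center Q) (hy : y ∈ Subgroup.center Q) (hx1 : x ≠ 1)
    (hy1 : y ≠ 1) : x = y := by
  classical
  have hc : Nat.card (Subgroup.center Q) = 2 := S.extra.2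
  obtain ⟨e, f, hef, huniv⟩ := Nat.card_eq_two_iff.mp hc
  have hmem : ∀ w : Subgroup.center Q, w = e ∨ w = f := fun w => by simpa [← huniv] using Set.mem_univ w
  rcases hmem 1 with h | h <;> rcases hmem ⟨x, hx⟩ with h' | h' <;> rcases hmem ⟨y, hy⟩ with h'' | h'' <;>
    first
      | exact congrArg Subtype.val (h'.trans h''.symm)
      | exact absurd (congrArg Subtype.val (h'.trans h.symm)) hx1
      | exact absurd (congrArg Subtype.val (h''.trans h.symm)) hy1

theorem bit_mul {x y : Q} (hx : x ∈ Subgroup.center Q) (hy : y ∈ Subgroup.center Q) :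
    bit (x * y) = bit x + bit y := by
  by_cases hx1 : x = 1
  · subst hx1; rw [one_mul, show bit (1 : Q) = 0 from if_pos rfl, zero_add]
  by_cases hy1 : y = 1
  · subst hy1; rw [mul_one, show bit (1 : Q) = 0 from if_pos rfl, add_zero]
  have hxy : x = y := S.two_center hx hy hx1 hy1
  subst hxy
  have hx2 : x * x = 1 := by
    rw [← sq]; exact CfsgLib.PGroup.extraspecial_center_pow_eq_one S.extra hx
  rw [hx2, bit, bit, if_pos rfl, if_neg hx1]
  rfl

theorem comm_mem (a b : Q) : ⁅a, b⁆ ∈ Subgroup.center Q :=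
  CfsgLib.PGroup.extraspecial_comm_mem_center S.extra a b

theorem sq_mem (a : Q) : a * a ∈ Subgroup.center Q := by
  have : Fact (Nat.Prime 2) := ⟨Nat.prime_two⟩
  rw [← sq]; exact CfsgLib.PGroup.extraspecial_pow_mem_center S.extra a

theorem comm_congr_left {a a' b : Q} (h : a⁻¹ * a' ∈ Subgroup.center Q) : ⁅a', b⁆ = ⁅a, b⁆ := by
  obtain ⟨k, hk, rfl⟩ : ∃ k ∈ Subgroup.center Q, a' = a * k := ⟨_, h, (mul_inv_cancel_left a a').symm⟩
  rw [commutatorElement_def, commutatorElement_def, mul_inv_rev]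
  calc a * k * b * (k⁻¹ * a⁻¹) * b⁻¹ = a * (k * b) * k⁻¹ * a⁻¹ * b⁻¹ := by group
    _ = a * (b * k) * k⁻¹ * a⁻¹ * b⁻¹ := by rw [Subgroup.mem_center_iff.mp hk b]
    _ = a * b * a⁻¹ * b⁻¹ := by group

theorem comm_swap (a b : Q) : ⁅b, a⁆ = ⁅a, b⁆ := by
  rw [← commutatorElement_inv a b]
  refine inv_eq_of_mul_eq_one_right ?_
  rw [← sq]; exact CfsgLib.PGroup.extraspecial_comm_pow_eq_one S.extra a b

theorem comm_congr_right {a b b' : Q} (h : b⁻¹ * b' ∈ Subgroup.center Q) : ⁅a, b'⁆ = ⁅a, b⁆ := by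
  rw [← S.comm_swap a b', S.comm_congr_left h, S.comm_swap]

theorem bit_comm_mul (a b c : Q) : bit ⁅a * b, c⁆ = bit ⁅a, c⁆ + bit ⁅b, c⁆ := by
  have h := Subgroup.mem_center_iff.mp (S.comm_mem b c) a
  have e : ⁅a * b, c⁆ = ⁅b, c⁆ * ⁅a, c⁆ := by
    simp only [commutatorElement_def] at h ⊢
    calc a * b * c * (a * b)⁻¹ * c⁻¹ = (a * (b * c * b⁻¹ * c⁻¹)) * c * a⁻¹ * c⁻¹ := by group
      _ = (b * c * b⁻¹ * c⁻¹ * a) * c * a⁻¹ * c⁻¹ := by rw [h]
      _ = b * c * b⁻¹ * c⁻¹ * (a * c * a⁻¹ * c⁻¹) := by group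
  rw [e, S.bit_mul (S.comm_mem _ _) (S.comm_mem _ _), add_comm]

theorem bit_sq_mul (a b : Q) : bit (a * b * (a * b)) = bit (a * a) + bit (b * b) + bit ⁅a, b⁆ := by
  have e : a * b * (a * b) = ⁅b, a⁆ * ((a * a) * (b * b)) := by
    have h := Subgroup.mem_center_iff.mp (S.comm_mem b a) a
    simp only [commutatorElement_def] at h ⊢
    calc a * b * (a * b) = (a * (b * a * b⁻¹ * a⁻¹)) * (a * b * b) := by group
      _ = (b * a * b⁻¹ * a⁻¹ * a) * (a * b * b) := by rw [h]
      _ = b * a * b⁻¹ * a⁻¹ * (a * a * (b * b)) := by group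
  rw [e, S.bit_mul (S.comm_mem _ _) (mul_mem (S.sq_mem _) (S.sq_mem _)),
    S.bit_mul (S.sq_mem _) (S.sq_mem _), S.comm_swap a b]
  ring

theorem card_VQ : Nat.card (VQ Q) = 4096 := by
  have h := Subgroup.card_eq_card_quotient_mul_card_subgroup (commutator Q)
  rw [S.card_Q] at h
  rw [show Nat.card (commutator Q) = 2 by rw [S.comm_eq]; exact S.extra.2] at h
  show Nat.card (Q ⧸ commutator Q) = 4096
  omega

theorem cjQ_center (c : C) {x : Q} (hx : x ∈ Subgroup.center Q) : cjQ c x = x := by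
  by_cases hx1 : x = 1
  · rw [hx1, map_one]
  refine S.two_center ?_ hx ?_ hx1
  · rw [Subgroup.mem_center_iff] at hx ⊢
    intro y
    obtain ⟨y', rfl⟩ := (MulAut.conjNormal (H := Q) c).surjective y
    show cjQ c y' * cjQ c x = cjQ c x * cjQ c y'
    rw [← map_mul, hx, map_mul]
  · intro e
    exact hx1 ((MulAut.conjNormal (H := Q) c).injective (e.trans (map_one (MulAut.conjNormal (H := Q) c)).symm))

theorem rho_pr (c : C) (a : Q) : (rho Q) c (pr a) = pr (cjQ c a) :=
  congrArg Additive.ofMul (Abelianization.map_of (cjQ c) a)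

theorem ker_rho : Q ≤ (rho Q).ker := by
  intro c hc
  rw [MonoidHom.mem_ker]
  refine AddMonoidHom.ext fun v => ?_
  obtain ⟨a, rfl⟩ := pr_surj v
  refine (S.rho_pr c a).trans ?_
  show pr (cjQ c a) = pr a
  have e : cjQ c a = ⁅(⟨c, hc⟩ : Q), a⁆ * a :=
    Subtype.ext (by simp [cjQ_val, commutatorElement_def])
  rw [e, pr_mul, (S.pr_eq_zero).2 (S.comm_mem _ _), zero_add]

theorem bf_pr (a b : Q) : bf (pr a) (pr b) = bit ⁅a, b⁆ := by
  rw [bf, S.comm_congr_left (a := a), S.comm_congr_right (b := b)]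
  · exact S.pr_eq_iff.1 (pr_surj (pr b)).choose_spec.symm
  · exact S.pr_eq_iff.1 (pr_surj (pr a)).choose_spec.symm

theorem qf_pr (a : Q) : qf (pr a) = bit (a * a) := by
  rw [qf]
  have hk := S.pr_eq_iff.1 (pr_surj (pr a)).choose_spec.symm
  set a' := (pr_surj (pr a)).choose
  obtain ⟨k, hk', e⟩ : ∃ k ∈ Subgroup.center Q, a' = a * k := ⟨_, hk, (mul_inv_cancel_left a a').symm⟩
  have hc := Subgroup.mem_center_iff.mp hk'
  have hk2 : k * k = 1 := by
    rw [← sq]; exact CfsgLib.PGroup.extraspecial_center_pow_eq_one S.extra hk'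
  rw [e, show a * k * (a * k) = a * (k * a) * k by group, ← hc a,
    show a * (a * k) * k = a * a * (k * k) by group, hk2, mul_one]

theorem bf_add (u v w : VQ Q) : bf (u + v) w = bf u w + bf v w := by
  obtain ⟨a, rfl⟩ := pr_surj u
  obtain ⟨b, rfl⟩ := pr_surj v
  obtain ⟨c, rfl⟩ := pr_surj w
  rw [← pr_mul, S.bf_pr, S.bf_pr, S.bf_pr, S.bit_comm_mul]

theorem bf_nondeg (u : VQ Q) (h : ∀ v, bf u v = 0) : u = 0 := by
  obtain ⟨a, rfl⟩ := pr_surj u
  rw [S.pr_eq_zero, Subgroup.mem_center_iff]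
  intro b
  have := h (pr b)
  rw [S.bf_pr, bit] at this
  split_ifs at this with e
  · exact (commutatorElement_eq_one_iff_mul_comm.1 e).symm
  · exact absurd this one_ne_zero

theorem faithful_mem {c : C} (h : ∀ v, (rho Q) c v = v) : c ∈ Q := by
  classical
  have := Fintype.ofFinite (VQ Q)
  have htwo : ∀ v : VQ Q, (2 : ℕ) • v = 0 := fun v => by
    obtain ⟨a, rfl⟩ := pr_surj v
    rw [two_nsmul, ← pr_mul]; exact (S.pr_eq_zero).2 (S.sq_mem a)
  let δ : Q → Q := fun a => cjQ c a * a⁻¹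
  have hδc : ∀ a, δ a ∈ Subgroup.center Q := fun a => by
    rw [← S.pr_eq_zero, pr_mul, ← S.rho_pr, h, ← pr_mul, mul_inv_cancel, pr_one]
  let d : Q →* Multiplicative (ZMod 2) := MonoidHom.mk' (fun a => Multiplicative.ofAdd (bit (δ a))) fun a b => by
    have e : δ (a * b) = δ a * δ b := by
      have hk := Subgroup.mem_center_iff.mp (hδc b) a⁻¹
      show cjQ c (a * b) * (a * b)⁻¹ = cjQ c a * a⁻¹ * (cjQ c b * b⁻¹)
      rw [map_mul]
      calc cjQ c a * cjQ c b * (a * b)⁻¹ = cjQ c a * (δ b * a⁻¹) := by simp only [δ]; group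
        _ = cjQ c a * (a⁻¹ * δ b) := by rw [hk]
        _ = _ := by simp only [δ]; group
    rw [e, S.bit_mul (hδc a) (hδc b)]; rfl
  let dV : VQ Q →+ ZMod 2 := (Abelianization.lift d).toAdditive
  have dV_pr : ∀ a, dV (pr a) = bit (δ a) := fun a => congrArg Multiplicative.toAdd (Abelianization.lift_apply_of d a)
  let _ : Module (ZMod 2) (VQ Q) := AddCommGroup.zmodModule htwo
  let Ψ : VQ Q → (VQ Q →+ ZMod 2) := fun u => AddMonoidHom.mk' (bf u) fun v w => by
    obtain ⟨a, rfl⟩ := pr_surj u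
    obtain ⟨b, rfl⟩ := pr_surj v
    obtain ⟨c, rfl⟩ := pr_surj w
    rw [← pr_mul, S.bf_pr, S.bf_pr, S.bf_pr, S.comm_swap (b * c) a, S.bit_comm_mul, S.comm_swap a b,
      S.comm_swap a c]
  have hΨi : Function.Injective Ψ := fun u v huv => by
    refine sub_eq_zero.1 (S.bf_nondeg _ fun w => ?_)
    have e : bf u w = bf v w := DFunLike.congr_fun huv w
    have h2 : bf u w = bf (u - v) w + bf v w := by rw [← S.bf_add, sub_add_cancel]
    rw [e] at h2
    exact right_eq_add.mp h2
  have hdual : Nat.card (VQ Q →+ ZMod 2) = Nat.card (VQ Q) := by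
    rw [Nat.card_congr (Module.finBasis (ZMod 2) (VQ Q)).toDualEquiv.toEquiv]
    exact Nat.card_congr
      { toFun := fun f => f.toZModLinearMap 2
        invFun := fun f => f.toAddMonoidHom
        left_inv := fun f => rfl
        right_inv := fun f => rfl }
  have hΨ : Function.Bijective Ψ := by
    have : Finite (VQ Q →+ ZMod 2) := Finite.of_injective (fun f => ⇑f) DFunLike.coe_injective
    exact (Nat.bijective_iff_injective_and_card _).2 ⟨hΨi, hdual.symm⟩
  obtain ⟨u, hu⟩ := hΨ.2 dV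
  obtain ⟨w, rfl⟩ := pr_surj u
  have hsame : ∀ a : Q, cjQ c a = w * a * w⁻¹ := by
    intro a
    have e := DFunLike.congr_fun hu (pr a)
    rw [dV_pr] at e
    have e' : bit ⁅w, a⁆ = bit (δ a) := by rw [← S.bf_pr]; exact e
    have e2 : ⁅w, a⁆ = δ a := by
      simp only [bit] at e'
      split_ifs at e' with h1 h2 h2
      · rw [h1, h2]
      · exact absurd e' (by decide)
      · exact absurd e' (by decide)
      · exact S.two_center (S.comm_mem _ _) (hδc a) h1 h2
    calc cjQ c a = δ a * a := by simp [δ]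
      _ = w * a * w⁻¹ := by rw [← e2, commutatorElement_def]; group
  have hcen : (w : C)⁻¹ * c ∈ Subgroup.centralizer (Q : Set C) := by
    rw [Subgroup.mem_centralizer_iff]
    intro a ha
    have e : c * a * c⁻¹ = w * a * (w : C)⁻¹ := congrArg Subtype.val (hsame ⟨a, ha⟩)
    calc a * ((w : C)⁻¹ * c) = (w : C)⁻¹ * (w * a * (w : C)⁻¹) * c := by group
      _ = (w : C)⁻¹ * c * a := by rw [← e]; group
  have := mul_mem w.2 (S.selfCent hcen)
  rwa [mul_inv_cancel_left] at this

/-- The representation of `C / Q`. -/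
noncomputable def rep : QRep (C ⧸ Q) (VQ Q) where
  ρ := QuotientGroup.lift Q (rho Q) S.ker_rho
  faithful h hh := by
    obtain ⟨c, rfl⟩ := QuotientGroup.mk_surjective h
    exact (QuotientGroup.eq_one_iff c).2 (S.faithful_mem hh)
  two v := by
    obtain ⟨a, rfl⟩ := pr_surj v
    rw [← pr_mul]; exact (S.pr_eq_zero).2 (S.sq_mem a)
  card_V := S.card_VQ
  q := qf
  b := bf
  q_add u v := by
    obtain ⟨a, rfl⟩ := pr_surj u
    obtain ⟨b, rfl⟩ := pr_surj v
    rw [← pr_mul, S.qf_pr, S.qf_pr, S.qf_pr, S.bf_pr, S.bit_sq_mul]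
  b_add := S.bf_add
  nondeg := S.bf_nondeg
  q_inv h v := by
    obtain ⟨c, rfl⟩ := QuotientGroup.mk_surjective h
    obtain ⟨a, rfl⟩ := pr_surj v
    show qf ((rho Q) c (pr a)) = _
    rw [S.rho_pr, S.qf_pr, S.qf_pr, ← map_mul, S.cjQ_center c (S.sq_mem a)]

theorem rep_apply (c : C) (a : Q) : S.rep.ρ (QuotientGroup.mk c) (pr a) = pr (cjQ c a) := S.rho_pr c a

end Ext13

section JankoType

variable {G : Type u} [Group G] [Finite G]

/-- `C(z)`. -/
abbrev CC (z : G) : Subgroup G := Subgroup.centralizer ({z} : Set G)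

/-- `O_2(C(z))` inside `C(z)`. -/
abbrev QQ (z : G) : Subgroup (CC z) := Cfsg.pCore 2 ↥(CC z)

instance QQ_normal (z : G) : (QQ z).Normal := CfsgLib.LargeExtra.pCore_normal' 2 _

theorem map_QQ (z : G) : (QQ z).map (CC z).subtype = Cfsg.twoCoreOfCentralizer z := rfl

theorem ext13_of {z : G} {P : Subgroup G} (h : Cfsg.IsOfJankoFourTypeWith z P) : Ext13 (QQ z) := by
  obtain ⟨-, hex, hcard, hcen, -⟩ := h
  let e : QQ z ≃* ↥(Cfsg.twoCoreOfCentralizer z) :=
    Subgroup.equivMapOfInjective (QQ z) (CC z).subtype (CC z).subtype_injective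
  haveI : Fact (Nat.Prime 2) := ⟨Nat.prime_two⟩
  refine ⟨CfsgLib.LargeExtra.isExtraspecial_of_equiv e.symm hex, (Nat.card_congr e.toEquiv).trans hcard, fun c hc => ?_⟩
  have hm : (c : G) ∈ Cfsg.twoCoreOfCentralizer z := hcen ⟨c.2, Subgroup.mem_centralizer_iff.2 (by
    rintro _ ⟨a, ha, rfl⟩
    exact congrArg Subtype.val (Subgroup.mem_centralizer_iff.1 hc a ha))⟩
  exact (Subgroup.mem_map_iff_mem (CC z).subtype_injective).1 hm

end JankoType

end CfsgLib.J4Type
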