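import Cfsg.Agent.Lib.J4Type.Data
import Cfsg.Agent.Lib.J4Type.Setting

/-!
The two interfaces: the generators of `C(z) / O_2(C(z))` with their relations, and the model of its
action.
-/

set_option autoImplicit false

namespace CfsgLib.J4Type

open scoped commutatorElement

/-- The value of a word in `a` and `c`. -/
def evW {H : Type*} [Group H] (a c : H) (w : List Bool) : H :=
  (w.map fun b => if b then c else a).prod

/-- The product of the generators selected by the bits of `m`. -/
def evR {H : Type*} [Group H] (r : Fin 4 → H) (m : ℕ) : H :=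
  (List.ofFn fun i : Fin 4 => if Nat.testBit m i.val then r i else 1).prod

/-- Generators of a group of shape `3.M22.2` with their relations. -/
structure Gens (H : Type*) [Group H] where
  a : H
  c : H
  g : H
  u : H
  r : Fin 4 → H
  t : H
  t_def : t = ⁅evW a c wX, evW a c wY⁆
  card : Nat.card H = 2661120
  top : Subgroup.closure ({a, c, g, u} ∪ Set.range r : Set H) = ⊤
  t_cube : t ^ 3 = 1
  t_ne : t ≠ 1
  t_a : a * t = t * a
  t_c : c * t = t * c
  t_g : g * t = t * g
  t_r : ∀ i, r i * t = t * r i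
  u_t : u * t * u⁻¹ = t⁻¹
  a_sq : a * a = 1
  c_four : c ^ 4 = 1
  ac_five : ∃ k : ℕ, (a * c) ^ 5 = t ^ k
  ac2_five : (a * (c * c)) ^ 5 = 1
  r_sq : ∀ i, r i * r i = 1
  r_comm : ∀ i j, r i * r j = r j * r i
  a_r : ∀ i, a * r i * a⁻¹ = evR r (arPat.getD i.val 0)
  c_r : ∀ i, c * r i * c⁻¹ = evR r (crPat.getD i.val 0)
  g_a : ∃ k : ℕ, g * a * g⁻¹ = t ^ k * evW a c wGA
  g_c : ∃ k : ℕ, g * c * g⁻¹ = t ^ k * evW a c wGC
  g_g : g * g = evW a c wGG
  u_sq : u * u = 1
  u_a : ∃ k : ℕ, u * a * u⁻¹ = t ^ k * a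
  u_c : ∃ k : ℕ, u * c * u⁻¹ = t ^ k * evW a c wUC
  u_r : ∀ i, u * r i * u⁻¹ = evR r (urPat.getD i.val 0)
  normal : ∀ N : Subgroup H, N.Normal → r 0 ∈ N → t ∈ N

/-- The action of a group with the generators above is the fixed model. -/
structure Model {H V : Type*} [Group H] [AddCommGroup V] (R : CfsgLib.FischerTwoFour.QRep H V) where
  gens : Gens H
  code : V → ℕ
  code_lt : ∀ v, code v < 4096
  code_inj : ∀ v w, code v = code w → v = w
  code_surj : ∀ n, n < 4096 → ∃ v, code v = n
  code_add : ∀ v w, code (v + w) = Nat.xor (code v) (code w)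
  code_q : ∀ v, R.q v = if qn (code v) then 1 else 0
  act_a : ∀ v, code (R.ρ gens.a v) = app colsA (code v)
  act_c : ∀ v, code (R.ρ gens.c v) = app colsC (code v)
  act_g : ∀ v, code (R.ρ gens.g v) = app colsG (code v)
  act_u : ∀ v, code (R.ρ gens.u v) = app colsU (code v)
  act_t : ∀ v, code (R.ρ gens.t v) = app colsT (code v)
  act_r : ∀ i : Fin 4, ∀ v, code (R.ρ (gens.r i) v) = app (colsR.getD i.val []) (code v)

end CfsgLib.J4Type
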