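import Cfsg.Agent.Lib.J4Type.Classes

/-!
Certificates on the twelve translations of the subgroup of order `2^11`: their fixed codes, the class of
the high fixed codes, and a translation at a second conjugate of `z`.
-/

set_option autoImplicit false
set_option maxRecDepth 20000
set_option Elab.async false

namespace CfsgLib.J4Type

namespace VCode

/-- The commutator of a vector with a translation. -/
def delta (g : List ℕ) (v : ℕ) : ℕ := Nat.xor v (app g v)

/-- The translation by the bits of `j` in the last six coordinates. -/
def appK (j : ℕ) : ℕ → ℕ → ℕ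
  | 0, v => v
  | i + 1, v => if Nat.testBit j i then app (vQ.getD (6 + i) []) (appK j i v) else appK j i v

theorem vQ_low : (vQ.all fun g => (List.range 128).all fun v =>
    Nat.beq (app g v) v || Nat.beq (app g v) (Nat.xor v 64)) = true := by
  decide +kernel

theorem vQ_low_bound : (vQ.all fun g => g.all fun c => Nat.ble (c + 1) 2048) = true := by
  decide +kernel

theorem cls_union : ∀ q2 q3 q4 q5 q6 : Bool, 1 + usize q2 q3 q4 q5 q6 = 128 →
    [q2, q3, q4, q5, q6] = [true, true, false, false, false] := by
  decide +kernel

theorem y8_fix : ((List.range 2048).all fun v =>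
    !Nat.beq (app (vQ.getD 8 []) v) v || Nat.ble (v + 1) 128) = true := by
  decide +kernel

theorem y_fix_counts :
    Nat.beq ((List.range 2048).countP fun v => Nat.beq (app (vQ.getD 6 []) v) v) 128 = true ∧
    Nat.beq ((List.range 2048).countP fun v => Nat.beq (app (vQ.getD 8 []) v) v) 64 = true := by
  decide +kernel

theorem y6_fix : Nat.beq (app (vQ.getD 6 []) 2) 66 = true ∧ Nat.beq (app (vQ.getD 8 []) 8) 72 = true ∧
    ((List.range 2048).all fun v => !(Nat.ble 128 v && Nat.beq (app (vQ.getD 6 []) v) v) ||
      (List.range 64).any fun j => (List.range 2048).any fun u =>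
        Nat.beq (Nat.xor (appK j 6 768) (delta (vQ.getD 6 []) u)) v) = true := by
  decide +kernel

theorem y6_delta : ((List.range 2048).any fun u => Nat.beq (delta (vQ.getD 6 []) u) 64) = true := by
  decide +kernel

theorem witness : isNc 2 true 28 = false ∧ Nat.beq (app (vQ.getD 6 []) 28) 28 = true ∧
    ((List.range 2048).all fun a => !(isNc 2 true a && isNc 2 true (Nat.xor a 28)) ||
      Nat.beq (app (vQ.getD 6 []) a) a || Nat.beq (app (vQ.getD 6 []) a) (Nat.xor a 28)) = true ∧
    (isNc 2 true 772 && isNc 2 true (Nat.xor 772 28) && Nat.beq (app (vQ.getD 6 []) 772) 772) = true ∧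
    (isNc 2 true 1280 && isNc 2 true (Nat.xor 1280 28) &&
      Nat.beq (app (vQ.getD 6 []) 1280) (Nat.xor 1280 28)) = true := by
  decide +kernel

theorem frPhi_cls : frPhi.all (fun v => (Nat.beq (cls 2 v) 2 && isNc 2 true v && isNc 2 true (Nat.xor v 64)) ||
    Nat.beq v 64) = true ∧
    ((List.range 128).all fun v => (List.range 128).any fun x => Nat.beq (app frPhi x) v) = true := by
  decide +kernel

end VCode

end CfsgLib.J4Type
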