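import Cfsg.Agent.Lib.J4Type.Data

/-!
Tables for the stabiliser of `W` in the model for Janko-four type: words in the generators, numbered
`a, c, g, u, r₀, …, r₃`.
-/

set_option autoImplicit false

namespace CfsgLib.J4Type

/-- Words carrying `W` to its 77 images. -/
def orbWords : List (List ℕ) :=
  [[], [2], [4, 2], [5, 2], [6, 2], [7, 2], [2, 4, 2], [3, 4, 2], [5, 4, 2], [6, 4, 2], [7, 4, 2], [1, 5,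
  2], [2, 5, 2], [6, 5, 2], [7, 5, 2], [1, 6, 2], [2, 6, 2], [7, 6, 2], [2, 7, 2], [0, 2, 4, 2], [1, 2, 4,
  2], [4, 2, 4, 2], [5, 2, 4, 2], [2, 3, 4, 2], [1, 5, 4, 2], [2, 5, 4, 2], [2, 6, 4, 2], [0, 7, 4, 2],
  [2, 7, 4, 2], [2, 1, 5, 2], [3, 2, 5, 2], [4, 2, 5, 2], [6, 2, 5, 2], [2, 7, 5, 2], [5, 2, 6, 2], [6, 2,
  6, 2], [2, 7, 6, 2], [4, 2, 7, 2], [6, 2, 7, 2], [7, 2, 7, 2], [4, 0, 2, 4, 2], [5, 0, 2, 4, 2], [4, 1,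
  2, 4, 2], [6, 1, 2, 4, 2], [2, 4, 2, 4, 2], [5, 4, 2, 4, 2], [2, 5, 2, 4, 2], [3, 2, 3, 4, 2], [4, 2, 3,
  4, 2], [6, 2, 3, 4, 2], [5, 2, 5, 4, 2], [6, 2, 5, 4, 2], [7, 2, 5, 4, 2], [4, 2, 6, 4, 2], [5, 2, 6, 4,
  2], [6, 2, 6, 4, 2], [4, 2, 7, 4, 2], [7, 2, 7, 4, 2], [4, 2, 1, 5, 2], [5, 2, 1, 5, 2], [5, 3, 2, 5,
  2], [7, 3, 2, 5, 2], [3, 4, 2, 5, 2], [6, 4, 2, 5, 2], [1, 6, 2, 5, 2], [4, 2, 7, 5, 2], [2, 5, 2, 6,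
  2], [6, 5, 2, 6, 2], [4, 2, 7, 6, 2], [5, 2, 7, 6, 2], [6, 2, 7, 6, 2], [2, 4, 2, 7, 2], [2, 7, 2, 7,
  2], [1, 2, 4, 2, 4, 2], [4, 3, 2, 3, 4, 2], [7, 3, 2, 3, 4, 2], [3, 4, 2, 3, 4, 2]]

/-- Words in the stabiliser of `W` carrying the first basis vector to its 45 images. -/
def movWords : List (List ℕ) :=
  [[], [0], [3], [1, 0], [3, 0], [1, 3], [0, 1, 0], [1, 1, 0], [3, 1, 0], [0, 1, 3], [1, 1, 3], [3, 1, 3],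
  [1, 0, 1, 0], [3, 0, 1, 0], [0, 1, 1, 0], [1, 1, 1, 0], [1, 3, 1, 0], [1, 0, 1, 3], [3, 0, 1, 3], [0, 1,
  1, 3], [1, 1, 1, 3], [3, 1, 1, 3], [1, 3, 1, 3], [0, 1, 0, 1, 0], [1, 3, 0, 1, 0], [1, 0, 1, 1, 0], [0,
  1, 1, 1, 0], [3, 1, 3, 1, 0], [0, 1, 0, 1, 3], [3, 1, 0, 1, 3], [1, 3, 0, 1, 3], [3, 0, 1, 1, 3], [0, 1,
  1, 1, 3], [3, 1, 1, 1, 3], [1, 3, 1, 1, 3], [1, 1, 3, 1, 3], [1, 1, 3, 0, 1, 0], [3, 1, 3, 0, 1, 0], [0,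
  1, 0, 1, 1, 0], [3, 1, 0, 1, 1, 0], [1, 1, 3, 0, 1, 3], [1, 1, 3, 1, 1, 3], [1, 3, 1, 3, 0, 1, 0], [3,
  0, 1, 0, 1, 1, 0], [0, 1, 1, 3, 1, 1, 3]]

/-- Words in the stabiliser of `W` fixing the first basis vector, distinct on `W`. -/
def fixWords : List (List ℕ) :=
  [[], [1], [1, 1], [1, 1, 1], [3, 0, 1, 3, 0], [1, 3, 0, 1, 3, 0], [3, 0, 1, 1, 3, 0], [3, 0, 1, 3, 0,
  1], [0, 1, 1, 3, 1, 1, 0], [1, 1, 3, 0, 1, 3, 0], [1, 3, 0, 1, 1, 3, 0], [3, 0, 1, 1, 1, 3, 0], [1, 3,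
  0, 1, 3, 0, 1], [3, 0, 1, 1, 3, 0, 1], [3, 0, 1, 3, 0, 1, 1], [0, 1, 3, 0, 1, 1, 1, 0], [1, 0, 1, 1, 3,
  1, 1, 0], [1, 1, 1, 3, 0, 1, 3, 0], [1, 1, 3, 0, 1, 1, 3, 0], [1, 3, 0, 1, 1, 1, 3, 0], [0, 1, 1, 3, 1,
  1, 0, 1], [1, 1, 3, 0, 1, 3, 0, 1], [3, 0, 1, 1, 1, 3, 0, 1], [1, 3, 0, 1, 3, 0, 1, 1], [3, 0, 1, 3, 0,
  1, 1, 1], [3, 1, 0, 1, 0, 1, 0, 1, 0], [1, 0, 1, 3, 0, 1, 1, 1, 0], [1, 1, 0, 1, 1, 3, 1, 1, 0], [0, 1,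
  3, 0, 1, 1, 1, 0, 1], [1, 0, 1, 1, 3, 1, 1, 0, 1], [1, 1, 1, 3, 0, 1, 3, 0, 1], [1, 3, 0, 1, 1, 1, 3, 0,
  1], [0, 1, 1, 3, 1, 1, 0, 1, 1], [1, 3, 0, 1, 3, 0, 1, 1, 1], [3, 1, 3, 1, 0, 1, 0, 1, 3], [1, 3, 1, 0,
  1, 0, 1, 0, 1, 0], [1, 1, 0, 1, 3, 0, 1, 1, 1, 0], [1, 1, 1, 0, 1, 1, 3, 1, 1, 0], [3, 1, 0, 1, 3, 1, 1,
  3, 1, 0], [3, 1, 0, 1, 0, 1, 0, 1, 0, 1], [1, 1, 0, 1, 1, 3, 1, 1, 0, 1], [0, 1, 1, 3, 1, 1, 0, 1, 1,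
  1], [3, 1, 3, 1, 0, 1, 0, 1, 3, 1], [0, 1, 3, 1, 1, 0, 1, 3, 1, 3], [0, 1, 0, 1, 1, 3, 1, 3, 1, 3], [3,
  1, 0, 1, 3, 1, 1, 3, 1, 0, 1], [3, 1, 3, 1, 0, 1, 0, 1, 3, 1, 1], [3, 1, 1, 3, 1, 3, 0, 1, 0, 1, 1, 0]]

/-- For each product of the four commuting generators, vectors with all its possible commutators. -/
def commWit : List (List ℕ) :=
  [[0], [0, 64, 128, 192, 256, 320, 384, 448, 512, 576, 640, 704, 768, 832, 896, 960], [0, 64, 128, 192,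
  256, 320, 384, 448, 512, 576, 640, 704, 768, 832, 896, 960], [0, 64, 128, 192, 256, 320, 384, 448, 512,
  576, 640, 704, 768, 832, 896, 960], [0, 64, 128, 192, 256, 320, 384, 448, 512, 576, 640, 704, 768, 832,
  896, 960], [0, 64, 128, 192, 256, 320, 384, 448, 512, 576, 640, 704, 768, 832, 896, 960], [0, 256, 512,
  768, 1024, 1280, 1536, 1792, 2048, 2304, 2560, 2816, 3072, 3328, 3584, 3840], [0, 64, 128, 192, 256,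
  320, 384, 448, 512, 576, 640, 704, 768, 832, 896, 960], [0, 64, 128, 192, 1024, 1088, 1152, 1216, 2048,
  2112, 2176, 2240, 3072, 3136, 3200, 3264], [0, 64, 128, 192, 256, 320, 384, 448, 512, 576, 640, 704,
  768, 832, 896, 960], [0, 64, 128, 192, 256, 320, 384, 448, 512, 576, 640, 704, 768, 832, 896, 960], [0,
  64, 128, 192, 256, 320, 384, 448, 512, 576, 640, 704, 768, 832, 896, 960], [0, 64, 128, 192, 256, 320,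
  384, 448, 512, 576, 640, 704, 768, 832, 896, 960], [0, 64, 128, 192, 256, 320, 384, 448, 512, 576, 640,
  704, 768, 832, 896, 960], [0, 64, 128, 192, 1024, 1088, 1152, 1216, 2048, 2112, 2176, 2240, 3072, 3136,
  3200, 3264], [0, 64, 128, 192, 256, 320, 384, 448, 512, 576, 640, 704, 768, 832, 896, 960]]

end CfsgLib.J4Type
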