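import Cfsg.Agent.Lib.J4Type.Local
import Cfsg.Agent.Lib.J4Type.Enc
import Cfsg.Agent.Lib.J4Type.StabData

/-!
Words in the generators of the model for Janko-four type and their action on codes, with the finite
checks on the tables used for the stabiliser of `W`.
-/

set_option autoImplicit false
set_option maxRecDepth 20000
set_option maxHeartbeats 1000000

namespace CfsgLib.J4Type

open CfsgLib.FischerTwoFour (QRep)

/-- The columns of the `j`-th generator. -/
def genCols : ℕ → List ℕ
  | 0 => colsA
  | 1 => colsC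
  | 2 => colsG
  | 3 => colsU
  | j + 4 => colsR.getD (j % 4) []

/-- The action of a word on codes. -/
def appW : List ℕ → ℕ → ℕ
  | [], v => v
  | j :: w, v => app (genCols j) (appW w v)

/-- The word of the product of the commuting generators selected by the bits of `m`. -/
def rWord (m : ℕ) : List ℕ := ((List.range 4).filter fun i => m.testBit i).map (· + 4)

/-- The commutator map of a word on codes. -/
def delW (w : List ℕ) (v : ℕ) : ℕ := Nat.xor (appW w v) v

/-- The number with bits at the members of a list. -/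
def bitsOf : List ℕ → ℕ
  | [] => 0
  | x :: xs => (1 <<< x) ||| bitsOf xs

/-- The codes of the image of `W` under a word, as one number. -/
def orbBits (w : List ℕ) : ℕ := bitsOf ((List.range 64).map (appW w))

/-- The union of the bit sets of the listed images of `W`. -/
def orbUnion : List (List ℕ) → ℕ
  | [] => 0
  | w :: ws => orbBits w ||| orbUnion ws

theorem testBit_bitsOf (l : List ℕ) (n : ℕ) : (bitsOf l).testBit n = true ↔ n ∈ l := by
  induction l with
  | nil => simp [bitsOf]
  | cons x xs ih =>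
    rw [bitsOf, Nat.testBit_lor, Bool.or_eq_true, ih, Nat.one_shiftLeft, Nat.testBit_two_pow, decide_eq_true_eq,
      List.mem_cons, eq_comm]

theorem testBit_orbBits (w : List ℕ) (n : ℕ) :
    (orbBits w).testBit n = true ↔ ∃ m, m < 64 ∧ appW w m = n := by
  simp [orbBits, testBit_bitsOf]

theorem testBit_orbUnion (ws : List (List ℕ)) (n : ℕ) (h : (orbUnion ws).testBit n = true) :
    ∃ w ∈ ws, ∃ m, m < 64 ∧ appW w m = n := by
  induction ws with
  | nil => simp [orbUnion] at h
  | cons w ws ih =>
    rw [orbUnion, Nat.testBit_lor, Bool.or_eq_true] at h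
    rcases h with h | h
    · exact ⟨w, List.mem_cons_self .., (testBit_orbBits w n).1 h⟩
    · obtain ⟨w', hw, hm⟩ := ih h
      exact ⟨w', List.mem_cons_of_mem _ hw, hm⟩

theorem appW_xor (w : List ℕ) (u v : ℕ) : appW w (Nat.xor u v) = Nat.xor (appW w u) (appW w v) := by
  induction w with
  | nil => rfl
  | cons j w ih => simp only [appW, ih]; exact app_xor _ _ _

theorem delW_xor (w : List ℕ) (u v : ℕ) : delW w (Nat.xor u v) = Nat.xor (delW w u) (delW w v) := by
  simp only [delW, appW_xor]
  show (appW w u ^^^ appW w v) ^^^ (u ^^^ v) = (appW w u ^^^ u) ^^^ (appW w v ^^^ v)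
  ac_rfl

theorem pow_xor_eq {k r : ℕ} (hr : r < 2 ^ k) : Nat.xor (2 ^ k) r = 2 ^ k + r := by
  have h := Nat.two_pow_add_eq_or_of_lt hr 1
  rw [mul_one] at h
  rw [h]
  refine Nat.eq_of_testBit_eq fun i => ?_
  show ((2 ^ k) ^^^ r).testBit i = _
  rw [Nat.testBit_xor, Nat.testBit_lor, Nat.testBit_two_pow]
  by_cases hi : k = i
  · subst hi; simp [Nat.testBit_lt_two_pow hr]
  · simp [hi]

/-- Induction on codes along the basis. -/
theorem basis_induction {P : ℕ → Prop} {N : ℕ} (h0 : P 0) (hb : ∀ k, k < N → P (2 ^ k))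
    (hx : ∀ u v, P u → P v → P (Nat.xor u v)) : ∀ k, k ≤ N → ∀ n, n < 2 ^ k → P n := by
  intro k
  induction k with
  | zero => intro _ n hn; simp at hn; subst hn; exact h0
  | succ k ih =>
    intro hk n hn
    rcases Nat.lt_or_ge n (2 ^ k) with h | h
    · exact ih (by omega) n h
    · have hr : n - 2 ^ k < 2 ^ k := by rw [pow_succ] at hn; omega
      have := hx _ _ (hb k (by omega)) (ih (by omega) _ hr)
      rwa [pow_xor_eq hr, Nat.add_sub_cancel' h] at this

theorem appW_eq_of_basis {w w' : List ℕ} {N : ℕ}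
    (h : ∀ k, k < N → appW w (2 ^ k) = appW w' (2 ^ k)) : ∀ n, n < 2 ^ N → appW w n = appW w' n := by
  have hz : ∀ w, appW w 0 = 0 := fun w => by
    have := appW_xor w 0 0
    rw [show Nat.xor 0 0 = 0 from rfl, show Nat.xor (appW w 0) (appW w 0) = 0 from Nat.xor_self _] at this
    exact this
  exact basis_induction (P := fun n => appW w n = appW w' n) (by rw [hz, hz]) h
    (fun u v hu hv => by rw [appW_xor, appW_xor, hu, hv]) N le_rfl

theorem appW_lt_of_basis {w : List ℕ} {N B : ℕ} (h : ∀ k, k < N → appW w (2 ^ k) < 2 ^ B) :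
    ∀ n, n < 2 ^ N → appW w n < 2 ^ B := by
  refine basis_induction (P := fun n => appW w n < 2 ^ B) ?_ h (fun u v hu hv => ?_) N le_rfl
  · have := appW_xor w 0 0
    rw [show Nat.xor 0 0 = 0 from rfl, show Nat.xor (appW w 0) (appW w 0) = 0 from Nat.xor_self _] at this
    rw [this]; exact Nat.two_pow_pos B
  · rw [appW_xor]; exact Nat.xor_lt_two_pow hu hv

/-! ### Checks -/

theorem presW_gens : ∀ j ∈ [0, 1, 3, 4, 5, 6, 7], ∀ k, k < 6 → app (genCols j) (2 ^ k) < 2 ^ 6 := by
  decide +kernel

theorem fixW_gens : ∀ i, i < 4 → ∀ k, k < 6 → app (genCols (i + 4)) (2 ^ k) = 2 ^ k := by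
  decide +kernel

theorem fix_only_W : ∀ n, n < 4096 →
    (app (genCols 4) n = n ∧ app (genCols 5) n = n ∧ app (genCols 6) n = n ∧ app (genCols 7) n = n) → n < 64 := by
  decide +kernel

theorem orb_length : orbWords.length = 77 := by decide +kernel

theorem orb_bits_nodup : (orbWords.map orbBits).Nodup := by decide +kernel

theorem orb_cover :
    (orbUnion orbWords ||| bitsOf ((List.range 4096).filter qn)) = 2 ^ 4096 - 1 := by decide +kernel

theorem mov_fix : movWords.length = 45 ∧ fixWords.length = 48 ∧ (movWords.map fun w => appW w 1).Nodup ∧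
    (∀ w ∈ fixWords, appW w 1 = 1) ∧ (fixWords.map fun w => (List.range 6).map fun k => appW w (2 ^ k)).Nodup ∧
    (∀ w ∈ movWords ++ fixWords, ∀ j ∈ w, j = 0 ∨ j = 1 ∨ j = 3) := by
  decide +kernel

theorem rWord_mul : ∀ m, m < 16 → ∀ n, n < 16 → ∀ k, k < 12 →
    appW (rWord m ++ rWord n) (2 ^ k) = appW (rWord (Nat.xor m n)) (2 ^ k) := by
  decide +kernel

theorem rWord_ne : ∀ m, m < 16 → m ≠ 0 → ∃ k, k < 12 ∧ appW (rWord m) (2 ^ k) ≠ 2 ^ k := by
  decide +kernel

/-- The list of all values of the commutator map of a product of the commuting generators. -/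
def commVals (m : ℕ) : List ℕ := (commWit.getD m []).map (delW (rWord m))

/-- The finite check on the values of one commutator map. -/
def commOk (m : ℕ) : Bool :=
  decide (commVals m).Nodup && ((commVals m).length == 16) && (commVals m).contains 0 &&
    (commVals m).all (fun x => decide (x < 64)) &&
    (commWit.getD m []).all (fun x => decide (x < 4096)) &&
    ((List.range 12).all fun k => (commVals m).contains (delW (rWord m) (2 ^ k))) &&
    ((commVals m).all fun x => (commVals m).all fun y => (commVals m).contains (Nat.xor x y))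

theorem commOk_all : ∀ m, m < 16 → m ≠ 0 → commOk m = true := by
  decide +kernel

theorem commVals_check (m : ℕ) (hm : m < 16) (hm0 : m ≠ 0) :
    (commVals m).Nodup ∧ (commVals m).length = 16 ∧ 0 ∈ commVals m ∧
    (∀ x ∈ commVals m, x < 64) ∧ (∀ x ∈ commWit.getD m [], x < 4096) ∧
    (∀ k, k < 12 → delW (rWord m) (2 ^ k) ∈ commVals m) ∧
    (∀ x ∈ commVals m, ∀ y ∈ commVals m, Nat.xor x y ∈ commVals m) := by
  have h := commOk_all m hm hm0
  simp only [commOk, Bool.and_eq_true, decide_eq_true_eq, beq_iff_eq, List.contains_iff_mem,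
    List.all_eq_true, List.mem_range] at h
  obtain ⟨⟨⟨⟨⟨⟨h1, h2⟩, h3⟩, h4⟩, h5⟩, h6⟩, h7⟩ := h
  exact ⟨h1, h2, h3, h4, h5, h6, h7⟩

theorem delW_mem {m : ℕ} (hm : m < 16) (hm0 : m ≠ 0) :
    ∀ n, n < 4096 → delW (rWord m) n ∈ commVals m := by
  obtain ⟨-, -, h0, -, -, hb, hx⟩ := commVals_check m hm hm0
  refine basis_induction (P := fun n => delW (rWord m) n ∈ commVals m) ?_ hb
    (fun u v hu hv => by rw [delW_xor]; exact hx _ hu _ hv) 12 le_rfl
  have := delW_xor (rWord m) 0 0
  rw [show Nat.xor 0 0 = 0 from rfl, show Nat.xor (delW (rWord m) 0) (delW (rWord m) 0) = 0 from Nat.xor_self _] at this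
  rwa [this]

end CfsgLib.J4Type
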