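import Cfsg.Agent.Lib.J4Type.VGroup
import Cfsg.Agent.Lib.J4Type.Elementary

/-!
The facts on elementary abelian subgroups of `C(z) / O_2(C(z))` used for the uniqueness of `V`, and the resulting
uniqueness in a Sylow 2-subgroup of `G`.
-/

set_option autoImplicit false

universe u

namespace CfsgLib.J4Type

theorem Model.elemFacts {H V : Type*} [Group H] [AddCommGroup V] {R : CfsgLib.FischerTwoFour.QRep H V}
    (M : Model R) : M.ElemFacts :=
  ⟨fun _ h => M.elem_card_le h, fun _ h hc => M.elem_five_fix h hc, fun _ ha hs => M.sing_card_le ha hs,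
    fun _ _ _ _ hA hB hAc hBc hS hS' hp => M.singfix_unique hA hAc hB hBc hS hS' hp, M.singfix_rSub⟩

variable {G : Type u} [Group G] [Finite G] {z : G} {P : Subgroup G}

/-- A Sylow 2-subgroup of `G` contains exactly one elementary abelian subgroup of order `2^11`. -/
theorem Ctx.vg_unique' (X : Ctx z P) (T : Sylow 2 G) :
    ∃! V : Subgroup G, V ≤ (T : Subgroup G) ∧ Cfsg.IsElementaryAbelian 2 V ∧ Nat.card V = 2 ^ 11 :=
  X.vg_unique X.model.stabFacts X.model.elemFacts T

/-- An elementary abelian subgroup of order `2^11` of a 2-subgroup containing `Vg` is `Vg`. -/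
theorem Ctx.eq_Vg (X : Ctx z P) {A : Subgroup G} (hA : Cfsg.IsElementaryAbelian 2 A) (hc : Nat.card A = 2 ^ 11)
    (hp : IsPGroup 2 ↥(A ⊔ X.Vg)) : A = X.Vg := by
  have : Fact (Nat.Prime 2) := ⟨Nat.prime_two⟩
  obtain ⟨T, hT⟩ := hp.exists_le_sylow
  have hV := X.card_Vg X.model.stabFacts
  exact (X.vg_unique' T).unique ⟨le_sup_left.trans hT, hA, hc⟩
    ⟨le_sup_right.trans hT, X.Vg_elementary X.model.stabFacts, by rw [hV]; norm_num⟩

/-- All elementary abelian subgroups of order `2^11` are conjugate to `Vg`. -/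
theorem Ctx.exists_conj_eq_Vg (X : Ctx z P) {A : Subgroup G} (hA : Cfsg.IsElementaryAbelian 2 A)
    (hc : Nat.card A = 2 ^ 11) : ∃ g : G, A.map (MulAut.conj g).toMonoidHom = X.Vg := by
  have : Fact (Nat.Prime 2) := ⟨Nat.prime_two⟩
  obtain ⟨S, hS⟩ := (IsPGroup.of_card (n := 11) hc).exists_le_sylow (G := G)
  obtain ⟨T, hT⟩ := (IsPGroup.of_card (n := 11)
    (by rw [X.card_Vg X.model.stabFacts]; norm_num : Nat.card X.Vg = 2 ^ 11)).exists_le_sylow (G := G)
  obtain ⟨g, hg⟩ := MulAction.exists_smul_eq G S T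
  have hle : A.map (MulAut.conj g).toMonoidHom ≤ T := by
    rw [← hg, Sylow.coe_subgroup_smul]
    exact Subgroup.map_mono hS
  refine ⟨g, (X.vg_unique' T).unique ⟨hle, elementary_map hA _, ?_⟩
    ⟨hT, X.Vg_elementary X.model.stabFacts, ?_⟩⟩
  · rw [Subgroup.card_map_of_injective (MulAut.conj g).injective, hc]
  · rw [X.card_Vg X.model.stabFacts]; norm_num

end CfsgLib.J4Type
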