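import Cfsg.Agent.Lib.J4Type.Fusion
import Cfsg.Agent.Lib.J4Type.VUnique
import Cfsg.Agent.Lib.J4Type.Model.Ctx

/-!
In a simple group of Janko-four type the normaliser of the subgroup of order `2^11` moves `z`.
-/

set_option autoImplicit false

universe u

namespace CfsgLib.J4Type

variable {G : Type u} [Group G] [Finite G] {z : G} {P : Subgroup G}

/-- The normaliser of the subgroup of order `2^11` moves `z`. -/
theorem Ctx.exists_moved [IsSimpleGroup G] (X : Ctx z P) (hG : ¬ IsMulCommutative G) :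
    ∃ m ∈ Subgroup.normalizer (X.Vg : Set G), m * z * m⁻¹ ≠ z := by
  have hS := X.model.stabFacts
  have hE := X.Vg_elementary hS
  have hcard : Nat.card X.Vg = 2 ^ 11 := by rw [X.card_Vg hS]; norm_num
  have hsq : ∀ a ∈ X.Vg, a * a = 1 := fun a ha => by rw [← pow_two]; exact hE.2 a ha
  refine X.exists_moved_of hG (fun a ha b hb => congrArg Subtype.val (hE.1.is_comm.comm ⟨a, ha⟩ ⟨b, hb⟩))
    hsq hcard (X.z_mem_Vg hS) fun T A B hT hA hB hAsq hAc hBsq hBc => ?_
  have elem : ∀ U : Subgroup G, (∀ a ∈ U, a * a = 1) → Cfsg.IsElementaryAbelian 2 U := fun U hU =>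
    ⟨⟨⟨fun a b => Subtype.ext (by
      have h1 : ((a : G) * b) * (a * b) = 1 := hU _ (mul_mem a.2 b.2)
      have e1 : (a : G)⁻¹ = a := inv_eq_of_mul_eq_one_right (hU a a.2)
      have e2 : (b : G)⁻¹ = b := inv_eq_of_mul_eq_one_right (hU b b.2)
      have e3 := inv_eq_of_mul_eq_one_right h1
      rw [mul_inv_rev, e1, e2] at e3
      exact e3.symm)⟩⟩, fun a ha => by rw [pow_two, hU a ha]⟩
  have : Fact (Nat.Prime 2) := ⟨Nat.prime_two⟩
  obtain ⟨S, hS'⟩ := hT.exists_le_sylow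
  exact (X.vg_unique' S).unique ⟨hA.trans hS', elem A hAsq, hAc⟩ ⟨hB.trans hS', elem B hBsq, hBc⟩

end CfsgLib.J4Type
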