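import Cfsg.Agent.Lib.J4Type.PairCent
import Cfsg.Agent.Lib.J4Type.CentT
import Cfsg.Agent.Lib.J4Type.VUnique

/-!
The orbits of the normaliser of an elementary abelian subgroup of order `2^11` and the centraliser of an
element outside the class of `z`.
-/

set_option autoImplicit false
set_option linter.unusedSectionVars false

namespace CfsgLib.J4Type

universe u

namespace Ctx

variable {G : Type u} [Group G] [Finite G] {z : G} {P : Subgroup G} (X : Ctx z P)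

/-- The normaliser of `Vg` controls the fusion of `z` in it. -/
theorem exists_norm_conj_z (a : G) (ha : a ∈ X.Vg) (haz : IsConj z a) :
    ∃ m ∈ Subgroup.normalizer (X.Vg : Set G), m * z * m⁻¹ = a := by
  classical
  obtain ⟨g, rfl⟩ := isConj_iff.1 haz
  obtain ⟨S, -, hin⟩ := X.exists_sylow
  have hS := X.model.stabFacts
  have hV := X.Vg_elementary hS
  have hVc : Nat.card X.Vg = 2 ^ 11 := by rw [X.card_Vg hS]; norm_num
  set B := X.Vg.map (MulAut.conj g⁻¹).toMonoidHom with hB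
  have hBz : B ≤ CC z := by
    rintro _ ⟨v, hv, rfl⟩
    rw [Subgroup.mem_centralizer_singleton_iff]
    show g⁻¹ * v * g⁻¹⁻¹ * z = z * (g⁻¹ * v * g⁻¹⁻¹)
    have h := congrArg Subtype.val (hV.1.is_comm.comm ⟨v, hv⟩ ⟨g * z * g⁻¹, ha⟩)
    have h' : v * (g * z * g⁻¹) = g * z * g⁻¹ * v := h
    calc g⁻¹ * v * g⁻¹⁻¹ * z = g⁻¹ * (v * (g * z * g⁻¹)) * g := by group
      _ = g⁻¹ * (g * z * g⁻¹ * v) * g := by rw [h']
      _ = z * (g⁻¹ * v * g⁻¹⁻¹) := by group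
  have hBc : Nat.card B = 2 ^ 11 := by
    rw [hB, Subgroup.card_map_of_injective (MulAut.conj g⁻¹).injective, hVc]
  have hVz : X.Vg ≤ CC z := Subgroup.map_subtype_le _
  obtain ⟨c₀, hc₀, hle₀⟩ := hin X.Vg (IsPGroup.of_card (n := 11) hVc) hVz
  obtain ⟨c, hc, hle⟩ := hin B (IsPGroup.of_card (n := 11) hBc) hBz
  have heq : B.map (MulAut.conj c).toMonoidHom = X.Vg.map (MulAut.conj c₀).toMonoidHom :=
    (X.vg_unique' S).unique
      ⟨hle, elementary_map (elementary_map hV _) _,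
        by rw [Subgroup.card_map_of_injective (MulAut.conj c).injective, hBc]⟩
      ⟨hle₀, elementary_map hV _, by rw [Subgroup.card_map_of_injective (MulAut.conj c₀).injective, hVc]⟩
  refine ⟨g * c⁻¹ * c₀, Subgroup.mem_normalizer_fintype fun v hv => ?_, ?_⟩
  · obtain ⟨w, hw, hwe⟩ : c₀ * v * c₀⁻¹ ∈ B.map (MulAut.conj c).toMonoidHom := heq ▸ ⟨v, hv, rfl⟩
    obtain ⟨x, hx, rfl⟩ := hw
    have hwe' : c * (g⁻¹ * x * g⁻¹⁻¹) * c⁻¹ = c₀ * v * c₀⁻¹ := hwe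
    show g * c⁻¹ * c₀ * v * (g * c⁻¹ * c₀)⁻¹ ∈ X.Vg
    rw [show g * c⁻¹ * c₀ * v * (g * c⁻¹ * c₀)⁻¹ = g * c⁻¹ * (c₀ * v * c₀⁻¹) * c * g⁻¹ by group, ← hwe',
      show g * c⁻¹ * (c * (g⁻¹ * x * g⁻¹⁻¹) * c⁻¹) * c * g⁻¹ = x by group]
    exact hx
  · rw [Subgroup.mem_centralizer_singleton_iff] at hc hc₀
    calc g * c⁻¹ * c₀ * z * (g * c⁻¹ * c₀)⁻¹ = g * (c⁻¹ * (c₀ * z) * c₀⁻¹ * c) * g⁻¹ := by group
      _ = g * (c⁻¹ * (z * c₀) * c₀⁻¹ * c) * g⁻¹ := by rw [hc₀]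
      _ = g * (c⁻¹ * (z * c)) * g⁻¹ := by group
      _ = g * (c⁻¹ * (c * z)) * g⁻¹ := by rw [hc]
      _ = g * z * g⁻¹ := by group

/-- An elementary abelian subgroup of order `2^11` normalising `Vg` is `Vg`. -/
theorem eq_Vg_of_le_normalizer (B : Subgroup G) (hsq : ∀ a ∈ B, a * a = 1) (hc : Nat.card B = 2048)
    (hle : B ≤ Subgroup.normalizer (X.Vg : Set G)) : B = X.Vg := by
  have hB : Cfsg.IsElementaryAbelian 2 B := by
    refine ⟨⟨⟨fun a b => Subtype.ext ?_⟩⟩, fun a ha => by rw [pow_two, hsq a ha]⟩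
    have h1 : ((a : G) * b) * (a * b) = 1 := hsq _ (mul_mem a.2 b.2)
    have e1 : (a : G)⁻¹ = a := inv_eq_of_mul_eq_one_right (hsq a a.2)
    have e2 : (b : G)⁻¹ = b := inv_eq_of_mul_eq_one_right (hsq b b.2)
    show (a : G) * b = b * a
    rw [← inv_eq_of_mul_eq_one_right h1, mul_inv_rev, e1, e2]
  refine X.eq_Vg hB (by rw [hc]; norm_num) ?_
  exact IsPGroup.to_sup_of_normal_right' (IsPGroup.of_card (n := 11) (by rw [hc]; norm_num))
    (IsPGroup.of_card (n := 11) (by rw [X.card_Vg X.model.stabFacts]; norm_num)) hle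

/-- **The orbits of `N(V)` on `V` and the centraliser of `t`**, for every elementary `V` of order `2^11`. -/
theorem orbits_centralizer
    (hmoved : ∃ m ∈ Subgroup.normalizer (X.Vg : Set G), m * z * m⁻¹ ≠ z)
    (V : Subgroup G) (hV : Cfsg.IsElementaryAbelian 2 V) (hcard : Nat.card ↥V = 2 ^ 11) :
    ∃ z' t : G, z' ∈ V ∧ t ∈ V ∧ t ≠ 1 ∧ IsConj z z' ∧ ¬ IsConj z t ∧
    Set.ncard {v : G | ∃ n ∈ Subgroup.normalizer (V : Set G), n * z' * n⁻¹ = v} = 1771 ∧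
    Set.ncard {v : G | ∃ n ∈ Subgroup.normalizer (V : Set G), n * t * n⁻¹ = v} = 276 ∧
    Subgroup.centralizer ({t} : Set G) ≤ Subgroup.normalizer (V : Set G) := by
  classical
  have hS := X.model.stabFacts
  obtain ⟨ec, D, hlow⟩ := exists_vact_low X
    (fun a ha => X.VV_sq hS ha) (X.card_normalizer hS) X.exists_norm_conj_z hmoved
  have F : VFrame z X.Vg := D.vframe
  obtain ⟨t₀, ht₀⟩ : (ncG z X.Vg).Nonempty :=
    Set.nonempty_of_ncard_ne_zero (by rw [F.ncard_ncG]; norm_num)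
  have hcent : CC t₀ ≤ Subgroup.normalizer (X.Vg : Set G) :=
    F.centralizer_le_normalizer (fun a ha haz t ht => X.centralizer_pair_le D hlow a ha haz t ht)
      X.eq_Vg_of_le_normalizer ht₀
  obtain ⟨g, hg⟩ := X.exists_conj_eq_Vg hV hcard
  have hmem : ∀ v, v ∈ V ↔ g * v * g⁻¹ ∈ X.Vg := fun v => by
    rw [← hg]
    exact ⟨fun hv => ⟨v, hv, rfl⟩, fun ⟨w, hw, e⟩ => (MulAut.conj g).injective e ▸ hw⟩
  have hnorm : ∀ n, n ∈ Subgroup.normalizer (V : Set G) ↔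
      g * n * g⁻¹ ∈ Subgroup.normalizer (X.Vg : Set G) := fun n => by
    rw [Subgroup.mem_normalizer_iff, Subgroup.mem_normalizer_iff]
    constructor
    · intro h x
      have h' := h (g⁻¹ * x * g)
      rw [hmem, hmem, show g * (g⁻¹ * x * g) * g⁻¹ = x by group,
        show g * (n * (g⁻¹ * x * g) * n⁻¹) * g⁻¹ = g * n * g⁻¹ * x * (g * n * g⁻¹)⁻¹ by group] at h'
      exact h'
    · intro h x
      rw [hmem, hmem, h (g * x * g⁻¹),
        show g * n * g⁻¹ * (g * x * g⁻¹) * (g * n * g⁻¹)⁻¹ = g * (n * x * n⁻¹) * g⁻¹ by group]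
  have horb : ∀ a : G, {v : G | ∃ n ∈ Subgroup.normalizer (V : Set G), n * (g⁻¹ * a * g) * n⁻¹ = v} =
      (fun y => g⁻¹ * y * g) '' {y : G | ∃ m ∈ Subgroup.normalizer (X.Vg : Set G), m * a * m⁻¹ = y} := fun a => by
    ext v
    constructor
    · rintro ⟨n, hn, rfl⟩
      exact ⟨_, ⟨g * n * g⁻¹, (hnorm n).1 hn, rfl⟩, by group⟩
    · rintro ⟨_, ⟨m, hm, rfl⟩, rfl⟩
      refine ⟨g⁻¹ * m * g, (hnorm _).2 ?_, by group⟩
      rwa [show g * (g⁻¹ * m * g) * g⁻¹ = m by group]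
  have hinj : Function.Injective fun y : G => g⁻¹ * y * g := fun a b e =>
    mul_left_cancel (mul_right_cancel e)
  have hconj : ∀ a : G, IsConj z (g⁻¹ * a * g) ↔ IsConj z a := fun a => by
    have hc : IsConj a (g⁻¹ * a * g) := isConj_iff.2 ⟨g⁻¹, by group⟩
    exact ⟨fun h => h.trans hc.symm, fun h => h.trans hc⟩
  refine ⟨g⁻¹ * z * g, g⁻¹ * t₀ * g, ?_, ?_, ?_, (hconj z).2 (IsConj.refl z), fun h => ht₀.2.2 ((hconj t₀).1 h),
    ?_, ?_, ?_⟩
  · rw [hmem, show g * (g⁻¹ * z * g) * g⁻¹ = z by group]; exact F.mem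
  · rw [hmem, show g * (g⁻¹ * t₀ * g) * g⁻¹ = t₀ by group]; exact ht₀.1
  · exact fun e => ht₀.2.1 (hinj (e.trans (by group)))
  · rw [horb, Set.ncard_image_of_injective _ hinj, F.ncard_orbit_z]
  · have e : {y : G | ∃ m ∈ Subgroup.normalizer (X.Vg : Set G), m * t₀ * m⁻¹ = y} = ncG z X.Vg := by
      ext y
      exact ⟨fun ⟨m, hm, hy⟩ => hy ▸ (norm_ncG hm).2 ht₀, fun hy => F.trans_ncG ht₀ hy⟩
    rw [horb, Set.ncard_image_of_injective _ hinj, e, F.ncard_ncG]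
  · intro x hx
    rw [Subgroup.mem_centralizer_singleton_iff] at hx
    rw [hnorm]
    refine hcent (Subgroup.mem_centralizer_singleton_iff.2 ?_)
    calc g * x * g⁻¹ * t₀ = g * (x * (g⁻¹ * t₀ * g)) * g⁻¹ := by group
      _ = g * (g⁻¹ * t₀ * g * x) * g⁻¹ := by rw [hx]
      _ = t₀ * (g * x * g⁻¹) := by group

end Ctx

end CfsgLib.J4Type
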