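import Cfsg.Agent.Lib.J4Type.SevenLocal
import Cfsg.Prelude.Def_JankoFourType

/-!
# The seven-local structure from the maximal two-local and the three-local data
-/

set_option autoImplicit false

namespace CfsgLib.J4Type

open Cfsg CfsgLib.ThreeTrans.Torsion
open Subgroup (mem_centralizer_singleton_iff)

universe u

variable {G : Type u} [Group G]

/-- Transport along conjugation. -/
theorem seven_transport [Finite G] {X S : Subgroup G} {g : G} (hS : X.map (MulAut.conj g).toMonoidHom = S)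
    (h : ∃ I : Subgroup G, IsInternalDirectProduct X I (Subgroup.centralizer (X : Set G)) ∧
      Nonempty (↥I ≃* Equiv.Perm (Fin 5))) :
    (∃ I : Subgroup G, IsInternalDirectProduct S I (Subgroup.centralizer (S : Set G)) ∧
      Nonempty (↥I ≃* Equiv.Perm (Fin 5))) ∧
    Nat.card (Subgroup.centralizer (S : Set G)) = Nat.card (Subgroup.centralizer (X : Set G)) ∧
    Nat.card (Subgroup.normalizer (S : Set G)) = Nat.card (Subgroup.normalizer (X : Set G)) := by
  set φ := (MulAut.conj g).toMonoidHom with hφ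
  have hinj : Function.Injective φ := (MulAut.conj g).injective
  have hC : (Subgroup.centralizer (X : Set G)).map φ = Subgroup.centralizer (S : Set G) := by
    ext y
    rw [hφ, mem_map_conj, Subgroup.mem_centralizer_iff, Subgroup.mem_centralizer_iff]
    constructor
    · intro hy a ha
      rw [← hS, SetLike.mem_coe, mem_map_conj] at ha
      have h := hy _ ha
      simp only [← mul_assoc] at h
      exact ((commute_conj_fix (g := g) (a := g⁻¹ * a * g) (b := a) (by group) (x := y)).1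
        (show Commute (g⁻¹ * y * g) (g⁻¹ * a * g) from (hy _ ha).symm)).eq.symm
    · intro hy a ha
      exact ((commute_conj_fix (g := g) (a := a) rfl (x := y)).2
        (show Commute y (g * a * g⁻¹) from (hy _ (by rw [← hS]; exact ⟨a, ha, rfl⟩)).symm)).eq.symm
  have hN : (Subgroup.normalizer (X : Set G)).map φ = Subgroup.normalizer (S : Set G) := by
    rw [← hS]
    exact Subgroup.map_equiv_normalizer_eq X (MulAut.conj g)
  refine ⟨?_, by rw [← hC, card_map_conj], by rw [← hN, card_map_conj]⟩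
  obtain ⟨I, ⟨h1, h2, h3, h4, h5⟩, ⟨e⟩⟩ := h
  refine ⟨I.map φ, ⟨?_, ?_, ?_, ?_, ?_⟩, ⟨(Subgroup.equivMapOfInjective I φ hinj).symm.trans e⟩⟩
  · rw [← hC, ← hS]; exact Subgroup.map_mono h1
  · rw [← hC]; exact Subgroup.map_mono h2
  · rw [← hS]
    rintro _ ⟨a, ha, rfl⟩ _ ⟨b, hb, rfl⟩
    rw [← map_mul, h3 a ha b hb, map_mul]
  · rw [← hS, ← Subgroup.map_inf _ _ _ hinj, h4, Subgroup.map_bot]
  · rw [← hC, ← hS, ← Subgroup.map_sup, h5]

/-- The seven-local structure, given the normaliser of `V`, its small orbit and the three-local fact. -/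
theorem seven_structure [Finite G] {V K : Subgroup G} (hV : IsElementaryAbelian 2 V) (hVc : Nat.card V = 2 ^ 11)
    (hKN : K ≤ Subgroup.normalizer (V : Set G)) (hKV : K ⊓ V = ⊥)
    (hKs : K ⊔ V = Subgroup.normalizer (V : Set G)) (hK : Cfsg.Spor.IsoM24 K)
    {z' t : G} (hz'V : z' ∈ V) (htV : t ∈ V) (ht1 : t ≠ 1) (hne : ¬ IsConj z' t)
    (h1771 : {v : G | ∃ n ∈ Subgroup.normalizer (V : Set G), n * z' * n⁻¹ = v}.ncard = 1771)
    (h276 : {v : G | ∃ n ∈ Subgroup.normalizer (V : Set G), n * t * n⁻¹ = v}.ncard = 276)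
    (hCt : Subgroup.centralizer ({t} : Set G) ≤ Subgroup.normalizer (V : Set G))
    (hthree : ∀ c : G, orderOf c = 3 → ∃ u : G, orderOf u = 2 ∧ ∀ g : G, Commute g c → Commute u g)
    {S : Subgroup G} (hS : Nat.card S = 7) :
    ¬ 49 ∣ Nat.card G ∧
    (∃ I : Subgroup G, IsInternalDirectProduct S I (Subgroup.centralizer (S : Set G)) ∧
      Nonempty (↥I ≃* Equiv.Perm (Fin 5))) ∧
    Nat.card (Subgroup.normalizer (S : Set G)) = 3 * Nat.card (Subgroup.centralizer (S : Set G)) ∧
    Nat.card (Subgroup.normalizer (S : Set G)) = 2 ^ 3 * 3 ^ 2 * 5 * 7 := by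
  obtain ⟨e⟩ := hK
  obtain ⟨π, hπ, he⟩ := exists_proj hKN hKV hKs e
  have hN : Nat.card (Subgroup.normalizer (V : Set G)) = 2 ^ 11 * 244823040 := by
    have hsurj : Function.Surjective π := fun m => by
      obtain ⟨k, rfl⟩ := e.surjective m
      exact ⟨_, he k⟩
    rw [card_eq_inf_mul_image π hπ le_rfl, inf_eq_right.2 Subgroup.le_normalizer, hVc,
      Subgroup.subgroupOf_self, Subgroup.map_top_of_surjective π hsurj, Subgroup.card_top,
      Golay.natCard_M24]
  have hz'1 : z' ≠ 1 := by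
    intro h
    have h1 : {v : G | ∃ n ∈ Subgroup.normalizer (V : Set G), n * z' * n⁻¹ = v} = {1} := by
      ext v
      simp only [h, mul_one, mul_inv_cancel, Set.mem_ofPred_eq, Set.mem_singleton_iff]
      exact ⟨fun ⟨_, _, h⟩ => h.symm, fun h => ⟨1, one_mem _, h.symm⟩⟩
    rw [h1, Set.ncard_singleton] at h1771
    norm_num at h1771
  obtain ⟨x, hxN, hx, hπx, hmap, hC, hX⟩ := seven_in_complement hKN π hπ e he
  obtain ⟨hF, hfix⟩ := fixed_points hVc hN hz'V htV hz'1 ht1 hne h1771 h276 hxN hx hX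
  rw [hF] at hC hX
  obtain ⟨t', v, s, g, h1, h2, h3, h4, h5, h6, h7, h8, h9, h10, h11, h12, h13, h56, h168, c, hc, hcx⟩ :=
    seven_stab hVc hV Subgroup.le_normalizer (fun n hn a ha => (Subgroup.mem_normalizer_iff.1 hn a).1 ha)
      π hπ hN h276 hCt hxN hπx hmap hC hX hF hfix
  obtain ⟨u, hu, huc⟩ := hthree c hc
  obtain ⟨h49, hI, hCc, hNc⟩ := seven_at hx h1 h2 h3 h4 h5 h6 h7 h8 h9 h10 h11 h12 h13 h56 h168 hc hcx
    hu (huc x hcx.symm) (huc c (Commute.refl c))
  have : Fact (Nat.Prime 7) := ⟨by norm_num⟩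
  obtain ⟨k, -, hk⟩ := conj_of_card (p := 7) (⊤ : Subgroup G) (X := Subgroup.zpowers x) (Y := S)
    (by rw [Subgroup.card_top]; norm_num; exact h49) le_top le_top (by rw [Nat.card_zpowers, hx]) hS
  obtain ⟨hI', hC', hN'⟩ := seven_transport hk hI
  refine ⟨h49, hI', ?_, ?_⟩ <;> rw [hN', hNc]
  · rw [hC', hCc]
  · norm_num

/-- In Janko-four type an element of order three has an involution commuting with its centraliser. -/
theorem three_centre [Finite G] {z : G} {P : Subgroup G} (hJ : Cfsg.IsOfJankoFourTypeWith z P)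
    (hNP : Subgroup.normalizer (P : Set G) ≤ Subgroup.centralizer ({z} : Set G))
    (hone : ∀ x y : G, orderOf x = 3 → orderOf y = 3 → IsConj x y) {c : G} (hc : orderOf c = 3) :
    ∃ u : G, orderOf u = 2 ∧ ∀ g : G, Commute g c → Commute u g := by
  have : Fact (Nat.Prime 3) := ⟨Nat.prime_three⟩
  have hP : Nat.card P = 3 := hJ.2.2.2.2.2.1
  obtain ⟨p, hp⟩ := exists_prime_orderOf_dvd_card' (G := P) 3 (by rw [hP])
  have hp3 : orderOf (p : G) = 3 := by rw [Subgroup.orderOf_coe, hp]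
  have hPz : P = Subgroup.zpowers (p : G) :=
    (Subgroup.eq_of_le_of_card_ge (Subgroup.zpowers_le.2 p.2) (by rw [hP, Nat.card_zpowers, hp3])).symm
  obtain ⟨a, ha⟩ := isConj_iff.1 (hone (p : G) c hp3 hc)
  refine ⟨a * z * a⁻¹, ((MulEquiv.orderOf_eq (MulAut.conj a) z).trans hJ.1), fun g hg => ?_⟩
  have h1 : Commute (a⁻¹ * g * a) (p : G) := (commute_conj_fix ha).2 hg
  have h2 : a⁻¹ * g * a ∈ Subgroup.normalizer (P : Set G) := by
    refine Subgroup.centralizer_le_normalizer _ ?_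
    rw [hPz, centralizer_zpowers]
    exact mem_centralizer_singleton_iff.2 h1.eq
  exact ((commute_conj_fix (g := a) (a := z) rfl).1 (mem_centralizer_singleton_iff.1 (hNP h2))).symm

/-- The seven-local structure in Janko-four type from the statements it rests on: the existence of an
elementary abelian subgroup of order `2 ^ 11`, its normaliser, its orbits, the normaliser of `P` and the
single class of elements of order three. -/
theorem seven_of_locals [Finite G] {z : G} (hJ : Cfsg.IsOfJankoFourTypeAt z)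
    (hNP : ∀ P : Subgroup G, Cfsg.IsOfJankoFourTypeWith z P →
      Subgroup.normalizer (P : Set G) ≤ Subgroup.centralizer ({z} : Set G))
    (hone : ∀ x y : G, orderOf x = 3 → orderOf y = 3 → IsConj x y)
    (hex : ∃ V : Subgroup G, IsElementaryAbelian 2 V ∧ Nat.card V = 2 ^ 11)
    (hsplit : ∀ V : Subgroup G, IsElementaryAbelian 2 V → Nat.card V = 2 ^ 11 →
      ∃ K : Subgroup G, K ≤ Subgroup.normalizer (V : Set G) ∧ K ⊓ V = ⊥ ∧
        K ⊔ V = Subgroup.normalizer (V : Set G) ∧ Cfsg.Spor.IsoM24 K)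
    (horbits : ∀ V : Subgroup G, IsElementaryAbelian 2 V → Nat.card V = 2 ^ 11 →
      ∃ z' t : G, z' ∈ V ∧ t ∈ V ∧ t ≠ 1 ∧ IsConj z z' ∧ ¬ IsConj z t ∧
        {v : G | ∃ n ∈ Subgroup.normalizer (V : Set G), n * z' * n⁻¹ = v}.ncard = 1771 ∧
        {v : G | ∃ n ∈ Subgroup.normalizer (V : Set G), n * t * n⁻¹ = v}.ncard = 276 ∧
        Subgroup.centralizer ({t} : Set G) ≤ Subgroup.normalizer (V : Set G))
    {S : Subgroup G} (hS : Nat.card S = 7) :
    ¬ 49 ∣ Nat.card G ∧
    (∃ I : Subgroup G, IsInternalDirectProduct S I (Subgroup.centralizer (S : Set G)) ∧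
      Nonempty (↥I ≃* Equiv.Perm (Fin 5))) ∧
    Nat.card (Subgroup.normalizer (S : Set G)) = 3 * Nat.card (Subgroup.centralizer (S : Set G)) ∧
    Nat.card (Subgroup.normalizer (S : Set G)) = 2 ^ 3 * 3 ^ 2 * 5 * 7 := by
  obtain ⟨P, hP⟩ := hJ
  obtain ⟨V, hV, hVc⟩ := hex
  obtain ⟨K, hKN, hKV, hKs, hK⟩ := hsplit V hV hVc
  obtain ⟨z', t, hz', ht, ht1, hzz, hzt, h1771, h276, hCt⟩ := horbits V hV hVc
  exact seven_structure hV hVc hKN hKV hKs hK hz' ht ht1 (fun h => hzt (hzz.trans h)) h1771 h276 hCt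
    (fun c hc => three_centre hP (hNP P hP) hone hc) hS

end CfsgLib.J4Type
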