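import Cfsg.Agent.Lib.J4Type.VSigns
import Cfsg.Agent.Lib.J4Type.Local

/-!
What is known at `z` about the subgroup of order `2^11` before the classes in it are decided: the
coordinates with the action of the stabiliser of `z`, and that `z` moves under the normaliser.
-/

set_option autoImplicit false

namespace CfsgLib.J4Type

variable {G : Type*} [Group G] [Finite G]

/-- Coordinates on a subgroup of order `2^11`, for the sign system `ec`. -/
structure VAct (z : G) (A : Subgroup G) (ec : ℕ) where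
  ec_cases : ec = 0 ∨ ec = 2
  enc : ℕ → G
  enc_mem : ∀ v, v < 2048 → enc v ∈ A
  enc_inj : ∀ v w, v < 2048 → w < 2048 → enc v = enc w → v = w
  enc_surj : ∀ a ∈ A, ∃ v, v < 2048 ∧ enc v = a
  enc_xor : ∀ v w, v < 2048 → w < 2048 → enc (Nat.xor v w) = enc v * enc w
  enc_z : enc 64 = z
  gens : ∀ g ∈ VCode.vgens ec, ∃ n ∈ Subgroup.normalizer (A : Set G) ⊓ CC z,
    ∀ v, v < 2048 → n * enc v * n⁻¹ = enc (app g v)
  low_kernel : ∀ n ∈ Subgroup.normalizer (A : Set G),
    (∀ v, v < 128 → n * enc v * n⁻¹ = enc v) → n ∈ A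
  self_cent : Subgroup.centralizer (A : Set G) ≤ A
  card_stab : Nat.card ↥(Subgroup.normalizer (A : Set G) ⊓ CC z) = 2048 * 138240
  conj_z : ∀ a ∈ A, IsConj z a → ∃ m ∈ Subgroup.normalizer (A : Set G), m * z * m⁻¹ = a
  moved : ∃ m ∈ Subgroup.normalizer (A : Set G), m * z * m⁻¹ ≠ z

end CfsgLib.J4Type
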