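import Cfsg.Agent.Lib.J4Type.Actions
import Cfsg.Agent.Lib.J4Type.Translate
import Cfsg.Agent.Lib.J4Type.Stab
import Cfsg.Agent.Lib.J4Type.VAct

/-!
The coordinates on the subgroup of order `2^11` as a `VAct`.
-/

set_option autoImplicit false
set_option linter.unusedSectionVars false
set_option maxRecDepth 20000

namespace CfsgLib.J4Type

open VCode (liftCols kCols)

universe u

variable {G : Type u} [Group G] [Finite G] {z : G} {P : Subgroup G}

namespace Lifts

variable {X : Ctx z P} (L : Lifts X)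

include L

theorem conj_p (hsq : ∀ a ∈ X.VV, a * a = 1) {n : ℕ} (hn : n < 2048) :
    L.p * L.enc n * L.p⁻¹ = L.enc (app (liftCols colsT [1, 2, 4, 8] 0) n) := by
  refine L.conj_app hsq L.p _ (fun i hi => ?_) hn
  obtain ⟨g1, g2, g3⟩ := getD_lift colsT [1, 2, 4, 8] 0 (by decide)
  rcases Nat.lt_trichotomy i 6 with h | h | h
  · rw [g1 i h, L.gg_sec h, L.sec_conj rfl colsT _ L.p_mk X.model.act_t (fun _ => colsT_low) (L.two_pow_lt h),
      app_two_pow, L.enc_sec hsq]
    rw [← app_two_pow]; exact colsT_low (L.two_pow_lt h)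
  · subst h
    rw [g2, gg, if_neg (by omega), if_pos rfl, ← Ctx.zc_central, mul_inv_cancel_right, L.enc_z]
  · obtain ⟨j, rfl⟩ : ∃ j, i = 7 + j := ⟨i - 7, by omega⟩
    have hj : j < 4 := by omega
    rw [g3 j hj, show L.gg (7 + j) = L.ρ ⟨j, hj⟩ from L.gg_rho ⟨j, hj⟩, ← L.ρ_p, mul_inv_cancel_right,
      ← L.enc_rho ⟨j, hj⟩]
    refine congrArg L.enc ?_
    exact (by decide : ∀ j, j < 4 →
      128 * 2 ^ j = Nat.xor (if Nat.testBit 0 j then 64 else 0) (128 * ([1, 2, 4, 8] : List ℕ).getD j 0)) j hj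

end Lifts

theorem Lifts.exists_low {X : Ctx z P} (L : Lifts X) (hsq : ∀ a ∈ X.VV, a * a = 1) {m : ℕ}
    (hklow : ∀ n, n < 128 → app (kCols m) n = n) {a : QQ z} (ha : (a : CC z) ∈ X.Wc) :
    ∃ v, v < 128 ∧ ((L.enc (app (kCols m) v) : CC z) : G) = ((a : CC z) : G) ∧ X.model.code (pr a) = v % 64 := by
  obtain ⟨n, hn, h | h⟩ := L.Wc_cases ha
  · refine ⟨n, by omega, ?_, ?_⟩
    · rw [hklow n (by omega), L.enc_sec hsq hn, h]
    · rw [show pr a = pr (L.sec n) from congrArg pr (Subtype.ext h), L.code_sec hn, Nat.mod_eq_of_lt hn]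
  · have hx : Nat.xor n 64 = 64 + n := by
      rw [show Nat.xor n 64 = Nat.xor (2 ^ 6) n from Nat.xor_comm n 64]
      exact pow_xor_eq (k := 6) (by omega)
    refine ⟨Nat.xor n 64, by omega, ?_, ?_⟩
    · rw [hklow _ (by omega), L.enc_xor hsq, L.enc_sec hsq hn, L.enc_z, h]
    · have e : a = L.sec n * X.zQ := Subtype.ext h
      rw [e, pr_mul, X.pr_zQ, add_zero, L.code_sec hn, hx, Nat.add_mod_left, Nat.mod_eq_of_lt hn]

theorem kCols_facts {m : ℕ} (hm : m < 16) :
    (∀ n, n < 2048 → app (kCols m) (app (kCols m) n) = n) ∧ (∀ n, app (kCols m) n < 2048) ∧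
    (∀ n, n < 128 → app (kCols m) n = n) := by
  have h : ∀ j, j < 11 → app (kCols m) (app (kCols m) (2 ^ j)) = 2 ^ j ∧
      (j < 7 → app (kCols m) (2 ^ j) = 2 ^ j) := fun j hj => by
    have := List.all_eq_true.1 (List.all_eq_true.1 VCode.kCols_sq m (List.mem_range.2 hm)) j (List.mem_range.2 hj)
    simp only [Bool.and_eq_true, Bool.or_eq_true, Nat.ble_eq] at this
    exact ⟨Nat.eq_of_beq_eq_true this.1, fun hj7 => Nat.eq_of_beq_eq_true (this.2.resolve_left (by omega))⟩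
  refine ⟨fun n hn => app_eq_of_units (k := 11) (fun n => app (kCols m) (app (kCols m) n)) id
      (fun a b => by show app _ (app _ _) = _; rw [app_xor, app_xor]) (fun _ _ => rfl) (fun j hj => (h j hj).1) hn,
    fun n => app_lt (k := 11) _ _ fun c hc => ?_,
    fun n hn => app_eq_of_units (k := 7) (app (kCols m)) id (app_xor _) (fun _ _ => rfl)
      (fun j hj => (h j (by omega)).2 hj) hn⟩
  have := List.all_eq_true.1 (List.all_eq_true.1 VCode.vQ_bound.2 m (List.mem_range.2 hm)) c hc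
  rw [Nat.ble_eq] at this
  omega

/-- The coordinates, with the lifts `L`, the gauge and the lifts of `a` and `c` made visible. -/
theorem exists_vact_coords {X : Ctx z P} (L : Lifts X) (hsq : ∀ a ∈ X.VV, a * a = 1)
    (hstab : Nat.card ↥(Subgroup.normalizer (X.Vg : Set G) ⊓ CC z) = 2048 * 138240)
    (hconj : ∀ a ∈ X.Vg, IsConj z a → ∃ m ∈ Subgroup.normalizer (X.Vg : Set G), m * z * m⁻¹ = a)
    (hmoved : ∃ m ∈ Subgroup.normalizer (X.Vg : Set G), m * z * m⁻¹ ≠ z) :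
    ∃ (ec : ℕ) (D : VAct z X.Vg ec) (m : ℕ) (a c : CC z), m < 16 ∧
      (∀ v, D.enc v = (L.enc (app (kCols m) v) : G)) ∧ a * L.p = L.p * a ∧ c * L.p = L.p * c ∧
      (∀ v, v < 2048 → (a : G) * D.enc v * (a : G)⁻¹ = D.enc (app (liftCols colsA arPat 0) v)) ∧
      ∀ v, v < 2048 → (c : G) * D.enc v * (c : G)⁻¹ = D.enc (app (liftCols colsC crPat ec) v) := by
  obtain ⟨a, c, ea, ec, m, hea, hec, hm, hap, hcp, hA, hC, hga, hgc⟩ := L.exists_signs hsq
  obtain ⟨hk2, hklt, hklow⟩ := kCols_facts hm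
  set ec' := VCode.gauge crPat ec m
  let e : ℕ → G := fun n => (L.enc (app (kCols m) n) : G)
  have hsurj : ∀ x ∈ X.Vg, ∃ v, v < 2048 ∧ e v = x := by
    rintro _ ⟨b, hb, rfl⟩
    obtain ⟨n, hn, rfl⟩ := L.enc_surj hsq hb
    exact ⟨app (kCols m) n, hklt n, by show ((L.enc _ : CC z) : G) = _; rw [hk2 n hn]; rfl⟩
  have hmem : ∀ v, e v ∈ X.Vg := fun v => ⟨_, L.enc_mem hsq _, rfl⟩
  have hinj : ∀ v w, v < 2048 → w < 2048 → e v = e w → v = w := fun v w hv hw h => by
    rw [← hk2 v hv, ← hk2 w hw, L.enc_inj hsq (hklt v) (hklt w) (Subtype.ext h)]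
  have hnorm : ∀ (x : CC z) (g : List ℕ), (∀ v, v < 2048 → (x : G) * e v * (x : G)⁻¹ = e (app g v)) →
      (x : G) ∈ Subgroup.normalizer (X.Vg : Set G) ⊓ CC z := fun x g h =>
    ⟨Subgroup.mem_normalizer_fintype fun b hb => by
      obtain ⟨v, hv, rfl⟩ := hsurj b hb
      rw [h v hv]; exact hmem _, x.2⟩
  have low_kernel : ∀ n ∈ Subgroup.normalizer (X.Vg : Set G),
      (∀ v, v < 128 → n * e v * n⁻¹ = e v) → n ∈ X.Vg := by
    intro n _ hfix
    have e64 : e 64 = z := by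
      show ((L.enc _ : CC z) : G) = z
      rw [hklow 64 (by norm_num), L.enc_z]; rfl
    have hnz : n ∈ CC z := by
      have := hfix 64 (by norm_num)
      rw [e64] at this
      exact Subgroup.mem_centralizer_singleton_iff.2 (mul_inv_eq_iff_eq_mul.1 this)
    have hw : ∀ b ∈ X.Wc, (⟨n, hnz⟩ : CC z) * b * (⟨n, hnz⟩ : CC z)⁻¹ = b := fun b hb => by
      obtain ⟨v, hv, rfl⟩ := L.enc_Wc hsq hb
      refine Subtype.ext ?_
      have := hfix v hv
      show n * ((L.enc v : CC z) : G) * n⁻¹ = _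
      simp only [e, hklow v hv] at this
      exact this
    refine ⟨⟨n, hnz⟩, Subgroup.mem_inf.2 ⟨?_, Subgroup.mem_centralizer_iff.2 fun b hb =>
      (mul_inv_eq_iff_eq_mul.1 (hw b hb)).symm⟩, rfl⟩
    show (QuotientGroup.mk (⟨n, hnz⟩ : CC z) : CC z ⧸ QQ z) ∈ X.model.rSub
    refine X.model.fixesW_iff.1 fun v hv => ?_
    obtain ⟨b, rfl⟩ := pr_surj v
    rw [(ext13_of X.hyp).rep_apply]
    exact congrArg pr (Subtype.ext (by rw [cjQ_val]; exact hw _ (X.mem_Wc.2 hv)))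
  have gs := fun j (hj : j < 11) => List.all_eq_true.1 (List.all_eq_true.1
    (List.all_eq_true.1 VCode.gauge_spec ea (List.mem_range.2 hea)) m (List.mem_range.2 hm)) j (List.mem_range.2 hj)
  have gc := fun j (hj : j < 11) => List.all_eq_true.1 (List.all_eq_true.1
    (List.all_eq_true.1 VCode.gauge_spec ec (List.mem_range.2 hec)) m (List.mem_range.2 hm)) j (List.mem_range.2 hj)
  simp only [Bool.and_eq_true] at gs gc
  have tv : ∀ (x : CC z) (g cols : List ℕ), (∀ n, n < 2048 → x * L.enc n * x⁻¹ = L.enc (app cols n)) →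
      (∀ j, j < 11 → app cols (app (kCols m) (2 ^ j)) = app (kCols m) (app g (2 ^ j))) →
      ∀ v, v < 2048 → (x : G) * e v * (x : G)⁻¹ = e (app g v) := by
    intro x g cols hx hj v hv
    have e1 := hx _ (hklt v)
    rw [app_eq_of_units (k := 11) (fun v => app cols (app (kCols m) v)) (fun v => app (kCols m) (app g v))
      (fun a b => by show app _ (app _ _) = _; rw [app_xor, app_xor])
      (fun a b => by show app _ (app _ _) = _; rw [app_xor, app_xor]) hj hv] at e1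
    exact congrArg Subtype.val e1
  have hva := tv a (liftCols colsA arPat 0) _ hA fun j hj => by
    rw [← hga]; exact Nat.eq_of_beq_eq_true (gs j hj).1.1
  have hvc := tv c (liftCols colsC crPat ec') _ hC fun j hj => Nat.eq_of_beq_eq_true (gc j hj).1.2
  refine ⟨ec', {
    ec_cases := hgc
    enc := e
    enc_mem := fun v _ => hmem v
    enc_inj := hinj
    enc_surj := hsurj
    enc_xor := fun v w _ _ => by
      show ((L.enc (app (kCols m) (Nat.xor v w)) : CC z) : G) = _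
      rw [app_xor, L.enc_xor hsq]; rfl
    enc_z := by
      show ((L.enc _ : CC z) : G) = z
      rw [hklow 64 (by norm_num), L.enc_z]; rfl
    gens := ?_
    low_kernel := low_kernel
    self_cent := fun x hx => low_kernel x (Subgroup.centralizer_le_normalizer _ hx) fun v _ => by
      rw [← Subgroup.mem_centralizer_iff.1 hx _ (hmem v), mul_inv_cancel_right]
    card_stab := hstab
    conj_z := hconj
    moved := hmoved }, m, a, c, hm, fun v => rfl, hap, hcp, hva, hvc⟩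
  intro g hg
  have hg' : g = liftCols colsA arPat 0 ∨ g = liftCols colsC crPat ec' ∨ g = liftCols colsT [1, 2, 4, 8] 0 ∨
      g ∈ VCode.vQ := by
    simp only [VCode.vgens, List.cons_append, List.nil_append, List.mem_cons] at hg
    exact hg
  rcases hg' with rfl | rfl | rfl | hq
  · exact ⟨a, hnorm a _ hva, hva⟩
  · exact ⟨c, hnorm c _ hvc, hvc⟩
  · have h := tv L.p _ _ (fun n hn => L.conj_p hsq hn) fun j hj => Nat.eq_of_beq_eq_true (gs j hj).2
    exact ⟨L.p, hnorm L.p _ h, h⟩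
  · obtain ⟨k, hk, rfl⟩ := List.mem_iff_getElem.1 hq
    have hk12 : k < 12 := lt_of_lt_of_le hk (by decide)
    obtain ⟨y, hy⟩ := pr_surj (X.dec (2 ^ k))
    have h := tv y VCode.vQ[k] (VCode.qCols (2 ^ k)) (fun n hn => ?_) (fun j hj => ?_)
    · exact ⟨y, hnorm y _ h, h⟩
    · rw [L.conj_trans hsq y hn, hy, X.code_dec (L.two_pow_lt (k := 12) hk12)]
    · rw [eq_of_beq (List.all_eq_true.1 VCode.vQ_eq k (List.mem_range.2 hk12)), List.getD_eq_getElem _ _ hk]
      have := List.all_eq_true.1 (List.all_eq_true.1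
        (List.all_eq_true.1 VCode.gauge_qCols k (List.mem_range.2 hk12)) m (List.mem_range.2 hm)) j (List.mem_range.2 hj)
      rw [List.getD_eq_getElem _ _ hk] at this
      exact Nat.eq_of_beq_eq_true this

/-- The coordinates, and the codes of the elements in `O_2(C(z))`. -/
theorem exists_vact_low (X : Ctx z P) (hsq : ∀ a ∈ X.VV, a * a = 1)
    (hstab : Nat.card ↥(Subgroup.normalizer (X.Vg : Set G) ⊓ CC z) = 2048 * 138240)
    (hconj : ∀ a ∈ X.Vg, IsConj z a → ∃ m ∈ Subgroup.normalizer (X.Vg : Set G), m * z * m⁻¹ = a)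
    (hmoved : ∃ m ∈ Subgroup.normalizer (X.Vg : Set G), m * z * m⁻¹ ≠ z) :
    ∃ ec, ∃ D : VAct z X.Vg ec, ∀ a : QQ z, (a : CC z) ∈ X.Wc →
      ∃ v, v < 128 ∧ D.enc v = ((a : CC z) : G) ∧ X.model.code (pr a) = v % 64 := by
  obtain ⟨L⟩ := exists_lifts X
  obtain ⟨ec, D, m, -, -, hm, hD, -⟩ := exists_vact_coords L hsq hstab hconj hmoved
  refine ⟨ec, D, fun a ha => ?_⟩
  obtain ⟨v, h1, h2, h3⟩ := L.exists_low hsq (kCols_facts hm).2.2 ha
  exact ⟨v, h1, (hD v).trans h2, h3⟩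

/-- The coordinates. -/
theorem exists_vact (X : Ctx z P) (hsq : ∀ a ∈ X.VV, a * a = 1)
    (hstab : Nat.card ↥(Subgroup.normalizer (X.Vg : Set G) ⊓ CC z) = 2048 * 138240)
    (hconj : ∀ a ∈ X.Vg, IsConj z a → ∃ m ∈ Subgroup.normalizer (X.Vg : Set G), m * z * m⁻¹ = a)
    (hmoved : ∃ m ∈ Subgroup.normalizer (X.Vg : Set G), m * z * m⁻¹ ≠ z) :
    ∃ ec, Nonempty (VAct z X.Vg ec) :=
  let ⟨ec, D, _⟩ := exists_vact_low X hsq hstab hconj hmoved
  ⟨ec, ⟨D⟩⟩

end CfsgLib.J4Type
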