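import Cfsg.Agent.Lib.J4Type.Classes
import Cfsg.Agent.Lib.J4Type.VGroup
import Cfsg.Agent.Lib.J4Type.ToVAct
import Cfsg.Agent.Lib.J4Type86.SixFold

/-!
The witness for the six-fold cover from the coordinates: the element `640` of the five-dimensional
subspace centralized by `P` is conjugate to `z` and `z` is a commutator product in its centralizer in
`C_H(P)`.
-/

set_option autoImplicit false
set_option maxRecDepth 20000

namespace CfsgLib.J4Type

open VCode (liftCols kCols)
open scoped commutatorElement

universe u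

variable {G : Type u} [Group G] [Finite G] {z : G} {P : Subgroup G}

/-- Lifts with `p` in `P`. -/
theorem exists_lifts_mem (X : Ctx z P) : ∃ L : Lifts X, (L.p : G) ∈ P := by
  have ht : X.model.gens.t ∈ (P.subgroupOf (CC z)).map (QuotientGroup.mk' (QQ z)) := by
    rw [X.t_P]; exact Subgroup.mem_zpowers _
  obtain ⟨p, hp, hpt⟩ := Subgroup.mem_map.1 ht
  have hp3 : p ^ 3 = 1 := Subtype.ext (by
    show (p : G) ^ 3 = 1
    have hc : Nat.card P = 3 := X.hyp.2.2.2.2.2.1
    have := pow_card_eq_one' (x := (⟨p, hp⟩ : P))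
    rw [hc] at this
    exact congrArg Subtype.val this)
  have hpt' : (QuotientGroup.mk p : CC z ⧸ QQ z) = X.model.gens.t := hpt
  choose ρ h1 h2 using fun i => exists_comm_lift (QQ z) (not_three_dvd X.hyp) hp3 (h := X.model.gens.r i)
    (by rw [hpt']; exact X.model.gens.t_r i)
  exact ⟨⟨p, hpt', hp3, ρ, h1, h2⟩, hp⟩

/-- The codes checked in the kernel: the two generators fix the witness and move two elements by
`192` and `128`, and the witness is in the class of `z`. -/
theorem witness_codes :
    app (liftCols colsC crPat 2) 640 = 640 ∧ app (liftCols colsC crPat 2) 1280 = Nat.xor 1280 192 ∧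
    (let a := app (liftCols colsA arPat 0); let c := app (liftCols colsC crPat 2)
     a (c (a (c (c (c (a (c (a (c (a 640)))))))))) = 640 ∧
       a (c (a (c (c (c (a (c (a (c (a 256)))))))))) = Nat.xor 256 128) ∧
    VCode.isNc 2 true 640 = false := by
  decide +kernel

theorem app_liftCols_lt : (∀ v, app (liftCols colsA arPat 0) v < 2048) ∧
    ∀ v, app (liftCols colsC crPat 2) v < 2048 :=
  ⟨fun v => app_lt (k := 11) _ v fun c hc => by
      have : ((liftCols colsA arPat 0).all fun c => Nat.ble (c + 1) 2048) = true := by decide +kernel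
      have h := List.all_eq_true.1 this c hc
      rw [Nat.ble_eq] at h
      omega,
    fun v => app_lt (k := 11) _ v fun c hc => by
      have : ((liftCols colsC crPat 2).all fun c => Nat.ble (c + 1) 2048) = true := by decide +kernel
      have h := List.all_eq_true.1 this c hc
      rw [Nat.ble_eq] at h
      omega⟩

/-- The hypothesis of the six-fold cover holds. -/
theorem hasWitness (X : Ctx z P)
    (hconj : ∀ a ∈ X.Vg, IsConj z a → ∃ m ∈ Subgroup.normalizer (X.Vg : Set G), m * z * m⁻¹ = a)
    (hmoved : ∃ m ∈ Subgroup.normalizer (X.Vg : Set G), m * z * m⁻¹ ≠ z) :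
    CfsgLib.J4Type86.HasWitness z P := by
  have hS := X.model.stabFacts
  have hsq : ∀ a ∈ X.VV, a * a = 1 := fun a ha => X.VV_sq hS ha
  obtain ⟨L, hpP⟩ := exists_lifts_mem X
  obtain ⟨ec, D, m, a, c, hm, hD, hap, hcp, hA, hC⟩ :=
    exists_vact_coords L hsq (X.card_normalizer hS) hconj hmoved
  obtain rfl : ec = 2 := D.ec_eq
  obtain ⟨hc640, hc1280, ⟨hw640, hw256⟩, hnc⟩ := witness_codes
  -- `P` is generated by the lift of `t`
  have hp1 : (L.p : G) ≠ 1 := fun e => X.model.gens.t_ne (by
    rw [← L.p_mk, show L.p = 1 from Subtype.ext e, QuotientGroup.mk_one])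
  have hgen : Subgroup.zpowers (L.p : G) = P := by
    refine Subgroup.eq_of_le_of_card_ge (Subgroup.zpowers_le.2 hpP) ?_
    rw [Nat.card_zpowers, orderOf_eq_prime (p := 3) (hp := ⟨Nat.prime_three⟩)
      (congrArg Subtype.val L.p_three) hp1, X.hyp.2.2.2.2.2.1]
  have hcC : ∀ x : CC z, x * L.p = L.p * x → (x : G) ∈ CfsgLib.J4Type86.cC z P := fun x hx => by
    refine ⟨x.2, Subgroup.mem_centralizer_iff.2 fun q hq => ?_⟩
    rw [SetLike.mem_coe, ← hgen, Subgroup.mem_zpowers_iff] at hq
    obtain ⟨n, rfl⟩ := hq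
    have hc : Commute (x : G) (L.p : G) := congrArg Subtype.val hx
    exact (hc.zpow_right n).eq.symm
  -- the five-dimensional subspace commutes with `p`
  have hfix : ∀ k, k < 32 → D.enc (64 * k) ∈ CfsgLib.J4Type86.cC z P := by
    intro k hk
    obtain ⟨n, hn, hne⟩ : ∃ n, n < 32 ∧ app (kCols m) (64 * k) = 64 * n := by
      have : ((List.range 16).all fun m => (List.range 32).all fun k => (List.range 32).any fun n =>
          Nat.beq (app (kCols m) (64 * k)) (64 * n)) = true := by decide +kernel
      obtain ⟨n, hn, hne⟩ := List.any_eq_true.1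
        (List.all_eq_true.1 (List.all_eq_true.1 this m (List.mem_range.2 hm)) k (List.mem_range.2 hk))
      exact ⟨n, List.mem_range.1 hn, Nat.eq_of_beq_eq_true hne⟩
    rw [hD, hne]
    exact hcC _ (mul_inv_eq_iff_eq_mul.1 (L.acts_p hsq n hn).2).symm
  set a0 := D.enc 640 with ha0
  set W := CfsgLib.J4Type86.cC z P ⊓ Subgroup.centralizer ({a0} : Set G) with hW
  have hfW : ∀ k, k < 32 → D.enc (64 * k) ∈ W := fun k hk =>
    ⟨hfix k hk, Subgroup.mem_centralizer_singleton_iff.2
      (D.comm' _ (D.enc_mem _ (by omega)) _ (D.enc_mem _ (by norm_num)))⟩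
  -- commutators with the lifts
  have hcomm : ∀ (x : CC z) (f : ℕ → ℕ), x * L.p = L.p * x →
      (∀ v, v < 2048 → (x : G) * D.enc v * (x : G)⁻¹ = D.enc (f v)) → f 640 = 640 →
      ∀ k d, k < 32 → d < 2048 → f (64 * k) = Nat.xor (64 * k) d → D.enc d ∈ ⁅W, W⁆ := by
    intro x f hxp hf h640 k d hk hd hfk
    have hxW : (x : G) ∈ W := ⟨hcC x hxp, Subgroup.mem_centralizer_singleton_iff.2
      (mul_inv_eq_iff_eq_mul.1 (by rw [hf 640 (by norm_num), h640]))⟩
    have h := Subgroup.commutator_mem_commutator hxW (hfW k hk)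
    have hmem := D.enc_mem (64 * k) (by omega)
    rw [commutatorElement_def, hf _ (by omega), hfk, D.enc_xor _ _ (by omega) hd,
      D.comm' _ hmem _ (D.enc_mem d hd), mul_inv_cancel_right] at h
    exact h
  have h192 : D.enc 192 ∈ ⁅W, W⁆ :=
    hcomm c _ hcp hC hc640 20 192 (by norm_num) (by norm_num) hc1280
  have hla := app_liftCols_lt.1
  have hlc := app_liftCols_lt.2
  have h128 : D.enc 128 ∈ ⁅W, W⁆ := by
    have cap : Commute a L.p := hap
    have ccp : Commute c L.p := hcp
    refine hcomm (a * c * a * c * c * c * a * c * a * c * a)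
      (fun v => app (liftCols colsA arPat 0) (app (liftCols colsC crPat 2) (app (liftCols colsA arPat 0)
        (app (liftCols colsC crPat 2) (app (liftCols colsC crPat 2) (app (liftCols colsC crPat 2)
        (app (liftCols colsA arPat 0) (app (liftCols colsC crPat 2) (app (liftCols colsA arPat 0)
        (app (liftCols colsC crPat 2) (app (liftCols colsA arPat 0) v)))))))))))
      ((((((((((cap.mul_left ccp).mul_left cap).mul_left ccp).mul_left ccp).mul_left ccp).mul_left
        cap).mul_left ccp).mul_left cap).mul_left ccp).mul_left cap).eq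
      (fun v hv => ?_) hw640 4 128 (by norm_num) (by norm_num) hw256
    simp only [Subgroup.coe_mul, mul_inv_rev]
    simp only [mul_assoc]
    rw [← hA _ (hlc _), ← hC _ (hla _), ← hA _ (hlc _), ← hC _ (hlc _), ← hC _ (hlc _), ← hC _ (hla _),
      ← hA _ (hlc _), ← hC _ (hla _), ← hA _ (hlc _), ← hC _ (hla _), ← hA v hv]
    simp only [mul_assoc]
  refine ⟨a0, hfix 10 (by norm_num), ?_, (D.isConj_iff (by norm_num) (by norm_num)).2 hnc, ?_⟩
  · rw [← D.enc_z, ha0]
    exact fun e => absurd (D.enc_inj _ _ (by norm_num) (by norm_num) e) (by norm_num)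
  · have e : z = D.enc 192 * D.enc 128 := by
      rw [← D.enc_xor _ _ (by norm_num) (by norm_num)]
      exact D.enc_z.symm
    have := mul_mem h192 h128
    rwa [← e] at this

end CfsgLib.J4Type
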