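import Cfsg.Agent.Lib.J4Type.Local
import Cfsg.Agent.Lib.J4Type.Stab

/-!
The totally singular subspace with codes below `64` in the model of Janko-four type, and the action of the
generators on the normal subgroup of order `16` of its stabiliser.
-/

set_option autoImplicit false
set_option maxRecDepth 20000

namespace CfsgLib.J4Type

open CfsgLib.FischerTwoFour (QRep)

/-- The image of a bit pattern under the map with the given images of the four bits. -/
def imgPat (pat : List ℕ) (m : ℕ) : ℕ :=
  Nat.xor (Nat.xor (Nat.xor (if Nat.testBit m 0 then pat.getD 0 0 else 0)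
    (if Nat.testBit m 1 then pat.getD 1 0 else 0)) (if Nat.testBit m 2 then pat.getD 2 0 else 0))
    (if Nat.testBit m 3 then pat.getD 3 0 else 0)

/-- The patterns reached from the first one. -/
def patReach : ℕ → List ℕ
  | 0 => [1]
  | k + 1 => (patReach k ++ (patReach k).map (imgPat arPat) ++ (patReach k).map (imgPat crPat)).dedup

theorem smallW_facts : ((List.range 64).all fun n => !qn n) = true ∧
    ((List.range 4096).all fun n => Nat.blt n 64 ||
      (List.range 6).any fun i => qn (Nat.xor n (2 ^ i)) != qn n) = true ∧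
    ((List.range 64).all fun w => (List.range 64).any fun u => Nat.beq (Nat.xor (app colsT u) u) w) = true ∧
    ((List.range 64).all fun u => Nat.blt (app colsT u) 64) = true := by
  decide +kernel

theorem patReach_facts : ((List.range 16).all fun m => Nat.beq m 0 || (patReach 10).contains m) = true ∧
    ((List.range 16).all fun m => Nat.blt (imgPat arPat m) 16 && Nat.blt (imgPat crPat m) 16) = true := by
  decide +kernel

namespace Model

variable {H V : Type*} [Group H] [AddCommGroup V] {R : QRep H V} (M : Model R)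

theorem small_add {v w : V} (hv : M.code v < 64) (hw : M.code w < 64) : M.code (v + w) < 64 := by
  rw [M.code_add]
  exact Nat.xor_lt_two_pow (n := 6) hv hw

theorem small_q {v : V} (hv : M.code v < 64) : R.q v = 0 := by
  have h := List.all_eq_true.mp smallW_facts.1 _ (List.mem_range.mpr hv)
  rw [M.code_q, if_neg (by simpa using h)]

theorem small_b {v w : V} (hv : M.code v < 64) (hw : M.code w < 64) : R.b v w = 0 := by
  have h := R.q_add v w
  rw [M.small_q hv, M.small_q hw, M.small_q (M.small_add hv hw)] at h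
  simpa using h.symm

theorem small_perp {v : V} (h : ∀ w, M.code w < 64 → R.b v w = 0) : M.code v < 64 := by
  by_contra hv
  have hn := List.all_eq_true.mp smallW_facts.2.1 _ (List.mem_range.mpr (M.code_lt v))
  rw [Bool.or_eq_true, List.any_eq_true] at hn
  rcases hn with hn | ⟨i, hi, hn⟩
  · exact hv (Nat.le_of_ble_eq_true hn)
  rw [List.mem_range] at hi
  have hlt : 2 ^ i < 64 := lt_of_lt_of_eq (Nat.pow_lt_pow_right one_lt_two hi) rfl
  obtain ⟨w, hw⟩ := M.code_surj (2 ^ i) (hlt.trans (by norm_num))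
  have hw' : M.code w < 64 := hw ▸ hlt
  have e := R.q_add v w
  rw [M.small_q hw', h w hw', add_zero, add_zero, M.code_q, M.code_q, M.code_add, hw] at e
  revert e hn
  cases qn (M.code v) <;> cases qn (Nat.xor (M.code v) (2 ^ i)) <;> simp

theorem t_small {v : V} (hv : M.code v < 64) : M.code (R.ρ M.gens.t v) < 64 := by
  rw [M.act_t]
  exact Nat.le_of_ble_eq_true (List.all_eq_true.mp smallW_facts.2.2.2 _ (List.mem_range.mpr hv))

theorem exists_t_add {v : V} (hv : M.code v < 64) :
    ∃ u, M.code u < 64 ∧ R.ρ M.gens.t u + u = v := by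
  have h := List.all_eq_true.mp smallW_facts.2.2.1 _ (List.mem_range.mpr hv)
  obtain ⟨n, hn, he⟩ := List.any_eq_true.mp h
  rw [List.mem_range] at hn
  obtain ⟨u, hu⟩ := M.code_surj n (hn.trans (by norm_num))
  refine ⟨u, hu ▸ hn, M.code_inj _ _ ?_⟩
  rw [M.code_add, M.act_t, hu]
  exact Nat.eq_of_beq_eq_true he

theorem ncard_small : {v | M.code v < 64}.ncard = 64 := by
  have h : Set.BijOn M.code {v | M.code v < 64} (Set.Iio 64) := by
    refine ⟨fun v hv => hv, fun v _ w _ e => M.code_inj v w e, fun n hn => ?_⟩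
    obtain ⟨v, rfl⟩ := M.code_surj n (lt_trans hn (by norm_num))
    exact ⟨v, hn, rfl⟩
  rw [← h.injOn.ncard_image, h.image_eq, Set.ncard_eq_toFinset_card']
  simp

theorem PresW.inv_small {h : H} (hp : M.PresW h) {v : V} (hv : M.code v < 64) :
    M.code (R.ρ h⁻¹ v) < 64 := by
  rw [hp, ← R.mul_apply, mul_inv_cancel, R.one_apply]
  exact hv

theorem presW_conj_fixes {h r : H} (hp : M.PresW h) (hr : M.FixesW r) : M.FixesW (h * r * h⁻¹) := by
  intro v hv
  rw [R.mul_apply, R.mul_apply, hr _ (PresW.inv_small M hp hv), ← R.mul_apply, mul_inv_cancel, R.one_apply]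

/-- One bit of a product of generators. -/
def bitR (m : ℕ) (i : Fin 4) : H := if Nat.testBit m i.val then M.gens.r i else 1

theorem evR_eq (m : ℕ) : evR M.gens.r m = M.bitR m 0 * (M.bitR m 1 * (M.bitR m 2 * M.bitR m 3)) := by
  simp [evR, bitR, List.ofFn_succ]

theorem bitR_comm (m n : ℕ) (i j : Fin 4) : Commute (M.bitR m i) (M.bitR n j) := by
  unfold bitR
  split <;> split <;> first | exact Commute.one_left _ | exact Commute.one_right _ | exact M.gens.r_comm i j

theorem evR_xor (m n : ℕ) : evR M.gens.r (Nat.xor m n) = evR M.gens.r m * evR M.gens.r n := by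
  have hb : ∀ i, M.bitR (Nat.xor m n) i = M.bitR m i * M.bitR n i := by
    intro i
    unfold bitR
    rw [show Nat.testBit (Nat.xor m n) i.val = xor (Nat.testBit m i.val) (Nat.testBit n i.val) from
      Nat.testBit_xor m n i.val]
    cases Nat.testBit m i.val <;> cases Nat.testBit n i.val <;> simp [M.gens.r_sq]
  rw [M.evR_eq, M.evR_eq m, M.evR_eq n, hb, hb, hb, hb]
  have h0 : Commute (M.bitR n 0) (M.bitR m 1 * (M.bitR m 2 * M.bitR m 3)) :=
    (M.bitR_comm n m 0 1).mul_right ((M.bitR_comm n m 0 2).mul_right (M.bitR_comm n m 0 3))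
  have h1 : Commute (M.bitR n 1) (M.bitR m 2 * M.bitR m 3) :=
    (M.bitR_comm n m 1 2).mul_right (M.bitR_comm n m 1 3)
  rw [(M.bitR_comm n m 2 3).mul_mul_mul_comm, h1.mul_mul_mul_comm, h0.mul_mul_mul_comm]

theorem evR_zero : evR M.gens.r 0 = 1 := by simp [M.evR_eq, bitR]

theorem evR_two_pow (i : Fin 4) : evR M.gens.r (2 ^ i.val) = M.gens.r i := by
  fin_cases i <;> simp [M.evR_eq, bitR, Nat.testBit, Nat.shiftRight_eq_div_pow]

theorem exists_evR {h : H} (hh : h ∈ M.rSub) : ∃ m, m < 16 ∧ evR M.gens.r m = h := by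
  induction hh using Subgroup.closure_induction with
  | mem x hx =>
    obtain ⟨i, rfl⟩ := hx
    exact ⟨2 ^ i.val, lt_of_lt_of_eq (Nat.pow_lt_pow_right one_lt_two i.isLt) rfl, M.evR_two_pow i⟩
  | one => exact ⟨0, by norm_num, M.evR_zero⟩
  | mul x y _ _ ihx ihy =>
    obtain ⟨m, hm, rfl⟩ := ihx
    obtain ⟨n, hn, rfl⟩ := ihy
    exact ⟨Nat.xor m n, Nat.xor_lt_two_pow (n := 4) hm hn, M.evR_xor m n⟩
  | inv x _ ih =>
    obtain ⟨m, hm, rfl⟩ := ih
    refine ⟨m, hm, ?_⟩
    refine (inv_eq_of_mul_eq_one_left ?_).symm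
    rw [← M.evR_xor]
    show evR M.gens.r (m ^^^ m) = 1
    rw [Nat.xor_self, M.evR_zero]

theorem conj_evR {x : H} {pat : List ℕ}
    (hx : ∀ i : Fin 4, x * M.gens.r i * x⁻¹ = evR M.gens.r (pat.getD i.val 0)) (m : ℕ) :
    x * evR M.gens.r m * x⁻¹ = evR M.gens.r (imgPat pat m) := by
  have hb : ∀ i : Fin 4, x * M.bitR m i * x⁻¹ =
      evR M.gens.r (if Nat.testBit m i.val then pat.getD i.val 0 else 0) := by
    intro i
    unfold bitR
    split
    · exact hx i
    · rw [M.evR_zero, mul_one, mul_inv_cancel]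
  rw [imgPat, M.evR_xor, M.evR_xor, M.evR_xor]
  conv_lhs => rw [M.evR_eq]
  have e0 := hb 0
  have e1 := hb 1
  have e2 := hb 2
  have e3 := hb 3
  simp only [Fin.val_zero, Fin.val_one, Fin.val_two] at e0 e1 e2
  rw [show ((3 : Fin 4).val) = 3 from rfl] at e3
  rw [← e0, ← e1, ← e2, ← e3]
  group

/-- The two generators of the stabiliser act transitively on the nonidentity elements of `rSub`. -/
theorem rSub_transitive {h : H} (hh : h ∈ M.rSub) (h1 : h ≠ 1) :
    ∃ x ∈ Subgroup.closure ({M.gens.a, M.gens.c} : Set H), x * M.gens.r 0 * x⁻¹ = h := by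
  obtain ⟨m, hm, rfl⟩ := M.exists_evR hh
  have key : ∀ k, ∀ n ∈ patReach k, n < 16 ∧
      ∃ x ∈ Subgroup.closure ({M.gens.a, M.gens.c} : Set H), x * M.gens.r 0 * x⁻¹ = evR M.gens.r n := by
    intro k
    induction k with
    | zero =>
      intro n hn
      rw [patReach, List.mem_singleton] at hn
      subst hn
      refine ⟨by norm_num, 1, Subgroup.one_mem _, ?_⟩
      have := M.evR_two_pow 0
      simpa using this.symm
    | succ k ih =>
      intro n hn
      rw [patReach, List.mem_dedup, List.mem_append, List.mem_append, List.mem_map, List.mem_map] at hn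
      have hlt := patReach_facts.2
      rw [List.all_eq_true] at hlt
      rcases hn with (hn | ⟨p, hp, rfl⟩) | ⟨p, hp, rfl⟩
      · exact ih n hn
      · obtain ⟨hp16, x, hx, he⟩ := ih p hp
        have hl := hlt p (List.mem_range.mpr hp16)
        rw [Bool.and_eq_true] at hl
        refine ⟨Nat.le_of_ble_eq_true hl.1, M.gens.a * x,
          mul_mem (Subgroup.subset_closure (by simp)) hx, ?_⟩
        rw [← M.conj_evR (x := M.gens.a) M.gens.a_r, ← he]
        group
      · obtain ⟨hp16, x, hx, he⟩ := ih p hp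
        have hl := hlt p (List.mem_range.mpr hp16)
        rw [Bool.and_eq_true] at hl
        refine ⟨Nat.le_of_ble_eq_true hl.2, M.gens.c * x,
          mul_mem (Subgroup.subset_closure (by simp)) hx, ?_⟩
        rw [← M.conj_evR (x := M.gens.c) M.gens.c_r, ← he]
        group
  have hr := List.all_eq_true.mp patReach_facts.1 m (List.mem_range.mpr hm)
  rw [Bool.or_eq_true, List.contains_iff_mem] at hr
  rcases hr with hr | hr
  · rw [Nat.eq_of_beq_eq_true hr, M.evR_zero] at h1
    exact absurd rfl h1
  · exact (key 10 m hr).2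

theorem rSub_comm_t {h : H} (hh : h ∈ M.rSub) : h * M.gens.t = M.gens.t * h := by
  induction hh using Subgroup.closure_induction with
  | mem x hx =>
    obtain ⟨i, rfl⟩ := hx
    exact M.gens.t_r i
  | one => simp
  | mul x y _ _ ihx ihy => exact Commute.mul_left ihx ihy
  | inv x _ ih => exact Commute.inv_left ih

theorem ac_comm_t {h : H} (hh : h ∈ Subgroup.closure ({M.gens.a, M.gens.c} : Set H)) :
    h * M.gens.t = M.gens.t * h := by
  induction hh using Subgroup.closure_induction with
  | mem x hx =>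
    rcases hx with rfl | rfl
    · exact M.gens.t_a
    · exact M.gens.t_c
  | one => simp
  | mul x y _ _ ihx ihy => exact Commute.mul_left ihx ihy
  | inv x _ ih => exact Commute.inv_left ih

theorem rSub_sq {h : H} (hh : h ∈ M.rSub) : h * h = 1 := by
  obtain ⟨m, -, rfl⟩ := M.exists_evR hh
  rw [← M.evR_xor]
  show evR M.gens.r (m ^^^ m) = 1
  rw [Nat.xor_self, M.evR_zero]

end Model

end CfsgLib.J4Type
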