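import Mathlib

/-!
# Elementary abelian 2-groups under a group of order 27

If `a` and `p` are commuting automorphisms of order dividing 3 of an elementary abelian 2-group `W`, some
automorphism `r` commutes with `p` and carries `a` to `a * p`, and `p` fixes only 1, then the order of `W` is
`2 ^ (6 * k)`: `W` is the product of the fixed groups of `a`, `a * p`, `a * p ^ 2`, which `r` permutes, and `p`
acts fixed point freely on each.
-/

set_option autoImplicit false

namespace CfsgLib.J4Type

variable {W : Type*} [CommGroup W]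

/-- The fixed subgroup of an automorphism. -/
def fixGp (g : MulAut W) : Subgroup W where
  carrier := {w | g w = w}
  one_mem' := map_one g
  mul_mem' {x y} hx hy := by
    show g (x * y) = x * y
    rw [map_mul, hx, hy]
  inv_mem' {x} hx := by
    show g x⁻¹ = x⁻¹
    rw [map_inv, hx]

theorem mem_fixGp {g : MulAut W} {w : W} : w ∈ fixGp g ↔ g w = w := Iff.rfl

/-- The norm of an automorphism of order dividing 3. -/
def norm₃ (g : MulAut W) (w : W) : W := w * g w * g (g w)

theorem norm₃_mul (g : MulAut W) (v w : W) : norm₃ g (v * w) = norm₃ g v * norm₃ g w := by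
  simp only [norm₃, map_mul]
  ac_rfl

theorem norm₃_mem {g : MulAut W} (hg : g ^ 3 = 1) (w : W) : norm₃ g w ∈ fixGp g := by
  have h : g (g (g w)) = w := by
    have := congrArg (fun e : MulAut W => e w) hg
    simpa [pow_succ, MulAut.mul_apply] using this
  show g (norm₃ g w) = norm₃ g w
  simp only [norm₃, map_mul, h]
  ac_rfl

theorem norm₃_of_fix (h2 : ∀ w : W, w * w = 1) {g : MulAut W} {w : W} (hw : w ∈ fixGp g) :
    norm₃ g w = w := by
  rw [mem_fixGp] at hw
  simp [norm₃, hw, h2]

theorem commute_apply {g h : MulAut W} (hgh : Commute g h) (w : W) : g (h w) = h (g w) := by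
  simpa [MulAut.mul_apply] using congrArg (fun e : MulAut W => e w) hgh.eq

variable [Finite W]

/-- An elementary abelian 2-group with a fixed point free automorphism of order 3 has order a power of 4. -/
theorem card_eq_two_pow_two_mul (h2 : ∀ w : W, w * w = 1) (p : MulAut W) (hp : p ^ 3 = 1)
    (hfree : ∀ w, p w = w → w = 1) (F : Subgroup W) (hF : ∀ w ∈ F, p w ∈ F) :
    ∃ k, Nat.card F = 2 ^ (2 * k) := by
  classical
  have hpg : IsPGroup 2 F := fun w => ⟨1, Subtype.ext (by simpa [pow_two] using h2 (w : W))⟩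
  obtain ⟨m, hm⟩ := IsPGroup.iff_card.1 hpg
  have : Fintype F := Fintype.ofFinite F
  have : Fact (Nat.Prime 3) := ⟨Nat.prime_three⟩
  let f : Function.End F := fun w => ⟨p (w : W), hF _ w.2⟩
  have hf : f ^ 3 ^ 1 = 1 := by
    funext w
    apply Subtype.ext
    show p (p (p (w : W))) = (w : W)
    simpa [pow_succ, MulAut.mul_apply] using congrArg (fun e : MulAut W => e (w : W)) hp
  have h := Equiv.Perm.card_fixedPoints_modEq (p := 3) hf
  have h1 : Fintype.card (Function.fixedPoints f) = 1 := by
    rw [Fintype.card_eq_one_iff]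
    exact ⟨⟨1, Subtype.ext (map_one p)⟩,
      fun x => Subtype.ext (Subtype.ext (hfree _ (congrArg Subtype.val x.2)))⟩
  rw [h1, ← Nat.card_eq_fintype_card, hm] at h
  refine ⟨m / 2, ?_⟩
  rw [hm]
  congr 1
  rcases Nat.even_or_odd' m with ⟨j, rfl | rfl⟩
  · omega
  · exfalso
    unfold Nat.ModEq at h
    rw [pow_succ, pow_mul, Nat.mul_mod, Nat.pow_mod] at h
    norm_num at h

/-- **The order of a module of a group of order 27.** -/
theorem card_eq_two_pow_six_mul (h2 : ∀ w : W, w * w = 1) (a p r : MulAut W) (ha : a ^ 3 = 1)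
    (hp : p ^ 3 = 1) (hap : Commute a p) (hr : r * a = a * p * r) (hrp : Commute r p)
    (hfree : ∀ w, p w = w → w = 1) : ∃ k, Nat.card W = 2 ^ (6 * k) := by
  classical
  let g : ℕ → MulAut W := fun i => a * p ^ i
  have hg3 : ∀ i, g i ^ 3 = 1 := fun i => by
    rw [(hap.pow_right i).mul_pow, ha, one_mul, ← pow_mul, mul_comm i 3, pow_mul, hp, one_pow]
  have hgg : ∀ i j, Commute (g i) (g j) := fun i j =>
    ((Commute.refl a).mul_left (hap.pow_right i).symm).mul_right
      ((hap.pow_right j).mul_left (Commute.pow_pow (Commute.refl p) i j))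
  -- a common fixed point of two different norms is trivial
  have hfix2 : ∀ i w, g i w = w → g (i + 1) w = w → w = 1 := by
    intro i w h1 h2'
    have hw : g i (p w) = w := by
      rw [← MulAut.mul_apply]
      simpa [g, pow_succ, mul_assoc] using h2'
    exact hfree w ((g i).injective (hw.trans h1.symm))
  have hnp : ∀ w, norm₃ p w = 1 := fun w => hfree _ (norm₃_mem hp w)
  have hN : ∀ i j, (j = i + 1 ∨ i = j + 1 ∨ (i = 0 ∧ j = 2) ∨ (i = 2 ∧ j = 0)) → ∀ w ∈ fixGp (g j),
      norm₃ (g i) w = 1 := by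
    intro i j hij w hw
    have hmem := norm₃_mem (hg3 i) w
    have hj : g j (norm₃ (g i) w) = norm₃ (g i) w := by
      rw [mem_fixGp] at hw
      simp only [norm₃, map_mul, hw, commute_apply (hgg j i)]
    rw [mem_fixGp] at hmem
    rcases hij with rfl | rfl | ⟨rfl, rfl⟩ | ⟨rfl, rfl⟩
    · exact hfix2 i _ hmem hj
    · exact hfix2 j _ hj hmem
    · refine hfix2 2 _ hj ?_
      simpa [g, hp] using hmem
    · refine hfix2 2 _ hmem ?_
      simpa [g, hp] using hj
  -- the decomposition
  have hdec : ∀ w, norm₃ (g 0) w * norm₃ (g 1) w * norm₃ (g 2) w = w := by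
    intro w
    have hap' : ∀ v, a (p v) = p (a v) := commute_apply hap
    have hp3 : ∀ v, p (p (p v)) = v := fun v => by
      simpa [pow_succ, MulAut.mul_apply] using congrArg (fun e : MulAut W => e v) hp
    have e1 := hnp (a w)
    have e2 := hnp (a (a w))
    simp only [norm₃] at e1 e2
    have : norm₃ (g 0) w * norm₃ (g 1) w * norm₃ (g 2) w
        = (w * w * w) * (a w * p (a w) * p (p (a w))) * (a (a w) * p (a (a w)) * p (p (a (a w)))) := by
      simp only [norm₃, g, pow_zero, pow_one, pow_two, mul_one, MulAut.mul_apply, hap', hp3]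
      ac_rfl
    rw [this, e1, e2, h2, one_mul, mul_one, mul_one]
  let Φ : fixGp (g 0) × fixGp (g 1) × fixGp (g 2) → W := fun x => x.1 * x.2.1 * x.2.2
  have hΦ : Function.Bijective Φ := by
    refine ⟨fun x y hxy => ?_, fun w => ⟨(⟨_, norm₃_mem (hg3 0) w⟩, ⟨_, norm₃_mem (hg3 1) w⟩,
      ⟨_, norm₃_mem (hg3 2) w⟩), hdec w⟩⟩
    have key : ∀ x : fixGp (g 0) × fixGp (g 1) × fixGp (g 2),
        norm₃ (g 0) (Φ x) = x.1 ∧ norm₃ (g 1) (Φ x) = x.2.1 ∧ norm₃ (g 2) (Φ x) = x.2.2 := by
      rintro ⟨u, v, t⟩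
      simp only [Φ, norm₃_mul]
      rw [norm₃_of_fix h2 u.2, norm₃_of_fix h2 v.2, norm₃_of_fix h2 t.2,
        hN 0 1 (by simp) v v.2, hN 0 2 (by simp) t t.2, hN 1 0 (by simp) u u.2, hN 1 2 (by simp) t t.2,
        hN 2 0 (by simp) u u.2, hN 2 1 (by simp) v v.2]
      simp
    obtain ⟨a1, a2, a3⟩ := key x
    obtain ⟨b1, b2, b3⟩ := key y
    rw [hxy] at a1 a2 a3
    exact Prod.ext (Subtype.ext (a1.symm.trans b1))
      (Prod.ext (Subtype.ext (a2.symm.trans b2)) (Subtype.ext (a3.symm.trans b3)))
  -- the three factors have the same order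
  have hshift : ∀ i, Nat.card (fixGp (g i)) = Nat.card (fixGp (g (i + 1))) := by
    intro i
    have hc : r * g i = g (i + 1) * r := by
      calc r * g i = r * a * p ^ i := by simp [g, mul_assoc]
        _ = a * p * (r * p ^ i) := by rw [hr, mul_assoc]
        _ = g (i + 1) * r := by rw [(hrp.pow_right i).eq]; simp [g, pow_succ', mul_assoc]
    refine Nat.card_congr (r.toEquiv.subtypeEquiv fun w => ?_)
    have h := congrArg (fun e : MulAut W => e w) hc
    simp only [MulAut.mul_apply] at h
    show g i w = w ↔ g (i + 1) (r w) = r w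
    rw [← h]
    exact r.injective.eq_iff.symm
  obtain ⟨k, hk⟩ := card_eq_two_pow_two_mul h2 p hp hfree (fixGp (g 0)) fun w hw => by
    rw [mem_fixGp] at hw ⊢
    have : Commute (g 0) p := by simpa [g] using hap
    rw [commute_apply this, hw]
  refine ⟨k, ?_⟩
  rw [← Nat.card_congr (Equiv.ofBijective Φ hΦ), Nat.card_prod, Nat.card_prod, ← hshift 1, ← hshift 0, hk,
    ← pow_add, ← pow_add]
  congr 1
  ring

end CfsgLib.J4Type
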