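import Cfsg.Agent.Lib.J4Type.PairCert
import Cfsg.Agent.Lib.J4Type.ToVAct
import Cfsg.Agent.Lib.J4Type.Classes
import Cfsg.Agent.Lib.J4Type.VGroup
import Cfsg.Agent.Lib.J4Type.Frame

/-!
Elements of `C(z)` centralising an element `t` of `Vg` outside the class of `z` normalise `Vg`: their
images fix a vector, or preserve a commutator space with a vector, lying in only one of the images of `W`.
-/

set_option autoImplicit false
set_option linter.unusedSectionVars false
set_option maxRecDepth 20000

namespace CfsgLib.J4Type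

universe u

open CfsgLib.FischerTwoFour (QRep)

/-- Every element is a product of one of the `77` words and a stabiliser of `W`. -/
theorem Model.exists_word {H V : Type*} [Group H] [AddCommGroup V] {R : QRep H V} (M : Model R) (h : H) :
    ∃ i, i < 77 ∧ ∃ s ∈ M.stabW, M.val (orbWords.getD i []) * s = h := by
  have := M.finite
  let f : Fin 77 × M.stabW → H := fun p => M.val (orbWords.getD p.1.val []) * p.2
  have hl : ∀ k : Fin 77, k.val < orbWords.length := fun k => by rw [orb_length]; exact k.isLt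
  have hf : Function.Injective f := by
    rintro ⟨i, s⟩ ⟨j, t⟩ he
    have hb := M.orbBits_eq s.2 t.2 he
    rw [List.getD_eq_getElem _ _ (hl i), List.getD_eq_getElem _ _ (hl j)] at hb
    have hij : i.val = j.val :=
      (orb_bits_nodup.getElem_inj_iff (hi := by rw [List.length_map]; exact hl i)
        (hj := by rw [List.length_map]; exact hl j)).1
        (by rw [List.getElem_map, List.getElem_map]; exact hb)
    obtain rfl : i = j := Fin.ext hij
    have he' : M.val (orbWords.getD i.val []) * s = M.val (orbWords.getD i.val []) * t := he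
    exact Prod.ext rfl (Subtype.ext (mul_left_cancel he'))
  have hsame : (M.stabW : Set H) = {h | M.PresW h} := Set.ext fun h => M.mem_stabW
  have hcard : Nat.card M.stabW = 34560 := by
    rw [← M.card_presW]
    exact Nat.card_congr (Equiv.setCongr (Set.ext fun h => M.mem_stabW.trans M.presW_iff))
  obtain ⟨⟨i, s⟩, rfl⟩ := (hf.bijective_of_nat_card_le
    (by rw [Nat.card_prod, Nat.card_fin, hcard, M.gens.card])).2 h
  exact ⟨i, i.isLt, s, s.2, rfl⟩

theorem testBit_orbUnion_of_mem {ws : List (List ℕ)} {w : List ℕ} (hw : w ∈ ws) {n : ℕ}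
    (h : (orbBits w).testBit n = true) : (orbUnion ws).testBit n = true := by
  induction ws with
  | nil => simp at hw
  | cons x xs ih =>
    rw [orbUnion, Nat.testBit_lor, Bool.or_eq_true]
    rcases List.mem_cons.1 hw with rfl | hw'
    · exact Or.inl h
    · exact Or.inr (ih hw')

/-- A vector in only one image of `W` reached from `W` pins the stabiliser. -/
theorem Model.presW_of_unique {H V : Type*} [Group H] [AddCommGroup V] {R : QRep H V} (M : Model R) {h : H}
    {v : V} (hv : M.code v < 64) (hu : VCode.otherBits.testBit (M.code (R.ρ h v)) = false) : M.PresW h := by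
  obtain ⟨i, hi, s, hs, rfl⟩ := M.exists_word h
  have hbit : (orbBits (orbWords.getD i [])).testBit (M.code (R.ρ (M.val (orbWords.getD i []) * s) v)) = true := by
    rw [testBit_orbBits, R.mul_apply, M.code_val]
    exact ⟨_, hs v hv, rfl⟩
  rcases Nat.eq_zero_or_pos i with rfl | hpos
  · rw [show orbWords.getD 0 [] = [] from rfl, M.val_nil, one_mul]
    exact M.mem_stabW.1 hs
  · exfalso
    have hl : i < orbWords.length := by rw [orb_length]; exact hi
    have hmem : orbWords.getD i [] ∈ orbWords.tail := by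
      rw [List.getD_eq_getElem _ _ hl, ← List.drop_one, List.mem_drop_iff_getElem]
      exact ⟨i - 1, by omega, by congr 1; omega⟩
    rw [show VCode.otherBits = orbUnion orbWords.tail from rfl, testBit_orbUnion_of_mem hmem hbit] at hu
    exact Bool.noConfusion hu

/-- Centralisers of non-trivial elements of `rSub` preserve `W`. -/
theorem Model.presW_of_comm {H V : Type*} [Group H] [AddCommGroup V] {R : QRep H V} (M : Model R) {h r : H}
    (hr : r ∈ M.rSub) (hr1 : r ≠ 1) (hc : h * r = r * h) : M.PresW h := by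
  obtain ⟨m, hm, rfl⟩ := M.mem_rSub.1 hr
  have hm0 : m ≠ 0 := by rintro rfl; exact hr1 M.val_rWord_zero
  obtain ⟨x, hx, hxb⟩ := List.any_eq_true.1
    (List.all_eq_true.1 VCode.comm_unique m (List.mem_range'_1.2 ⟨by omega, by omega⟩))
  have hx' : x < 4096 := by
    rcases List.mem_cons.1 hx with rfl | hx
    · norm_num
    rcases List.mem_cons.1 hx with rfl | hx
    · norm_num
    rcases List.mem_cons.1 hx with rfl | hx
    · norm_num
    rcases List.mem_cons.1 hx with rfl | hx
    · norm_num
    exact absurd hx List.not_mem_nil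
  obtain ⟨y, hy⟩ := M.code_surj x hx'
  set r := M.val (rWord m) with hrdef
  set w := R.ρ r y + y with hw
  have hwc : M.code w = delW (rWord m) x := by
    rw [hw, M.code_add, hrdef, M.code_val, hy]; rfl
  have hinv : h⁻¹ * r = r * h⁻¹ := by
    rw [← mul_left_inj h]
    calc h⁻¹ * r * h = h⁻¹ * (h * r) := by rw [hc]; group
      _ = r * h⁻¹ * h := by group
  have hsmall : M.code (R.ρ h⁻¹ w) < 64 := by
    rw [hw, map_add, ← R.mul_apply, hinv, R.mul_apply]
    exact (M.rSub_elem hr hr1).2.2 _
  refine M.presW_of_unique hsmall ?_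
  rw [← R.mul_apply, mul_inv_cancel, R.one_apply, hwc]
  simpa using hxb

namespace Ctx

variable {G : Type u} [Group G] [Finite G] {z : G} {P : Subgroup G} (X : Ctx z P)

/-- The centraliser of `z` and `t` normalises `Vg`. -/
theorem centralizer_pair_le_at_z {ec : ℕ} (D : VAct z X.Vg ec)
    (hlow : ∀ a : QQ z, (a : CC z) ∈ X.Wc →
      ∃ v, v < 128 ∧ D.enc v = ((a : CC z) : G) ∧ X.model.code (pr a) = v % 64)
    {t : G} (ht : t ∈ ncG z X.Vg) : CC z ⊓ CC t ≤ Subgroup.normalizer (X.Vg : Set G) := by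
  intro g hg₀
  obtain ⟨hgz, hgt⟩ := Subgroup.mem_inf.1 hg₀
  obtain ⟨htV, ht1, htc⟩ := ht
  obtain ⟨tc, htc', rfl⟩ := htV
  set c : CC z := ⟨g, hgz⟩ with hc
  have hS := X.model.stabFacts
  have hcomm : c * tc = tc * c := Subtype.ext (Subgroup.mem_centralizer_singleton_iff.1 hgt)
  show (c : G) ∈ _
  rw [X.norm_iff hS]
  obtain ⟨hr, -⟩ := Subgroup.mem_inf.1 htc'
  set r : CC z ⧸ QQ z := QuotientGroup.mk' (QQ z) tc with hrdef
  by_cases hr1 : r = 1
  · have hq : tc ∈ QQ z := (QuotientGroup.eq_one_iff tc).1 hr1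
    obtain ⟨v, hv, hev, hcode⟩ := hlow ⟨tc, hq⟩ (X.mem_Wc_of_mem_VV htc' hq)
    have hv0 : v ≠ 0 := fun e => ht1 (by
      show (tc : G) = 1
      rw [← hev, e, D.enc_zero'])
    have hnc : VCode.isNc 2 true v = true := (D.ec_sel.2 v (by omega)).2 ⟨hv0, by rw [hev]; exact htc⟩
    have hu := List.all_eq_true.1 VCode.nc_low_unique v (List.mem_range.2 hv)
    simp only [hnc, Bool.not_true, Bool.false_or, Bool.not_eq_true'] at hu
    have hfix : (ext13_of X.hyp).rep.ρ (QuotientGroup.mk' (QQ z) c) (pr (⟨tc, hq⟩ : QQ z)) = pr ⟨tc, hq⟩ := by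
      refine (X.ext13.rep_apply c _).trans (congrArg pr (Subtype.ext ?_))
      rw [cjQ_val]
      exact mul_inv_eq_iff_eq_mul.2 hcomm
    refine X.model.presW_of_unique (v := pr (⟨tc, hq⟩ : QQ z)) ?_ (by rw [hfix, hcode]; exact hu)
    rw [hcode]; omega
  · exact X.model.presW_of_comm hr hr1 (by rw [← map_mul, ← map_mul, hcomm])

/-- The centraliser of a conjugate of `z` and an element outside the class normalises `Vg`. -/
theorem centralizer_pair_le {ec : ℕ} (D : VAct z X.Vg ec)
    (hlow : ∀ a : QQ z, (a : CC z) ∈ X.Wc →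
      ∃ v, v < 128 ∧ D.enc v = ((a : CC z) : G) ∧ X.model.code (pr a) = v % 64)
    (a : G) (ha : a ∈ X.Vg) (haz : IsConj z a) (t : G) (ht : t ∈ ncG z X.Vg) :
    CC a ⊓ CC t ≤ Subgroup.normalizer (X.Vg : Set G) := by
  intro g hg₀
  obtain ⟨hga, hgt⟩ := Subgroup.mem_inf.1 hg₀
  obtain ⟨m, hm, rfl⟩ := D.conj_z a ha haz
  rw [Subgroup.mem_centralizer_singleton_iff] at hga hgt
  have ht' : m⁻¹ * t * m ∈ ncG z X.Vg := by
    rw [← norm_ncG hm, show m * (m⁻¹ * t * m) * m⁻¹ = t by group]; exact ht
  have hg : m⁻¹ * g * m ∈ CC z ⊓ CC (m⁻¹ * t * m) := by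
    refine ⟨Subgroup.mem_centralizer_singleton_iff.2 ?_, Subgroup.mem_centralizer_singleton_iff.2 ?_⟩
    · calc m⁻¹ * g * m * z = m⁻¹ * (g * (m * z * m⁻¹)) * m := by group
        _ = m⁻¹ * (m * z * m⁻¹ * g) * m := by rw [hga]
        _ = z * (m⁻¹ * g * m) := by group
    · calc m⁻¹ * g * m * (m⁻¹ * t * m) = m⁻¹ * (g * t) * m := by group
        _ = m⁻¹ * (t * g) * m := by rw [hgt]
        _ = m⁻¹ * t * m * (m⁻¹ * g * m) := by group
  have h := X.centralizer_pair_le_at_z D hlow ht' hg
  have e : g = m * (m⁻¹ * g * m) * m⁻¹ := by group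
  rw [e]
  exact mul_mem (mul_mem hm h) (inv_mem hm)

end Ctx

end CfsgLib.J4Type
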