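import Cfsg.Agent.Lib.J4Type.Basis

/-!
The section of `W` in `O_2(C(z))` by commutators with the lift of `t`, and how elements commuting with
that lift move it.
-/

set_option autoImplicit false
set_option linter.unusedSectionVars false
set_option maxRecDepth 20000

namespace CfsgLib.J4Type

universe u

variable {G : Type u} [Group G] [Finite G] {z : G} {P : Subgroup G}

theorem qn_low : ((List.range 64).all fun v => !qn v) = true := by decide +kernel

/-- An identity on the twelve unit vectors holds on all codes. -/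
theorem app_eq_of_units (f g : ℕ → ℕ) (hf : ∀ a b, f (Nat.xor a b) = Nat.xor (f a) (f b))
    (hg : ∀ a b, g (Nat.xor a b) = Nat.xor (g a) (g b)) {k : ℕ}
    (h : ∀ i, i < k → f (2 ^ i) = g (2 ^ i)) {n : ℕ} (hn : n < 2 ^ k) : f n = g n := by
  have z0 : ∀ F : ℕ → ℕ, (∀ a b, F (Nat.xor a b) = Nat.xor (F a) (F b)) → F 0 = 0 := fun F hF => by
    have e := hF 0 0
    rw [show Nat.xor 0 0 = 0 from rfl] at e
    rw [e]; exact Nat.xor_self _
  exact xor_ext (fun a b => Nat.xor a b) k f g (fun a b _ _ => hf a b) (fun a b _ _ => hg a b)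
    ((z0 f hf).trans (z0 g hg).symm) h n hn

theorem colsT_sq {n : ℕ} (hn : n < 4096) : app colsT (app colsT n) = Nat.xor (app colsT n) n := by
  refine app_eq_of_units (k := 12) (fun n => app colsT (app colsT n)) (fun n => Nat.xor (app colsT n) n)
    (fun a b => by show app colsT (app colsT _) = _; rw [app_xor, app_xor]) (fun a b => by
      show Nat.xor (app colsT _) _ = _
      rw [app_xor]
      show (app colsT a ^^^ app colsT b) ^^^ (a ^^^ b) = (app colsT a ^^^ a) ^^^ (app colsT b ^^^ b)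
      ac_rfl) (fun i hi => ?_) hn
  exact Nat.eq_of_beq_eq_true (List.all_eq_true.1 VCode.colsT_facts.1 i (List.mem_range.2 hi))

theorem colsT_low {n : ℕ} (hn : n < 64) : app colsT n < 64 := by
  have h : app colsT n = app (colsT.take 6) n :=
    app_eq_of_units (k := 6) _ _ (app_xor _) (app_xor _) (fun i hi => by
      rw [app_two_pow, app_two_pow]
      revert hi; revert i; decide) hn
  rw [h]
  exact app_lt (k := 6) _ _ (by decide)

theorem xor_cancel_left (a b : ℕ) : Nat.xor a (Nat.xor a b) = b := by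
  show a ^^^ (a ^^^ b) = b
  rw [← Nat.xor_assoc, Nat.xor_self, Nat.zero_xor]

theorem colsT_fix {n : ℕ} (hn : n < 4096) (h : app colsT n = n) : n = 0 := by
  have e := colsT_sq hn
  rw [h, h] at e
  rw [e]; exact Nat.xor_self _

namespace Lifts

variable {X : Ctx z P} (L : Lifts X)

/-- The commutator with `p`, inside `O_2(C(z))`. -/
def sig (y : QQ z) : QQ z := cjQ L.p y * y⁻¹

include L

theorem code_rho (c : CC z) {h : CC z ⧸ QQ z} (hc : QuotientGroup.mk c = h) (a : QQ z) :
    X.model.code (pr (cjQ c a)) = X.model.code ((ext13_of X.hyp).rep.ρ h (pr a)) := by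
  rw [← hc, (ext13_of X.hyp).rep_apply]

theorem pr_inv (a : QQ z) : pr a⁻¹ = pr a :=
  (ext13_of X.hyp).pr_eq_iff.2 (by rw [inv_inv]; exact (ext13_of X.hyp).sq_mem a)

theorem code_sig (y : QQ z) :
    X.model.code (pr (L.sig y)) = Nat.xor (app colsT (X.model.code (pr y))) (X.model.code (pr y)) := by
  rw [sig, pr_mul, L.pr_inv, X.model.code_add, L.code_rho L.p L.p_mk, X.model.act_t]

theorem sig_congr {y y' : QQ z} (h : pr y = pr y') : L.sig y = L.sig y' := by
  obtain ⟨k, hk, rfl⟩ : ∃ k ∈ Subgroup.center (QQ z), y' = y * k :=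
    ⟨_, (ext13_of X.hyp).pr_eq_iff.1 h, (mul_inv_cancel_left y y').symm⟩
  rw [sig, sig, map_mul, (ext13_of X.hyp).cjQ_center L.p hk, mul_inv_rev]
  group

theorem sig_mem {y : QQ z} (h : X.model.code (pr y) < 64) : ((L.sig y : QQ z) : CC z) ∈ X.Wc := by
  rw [X.mem_Wc, L.code_sig]
  exact Nat.xor_lt_two_pow (n := 6) (colsT_low h) h

omit L in
theorem Wc_sq {a : CC z} (ha : a ∈ X.Wc) : a * a = 1 := by
  obtain ⟨b, rfl⟩ : ∃ b : QQ z, (b : CC z) = a := ⟨⟨a, X.mem_QQ_of_Wc ha⟩, rfl⟩
  have hb := X.mem_Wc.1 ha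
  have hq := X.model.code_q (pr b)
  have hqf : qn (X.model.code (pr b)) = false := by
    simpa using List.all_eq_true.1 qn_low _ (List.mem_range.2 hb)
  rw [hqf, if_neg Bool.false_ne_true] at hq
  have hq' : qf (pr b) = 0 := hq
  rw [(ext13_of X.hyp).qf_pr, bit] at hq'
  split_ifs at hq' with h1
  · exact congrArg Subtype.val h1
  · exact absurd hq' one_ne_zero

omit L in
theorem Wc_comm {a b : CC z} (ha : a ∈ X.Wc) (hb : b ∈ X.Wc) : a * b = b * a := by
  have inv : ∀ x ∈ X.Wc, x⁻¹ = x := fun x hx => inv_eq_of_mul_eq_one_right (Wc_sq hx)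
  rw [← inv _ (mul_mem ha hb), mul_inv_rev, inv _ ha, inv _ hb]

theorem sig_mul {a b : QQ z} (ha : X.model.code (pr a) < 64) (hb : X.model.code (pr b) < 64) :
    L.sig (a * b) = L.sig a * L.sig b := by
  have h : a * L.sig b = L.sig b * a := Subtype.ext (Wc_comm (X.mem_Wc.2 ha) (L.sig_mem hb))
  calc L.sig (a * b) = cjQ L.p a * (cjQ L.p b * b⁻¹) * a⁻¹ := by rw [sig, map_mul]; group
    _ = L.sig a * (a * L.sig b * a⁻¹) := by rw [sig, sig]; group
    _ = L.sig a * L.sig b := by rw [h, mul_inv_cancel_right]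

omit L in
/-- A vector whose commutator with `t` is the unit vector. -/
noncomputable def yv {X : Ctx z P} (_L : Lifts X) (n : ℕ) : QQ z := (pr_surj (X.dec (app colsT n))).choose

theorem code_yv {n : ℕ} (hn : n < 64) : X.model.code (pr (L.yv n)) = app colsT n := by
  rw [yv, (pr_surj (X.dec (app colsT n))).choose_spec, X.code_dec (lt_trans (colsT_low hn) (by norm_num))]

/-- The section on `W`. -/
noncomputable def sec (n : ℕ) : QQ z := L.sig (L.yv n)

theorem code_sec {n : ℕ} (hn : n < 64) : X.model.code (pr (L.sec n)) = n := by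
  rw [sec, L.code_sig, L.code_yv hn, colsT_sq (lt_trans hn (by norm_num))]
  show (app colsT n ^^^ n) ^^^ app colsT n = n
  rw [Nat.xor_comm (app colsT n) n, Nat.xor_assoc, Nat.xor_self, Nat.xor_zero]

theorem sec_mem {n : ℕ} (hn : n < 64) : ((L.sec n : QQ z) : CC z) ∈ X.Wc :=
  X.mem_Wc.2 (by rw [L.code_sec hn]; exact hn)

theorem sec_xor {m n : ℕ} (hm : m < 64) (hn : n < 64) : L.sec (Nat.xor m n) = L.sec m * L.sec n := by
  rw [sec, sec, sec, ← L.sig_mul (by rw [L.code_yv hm]; exact colsT_low hm)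
    (by rw [L.code_yv hn]; exact colsT_low hn)]
  refine L.sig_congr (X.model.code_inj _ _ ?_)
  rw [L.code_yv (n := Nat.xor m n) (Nat.xor_lt_two_pow (n := 6) hm hn), pr_mul, X.model.code_add, L.code_yv hm, L.code_yv hn, app_xor]

theorem sig_eq_sec {y : QQ z} (h : X.model.code (pr y) < 64) :
    L.sig y = L.sec (X.model.code (pr (L.sig y))) := by
  have hc : X.model.code (pr (L.sig y)) < 64 := X.mem_Wc.1 (L.sig_mem h)
  refine L.sig_congr (X.model.code_inj _ _ ?_)
  rw [L.code_yv hc, L.code_sig, app_xor, colsT_sq (lt_trans h (by norm_num))]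
  show X.model.code (pr y) = (app colsT (X.model.code (pr y)) ^^^ X.model.code (pr y)) ^^^ app colsT (X.model.code (pr y))
  rw [Nat.xor_comm (app colsT _) (X.model.code (pr y)), Nat.xor_assoc, Nat.xor_self, Nat.xor_zero]

/-- An element commuting with `p` moves the section as its image moves `W`. -/
theorem sec_conj {c : CC z} (hc : c * L.p = L.p * c) (cols : List ℕ) (h : CC z ⧸ QQ z)
    (hm : QuotientGroup.mk c = h) (hact : ∀ v, X.model.code ((ext13_of X.hyp).rep.ρ h v) = app cols (X.model.code v))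
    (hlow : ∀ w, w < 64 → app cols w < 64) {n : ℕ} (hn : n < 64) :
    c * (L.sec n : CC z) * c⁻¹ = (L.sec (app cols n) : CC z) := by
  have e1 : c * (L.sec n : CC z) * c⁻¹ = ((cjQ c (L.sec n) : QQ z) : CC z) := (cjQ_val c _).symm
  have e2 : cjQ c (L.sec n) = L.sig (cjQ c (L.yv n)) := by
    rw [sec, sig, sig, map_mul, map_inv]
    refine congrArg (· * (cjQ c (L.yv n))⁻¹) (Subtype.ext ?_)
    rw [cjQ_val, cjQ_val, cjQ_val, cjQ_val]
    calc c * (L.p * (L.yv n : CC z) * L.p⁻¹) * c⁻¹ = c * L.p * (L.yv n : CC z) * (c * L.p)⁻¹ := by group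
      _ = L.p * c * (L.yv n : CC z) * (L.p * c)⁻¹ := by rw [hc]
      _ = _ := by group
  have hy : X.model.code (pr (cjQ c (L.yv n))) < 64 := by
    rw [L.code_rho c hm, hact, L.code_yv hn]; exact hlow _ (colsT_low hn)
  rw [e1, e2, L.sig_eq_sec hy, ← e2, L.code_rho c hm, hact, L.code_sec hn]

/-- Only `1` and `z` in `O_2(C(z))` commute with `p`. -/
theorem fixed_QQ {y : CC z} (hy : y ∈ QQ z) (hc : y * L.p = L.p * y) : y = 1 ∨ y = Ctx.zc z := by
  have e : cjQ L.p (⟨y, hy⟩ : QQ z) = ⟨y, hy⟩ := Subtype.ext (by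
    rw [cjQ_val, ← hc]; group)
  have h := L.code_rho L.p L.p_mk (⟨y, hy⟩ : QQ z)
  rw [e, X.model.act_t] at h
  have h0 := X.code_eq_zero.1 (colsT_fix (X.model.code_lt _) h.symm)
  rcases X.center_eq ((ext13_of X.hyp).pr_eq_zero.1 h0) with h1 | h1
  · exact Or.inl (congrArg Subtype.val h1)
  · exact Or.inr (congrArg Subtype.val h1)

/-- Two elements commuting with `p` with the same image differ by `1` or `z`. -/
theorem unique_lift {a b : CC z} (ha : a * L.p = L.p * a) (hb : b * L.p = L.p * b)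
    (h : (QuotientGroup.mk a : CC z ⧸ QQ z) = QuotientGroup.mk b) : b = a ∨ b = a * Ctx.zc z := by
  have hb' : Commute b L.p := hb
  have ha' : Commute a L.p := ha
  rcases L.fixed_QQ (QuotientGroup.eq.1 h) ((ha'.inv_left.mul_left hb').eq) with e | e
  · exact Or.inl (inv_mul_eq_one.1 e).symm
  · exact Or.inr (inv_mul_eq_iff_eq_mul.1 e)

end Lifts

end CfsgLib.J4Type
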