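import Cfsg.Agent.Lib.J4Type.Elementary
import Cfsg.Agent.Lib.J4Type.PairCent
import Cfsg.Agent.Lib.J4Type.Section

/-!
Facts on the model of Janko-four type used to find a conjugate of `z` in `V`: outer involutions invert
`t`, and an element of order dividing four commuting with an involution `r` and fixing a large part of
its fixed space is `1` or `r`.
-/

set_option autoImplicit false
set_option linter.unusedSectionVars false
set_option maxRecDepth 100000
set_option maxHeartbeats 1000000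

namespace CfsgLib.J4Type

open CfsgLib.FischerTwoFour (QRep)

theorem rep_inverts_t : (([1, 2] : List ℕ).all fun l => (List.range 12).all fun k =>
    Nat.beq (app (Elem.reps.getD l []) (app colsT (2 ^ k)))
      (app colsT (app colsT (app (Elem.reps.getD l []) (2 ^ k))))) = true := by
  decide +kernel

theorem rSub_common_fix : ((List.range' 1 63).all fun i => (List.range' 1 15).all fun m =>
    (List.range' 1 15).all fun n => Nat.beq m n || !Nat.beq (delW (rWord m) (64 * i)) 0 ||
      !Nat.beq (delW (rWord n) (64 * i)) 0) = true := by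
  decide +kernel

namespace Model

variable {H V : Type*} [Group H] [AddCommGroup V] {R : QRep H V} (M : Model R)

include M

theorem conj_t (h : H) : h * M.gens.t * h⁻¹ = M.gens.t ∨ h * M.gens.t * h⁻¹ = M.gens.t⁻¹ := by
  have hh : h ∈ Subgroup.closure ({M.gens.a, M.gens.c, M.gens.g, M.gens.u} ∪ Set.range M.gens.r : Set H) := by
    rw [M.gens.top]; exact Subgroup.mem_top h
  induction hh using Subgroup.closure_induction with
  | mem x hx =>
    rcases hx with (rfl | rfl | rfl | rfl) | ⟨i, rfl⟩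
    · exact Or.inl (mul_inv_eq_iff_eq_mul.2 M.gens.t_a)
    · exact Or.inl (mul_inv_eq_iff_eq_mul.2 M.gens.t_c)
    · exact Or.inl (mul_inv_eq_iff_eq_mul.2 M.gens.t_g)
    · exact Or.inr M.gens.u_t
    · exact Or.inl (mul_inv_eq_iff_eq_mul.2 (M.gens.t_r i))
  | one => exact Or.inl (by group)
  | mul x y _ _ hx hy =>
    have e : x * y * M.gens.t * (x * y)⁻¹ = x * (y * M.gens.t * y⁻¹) * x⁻¹ := by group
    have e' : x * M.gens.t⁻¹ * x⁻¹ = (x * M.gens.t * x⁻¹)⁻¹ := by group
    rcases hy with hy | hy <;> rw [e, hy]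
    · exact hx
    · rw [e']
      rcases hx with hx | hx <;> rw [hx]
      · exact Or.inr rfl
      · exact Or.inl (inv_inv _)
  | inv x _ hx =>
    rcases hx with hx | hx
    · refine Or.inl ?_
      conv_lhs => rw [← hx]
      group
    · refine Or.inr ?_
      have e : M.gens.t = x⁻¹ * M.gens.t⁻¹ * x := by rw [← hx]; group
      conv_rhs => rw [e]
      group

theorem t_fpf {v : V} (h : R.ρ M.gens.t v = v) : v = 0 := by
  refine M.code_inj _ _ ?_
  rw [M.code_zero, colsT_fix (M.code_lt v) (by rw [← M.act_t, h])]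

theorem t_inv_apply (v : V) : R.ρ M.gens.t⁻¹ v = R.ρ M.gens.t v + v := by
  have h3 : M.gens.t⁻¹ = M.gens.t * M.gens.t := inv_eq_of_mul_eq_one_right (by
    rw [← mul_assoc, ← pow_two, ← pow_succ]; exact M.gens.t_cube)
  rw [h3, R.mul_apply]
  exact M.code_inj _ _ (by rw [M.act_t, M.code_add, M.act_t, colsT_sq (M.code_lt v)])

/-- A fixed vector of an element inverting `t` whose image under `t` is fixed as well is zero. -/
theorem fix_disjoint {h : H} (hh : h * M.gens.t * h⁻¹ = M.gens.t⁻¹) {v : V} (hv : R.ρ h v = v)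
    (hv' : R.ρ h (R.ρ M.gens.t v) = R.ρ M.gens.t v) : v = 0 := by
  have e : R.ρ M.gens.t⁻¹ v = R.ρ M.gens.t v := by
    conv_rhs => rw [← hv', ← R.mul_apply, mul_inv_eq_iff_eq_mul.1 hh, R.mul_apply, hv]
  rw [M.t_inv_apply] at e
  exact left_eq_add.1 e.symm

theorem rho_one_of_forall {h : H} (hh : ∀ v, R.ρ h v = v) : h = 1 := R.faithful h hh

/-- An involution is inner, or outer and inverts `t`. -/
theorem invol_cases_t {h : H} (h2 : h * h = 1) (h1 : h ≠ 1) :
    M.IsInner h ∨ ((fixSet R h).ncard = 64 ∧ commSet R h = fixSet R h ∧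
      h * M.gens.t * h⁻¹ = M.gens.t⁻¹) := by
  classical
  have hA : ∀ a ∈ Subgroup.zpowers h, a * a = 1 := by
    rintro _ ⟨n, rfl⟩
    rw [← zpow_add, ← two_mul, zpow_mul, zpow_two, h2, one_zpow]
  obtain ⟨k, hk⟩ := Elem.exists_cj_syl M hA
  set s := k * h * k⁻¹ with hs
  have hs2 : s * s = 1 := by
    calc s * s = k * (h * h) * k⁻¹ := by rw [hs]; group
      _ = 1 := by rw [h2]; group
  obtain ⟨j, hj, he⟩ := Elem.exists_iEl M (hk (Elem.cj_mem (Subgroup.mem_zpowers h))) hs2
  have hj0 : j ≠ 0 := by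
    rintro rfl
    rw [Elem.iEl_zero] at he
    exact h1 (conj_eq_one_iff.1 he)
  obtain ⟨j, rfl⟩ := Nat.exists_eq_succ_of_ne_zero hj0
  have hc := List.all_eq_true.1 Elem.iConj_spec j (List.mem_range.2 (by omega))
  simp only [Bool.and_eq_true, beq_iff_eq, List.all_eq_true, decide_eq_true_eq] at hc
  obtain ⟨⟨hj3, hw⟩, hmat⟩ := hc
  set w := (Elem.iConj.getD j (0, [])).2
  set l := (Elem.iConj.getD j (0, [])).1
  have hK := Elem.isM_wordE M (w := w) hw
  set K := Elem.wordE M w
  have hcols : ∀ c ∈ Elem.reps.getD l [], c < 4096 := fun c hcm =>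
    of_decide_eq_true (List.all_eq_true.1 (Elem.reps_lt l hj3) c hcm)
  have hr : Elem.IsM M (K⁻¹ * s * K) (Elem.reps.getD l []) := by
    intro v
    have hlt := Elem.app_lt _ hcols (M.code v)
    set y := Elem.vec M hlt
    have hy : R.ρ (K⁻¹ * s * K) v = y := by
      apply R.inj K
      refine M.code_inj _ _ ?_
      rw [← R.mul_apply, show K * (K⁻¹ * s * K) = s * K by group, hK, Elem.code_vec, ← Elem.app_cmp, ← hmat,
        (he.symm ▸ (Elem.isM_iEl M hj).mul M hK : Elem.IsM M (s * K) _)]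
    rw [hy, Elem.code_vec]
  have hh : h = (k⁻¹ * K) * (K⁻¹ * s * K) * (k⁻¹ * K)⁻¹ := by rw [hs]; group
  rcases Nat.eq_zero_or_pos l with hl | hl
  · refine Or.inl ⟨(k⁻¹ * K)⁻¹, ?_⟩
    have e : K⁻¹ * s * K = M.gens.r 0 :=
      hr.unique M (by rw [hl, Elem.rep_zero]; exact Elem.isM_gE M (i := 4) (by norm_num))
    have e' : (k⁻¹ * K)⁻¹ * h * (k⁻¹ * K)⁻¹⁻¹ = M.gens.r 0 := by rw [← e, hs]; group
    rw [e']
    exact Subgroup.subset_closure ⟨0, rfl⟩
  set s' := K⁻¹ * s * K with hs'
  have hl12 : l = 1 ∨ l = 2 := by omega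
  obtain ⟨hcard, hcomm, -⟩ := Elem.rep_type M hl12 hr
  have hinv : s' * M.gens.t = M.gens.t⁻¹ * s' := by
    rw [show M.gens.t⁻¹ = M.gens.t * M.gens.t from inv_eq_of_mul_eq_one_right (by
      rw [← mul_assoc, ← pow_two, ← pow_succ]; exact M.gens.t_cube)]
    refine M.eq_of_code fun v => ?_
    rw [R.mul_apply s' M.gens.t v, R.mul_apply (M.gens.t * M.gens.t) s' v, R.mul_apply M.gens.t M.gens.t, hr,
      M.act_t, M.act_t, M.act_t, hr]
    refine app_eq_of_units (k := 12) (fun n => app _ (app colsT n)) (fun n => app colsT (app colsT (app _ n)))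
      (fun a b => by show app _ (app _ _) = _; rw [app_xor, app_xor])
      (fun a b => by show app _ (app _ (app _ _)) = _; rw [app_xor, app_xor, app_xor])
      (fun i hi => Nat.eq_of_beq_eq_true (List.all_eq_true.1 (List.all_eq_true.1 rep_inverts_t l ?_) i
        (List.mem_range.2 hi))) (M.code_lt v)
    rcases hl12 with e | e <;> rw [e] <;> simp
  refine Or.inr ⟨?_, ?_, ?_⟩
  · rw [hh, Elem.fixSet_conj, Set.ncard_image_of_injective _ (fun _ _ => R.inj _), hcard]
  · rw [hh, Elem.commSet_conj, Elem.fixSet_conj, hcomm]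
  · set q := k⁻¹ * K
    have ht : s' * M.gens.t * s'⁻¹ = M.gens.t⁻¹ := mul_inv_eq_iff_eq_mul.2 hinv
    rw [hh]
    rcases M.conj_t q⁻¹ with hq | hq <;> rw [inv_inv] at hq
    · have e1 : q * M.gens.t⁻¹ * q⁻¹ = M.gens.t⁻¹ := by
        conv_lhs => rw [← hq]
        group
      calc q * s' * q⁻¹ * M.gens.t * (q * s' * q⁻¹)⁻¹
          = q * (s' * (q⁻¹ * M.gens.t * q) * s'⁻¹) * q⁻¹ := by group
        _ = q * M.gens.t⁻¹ * q⁻¹ := by rw [hq, ht]
        _ = M.gens.t⁻¹ := e1
    · have e1 : q * M.gens.t * q⁻¹ = M.gens.t⁻¹ := by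
        calc q * M.gens.t * q⁻¹ = q * (q⁻¹ * M.gens.t * q)⁻¹ * q⁻¹ := by rw [hq, inv_inv]
          _ = M.gens.t⁻¹ := by group
      calc q * s' * q⁻¹ * M.gens.t * (q * s' * q⁻¹)⁻¹
          = q * (s' * (q⁻¹ * M.gens.t * q) * s'⁻¹) * q⁻¹ := by group
        _ = q * (s' * M.gens.t * s'⁻¹)⁻¹ * q⁻¹ := by rw [hq]; group
        _ = q * M.gens.t * q⁻¹ := by rw [ht, inv_inv]
        _ = M.gens.t⁻¹ := e1

theorem fix_le_256 {s : H} (s2 : s * s = 1) (s1 : s ≠ 1) : (fixSet R s).ncard ≤ 256 := by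
  rcases M.invol_cases_t s2 s1 with ⟨k, hk⟩ | ⟨h, -, -⟩
  · have hne : k * s * k⁻¹ ≠ 1 := fun e => s1 (conj_eq_one_iff.1 e)
    have := (M.rSub_elem hk hne).1
    rw [Elem.fixSet_conj, Set.ncard_image_of_injective _ (fun _ _ => R.inj _)] at this
    omega
  · omega

theorem fix_ge_64 {s : H} (s2 : s * s = 1) (s1 : s ≠ 1) : 64 ≤ (fixSet R s).ncard := by
  rcases M.invol_cases_t s2 s1 with ⟨k, hk⟩ | ⟨h, -, -⟩
  · have hne : k * s * k⁻¹ ≠ 1 := fun e => s1 (conj_eq_one_iff.1 e)
    have := (M.rSub_elem hk hne).1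
    rw [Elem.fixSet_conj, Set.ncard_image_of_injective _ (fun _ _ => R.inj _)] at this
    omega
  · omega

theorem b_fix_comm {r : H} {v w : V} (hv : R.ρ r v = v) : R.b v (R.ρ r w + w) = 0 := by
  rw [R.b_add_right]
  conv_lhs => arg 1; rw [← hv]
  rw [R.b_inv]
  exact CharTwo.add_self_eq_zero _

/-- An element of order dividing four commuting with `r`, an outer involution, and fixing at least half
of its fixed space is `1` or `r`. -/
theorem outer_kernel {r h : H} (hr : r * r = 1) (hrt : r * M.gens.t * r⁻¹ = M.gens.t⁻¹) (h4 : h ^ 4 = 1)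
    (hc : h * r = r * h) (K : AddSubgroup V) (hKr : ∀ v ∈ K, R.ρ r v = v) (hKh : ∀ v ∈ K, R.ρ h v = v)
    (hK : 32 ≤ Nat.card K) : h = 1 ∨ h = r := by
  have : Finite V := Nat.finite_of_card_ne_zero (by rw [R.card_V]; norm_num)
  have key : ∀ g : H, g ^ 4 = 1 → g * M.gens.t = M.gens.t * g → (∀ v ∈ K, R.ρ g v = v) → g = 1 := by
    intro g g4 gt gK
    by_contra g1
    obtain ⟨s, s2, s1, hst, hsK⟩ : ∃ s, s * s = 1 ∧ s ≠ 1 ∧ s * M.gens.t = M.gens.t * s ∧
        ∀ v ∈ K, R.ρ s v = v := by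
      by_cases e : g * g = 1
      · exact ⟨g, e, g1, gt, gK⟩
      · refine ⟨g * g, ?_, e, ?_, fun v hv => by rw [R.mul_apply, gK v hv, gK v hv]⟩
        · rw [← g4, pow_succ, pow_three]; group
        · rw [mul_assoc, gt, ← mul_assoc, gt, mul_assoc]
    let f : K × K → fixSet R s := fun p => ⟨p.1.1 + R.ρ M.gens.t p.2.1, by
      show R.ρ s _ = _
      rw [map_add, hsK _ p.1.2, ← R.mul_apply, hst, R.mul_apply, hsK _ p.2.2]⟩
    have hf : Function.Injective f := by
      rintro ⟨a, b⟩ ⟨a', b'⟩ e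
      have e' : a.1 + R.ρ M.gens.t b.1 = a'.1 + R.ρ M.gens.t b'.1 := congrArg Subtype.val e
      have hd : R.ρ M.gens.t (b.1 + b'.1) = a.1 + a'.1 := by
        rw [map_add]
        calc R.ρ M.gens.t b.1 + R.ρ M.gens.t b'.1
            = (a.1 + R.ρ M.gens.t b.1) + a.1 + R.ρ M.gens.t b'.1 := by
              rw [add_comm a.1 (R.ρ _ b.1), add_assoc (R.ρ M.gens.t b.1), R.two, add_zero]
          _ = (a'.1 + R.ρ M.gens.t b'.1) + a.1 + R.ρ M.gens.t b'.1 := by rw [e']
          _ = a.1 + a'.1 + (R.ρ M.gens.t b'.1 + R.ρ M.gens.t b'.1) := by abel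
          _ = a.1 + a'.1 := by rw [R.two, add_zero]
      have hb : b.1 + b'.1 = 0 :=
        M.fix_disjoint hrt (hKr _ (add_mem b.2 b'.2)) (by rw [hd]; exact hKr _ (add_mem a.2 a'.2))
      rw [hb, map_zero] at hd
      have ha' : a.1 = a'.1 := by
        rw [eq_comm, add_eq_zero_iff_eq_neg, neg_eq_of_add_eq_zero_right (R.two _)] at hd; exact hd
      have hb' : b.1 = b'.1 := by
        rwa [add_eq_zero_iff_eq_neg, neg_eq_of_add_eq_zero_right (R.two _)] at hb
      exact Prod.ext (Subtype.ext ha') (Subtype.ext hb')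
    have h1 := Nat.card_le_card_of_injective f hf
    rw [Nat.card_prod, Nat.card_coe_set_eq] at h1
    have := M.fix_le_256 s2 s1
    nlinarith
  rcases M.conj_t h with ht | ht
  · exact Or.inl (key h h4 (mul_inv_eq_iff_eq_mul.1 ht) hKh)
  · refine Or.inr ?_
    have hr' : r⁻¹ = r := inv_eq_of_mul_eq_one_right hr
    have hpow : (h * r) ^ 4 = 1 := by
      rw [(show Commute h r from hc).mul_pow, h4, one_mul, show (4 : ℕ) = 2 * 2 from rfl, pow_mul, pow_two r,
        hr, one_pow]
    have e := key (h * r) hpow ?_ fun v hv => by rw [R.mul_apply, hKr v hv, hKh v hv]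
    · rw [← hr']; exact eq_inv_of_mul_eq_one_left e
    · refine mul_inv_eq_iff_eq_mul.1 ?_
      calc h * r * M.gens.t * (h * r)⁻¹ = h * (r * M.gens.t * r⁻¹) * h⁻¹ := by group
        _ = (h * M.gens.t * h⁻¹)⁻¹ := by rw [hrt]; group
        _ = M.gens.t := by rw [ht, inv_inv]

/-- An element commuting with `r` in `rSub`, fixing the part of `W` orthogonal to a vector `e` outside
`W` and a fixed vector of `r` outside `W`, is `1` or `r`. -/
theorem inner_kernel {r h : H} (hr : r ∈ M.rSub) (hr1 : r ≠ 1) (hc : h * r = r * h) {e k : V}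
    (he : ¬ M.code e < 64) (hK : ∀ w, M.code w < 64 → R.b w e = 0 → R.ρ h w = w)
    (hk : ¬ M.code k < 64) (hkr : R.ρ r k = k) (hkh : R.ρ h k = k) : h = 1 ∨ h = r := by
  classical
  have : Finite V := Nat.finite_of_card_ne_zero (by rw [R.card_V]; norm_num)
  have hP := M.presW_of_comm hr hr1 hc
  set S : Set V := {w | M.code w < 64 ∧ R.b w e = 0} with hS
  obtain ⟨w₀, hw₀, hw₀e⟩ : ∃ w, M.code w < 64 ∧ R.b w e ≠ 0 := by
    by_contra hno
    push Not at hno
    exact he (M.small_perp fun w hw => by rw [R.b_comm]; exact hno w hw)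
  have two : ∀ a : ZMod 2, a ≠ 0 → a = 1 := by decide
  have hW0 : M.code (0 : V) < 64 := by rw [M.code_zero]; norm_num
  have hW : ∀ w, M.code w < 64 → R.ρ h w = w := by
    rcases M.conj_t h with ht | ht
    · have hcomm := mul_inv_eq_iff_eq_mul.1 ht
      obtain ⟨s, hs, hts⟩ : ∃ s, s ∈ S ∧ R.ρ M.gens.t s ∉ S := by
        by_contra hno
        push Not at hno
        have h1 : ∀ w, M.code w < 64 → R.b w e = 0 → R.b (R.ρ M.gens.t w) e = 0 :=
          fun w a b => (hno w ⟨a, b⟩).2
        have hall : ∀ w, M.code w < 64 → R.b (R.ρ M.gens.t w) e = R.b w e := by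
          intro w hw
          by_cases hz : R.b w e = 0
          · rw [hz]; exact h1 w hw hz
          · by_contra hne
            have hz0 : R.b (R.ρ M.gens.t w) e = 0 := by
              by_contra hz'
              exact hne ((two _ hz').trans (two _ hz).symm)
            refine hz ?_
            have h2 := h1 _ (M.t_small hw) hz0
            have h3 := h1 _ (M.t_small (M.t_small hw)) h2
            rwa [← R.mul_apply, ← R.mul_apply,
              show M.gens.t * M.gens.t * M.gens.t = 1 by rw [← pow_two, ← pow_succ]; exact M.gens.t_cube,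
              R.one_apply] at h3
        obtain ⟨v, hv, hvw⟩ := M.exists_t_add hw₀
        exact hw₀e (by rw [← hvw, R.b_add, hall v hv, CharTwo.add_self_eq_zero])
      intro w hw
      by_cases hz : R.b w e = 0
      · exact hK w hw hz
      have hts' : R.b (R.ρ M.gens.t s) e = 1 := two _ fun e0 => hts ⟨M.t_small hs.1, e0⟩
      have hfix : R.ρ h (R.ρ M.gens.t s) = R.ρ M.gens.t s := by
        rw [← R.mul_apply, hcomm, R.mul_apply, hK s hs.1 hs.2]
      have h2 := hK (w + R.ρ M.gens.t s) (M.small_add hw (M.t_small hs.1))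
        (by rw [R.b_add, hts', two _ hz]; rfl)
      rwa [map_add, hfix, add_left_inj] at h2
    · exfalso
      have hfix : ∀ v ∈ S, R.ρ h v = v := fun v hv => hK v hv.1 hv.2
      have hadd : ∀ v ∈ S, ∀ v' ∈ S, v + v' ∈ S := fun v hv v' hv' =>
        ⟨M.small_add hv.1 hv'.1, by rw [R.b_add, hv.2, hv'.2, add_zero]⟩
      have hsub : {w | M.code w < 64} ⊆ S ∪ (fun w => w + w₀) '' S := by
        intro w hw
        by_cases hz : R.b w e = 0
        · exact Or.inl ⟨hw, hz⟩
        · refine Or.inr ⟨w + w₀, ⟨M.small_add hw hw₀, ?_⟩, ?_⟩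
          · rw [R.b_add, two _ hz, two _ hw₀e]; rfl
          · show w + w₀ + w₀ = w
            rw [add_assoc, R.two, add_zero]
      have h32 : 32 ≤ S.ncard := by
        have h1 := (Set.ncard_le_ncard hsub (Set.toFinite _)).trans (Set.ncard_union_le _ _)
        have h2 : ((fun w => w + w₀) '' S).ncard ≤ S.ncard := Set.ncard_image_le
        rw [M.ncard_small] at h1
        omega
      let f : S × S → {w | M.code w < 64} := fun p =>
        ⟨p.1.1 + R.ρ M.gens.t p.2.1, M.small_add p.1.2.1 (M.t_small p.2.2.1)⟩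
      have hf : Function.Injective f := by
        rintro ⟨a, b⟩ ⟨a', b'⟩ e'
        have e'' : a.1 + R.ρ M.gens.t b.1 = a'.1 + R.ρ M.gens.t b'.1 := congrArg Subtype.val e'
        have hd : R.ρ M.gens.t (b.1 + b'.1) = a.1 + a'.1 := by
          rw [map_add]
          calc R.ρ M.gens.t b.1 + R.ρ M.gens.t b'.1
              = (a.1 + R.ρ M.gens.t b.1) + a.1 + R.ρ M.gens.t b'.1 := by
                rw [add_comm a.1 (R.ρ _ b.1), add_assoc (R.ρ M.gens.t b.1), R.two, add_zero]
            _ = (a'.1 + R.ρ M.gens.t b'.1) + a.1 + R.ρ M.gens.t b'.1 := by rw [e'']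
            _ = a.1 + a'.1 + (R.ρ M.gens.t b'.1 + R.ρ M.gens.t b'.1) := by abel
            _ = a.1 + a'.1 := by rw [R.two, add_zero]
        have hb : b.1 + b'.1 = 0 := M.fix_disjoint ht (hfix _ (hadd _ b.2 _ b'.2))
          (by rw [hd]; exact hfix _ (hadd _ a.2 _ a'.2))
        rw [hb, map_zero] at hd
        have ha' : a.1 = a'.1 := by
          rw [eq_comm, add_eq_zero_iff_eq_neg, neg_eq_of_add_eq_zero_right (R.two _)] at hd; exact hd
        have hb' : b.1 = b'.1 := by
          rwa [add_eq_zero_iff_eq_neg, neg_eq_of_add_eq_zero_right (R.two _)] at hb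
        exact Prod.ext (Subtype.ext ha') (Subtype.ext hb')
      have h1 := Nat.card_le_card_of_injective f hf
      rw [Nat.card_prod, Nat.card_coe_set_eq, Nat.card_coe_set_eq, M.ncard_small] at h1
      nlinarith
  obtain ⟨m, hm, rfl⟩ := M.mem_rSub.1 hr
  obtain ⟨n, hn, hn'⟩ := M.mem_rSub.1 (M.fixesW_iff.1 hW)
  subst hn'
  have hm0 : m ≠ 0 := by rintro rfl; exact hr1 M.val_rWord_zero
  rcases Nat.eq_zero_or_pos n with rfl | hn0
  · exact Or.inl M.val_rWord_zero
  refine Or.inr ?_
  by_contra hne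
  set c := M.code k with hcdef
  set i := c / 64
  set l := c % 64
  have hi : i ∈ List.range' 1 63 := List.mem_range'_1.2 ⟨by omega, by have := M.code_lt k; omega⟩
  have hsplit : c = Nat.xor (64 * i) l := by
    have e1 := Nat.two_pow_add_eq_or_of_lt (i := 6) (b := l) (by omega) i
    have e2 : 64 * i + l = c := Nat.div_add_mod c 64
    rw [← e2, show (64 : ℕ) * i = 2 ^ 6 * i by norm_num, e1]
    refine Nat.eq_of_testBit_eq fun j => ?_
    show _ = (2 ^ 6 * i ^^^ l).testBit j
    rw [Nat.testBit_or, Nat.testBit_xor]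
    rcases Nat.lt_or_ge j 6 with hj | hj
    · rw [Nat.testBit_two_pow_mul]; simp [not_le.2 hj]
    · rw [Nat.testBit_lt_two_pow (lt_of_lt_of_le (show l < 2 ^ 6 by omega) (Nat.pow_le_pow_right (by norm_num) hj))]
      simp
  have hzero : ∀ p, p < 16 → R.ρ (M.val (rWord p)) k = k → delW (rWord p) (64 * i) = 0 := by
    intro p hp hfix
    obtain ⟨x, hx⟩ := M.code_surj l (by omega)
    have hxfix := (M.fix_rSub x).2 (by rw [hx]; omega) _ (M.mem_rSub.2 ⟨p, hp, rfl⟩)
    have h1 : delW (rWord p) l = 0 := by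
      rw [delW, ← hx, ← M.code_val, hxfix]; exact Nat.xor_self _
    have h2 : delW (rWord p) c = 0 := by
      rw [delW, hcdef, ← M.code_val, hfix]; exact Nat.xor_self _
    rw [hsplit, delW_xor, h1] at h2
    rwa [show Nat.xor (delW (rWord p) (64 * i)) 0 = delW (rWord p) (64 * i) from Nat.xor_zero _] at h2
  have h := List.all_eq_true.1 (List.all_eq_true.1 (List.all_eq_true.1 rSub_common_fix i hi) m
    (List.mem_range'_1.2 ⟨by omega, by omega⟩)) n (List.mem_range'_1.2 ⟨by omega, by omega⟩)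
  simp only [hzero m hm hkr, hzero n hn hkh, Nat.beq_refl, Bool.not_true, Bool.or_false] at h
  exact hne (by rw [Nat.eq_of_beq_eq_true h])

end Model

end CfsgLib.J4Type
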