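import Cfsg.Agent.Lib.J4Type.StabWords
import Cfsg.Agent.Lib.J4Type.VCode

/-!
Checks on the `77` images of `W`: the codes of the elements outside the class of `z` in `W` lie in no
other image, and every commutator space of a non-trivial element of `rSub` has such a code.
-/

set_option autoImplicit false
set_option maxRecDepth 100000
set_option maxHeartbeats 4000000
set_option Elab.async false

namespace CfsgLib.J4Type.VCode

/-- The codes in the images of `W` other than `W` itself. -/
def otherBits : ℕ := orbUnion orbWords.tail

theorem nc_low_unique : ((List.range 128).all fun v => !isNc 2 true v || !otherBits.testBit (v % 64)) = true := by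
  decide +kernel

theorem comm_unique : ((List.range' 1 15).all fun m => [64, 320, 1024, 1088].any fun v =>
    !otherBits.testBit (delW (rWord m) v)) = true := by
  decide +kernel

end CfsgLib.J4Type.VCode
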