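import Cfsg.Agent.Lib.J4Type.SevenStab
import Cfsg.Prelude.Def_TwoFusion

/-!
# The seven-local structure
-/

set_option autoImplicit false

namespace CfsgLib.J4Type

open Cfsg CfsgLib.ThreeTrans.Torsion
open Subgroup (mem_centralizer_singleton_iff)

universe u

variable {G : Type u} [Group G] [Finite G]

/-- In a group of order `2^3 * 15` with dihedral centraliser of the involution `t`, an involution with
centraliser of order eight is conjugate to `t`. -/
theorem conj_of_centralizer_eight {Q : Type*} [Group Q] [Finite Q] (hQ : Nat.card Q = 120) {t a : Q}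
    (ht1 : t ≠ 1) (ha1 : a ≠ 1)
    (hD : Nonempty (↥(Subgroup.centralizer ({t} : Set Q)) ≃* DihedralGroup 4))
    (ha : Nat.card (Subgroup.centralizer ({a} : Set Q)) = 8) :
    ∃ q : Q, q * t * q⁻¹ = a := by
  obtain ⟨e⟩ := hD
  have hD8 : Nat.card (Subgroup.centralizer ({t} : Set Q)) = 8 := by
    rw [Nat.card_congr e.toEquiv, DihedralGroup.nat_card]
  have : Fact (Nat.Prime 2) := ⟨Nat.prime_two⟩
  have h16 : (Nat.card Q).factorization 2 = 3 := by
    rw [hQ]
    refine le_antisymm (Nat.lt_succ_iff.1 (lt_of_not_ge fun h => ?_))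
      ((Nat.prime_two.pow_dvd_iff_le_factorization (by norm_num)).1 (by norm_num : 2 ^ 3 ∣ 120))
    have := (Nat.prime_two.pow_dvd_iff_le_factorization (by norm_num : (120 : ℕ) ≠ 0)).2 h
    norm_num at this
  obtain ⟨q, hq⟩ := MulAction.exists_smul_eq Q
    (Sylow.ofCard (p := 2) (Subgroup.centralizer ({t} : Set Q)) (by rw [hD8, h16]; rfl))
    (Sylow.ofCard (p := 2) (Subgroup.centralizer ({a} : Set Q)) (by rw [ha, h16]; rfl))
  have hq' : (Subgroup.centralizer ({t} : Set Q)).map (MulAut.conj q).toMonoidHom =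
      Subgroup.centralizer ({a} : Set Q) := congrArg (fun P : Sylow 2 Q => (P : Subgroup Q)) hq
  refine ⟨q, ?_⟩
  have hb : q⁻¹ * a * q ∈ Subgroup.centralizer ({t} : Set Q) :=
    mem_map_conj.1 (hq' ▸ mem_centralizer_singleton_iff.2 rfl)
  have hbc : ∀ d ∈ Subgroup.centralizer ({t} : Set Q), Commute d (q⁻¹ * a * q) := by
    intro d hd
    have h : q * d * q⁻¹ ∈ Subgroup.centralizer ({a} : Set Q) := by
      rw [← hq']; exact ⟨d, hd, by simp⟩
    have h' := (commute_conj_fix (g := q) (a := q⁻¹ * a * q) (b := a) (by group)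
      (x := q * d * q⁻¹)).2 (mem_centralizer_singleton_iff.1 h)
    simpa [mul_assoc] using h'
  have htm : t ∈ Subgroup.centralizer ({t} : Set Q) := mem_centralizer_singleton_iff.2 rfl
  have := dihedral_four_center (e ⟨t, htm⟩) (e ⟨_, hb⟩)
    (fun c => by
      obtain ⟨d, rfl⟩ := e.surjective c
      rw [← map_mul, ← map_mul]
      exact congrArg e (Subtype.ext (mem_centralizer_singleton_iff.1 d.2).symm))
    (fun c => by
      obtain ⟨d, rfl⟩ := e.surjective c
      rw [← map_mul, ← map_mul]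
      exact congrArg e (Subtype.ext (hbc d d.2).eq.symm))
    (fun h => ht1 (congrArg Subtype.val ((map_eq_one_iff e e.injective).1 h)))
    (fun h => ha1 (by
      have h' : q⁻¹ * a * q = 1 := congrArg Subtype.val ((map_eq_one_iff e e.injective).1 h)
      calc a = q * (q⁻¹ * a * q) * q⁻¹ := by group
        _ = 1 := by rw [h']; group))
  rw [show t = q⁻¹ * a * q from congrArg Subtype.val (e.injective this)]
  group

/-- The seven-local structure at one element of order seven. -/
theorem seven_at {x t v s g c u : G} (hx : orderOf x = 7) (ht1 : t ≠ 1) (ht : t * t = 1) (hv1 : v ≠ 1)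
    (hvt : v ≠ t) (hv : v * v = 1) (htx : Commute t x) (hvx : Commute v x) (hsx : Commute s x)
    (hgx : Commute g x) (hgt : Commute g t) (hvt' : Commute v t) (hst : s * t * s⁻¹ = v)
    (hgv : g * v * g⁻¹ = v * t)
    (h56 : Nat.card (Subgroup.centralizer {x} ⊓ Subgroup.centralizer {t} : Subgroup G) = 56)
    (h168 : Nat.card (Subgroup.normalizer (Subgroup.zpowers x : Set G) ⊓ Subgroup.centralizer {t} :
        Subgroup G) = 168)
    (hc : orderOf c = 3) (hcx : Commute c x) (hu : orderOf u = 2) (hux : Commute u x)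
    (huc : Commute u c) :
    ¬ 49 ∣ Nat.card G ∧
    (∃ I : Subgroup G, IsInternalDirectProduct (Subgroup.zpowers x) I
      (Subgroup.centralizer (Subgroup.zpowers x : Set G)) ∧ Nonempty (↥I ≃* Equiv.Perm (Fin 5))) ∧
    Nat.card (Subgroup.centralizer (Subgroup.zpowers x : Set G)) = 840 ∧
    Nat.card (Subgroup.normalizer (Subgroup.zpowers x : Set G)) = 2520 := by
  classical
  rw [centralizer_zpowers]
  set C := Subgroup.centralizer ({x} : Set G) with hC
  set X := Subgroup.zpowers x with hXdef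
  have hX : Nat.card X = 7 := by rw [hXdef, Nat.card_zpowers, hx]
  have hmemC : ∀ {a : G}, Commute a x → a ∈ C := fun h => mem_centralizer_singleton_iff.2 h.eq
  have hcommX : ∀ a ∈ C, ∀ y ∈ X, Commute a y := fun a ha y hy => by
    obtain ⟨j, rfl⟩ := Subgroup.mem_zpowers_iff.1 hy
    exact (show Commute a x from mem_centralizer_singleton_iff.1 ha).zpow_right j
  have hXC : X ≤ C := Subgroup.zpowers_le.2 (hmemC (Commute.refl x))
  set X' := X.subgroupOf C with hX'
  have : X'.Normal := ⟨fun y hy k => by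
    rw [hX', Subgroup.mem_subgroupOf] at hy ⊢
    rw [Subgroup.coe_mul, Subgroup.coe_mul, InvMemClass.coe_inv, (hcommX k k.2 y hy).eq,
      mul_inv_cancel_right]
    exact hy⟩
  have hX'c : Nat.card X' = 7 := by
    rw [hX', Nat.card_congr (Subgroup.subgroupOfEquivOfLe hXC).toEquiv, hX]
  set mk := QuotientGroup.mk' X' with hmk
  have hker : ∀ a : C, mk a = 1 ↔ (a : G) ∈ X := fun a =>
    (QuotientGroup.eq_one_iff a).trans Subgroup.mem_subgroupOf
  have hordX : ∀ y ∈ X, ∀ n : ℕ, Nat.Coprime n 7 → y ^ n = 1 → y = 1 := by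
    intro y hy n hn h
    have h7 : orderOf y ∣ 7 := hX ▸ Subgroup.orderOf_dvd_natCard X hy
    exact orderOf_eq_one_iff.1 (Nat.dvd_one.1 (hn ▸ Nat.dvd_gcd (orderOf_dvd_of_pow_eq_one h) h7))
  have hlift : ∀ a b : C, a * a = 1 → b * b = 1 → mk a = mk b → a = b := by
    intro a b ha hb hab
    have hy : ((a⁻¹ * b : C) : G) ∈ X :=
      (hker _).1 (by rw [map_mul, map_inv, hab, inv_mul_cancel])
    have hcomm : Commute a (a⁻¹ * b) := Subtype.ext (hcommX a a.2 _ hy).eq
    have h1 : (a⁻¹ * b) ^ 2 = 1 := by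
      have h := hcomm.mul_pow 2
      rw [mul_inv_cancel_left, sq, sq, hb, ha, one_mul] at h
      exact h.symm
    exact inv_mul_eq_one.1 (Subtype.ext (hordX _ hy 2 (by norm_num) (by
      rw [← SubgroupClass.coe_pow, h1, OneMemClass.coe_one])))
  -- centralisers in the quotient
  have hcent : ∀ a : C, a * a = 1 → Subgroup.centralizer ({mk a} : Set (C ⧸ X')) =
      ((C ⊓ Subgroup.centralizer ({(a : G)} : Set G)).subgroupOf C).map mk := by
    intro a ha
    ext q
    constructor
    · intro hq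
      obtain ⟨k, rfl⟩ := QuotientGroup.mk'_surjective X' q
      refine ⟨k, ⟨k.2, mem_centralizer_singleton_iff.2 ?_⟩, rfl⟩
      have h : k * a * k⁻¹ = a := hlift _ _
        (by rw [show k * a * k⁻¹ * (k * a * k⁻¹) = k * (a * a) * k⁻¹ by group, ha]; group) ha
        (by rw [map_mul, map_mul, map_inv, mem_centralizer_singleton_iff.1 hq, mul_inv_cancel_right])
      exact congrArg Subtype.val (mul_inv_eq_iff_eq_mul.1 h)
    · rintro ⟨k, ⟨-, hk⟩, rfl⟩
      rw [mem_centralizer_singleton_iff, ← map_mul, ← map_mul]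
      exact congrArg mk (Subtype.ext (mem_centralizer_singleton_iff.1 hk))
  have hcard8 : ∀ a : C, a * a = 1 → Nat.card (C ⊓ Subgroup.centralizer ({(a : G)} : Set G) : Subgroup G) = 56 →
      Nat.card (Subgroup.centralizer ({mk a} : Set (C ⧸ X'))) = 8 := by
    intro a ha h
    have hk : ((C ⊓ Subgroup.centralizer ({(a : G)} : Set G)).subgroupOf C) ⊓ mk.ker = X' := by
      rw [hmk, QuotientGroup.ker_mk', inf_eq_right]
      intro y hy
      have hy' : (y : G) ∈ X := Subgroup.mem_subgroupOf.1 hy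
      exact ⟨y.2, mem_centralizer_singleton_iff.2 (hcommX a a.2 y hy').eq.symm⟩
    have h' := card_eq_inf_ker_mul_map mk ((C ⊓ Subgroup.centralizer ({(a : G)} : Set G)).subgroupOf C)
    rw [hk, hX'c, Nat.card_congr (Subgroup.subgroupOfEquivOfLe inf_le_left).toEquiv, h, ← hcent a ha] at h'
    omega
  let tC : C := ⟨t, hmemC htx⟩
  let vC : C := ⟨v, hmemC hvx⟩
  let sC : C := ⟨s, hmemC hsx⟩
  let gC : C := ⟨g, hmemC hgx⟩
  have htC : tC * tC = 1 := Subtype.ext ht
  have hvC : vC * vC = 1 := Subtype.ext hv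
  have hne1 : ∀ a : C, a * a = 1 → (a : G) ≠ 1 → mk a ≠ 1 := fun a ha ha1 h =>
    ha1 (congrArg Subtype.val (hlift a 1 ha (one_mul 1) (h.trans (map_one mk).symm)))
  have hq1 : mk tC ≠ 1 := hne1 tC htC ht1
  have hqv : mk vC ≠ mk tC := fun h => hvt (congrArg Subtype.val (hlift vC tC hvC htC h))
  set T := Subgroup.centralizer ({mk tC} : Set (C ⧸ X')) with hT
  have hT8 : Nat.card T = 8 := hcard8 tC htC h56
  have hinT : ∀ k : C, Commute (k : G) t → mk k ∈ T := fun k hk =>
    mem_centralizer_singleton_iff.2 (by rw [← map_mul, ← map_mul]; exact congrArg mk (Subtype.ext hk.eq))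
  have hD : Nonempty (T ≃* DihedralGroup 4) := by
    refine dihedral_four hT8 (t := ⟨mk tC, hinT tC (Commute.refl t)⟩) (v := ⟨mk vC, hinT vC hvt'⟩)
      (g := ⟨mk gC, hinT gC hgt⟩) (fun d => Subtype.ext (mem_centralizer_singleton_iff.1 d.2))
      (Subtype.ext ?_) (fun h => hq1 (congrArg Subtype.val h)) (Subtype.ext ?_)
      (fun h => hne1 vC hvC hv1 (congrArg Subtype.val h)) (fun h => hqv (congrArg Subtype.val h))
      (Subtype.ext ?_)
    · show mk tC * mk tC = 1
      rw [← map_mul, htC, map_one]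
    · show mk vC * mk vC = 1
      rw [← map_mul, hvC, map_one]
    · show mk gC * mk vC * (mk gC)⁻¹ = mk vC * mk tC
      rw [← map_inv, ← map_mul, ← map_mul, ← map_mul]
      exact congrArg mk (Subtype.ext hgv)
  -- an element of order six
  have huo : orderOf (u * c) = 6 := by
    rw [huc.orderOf_mul_eq_mul_orderOf_of_coprime (by rw [hu, hc]; norm_num), hu, hc]
  let wC : C := ⟨u * c, hmemC (hux.mul_left hcx)⟩
  have hw : orderOf (mk wC) = 6 := by
    have hwo : orderOf wC = 6 := by rw [← huo, ← Subgroup.orderOf_coe]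
    have hdvd : orderOf (mk wC) ∣ 6 := hwo ▸ orderOf_map_dvd mk wC
    refine Nat.dvd_antisymm hdvd ?_
    set n := orderOf (mk wC) with hn
    have hp : ((wC ^ n : C) : G) ∈ X := (hker _).1 (by rw [map_pow, hn, pow_orderOf_eq_one])
    have h1 := hordX _ hp 6 (by norm_num) (by
      rw [← SubgroupClass.coe_pow, ← pow_mul, mul_comm, pow_mul, ← hwo, pow_orderOf_eq_one, one_pow,
        OneMemClass.coe_one])
    rw [← hwo]
    exact orderOf_dvd_of_pow_eq_one (Subtype.ext h1)
  have ht2 : orderOf (mk tC) = 2 :=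
    orderOf_eq_prime (by rw [sq, ← map_mul, htC, map_one]) hq1
  obtain ⟨φ⟩ := iso_perm_five (t := mk tC) (v := mk vC) (s := mk sC) (w := mk wC) ht2 hD
    (by show mk vC * mk tC = mk tC * mk vC
        rw [← map_mul, ← map_mul]; exact (congrArg mk (Subtype.ext hvt'.eq)).symm.symm)
    hqv (by rw [← map_inv, ← map_mul, ← map_mul]; exact congrArg mk (Subtype.ext hst)) hw
  have hQ : Nat.card (C ⧸ X') = 120 := by
    rw [Nat.card_congr φ.toEquiv, Nat.card_perm, Nat.card_fin]
    rfl
  have hCc : Nat.card C = 840 := by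
    rw [Subgroup.card_eq_card_quotient_mul_card_subgroup X', hQ, hX'c]
  -- no subgroup of order forty-nine
  have h49 : ¬ 49 ∣ Nat.card G := by
    intro h
    have : Fact (Nat.Prime 7) := ⟨by norm_num⟩
    obtain ⟨P, hP, hXP⟩ := Sylow.exists_subgroup_card_pow_prime_le 7 (n := 1) (m := 2)
      (by norm_num; exact h) X (by rw [hX, pow_one]) (by norm_num)
    have hPC : P ≤ C := fun y hy => hmemC (congrArg Subtype.val
      ((IsPGroup.isMulCommutative_of_card_eq_prime_sq (p := 7) hP).is_comm.comm ⟨y, hy⟩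
        ⟨x, hXP (Subgroup.mem_zpowers x)⟩))
    have := Subgroup.card_dvd_of_le hPC
    rw [hP, hCc] at this
    norm_num at this
  -- the complement
  obtain ⟨I', hI⟩ := Subgroup.exists_right_complement'_of_coprime (N := X') (by
    rw [hX'c, show X'.index = 120 from hQ]; norm_num)
  refine ⟨h49, ⟨I'.map C.subtype, ⟨hXC, Subgroup.map_subtype_le I', ?_, ?_, ?_⟩, ?_⟩, hCc, ?_⟩
  · intro a ha b hb
    exact (hcommX b (Subgroup.map_subtype_le I' hb) a ha).symm.eq
  · rw [Subgroup.eq_bot_iff_forall]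
    rintro a ⟨ha, k, hk, rfl⟩
    have hd := Subgroup.disjoint_def.1 hI.disjoint (show k ∈ X' from ha) hk
    rw [hd]; rfl
  · have hX'm : X'.map C.subtype = X := by
      rw [hX', Subgroup.map_subgroupOf_eq_of_le hXC]
    rw [← hX'm, ← Subgroup.map_sup, hI.sup_eq_top, ← MonoidHom.range_eq_map, Subgroup.range_subtype]
  · exact ⟨((Subgroup.equivMapOfInjective I' C.subtype C.subtype_injective).symm.trans
      (hI.symm.QuotientMulEquiv).symm).trans φ⟩
  -- the normaliser
  set NX := Subgroup.normalizer (X : Set G) with hNX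
  have hCN : C ≤ NX := by
    rw [hC, ← centralizer_zpowers]; exact Subgroup.centralizer_le_normalizer _
  have hconjC : ∀ n ∈ NX, ∀ a ∈ C, n * a * n⁻¹ ∈ C := fun n hn a ha => by
    have h : Commute (n⁻¹ * x * n) a :=
      (hcommX a ha _ ((Subgroup.mem_normalizer_iff''.1 hn x).1 (Subgroup.mem_zpowers x))).symm
    exact hmemC ((commute_conj_fix (g := n) rfl).1 h).symm
  set O := {b : G | ∃ k ∈ C, k * t * k⁻¹ = b} with hO
  have horbC : Nat.card C = O.ncard * Nat.card (C ⊓ Subgroup.centralizer ({t} : Set G) : Subgroup G) :=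
    card_eq_orbit_mul C ⟨1, one_mem _, by group⟩ (fun k hk => ⟨k, hk, rfl⟩) fun b hb => hb
  have horbN : Nat.card NX = O.ncard * Nat.card (NX ⊓ Subgroup.centralizer ({t} : Set G) : Subgroup G) := by
    refine card_eq_orbit_mul NX ⟨1, one_mem _, by group⟩ (fun n hn => ?_) ?_
    · let aC : C := ⟨n * t * n⁻¹, hconjC n hn t tC.2⟩
      have ha : aC * aC = 1 := Subtype.ext (show n * t * n⁻¹ * (n * t * n⁻¹) = 1 by
        rw [show n * t * n⁻¹ * (n * t * n⁻¹) = n * (t * t) * n⁻¹ by group, ht]; group)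
      have hmap : (C ⊓ Subgroup.centralizer ({t} : Set G)).map (MulAut.conj n).toMonoidHom =
          C ⊓ Subgroup.centralizer ({n * t * n⁻¹} : Set G) := by
        ext y
        rw [mem_map_conj, Subgroup.mem_inf, Subgroup.mem_inf]
        refine and_congr ⟨fun h => ?_, fun h => ?_⟩ ?_
        · simpa [mul_assoc] using hconjC n hn _ h
        · simpa [mul_assoc] using hconjC n⁻¹ (inv_mem hn) _ h
        · rw [mem_centralizer_singleton_iff, mem_centralizer_singleton_iff]
          exact commute_conj_fix (g := n) (a := t) (x := y) rfl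
      have h8 := hcard8 aC ha (by rw [← hmap, card_map_conj, h56])
      obtain ⟨q, hq⟩ := conj_of_centralizer_eight hQ hq1
        (hne1 aC ha fun h => ht1 (conj_eq_one_iff.1 h)) hD h8
      obtain ⟨k, rfl⟩ := QuotientGroup.mk'_surjective X' q
      rw [← map_inv, ← map_mul, ← map_mul] at hq
      exact ⟨k, k.2, congrArg Subtype.val (hlift (k * tC * k⁻¹) aC
        (by rw [show k * tC * k⁻¹ * (k * tC * k⁻¹) = k * (tC * tC) * k⁻¹ by group, htC]; group) ha hq)⟩
    · rintro b ⟨k, hk, rfl⟩
      exact ⟨k, hCN hk, rfl⟩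
  rw [h56, hCc] at horbC
  rw [h168] at horbN
  omega

end CfsgLib.J4Type
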