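import Cfsg.Agent.S5604
import Cfsg.Agent.Lib.GolayIndex.Main

/-!
# The centraliser of an element of order seven in the stabiliser of a pair in `M24`
-/

set_option autoImplicit false
set_option maxRecDepth 100000

namespace CfsgLib.J4Type

open Cfsg CfsgLib.Golay CfsgLib.GolayIndex CfsgLib.Schur.GolaySearch
open scoped Pointwise

/-- No centralising permutation of order three of the fixed element of order seven fixes two of its
fixed points. -/
theorem sevenFix_cubes : (Seven.sevenFix.all fun j => Seven.sevenFix.all fun l => Nat.beq j l ||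
    Seven.found1.all fun m => !(Nat.beq (m.getD j 0) j) || !(Nat.beq (m.getD l 0) l) ||
      !(comp (comp m m) m == List.range 24) || m == List.range 24) = true := by
  decide +kernel

/-- A centralising element of order three of an element of order seven moves one of any two points
fixed by the latter. -/
theorem not_three_fix {x c : M24} (hx : orderOf x = 7) (hc : orderOf c = 3) (hxc : Commute x c)
    {p q : GolayPt} (hpq : p ≠ q) (hxp : x • p = p) (hxq : x • q = q) (hcp : c • p = p)
    (hcq : c • q = q) : False := by
  obtain ⟨k, z, hz, i, hzl, hzo, hi, hi0, hxe⟩ := exists_seven_conj x hx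
  set σ : M24 := k⁻¹ * c * k with hσ
  have hpos : ∀ r : GolayPt, x • r = r → c • r = r →
      (idx ((k : Equiv.Perm GolayPt).symm r)).val ∈ Seven.sevenFix ∧
        (σ : Equiv.Perm GolayPt) ((k : Equiv.Perm GolayPt).symm r) =
          (k : Equiv.Perm GolayPt).symm r := by
    intro r hr hcr
    set u := (k : Equiv.Perm GolayPt).symm r with hu
    have hku : (k : Equiv.Perm GolayPt) u = r := (k : Equiv.Perm GolayPt).apply_symm_apply r
    refine ⟨?_, ?_⟩
    · have hfix : (z ^ i) u = u := by
        apply (k : Equiv.Perm GolayPt).injective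
        rw [hku]
        have h' := hr
        rw [hxe] at h'
        exact h'
      have h := Seven.sevenFix_spec
      simp only [List.all_eq_true, List.mem_range, Bool.or_eq_true, beq_iff_eq, Bool.not_eq_true',
        List.contains_iff_mem, beq_eq_false_iff_ne] at h
      rcases (h i hi).resolve_left hi0 (idx u).val (idx u).isLt with h3 | h3
      · exact absurd (by rw [← hzl, ← Seven.toList_pow, toList_getD, hfix]) h3
      · exact h3
    · apply (k : Equiv.Perm GolayPt).injective
      rw [hku]
      show ((k : Equiv.Perm GolayPt) * (σ : Equiv.Perm GolayPt)) u = r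
      rw [hσ]
      simp only [Subgroup.coe_mul, InvMemClass.coe_inv, mul_inv_cancel_left, ← mul_assoc,
        mul_inv_cancel, one_mul]
      show (c : Equiv.Perm GolayPt) ((k : Equiv.Perm GolayPt) u) = r
      rw [hku]
      exact hcr
  obtain ⟨hp, hσp⟩ := hpos p hxp hcp
  obtain ⟨hq, hσq⟩ := hpos q hxq hcq
  -- `σ` centralises the fixed element
  have hcomm : Commute σ (⟨z, hz⟩ : M24) := by
    have h1 : Commute σ ((⟨z, hz⟩ : M24) ^ i) := by
      have h := (hxc.symm.map (MulAut.conj k⁻¹).toMonoidHom)
      rw [hxe] at h
      simpa [hσ, mul_assoc] using h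
    obtain ⟨j, hj⟩ : ∃ j, ((⟨z, hz⟩ : M24) ^ i) ^ j = ⟨z, hz⟩ := by
      have hord : orderOf (⟨z, hz⟩ : M24) = 7 := by rw [← hzo]; exact (Subgroup.orderOf_coe _).symm
      refine exists_pow_eq_self_of_coprime ?_
      rw [hord]
      exact ((Nat.Prime.coprime_iff_not_dvd (by norm_num : Nat.Prime 7)).mpr fun hd =>
        absurd (Nat.le_of_dvd (Nat.pos_of_ne_zero hi0) hd) (by omega)).symm
    exact hj ▸ h1.pow_right j
  have hmem : toList (σ : Equiv.Perm GolayPt) ∈ Seven.found1 := by
    have h : toList (σ : Equiv.Perm GolayPt) ∈ Seven.searchK 1 := by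
      refine (Cfsg.Agent.S5604.mem_searchK hzl (by norm_num) (by norm_num)).mp ⟨σ.2, ?_⟩
      rw [pow_one]
      exact congrArg Subtype.val (mul_inv_eq_iff_eq_mul.mpr hcomm.eq)
    rwa [Seven.searchK_found (by norm_num) (by norm_num)] at h
  have h := sevenFix_cubes
  simp only [List.all_eq_true, Bool.or_eq_true, Bool.not_eq_true'] at h
  rcases (h _ hp _ hq).resolve_left (fun e => hpq ((k : Equiv.Perm GolayPt).symm.injective
      (idx_injective (Fin.ext (Nat.eq_of_beq_eq_true e))))) _ hmem with ((h1 | h1) | h1) | h1
  · rw [toList_getD, hσp, Nat.beq_refl] at h1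
    exact Bool.noConfusion h1
  · rw [toList_getD, hσq, Nat.beq_refl] at h1
    exact Bool.noConfusion h1
  · have hσ3 : (σ : Equiv.Perm GolayPt) ^ 3 = 1 := by
      rw [← SubgroupClass.coe_pow, hσ, show k⁻¹ * c * k = MulAut.conj k⁻¹ c by simp, ← map_pow,
        ← hc, pow_orderOf_eq_one, map_one, OneMemClass.coe_one]
    rw [← toList_mul, ← toList_mul, ← pow_two, ← pow_succ, hσ3, toList_one] at h1
    simp at h1
  · have hσ1 : (σ : Equiv.Perm GolayPt) = 1 := toList_injective ((beq_iff_eq.mp h1).trans toList_one.symm)
    have h1' : σ = 1 := Subtype.ext hσ1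
    rw [hσ, mul_assoc, inv_mul_eq_one] at h1'
    rw [show c = 1 from mul_right_cancel (b := k) (by rw [one_mul]; exact h1'.symm), orderOf_one] at hc
    omega

/-- In a subgroup of index 276 of `M24` no element of order three centralises an element of order
seven. -/
theorem not_three_dvd_centralizer (H : Subgroup M24) (hH : Nat.card H = 887040) {x c : M24}
    (hxH : x ∈ H) (hcH : c ∈ H) (hx : orderOf x = 7) (hc : orderOf c = 3) (hxc : Commute x c) :
    False := by
  classical
  obtain ⟨s, hs, rfl⟩ := index276 H hH
  obtain ⟨p, q, hpq, rfl⟩ := Finset.card_eq_two.mp hs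
  have key : ∀ g : M24, g ∈ MulAction.stabilizer M24 ({p, q} : Finset GolayPt) → ¬ 2 ∣ orderOf g →
      g • p = p ∧ g • q = q := by
    intro g hg hodd
    have hset : ∀ r ∈ ({p, q} : Finset GolayPt), g • r ∈ ({p, q} : Finset GolayPt) := fun r hr => by
      have h := Finset.smul_mem_smul_finset (a := g) hr
      rwa [MulAction.mem_stabilizer_iff.mp hg] at h
    have hp := hset p (by simp)
    have hq := hset q (by simp)
    rw [Finset.mem_insert, Finset.mem_singleton] at hp hq
    rcases hp with hp | hp
    · refine ⟨hp, hq.resolve_left fun e => hpq ?_⟩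
      exact MulAction.injective g (hp.trans e.symm)
    · exfalso
      have hq' : g • q = p := hq.resolve_right fun e => hpq (MulAction.injective g (hp.trans e.symm))
      have hpow : ∀ n : ℕ, g ^ (2 * n) • p = p := by
        intro n
        induction n with
        | zero => simp
        | succ n ih => rw [show 2 * (n + 1) = 2 + 2 * n by ring, pow_add, mul_smul, ih, pow_two,
            mul_smul, hp, hq']
      obtain ⟨n, hn⟩ : Odd (orderOf g) := Nat.not_even_iff_odd.mp fun h => hodd h.two_dvd
      have h := pow_orderOf_eq_one g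
      rw [hn, pow_succ', ] at h
      have h2 := congrArg (fun a : M24 => a • p) h
      simp only [mul_smul, hpow, one_smul] at h2
      exact hpq (hp ▸ h2.symm)
  obtain ⟨hxp, hxq⟩ := key x hxH (by rw [hx]; norm_num)
  obtain ⟨hcp, hcq⟩ := key c hcH (by rw [hc]; norm_num)
  exact not_three_fix hx hc hxc hpq hxp hxq hcp hcq

end CfsgLib.J4Type
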