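import Cfsg.Agent.Lib.J4Type.Seven

/-!
# The stabiliser of a fixed involution in the seven-local subgroup
-/

set_option autoImplicit false

namespace CfsgLib.J4Type

open Cfsg CfsgLib.ThreeTrans.Torsion
open Subgroup (mem_centralizer_singleton_iff)

universe u

variable {G : Type u} [Group G] [Finite G]

/-- No element of order three of the stabiliser centralises the element of order seven: the image has
order fourteen and the stabiliser moves a fixed involution. -/
theorem seven_stab {V N : Subgroup G} (hVc : Nat.card V = 2 ^ 11) (hV : IsElementaryAbelian 2 V)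
    (hVN : V ≤ N) (hconjV : ∀ n ∈ N, ∀ v ∈ V, n * v * n⁻¹ ∈ V)
    (π : N →* M24) (hπ : ∀ n, π n = 1 ↔ (n : G) ∈ V)
    (hN : Nat.card (N) = 2 ^ 11 * 244823040)
    {t0 : G} (h276 : {v : G | ∃ n ∈ N, n * t0 * n⁻¹ = v}.ncard = 276)
    (hCt : Subgroup.centralizer ({t0} : Set G) ≤ N)
    {x : G} (hxN : x ∈ N) (hπx : orderOf (π ⟨x, hxN⟩) = 7)
    (hmap : ((N ⊓ Subgroup.centralizer {x}).subgroupOf
          (N)).map π = Subgroup.centralizer {π ⟨x, hxN⟩})
    (hC : Nat.card (N ⊓ Subgroup.centralizer {x} : Subgroup G) = 4 * 42)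
    (hX : Nat.card (N ⊓
          Subgroup.normalizer (Subgroup.zpowers x : Set G) : Subgroup G) = 4 * 126)
    (hF : Nat.card (V ⊓ Subgroup.centralizer {x} : Subgroup G) = 4)
    (hfix : ∀ v ∈ V ⊓ Subgroup.centralizer {x}, v ≠ 1 →
      (∃ n ∈ N, n * t0 * n⁻¹ = v) ∧
      ∀ w ∈ V ⊓ Subgroup.centralizer {x}, w ≠ 1 → ∃ n ∈ N ⊓
        Subgroup.normalizer (Subgroup.zpowers x : Set G), n * v * n⁻¹ = w) :
    ∃ t v s g : G, t ≠ 1 ∧ t * t = 1 ∧ v ≠ 1 ∧ v ≠ t ∧ v * v = 1 ∧ Commute t x ∧ Commute v x ∧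
      Commute s x ∧ Commute g x ∧ Commute g t ∧ Commute v t ∧ s * t * s⁻¹ = v ∧ g * v * g⁻¹ = v * t ∧
      Nat.card (Subgroup.centralizer {x} ⊓ Subgroup.centralizer {t} : Subgroup G) = 56 ∧
      Nat.card (Subgroup.normalizer (Subgroup.zpowers x : Set G) ⊓ Subgroup.centralizer {t} :
        Subgroup G) = 168 ∧
      ∃ c : G, orderOf c = 3 ∧ Commute c x := by
  classical
  set F := V ⊓ Subgroup.centralizer ({x} : Set G) with hFdef
  set Cx := N ⊓ Subgroup.centralizer ({x} : Set G) with hCx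
  have hXN : Subgroup.zpowers x ≤ N := Subgroup.zpowers_le.2 hxN
  have hcommx : ∀ v, v ∈ Subgroup.centralizer ({x} : Set G) ↔ ∀ y ∈ Subgroup.zpowers x, Commute y v := by
    intro v
    rw [← centralizer_zpowers, Subgroup.mem_centralizer_iff]
    rfl
  obtain ⟨⟨t, htF⟩, ht1'⟩ := Subgroup.ne_bot_iff_exists_ne_one.1
    (fun h => by rw [h, Subgroup.card_bot] at hF; omega : F ≠ ⊥)
  have ht1 : t ≠ 1 := fun h => ht1' (Subtype.ext h)
  obtain ⟨⟨n0, hn0, hn0t⟩, htr⟩ := hfix t htF ht1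
  have htV := htF.1
  have htx : Commute t x := mem_centralizer_singleton_iff.1 htF.2
  have hWN : Subgroup.centralizer ({t} : Set G) ≤ N := by
    intro g hg
    have h : n0⁻¹ * g * n0 ∈ N := hCt (mem_centralizer_singleton_iff.2
      ((commute_conj_fix hn0t).2 (mem_centralizer_singleton_iff.1 hg)).eq)
    simpa [mul_assoc] using N.mul_mem (N.mul_mem hn0 h) (N.inv_mem hn0)
  set W := Subgroup.centralizer ({t} : Set G) with hW
  have hVW : V ≤ W := fun a ha => mem_centralizer_singleton_iff.2 (congrArg Subtype.val (hV.1.is_comm.comm ⟨a, ha⟩ ⟨t, htV⟩))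
  have hWc : Nat.card (W.subgroupOf N |>.map π) = 887040 := by
    have h1 := card_eq_inf_mul_image π hπ hWN
    rw [inf_eq_right.2 hVW, hVc] at h1
    have h2 : Nat.card N = 276 * Nat.card (N ⊓ W : Subgroup G) := by
      rw [← h276]
      refine card_eq_orbit_mul N ⟨n0, hn0, hn0t⟩ (fun k hk => ⟨k * n0, mul_mem hk hn0, ?_⟩) ?_
      · rw [← hn0t]; group
      · rintro b ⟨n, hn, rfl⟩
        exact ⟨n * n0⁻¹, mul_mem hn (inv_mem hn0), by rw [← hn0t]; group⟩
    rw [inf_eq_right.2 hWN, hN, h1] at h2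
    omega
  -- the image of the centraliser in the stabiliser
  set A := ((Cx ⊓ W).subgroupOf N).map π with hA
  have hnot3 : ¬ 3 ∣ Nat.card A := by
    intro h
    have : Fact (Nat.Prime 3) := ⟨Nat.prime_three⟩
    obtain ⟨a, ha⟩ := exists_prime_orderOf_dvd_card' (G := A) 3 h
    obtain ⟨n, hn, hna⟩ := a.2
    refine not_three_dvd_centralizer (W.subgroupOf N |>.map π) hWc (x := π ⟨x, hxN⟩) (c := (a : M24))
      ?_ ⟨n, hn.2, hna⟩ hπx (by rw [Subgroup.orderOf_coe, ha]) ?_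
    · exact ⟨_, mem_centralizer_singleton_iff.2 htx.eq.symm, rfl⟩
    · have h' : (a : M24) ∈ Subgroup.centralizer ({π ⟨x, hxN⟩} : Set M24) :=
        hmap ▸ ⟨n, hn.1, hna⟩
      exact (mem_centralizer_singleton_iff.1 h').symm
  have hAC : A ≤ Subgroup.centralizer ({π ⟨x, hxN⟩} : Set M24) :=
    hmap ▸ Subgroup.map_mono (fun n hn => hn.1)
  have hM42 : Nat.card (Subgroup.centralizer ({π ⟨x, hxN⟩} : Set M24)) = 42 := by
    rw [← centralizer_zpowers]
    exact (Agent.S5604.result _ (by rw [Nat.card_zpowers, hπx])).2.1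
  have hAdvd : Nat.card A ∣ 42 := hM42 ▸ Subgroup.card_dvd_of_le hAC
  have hinfW : (Cx ⊓ W) ⊓ V = F := by
    rw [hCx, hFdef]
    ext a
    simp only [Subgroup.mem_inf]
    exact ⟨fun h => ⟨h.2, h.1.1.2⟩, fun h => ⟨⟨⟨hVN h.1, h.2⟩, hVW h.1⟩, h.1⟩⟩
  have hCxW := card_eq_inf_mul_image π hπ (inf_le_left.trans inf_le_left : Cx ⊓ W ≤ N)
  rw [hinfW, hF, ← hA] at hCxW
  -- the orbit of `t` under the centraliser
  set O := {w : G | ∃ k ∈ Cx, k * t * k⁻¹ = w} with hO
  have hCxF : ∀ k ∈ N ⊓ Subgroup.normalizer (Subgroup.zpowers x : Set G), ∀ a ∈ F, a ≠ 1 →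
      k * a * k⁻¹ ∈ (F : Set G) \ {1} := by
    rintro k ⟨hk, hkX⟩ a ⟨haV, hax⟩ ha1
    refine ⟨⟨hconjV k hk a haV, (hcommx _).2 fun y hy => ?_⟩, fun h => ha1 (conj_eq_one_iff.1 h)⟩
    exact (commute_conj_fix rfl).1 ((hcommx a).1 hax _ ((Subgroup.mem_normalizer_iff''.1 hkX y).1 hy))
  have hCxle : Cx ≤ N ⊓ Subgroup.normalizer (Subgroup.zpowers x : Set G) :=
    le_inf inf_le_left (inf_le_right.trans (by
      rw [← centralizer_zpowers]; exact Subgroup.centralizer_le_normalizer _))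
  have hsub : O ⊆ (F : Set G) \ {1} := by
    rintro _ ⟨k, hk, rfl⟩
    exact hCxF k (hCxle hk) t htF ht1
  have hF3 : ((F : Set G) \ {1}).ncard = 3 := by
    rw [Set.ncard_sdiff_singleton_of_mem (Subgroup.one_mem F), ← Nat.card_coe_set_eq]
    exact Nat.sub_eq_of_eq_add hF
  have hOle : O.ncard ≤ 3 := hF3 ▸ Set.ncard_le_ncard hsub
  have horb : Nat.card Cx = O.ncard * Nat.card (Cx ⊓ W : Subgroup G) := by
    refine card_eq_orbit_mul Cx ⟨1, one_mem _, by group⟩ (fun k hk => ⟨k, hk, rfl⟩) ?_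
    rintro b ⟨k, hk, rfl⟩
    exact ⟨k, hk, rfl⟩
  rw [hC, hCxW] at horb
  have hA14 : Nat.card A = 14 ∧ O.ncard = 3 := by
    have hle := Nat.le_of_dvd (by norm_num) hAdvd
    interval_cases O.ncard <;> omega
  have hOeq : O = (F : Set G) \ {1} := Set.eq_of_subset_of_ncard_le hsub (by rw [hA14.2, hF3])
  -- a moved fixed involution
  have hmove : ∃ g ∈ Cx ⊓ W, ∃ v ∈ F, g * v * g⁻¹ ≠ v := by
    by_contra! hall
    have hle : Cx ⊓ W ≤ Subgroup.centralizer (F : Set G) := fun g hg =>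
      Subgroup.mem_centralizer_iff.2 fun a ha => (mul_inv_eq_iff_eq_mul.1 (hall g hg a ha)).symm
    have hnorm : ∀ k ∈ Cx, ∀ g ∈ Cx ⊓ W, k * g * k⁻¹ ∈ Cx ⊓ W := by
      intro k hk g hg
      refine ⟨Cx.mul_mem (Cx.mul_mem hk hg.1) (Cx.inv_mem hk), mem_centralizer_singleton_iff.2 ?_⟩
      have h := hCxF k⁻¹ (hCxle (Cx.inv_mem hk)) t htF ht1
      rw [inv_inv] at h
      have hc : Commute g (k⁻¹ * t * k) := (Subgroup.mem_centralizer_iff.1 (hle hg) _ h.1).symm
      exact ((commute_conj_fix (g := k) (x := k * g * k⁻¹)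
        (show k * (k⁻¹ * t * k) * k⁻¹ = t by group)).1 (by simpa [mul_assoc] using hc)).eq
    set M := Subgroup.centralizer ({π ⟨x, hxN⟩} : Set M24) with hM
    have hAn : (A.subgroupOf M).Normal := by
      refine ⟨fun a ha m => ?_⟩
      obtain ⟨k, hk, hkm⟩ : (m : M24) ∈ (Cx.subgroupOf N).map π := by rw [hmap]; exact m.2
      obtain ⟨g, hg, hga⟩ := Subgroup.mem_subgroupOf.1 ha
      refine Subgroup.mem_subgroupOf.2 ⟨k * g * k⁻¹, hnorm k hk g hg, ?_⟩
      rw [map_mul, map_mul, map_inv, hkm, hga]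
      rfl
    have : Fact (Nat.Prime 2) := ⟨Nat.prime_two⟩
    obtain ⟨j, hj⟩ := exists_prime_orderOf_dvd_card' (G := A) 2 (by rw [hA14.1]; norm_num)
    have hjM : (j : M24) ∈ M := hAC j.2
    -- the involution of the image is unique, so central
    have huniq : ∀ a : A, orderOf a = 2 → a = j := by
      intro a ha
      have hyA : π ⟨x, hxN⟩ ∈ A :=
        ⟨_, ⟨⟨hxN, mem_centralizer_singleton_iff.2 rfl⟩, mem_centralizer_singleton_iff.2 htx.eq.symm⟩, rfl⟩
      have hy : orderOf (⟨_, hyA⟩ : A) = 7 := by rw [← hπx]; exact (Subgroup.orderOf_coe _).symm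
      have hcomm : Commute (⟨_, hyA⟩ : A) a := Subtype.ext (mem_centralizer_singleton_iff.1 (hAC a.2)).symm
      have hcyc : IsCyclic A := isCyclic_of_orderOf_eq_card ((⟨_, hyA⟩ : A) * a) (by
        rw [hcomm.orderOf_mul_eq_mul_orderOf_of_coprime (by rw [hy, ha]; norm_num), hy, ha, hA14.1])
      have := Fintype.ofFinite A
      have h1 := IsCyclic.card_orderOf_eq_totient (α := A) (d := 2)
        (by rw [← Nat.card_eq_fintype_card, hA14.1]; norm_num)
      rw [Nat.totient_two] at h1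
      exact Finset.card_le_one.1 h1.le a (by simpa using ha) j (by simpa using hj)
    have hjc : (⟨j, hjM⟩ : M) ∈ Subgroup.center M := by
      rw [Subgroup.mem_center_iff]
      intro m
      have hmem : (m : M24) * j * (m : M24)⁻¹ ∈ A :=
        hAn.conj_mem ⟨j, hjM⟩ j.2 m
      have h := huniq ⟨_, hmem⟩ (by
        rw [← hj, ← Subgroup.orderOf_coe, ← Subgroup.orderOf_coe j]
        exact MulEquiv.orderOf_eq (MulAut.conj (m : M24)) (j : M24))
      exact Subtype.ext (mul_inv_eq_iff_eq_mul.1 (congrArg Subtype.val h))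
    have hyc : (⟨π ⟨x, hxN⟩, mem_centralizer_singleton_iff.2 rfl⟩ : M) ∈ Subgroup.center M :=
      Subgroup.mem_center_iff.2 fun m => Subtype.ext (mem_centralizer_singleton_iff.1 m.2)
    have h2 : 2 ∣ Nat.card (Subgroup.center M) := by
      have h := orderOf_dvd_natCard (⟨_, hjc⟩ : Subgroup.center M)
      rwa [← Subgroup.orderOf_coe, ← Subgroup.orderOf_coe, Subgroup.orderOf_coe j, hj] at h
    have h7 : 7 ∣ Nat.card (Subgroup.center M) := by
      have h := orderOf_dvd_natCard (⟨_, hyc⟩ : Subgroup.center M)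
      rwa [← Subgroup.orderOf_coe, ← Subgroup.orderOf_coe, hπx] at h
    have hidx : (Subgroup.center M).index ∣ 3 := by
      have h := (Subgroup.center M).card_mul_index
      rw [hM42] at h
      obtain ⟨c, hc⟩ := Nat.Coprime.mul_dvd_of_dvd_of_dvd (by norm_num : Nat.Coprime 2 7) h2 h7
      exact ⟨c, by rw [hc] at h; linarith⟩
    obtain ⟨a, ha, b, hb, hab⟩ :=
      (Agent.S5604.result (Subgroup.zpowers (π ⟨x, hxN⟩)) (by rw [Nat.card_zpowers, hπx])).2.2.1
    rw [centralizer_zpowers] at ha hb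
    exact hab (congrArg Subtype.val (comm_of_index hidx (⟨a, ha⟩ : M) ⟨b, hb⟩))
  obtain ⟨g, ⟨hgC, hgt⟩, v, hvF, hgv⟩ := hmove
  have hgt' : Commute g t := mem_centralizer_singleton_iff.1 hgt
  have hgx : Commute g x := mem_centralizer_singleton_iff.1 hgC.2
  have hv1 : v ≠ 1 := fun h => hgv (by rw [h]; group)
  have hvt : v ≠ t := fun h => hgv (by rw [h, hgt'.eq, mul_inv_cancel_right])
  have hsq : ∀ a ∈ V, a * a = 1 := fun a ha => by rw [← sq]; exact hV.2 a ha
  have hvt' : Commute v t := congrArg Subtype.val (hV.1.is_comm.comm ⟨v, hvF.1⟩ ⟨t, htV⟩)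
  have hgvt : g * v * g⁻¹ = v * t := by
    have hvt1 : v * t ≠ 1 := fun h => hvt (by
      rw [eq_inv_of_mul_eq_one_left h, inv_eq_of_mul_eq_one_right (hsq t htV)])
    have hset : ({t, v, v * t} : Set G) = (F : Set G) \ {1} := by
      refine Set.eq_of_subset_of_ncard_le ?_ ?_
      · rintro a (rfl | rfl | rfl)
        · exact ⟨htF, ht1⟩
        · exact ⟨hvF, hv1⟩
        · exact ⟨mul_mem hvF htF, hvt1⟩
      · rw [hF3, Set.ncard_insert_of_notMem, Set.ncard_pair]
        · intro e; exact ht1 (by simpa using e.symm)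
        · simp only [Set.mem_insert_iff, Set.mem_singleton_iff, not_or]
          exact ⟨hvt.symm, fun e => hv1 (by simpa using e.symm)⟩
    rcases (hset ▸ hCxF g (hCxle hgC) v hvF hv1 : g * v * g⁻¹ ∈ ({t, v, v * t} : Set G)) with h | h | h
    · exfalso
      apply hvt
      calc v = g⁻¹ * (g * v * g⁻¹) * g := by group
        _ = g⁻¹ * t * g := by rw [h]
        _ = t := by rw [mul_assoc, ← hgt'.eq, inv_mul_cancel_left]
    · exact absurd h hgv
    · exact h
  obtain ⟨s, hs, hst⟩ := (hOeq ▸ ⟨hvF, hv1⟩ : v ∈ O)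
  refine ⟨t, v, s, g, ht1, hsq t htV, hv1, hvt, hsq v hvF.1, htx, mem_centralizer_singleton_iff.1 hvF.2,
    mem_centralizer_singleton_iff.1 hs.2, hgx, hgt', hvt', hst, hgvt, ?_, ?_, ?_⟩
  · have he : Cx ⊓ W = Subgroup.centralizer {x} ⊓ W := by
      rw [hCx, inf_right_comm, inf_eq_right.2 hWN, inf_comm]
    rw [← he, hCxW, hA14.1]
  · have h := card_eq_orbit_mul (N ⊓ Subgroup.normalizer (Subgroup.zpowers x : Set G))
      (O := (F : Set G) \ {1}) ⟨htF, ht1⟩ (fun k hk => hCxF k hk t htF ht1)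
      (fun w hw => htr w hw.1 hw.2)
    rw [hX, hF3] at h
    have he : (N ⊓ Subgroup.normalizer (Subgroup.zpowers x : Set G)) ⊓ W =
        Subgroup.normalizer (Subgroup.zpowers x : Set G) ⊓ W := by
      rw [inf_right_comm, inf_eq_right.2 hWN, inf_comm]
    rw [he] at h
    exact Nat.eq_of_mul_eq_mul_left (by norm_num : 0 < 3) (h.symm.trans (by norm_num))
  · have : Fact (Nat.Prime 3) := ⟨Nat.prime_three⟩
    obtain ⟨c, hc⟩ := exists_prime_orderOf_dvd_card' (G := Cx) 3 (by rw [hC]; norm_num)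
    exact ⟨c, by rw [Subgroup.orderOf_coe, hc], mem_centralizer_singleton_iff.1 c.2.2⟩

end CfsgLib.J4Type
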